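import Cfsg.Prelude.Def_Sporadic_a
import Mathlib

/-!
Self-dual binary codes of length 24 with minimum weight at least 8: a pigeonhole argument on cosets.
-/

set_option autoImplicit false

namespace Cfsg.Agent.Golay.AbstractCode

open Finset
open scoped Classical

/-- Length 24 binary words. -/
abbrev W := Fin 24 → ZMod 2

/-- Indicator word. -/
def ind (s : Finset (Fin 24)) : W := fun i => if i ∈ s then 1 else 0

theorem support_ind (s : Finset (Fin 24)) : Cfsg.support₂ (ind s) = s := by
  ext i
  by_cases h : i ∈ s <;> simp [Cfsg.support₂, ind, h]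

theorem ind_support (v : W) : ind (Cfsg.support₂ v) = v := by
  funext i
  by_cases h : v i = 0
  · simp [Cfsg.support₂, ind, h]
  · simp only [Cfsg.support₂, ind, mem_filter, mem_univ, true_and, if_pos h]
    have : ∀ z : ZMod 2, z ≠ 0 → 1 = z := by decide
    exact this _ h

theorem ind_injective : Function.Injective ind :=
  Function.LeftInverse.injective support_ind

theorem norm_eq (v : W) : hammingNorm v = (Cfsg.support₂ v).card := rfl

theorem norm_ind (s : Finset (Fin 24)) : hammingNorm (ind s) = s.card := by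
  rw [norm_eq, support_ind]

theorem ind_add (s t : Finset (Fin 24)) : ind s + ind t = ind (symmDiff s t) := by
  funext i
  by_cases hs : i ∈ s <;> by_cases ht : i ∈ t <;> simp [ind, hs, ht, mem_symmDiff]
  decide

theorem sub_eq_add_two (u v : W) : u - v = u + v := by
  funext i
  exact CharTwo.sub_eq_add (u i) (v i)

theorem dot_ind (s t : Finset (Fin 24)) :
    ∑ i, ind s i * ind t i = ((s ∩ t).card : ZMod 2) := by
  rw [← card_filter_add_card_filter_not (s := s ∩ t) (fun _ => True)]
  simp only [ind, mul_ite, ite_mul, one_mul, zero_mul, mul_zero, mul_one]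
  simp [← Finset.sum_boole, inter_comm]

theorem card_symm (s t : Finset (Fin 24)) :
    (symmDiff s t).card + 2 * (s ∩ t).card = s.card + t.card := by
  rw [symmDiff_def, sup_eq_union, card_union_of_disjoint disjoint_sdiff_sdiff,
    ← card_sdiff_add_card_inter s t, ← card_sdiff_add_card_inter t s, inter_comm t s]
  omega

variable (C : Submodule (ZMod 2) W) (hmin : ∀ w ∈ C, w ≠ 0 → 8 ≤ hammingNorm w)

/-- The coset of an indicator. -/
def cl (s : Finset (Fin 24)) : W ⧸ C := Submodule.Quotient.mk (ind s)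

theorem cl_eq_iff (s t : Finset (Fin 24)) : cl C s = cl C t ↔ ind (symmDiff s t) ∈ C := by
  rw [cl, cl, Submodule.Quotient.eq, sub_eq_add_two, ind_add]

include hmin in
theorem big {s t : Finset (Fin 24)} (h : cl C s = cl C t) (hne : s ≠ t) :
    8 + 2 * (s ∩ t).card ≤ s.card + t.card := by
  have h1 := hmin _ ((cl_eq_iff C s t).1 h) (fun e => hne ?_)
  · rw [norm_ind] at h1
    have := card_symm s t
    omega
  · rw [show (0 : W) = ind ∅ by funext i; simp [ind]] at e
    exact symmDiff_eq_bot.1 (ind_injective e)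

variable (hdim : Module.finrank (ZMod 2) C = 12)

include hmin hdim in
theorem coset_cases (s : Finset (Fin 24)) :
    (∃ u : Finset (Fin 24), u.card ≤ 3 ∧ cl C u = cl C s ∧
      ∀ t : Finset (Fin 24), t.card ≤ 4 → cl C t = cl C s → t = u) ∨
    ((univ.powersetCard 4).filter fun t => cl C t = cl C s).card = 6 ∧
      (∀ t : Finset (Fin 24), t.card ≤ 4 → cl C t = cl C s → t.card = 4) ∧
      ∀ a : Fin 24, ∃ t : Finset (Fin 24), t.card = 4 ∧ cl C t = cl C s ∧ a ∈ t := by
  classical
  set S3 : Finset (Finset (Fin 24)) := (range 4).biUnion fun k => univ.powersetCard k with hS3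
  set S4 : Finset (Finset (Fin 24)) := univ.powersetCard 4 with hS4
  have m3 : ∀ t : Finset (Fin 24), t ∈ S3 ↔ t.card ≤ 3 := fun t => by
    simp [hS3, mem_powersetCard, Nat.lt_succ_iff]
  have m4 : ∀ t : Finset (Fin 24), t ∈ S4 ↔ t.card = 4 := fun t => by
    simp [hS4, mem_powersetCard]
  have inj3 : Set.InjOn (cl C) (S3 : Set (Finset (Fin 24))) := by
    intro a ha b hb h
    by_contra hne
    have := big C hmin h hne
    have := (m3 a).1 ha
    have := (m3 b).1 hb
    omega
  have hsep : ∀ a ∈ S3, ∀ b ∈ S4, cl C a ≠ cl C b := by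
    intro a ha b hb h
    have ha' := (m3 a).1 ha
    have hb' := (m4 b).1 hb
    have := big C hmin h (fun e => by rw [e] at ha'; omega)
    omega
  have hdis : ∀ a ∈ S4, ∀ b ∈ S4, cl C a = cl C b → a ≠ b → Disjoint a b := by
    intro a ha b hb h hne
    rw [disjoint_iff_inter_eq_empty, ← card_eq_zero]
    have := big C hmin h hne
    have := (m4 a).1 ha
    have := (m4 b).1 hb
    omega
  have hfib : ∀ q : W ⧸ C, 4 * (S4.filter fun t => cl C t = q).card =
      ((S4.filter fun t => cl C t = q).biUnion (fun t => t)).card := by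
    intro q
    rw [card_biUnion (fun a ha b hb hab => hdis a (mem_filter.1 ha).1 b (mem_filter.1 hb).1
      ((mem_filter.1 ha).2.trans (mem_filter.1 hb).2.symm) hab), mul_comm, ← smul_eq_mul,
      ← sum_const]
    exact sum_congr rfl fun t ht => ((m4 t).1 (mem_filter.1 ht).1).symm
  have h6 : ∀ q : W ⧸ C, (S4.filter fun t => cl C t = q).card ≤ 6 := fun q => by
    have := card_le_univ ((S4.filter fun t => cl C t = q).biUnion (fun t => t))
    rw [← hfib q, Fintype.card_fin] at this
    omega
  haveI : Fintype (W ⧸ C) := Fintype.ofFinite _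
  have hQ : Fintype.card (W ⧸ C) = 4096 := by
    have h1 := Submodule.finrank_quotient_add_finrank C
    rw [hdim, Module.finrank_pi, Fintype.card_fin] at h1
    have h2 : Module.finrank (ZMod 2) (W ⧸ C) = 12 := by omega
    rw [← Nat.card_eq_fintype_card, Module.natCard_eq_pow_finrank (K := ZMod 2), h2, Nat.card_zmod]
    norm_num
  have c3 : S3.card = 2325 := by
    rw [hS3, card_biUnion (fun i _ j _ hij => pairwise_disjoint_powersetCard univ hij)]
    simp [sum_range_succ, card_powersetCard, Nat.choose]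
  have c4 : S4.card = 10626 := by
    rw [hS4, card_powersetCard, card_univ, Fintype.card_fin, Nat.choose_eq_descFactorial_div_factorial]
    norm_num [Nat.descFactorial_succ, Nat.factorial]
  have hdisj : Disjoint (S3.image (cl C)) (S4.image (cl C)) := by
    rw [disjoint_left]
    rintro q hq hq'
    obtain ⟨a, ha, rfl⟩ := mem_image.1 hq
    obtain ⟨b, hb, e⟩ := mem_image.1 hq'
    exact hsep a ha b hb e.symm
  have hle : S4.card ≤ 6 * (S4.image (cl C)).card :=
    card_le_mul_card_image S4 6 fun q _ => h6 q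
  have htot : (S3.image (cl C)).card + (S4.image (cl C)).card ≤ 4096 := by
    rw [← card_union_of_disjoint hdisj, ← hQ]
    exact card_le_univ _
  rw [card_image_of_injOn inj3, c3] at htot
  rw [c4] at hle
  have hI : (S4.image (cl C)).card = 1771 := by omega
  have hcov : cl C s ∈ S3.image (cl C) ∨ cl C s ∈ S4.image (cl C) := by
    rw [← mem_union, eq_univ_of_card (S3.image (cl C) ∪ S4.image (cl C)) (by
      rw [card_union_of_disjoint hdisj, card_image_of_injOn inj3, c3, hI, hQ])]
    exact mem_univ _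
  have hsum : S4.card = ∑ q ∈ S4.image (cl C), (S4.filter fun t => cl C t = q).card :=
    card_eq_sum_card_image (cl C) S4
  rcases hcov with h | h
  · obtain ⟨u, hu, hus⟩ := mem_image.1 h
    refine Or.inl ⟨u, (m3 u).1 hu, hus, fun t ht hts => ?_⟩
    rcases Nat.lt_or_ge t.card 4 with h4 | h4
    · exact inj3 ((m3 t).2 (by omega)) hu (hts.trans hus.symm)
    · exact absurd (hus.trans hts.symm) (hsep u hu t ((m4 t).2 (by omega)))
  · obtain ⟨b, hb, hbs⟩ := mem_image.1 h
    have hq6 : (S4.filter fun t => cl C t = cl C s).card = 6 := by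
      by_contra hne
      have hlt : ∑ q ∈ S4.image (cl C), (S4.filter fun t => cl C t = q).card <
          ∑ q ∈ S4.image (cl C), 6 :=
        sum_lt_sum (fun q _ => h6 q) ⟨cl C s, h, lt_of_le_of_ne (h6 _) hne⟩
      rw [← hsum, sum_const, hI, c4, smul_eq_mul] at hlt
      omega
    refine Or.inr ⟨hq6, fun t ht hts => ?_, fun a => ?_⟩
    · by_contra h4
      exact hsep t ((m3 t).2 (by omega)) b hb (hts.trans hbs.symm)
    · have : (S4.filter fun t => cl C t = cl C s).biUnion (fun t => t) = univ := by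
        apply eq_univ_of_card
        rw [← hfib, hq6, Fintype.card_fin]
      have ha : a ∈ (S4.filter fun t => cl C t = cl C s).biUnion (fun t => t) := this ▸ mem_univ a
      obtain ⟨t, ht, hat⟩ := mem_biUnion.1 ha
      exact ⟨t, (m4 t).1 (mem_filter.1 ht).1, (mem_filter.1 ht).2, hat⟩

include hmin hdim in
theorem exists_octad (s : Finset (Fin 24)) (hs : s.card = 5) :
    ∃ b : Finset (Fin 24), b.card = 8 ∧ ind b ∈ C ∧ s ⊆ b := by
  rcases coset_cases C hmin hdim s with ⟨u, hu, hus, -⟩ | ⟨-, -, h⟩
  · have hne : s ≠ u := fun e => by rw [← e] at hu; omega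
    have h1 := big C hmin hus.symm hne
    refine ⟨symmDiff s u, ?_, (cl_eq_iff C s u).1 hus.symm, ?_⟩
    · have := card_symm s u; omega
    · have h0 : s ∩ u = ∅ := card_eq_zero.1 (by omega)
      intro x hx
      refine mem_symmDiff.2 (Or.inl ⟨hx, fun hxu => ?_⟩)
      have : x ∈ s ∩ u := mem_inter.2 ⟨hx, hxu⟩
      rw [h0] at this
      simp at this
  · obtain ⟨a, ha⟩ : s.Nonempty := card_pos.1 (by omega)
    obtain ⟨t, ht, hts, hat⟩ := h a
    have h1 := big C hmin hts (fun e => by rw [e] at ht; omega)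
    have : 0 < (t ∩ s).card := card_pos.2 ⟨a, mem_inter.2 ⟨hat, ha⟩⟩
    omega

include hmin in
theorem octad_unique {s b b' : Finset (Fin 24)} (hs : s.card = 5) (hb : b.card = 8) (hb' : b'.card = 8)
    (h : ind b ∈ C) (h' : ind b' ∈ C) (hsb : s ⊆ b) (hsb' : s ⊆ b') : b = b' := by
  by_contra hne
  have h1 := hmin (ind b + ind b') (add_mem h h') ?_
  · rw [ind_add, norm_ind] at h1
    have := card_symm b b'
    have : 5 ≤ (b ∩ b').card := hs ▸ card_le_card (subset_inter hsb hsb')
    omega
  · intro e
    rw [ind_add, show (0 : W) = ind ∅ by funext i; simp [ind]] at e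
    exact hne (symmDiff_eq_bot.1 (ind_injective e))

include hmin hdim in
theorem steiner :
    (∃ w ∈ C, hammingNorm w = 8) ∧ Cfsg.IsSteinerSystem 5 8 (Cfsg.wordsOfWeight (C : Set W) 8) := by
  have hmem : ∀ b : Finset (Fin 24), b ∈ Cfsg.wordsOfWeight (C : Set W) 8 ↔ b.card = 8 ∧ ind b ∈ C := by
    intro b
    constructor
    · rintro ⟨⟨w, hw, rfl⟩, h8⟩
      exact ⟨h8, by rw [ind_support]; exact hw⟩
    · rintro ⟨h8, hb⟩
      exact ⟨⟨ind b, hb, support_ind b⟩, h8⟩
  refine ⟨?_, fun b hb => ((hmem b).1 hb).1, fun s hs => ?_⟩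
  · obtain ⟨s, -, hs⟩ := exists_subset_card_eq (s := (univ : Finset (Fin 24))) (n := 5) (by simp)
    obtain ⟨b, hb, hbC, -⟩ := exists_octad C hmin hdim s hs
    exact ⟨ind b, hbC, by rw [norm_ind, hb]⟩
  · obtain ⟨b, hb, hbC, hsb⟩ := exists_octad C hmin hdim s hs
    refine ⟨b, ⟨(hmem b).2 ⟨hb, hbC⟩, hsb⟩, fun b' hb' => ?_⟩
    exact octad_unique C hmin hs ((hmem b').1 hb'.1).1 hb ((hmem b').1 hb'.1).2 hbC hb'.2 hsb

include hmin hdim in
theorem cosets (w : W) :
    (∃ u : W, {u : W | u - w ∈ C ∧ hammingNorm u ≤ 4} = {u} ∧ hammingNorm u ≤ 3) ∨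
    ({u : W | u - w ∈ C ∧ hammingNorm u ≤ 4}.ncard = 6 ∧
      ∀ u ∈ {u : W | u - w ∈ C ∧ hammingNorm u ≤ 4}, hammingNorm u = 4 ∧
        ∀ u' ∈ {u : W | u - w ∈ C ∧ hammingNorm u ≤ 4}, u ≠ u' →
          Disjoint (univ.filter fun i => u i ≠ 0) (univ.filter fun i => u' i ≠ 0)) := by
  classical
  set s := Cfsg.support₂ w with hs
  have key : ∀ v : W, v - w ∈ C ↔ cl C (Cfsg.support₂ v) = cl C s := fun v => by
    rw [cl, cl, hs, ind_support, ind_support, Submodule.Quotient.eq]
  rcases coset_cases C hmin hdim s with ⟨u, hu, hus, huniq⟩ | ⟨h6, h4, -⟩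
  · refine Or.inl ⟨ind u, Set.ext fun v => ⟨fun hv => ?_, ?_⟩, by rw [norm_ind]; exact hu⟩
    · rw [Set.mem_singleton_iff, ← ind_support v]
      exact congrArg ind (huniq _ hv.2 ((key v).1 hv.1))
    · rintro rfl
      exact ⟨(key _).2 (by rw [support_ind]; exact hus), by rw [norm_ind]; omega⟩
  · refine Or.inr ⟨?_, fun v hv => ⟨h4 _ hv.2 ((key v).1 hv.1), fun v' hv' hne => ?_⟩⟩
    · have e : {u : W | u - w ∈ C ∧ hammingNorm u ≤ 4} =
          ind '' (((univ.powersetCard 4).filter fun t => cl C t = cl C s : Finset (Finset (Fin 24))) :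
            Set (Finset (Fin 24))) := by
        ext v
        constructor
        · intro hv
          refine ⟨Cfsg.support₂ v, ?_, ind_support v⟩
          simp only [coe_filter, mem_powersetCard, subset_univ, true_and, Set.mem_setOf_eq]
          exact ⟨h4 _ hv.2 ((key v).1 hv.1), (key v).1 hv.1⟩
        · rintro ⟨t, ht, rfl⟩
          simp only [coe_filter, mem_powersetCard, subset_univ, true_and, Set.mem_setOf_eq] at ht
          exact ⟨(key _).2 (by rw [support_ind]; exact ht.2), by rw [norm_ind, ht.1]⟩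
      rw [e, Set.ncard_image_of_injective _ ind_injective, Set.ncard_coe_finset, h6]
    · show Disjoint (Cfsg.support₂ v) (Cfsg.support₂ v')
      have hne' : Cfsg.support₂ v ≠ Cfsg.support₂ v' := fun e =>
        hne (by rw [← ind_support v, e, ind_support])
      have := big C hmin (((key v).1 hv.1).trans ((key v').1 hv'.1).symm) hne'
      have := h4 (Cfsg.support₂ v) hv.2 ((key v).1 hv.1)
      have := h4 (Cfsg.support₂ v') hv'.2 ((key v').1 hv'.1)
      rw [disjoint_iff_inter_eq_empty, ← card_eq_zero]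
      omega

variable (horth : ∀ v ∈ C, ∀ w ∈ C, ∑ i, v i * w i = 0)

include hmin hdim horth in
theorem span_octads : Submodule.span (ZMod 2) {w : W | w ∈ C ∧ hammingNorm w = 8} = C := by
  classical
  set E := Submodule.span (ZMod 2) {w : W | w ∈ C ∧ hammingNorm w = 8} with hE
  have hle : E ≤ C := Submodule.span_le.2 fun w hw => hw.1
  let B : W →ₗ[ZMod 2] Module.Dual (ZMod 2) W := dotProductEquiv (ZMod 2) (Fin 24)
  have hperp : ∀ x : W, (∀ e ∈ E, ∑ i, x i * e i = 0) → x ∈ C := by
    intro x hx
    obtain ⟨u, hu, hus⟩ : ∃ u : Finset (Fin 24), u.card ≤ 4 ∧ cl C u = cl C (Cfsg.support₂ x) := by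
      rcases coset_cases C hmin hdim (Cfsg.support₂ x) with ⟨u, hu, hus, -⟩ | ⟨-, -, h⟩
      · exact ⟨u, hu.trans (by norm_num), hus⟩
      · obtain ⟨t, ht, hts, -⟩ := h 0; exact ⟨t, ht.le, hts⟩
    have hmemC : ind u - x ∈ C := by
      rw [cl, cl, ind_support, Submodule.Quotient.eq] at hus; exact hus
    rcases u.eq_empty_or_nonempty with rfl | ⟨a, ha⟩
    · have : x = ind ∅ - (ind ∅ - x) := (sub_sub_cancel _ _).symm
      rw [this, show ind ∅ = (0 : W) by funext i; simp [ind]] at *
      exact sub_mem (zero_mem _) (by simpa using hmemC)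
    exfalso
    have heven : ∀ b : Finset (Fin 24), b.card = 8 → ind b ∈ C → Even (u ∩ b).card := by
      intro b hb hbC
      have h1 := hx (ind b) (Submodule.subset_span ⟨hbC, by rw [norm_ind, hb]⟩)
      have h2 := horth _ hmemC _ hbC
      simp only [Pi.sub_apply, sub_mul, sum_sub_distrib] at h2
      rw [h1, sub_zero, dot_ind, ZMod.natCast_eq_zero_iff] at h2
      exact even_iff_two_dvd.2 h2
    obtain ⟨q, hq, hqc⟩ := exists_subset_card_eq (s := univ \ u) (n := 3)
      (by rw [card_sdiff_of_subset (subset_univ _), card_univ, Fintype.card_fin]; omega)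
    set T := insert a q with hT
    have hqu : ∀ y ∈ q, y ∉ u := fun y hy => (mem_sdiff.1 (hq hy)).2
    have hTc : T.card = 4 := by rw [hT, card_insert_of_notMem (fun h => hqu a h ha), hqc]
    have hO : ∀ f : Fin 24, f ∉ T → ∃ b : Finset (Fin 24), b.card = 8 ∧ ind b ∈ C ∧ insert f T ⊆ b :=
      fun f hf => exists_octad C hmin hdim _ (by rw [card_insert_of_notMem hf, hTc])
    choose O hO8 hOC hOsub using hO
    have hcover : univ \ (T ∪ u) ⊆
        (u.erase a).attach.biUnion fun c =>
          (O c.1 (by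
            simp only [hT, mem_insert, not_or]
            exact ⟨(mem_erase.1 c.2).1, fun h => hqu _ h (mem_erase.1 c.2).2⟩)) \ (T ∪ u) := by
      intro f hf
      simp only [mem_sdiff, mem_univ, true_and, mem_union, not_or] at hf
      obtain ⟨hfT, hfu⟩ := hf
      have hain : a ∈ u ∩ O f hfT :=
        mem_inter.2 ⟨ha, hOsub f hfT (mem_insert_of_mem (mem_insert_self a q))⟩
      have h2 : 1 < (u ∩ O f hfT).card := by
        obtain ⟨k, hk⟩ := heven _ (hO8 f hfT) (hOC f hfT)
        have := card_pos.2 ⟨a, hain⟩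
        omega
      obtain ⟨c, hc, hca⟩ := exists_mem_ne h2 a
      rw [mem_inter] at hc
      refine mem_biUnion.2 ⟨⟨c, mem_erase.2 ⟨hca, hc.1⟩⟩, mem_attach _ _, ?_⟩
      have hcT : c ∉ T := by
        simp only [hT, mem_insert, not_or]
        exact ⟨hca, fun h => hqu _ h hc.1⟩
      have e : O f hfT = O c hcT := by
        refine octad_unique C hmin (s := insert c T) (by rw [card_insert_of_notMem hcT, hTc])
          (hO8 f hfT) (hO8 c hcT) (hOC f hfT) (hOC c hcT) ?_ (hOsub c hcT)
        exact insert_subset hc.2 ((subset_insert _ _).trans (hOsub f hfT))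
      refine mem_sdiff.2 ⟨e ▸ hOsub f hfT (mem_insert_self f T), ?_⟩
      simp [hfT, hfu]
    have h1 := card_le_card hcover
    have h2 : ((u.erase a).attach.biUnion fun c => (O c.1 (by
            simp only [hT, mem_insert, not_or]
            exact ⟨(mem_erase.1 c.2).1, fun h => hqu _ h (mem_erase.1 c.2).2⟩)) \ (T ∪ u)).card ≤
        (u.erase a).attach.card * 4 := by
      refine card_biUnion_le_card_mul _ _ _ fun c _ => ?_
      have hT8 := fun h => hOsub c.1 h
      refine (card_le_card (sdiff_subset_sdiff (subset_refl _) subset_union_left)).trans ?_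
      rw [card_sdiff_of_subset ((subset_insert _ _).trans (hOsub c.1 _)), hO8, hTc]
    rw [card_attach, card_erase_of_mem ha] at h2
    rw [card_sdiff_of_subset (subset_univ _), card_univ, Fintype.card_fin] at h1
    have := card_union_le T u
    omega
  -- dimensions
  let Φ : W →ₗ[ZMod 2] Module.Dual (ZMod 2) E := E.dualRestrict.comp B
  have hker : LinearMap.ker Φ ≤ C := fun x hx => hperp x fun e he => by
    have := LinearMap.congr_fun (LinearMap.mem_ker.1 hx) ⟨e, he⟩
    simpa [Φ, B, dotProduct] using this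
  have h1 := LinearMap.finrank_range_add_finrank_ker Φ
  have h2 := Submodule.finrank_mono hker
  have h3 := Submodule.finrank_le (LinearMap.range Φ)
  rw [Subspace.dual_finrank_eq] at h3
  rw [Module.finrank_pi, Fintype.card_fin] at h1
  exact Submodule.eq_of_le_of_finrank_le hle (by omega)

include hmin hdim horth in
theorem doubly_even : ∀ w ∈ C, 4 ∣ hammingNorm w := by
  intro w hw
  rw [← span_octads C hmin hdim horth] at hw
  have key : 4 ∣ hammingNorm w ∧ w ∈ C := by
    induction hw using Submodule.span_induction with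
    | mem x hx => exact ⟨by rw [hx.2]; norm_num, hx.1⟩
    | zero => exact ⟨by simp [hammingNorm], zero_mem _⟩
    | add x y _ _ hx hy =>
      refine ⟨?_, add_mem hx.2 hy.2⟩
      rw [← ind_support x, ← ind_support y, ind_add, norm_ind]
      have h := horth x hx.2 y hy.2
      rw [← ind_support x, ← ind_support y, dot_ind, ZMod.natCast_eq_zero_iff] at h
      have := card_symm (Cfsg.support₂ x) (Cfsg.support₂ y)
      have h1 := hx.1
      have h2 := hy.1
      rw [norm_eq] at h1 h2
      omega
    | smul a x _ hx =>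
      have : ∀ z : ZMod 2, z = 0 ∨ z = 1 := by decide
      rcases this a with rfl | rfl
      · rw [zero_smul]; exact ⟨by simp [hammingNorm], zero_mem _⟩
      · rwa [one_smul]
  exact key.1

end Cfsg.Agent.Golay.AbstractCode
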