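import Cfsg.Agent.Lib.Golay.MathieuData

/-! Tables for the automorphisms of the two largest groups of the code. -/

set_option autoImplicit false

namespace Cfsg.Agent.Golay

/-- Multiplication by two. -/
def hWord : List (Fin 5) := [4, 4, 1, 1, 1, 4, 4, 0, 0, 0, 0, 3, 3, 0, 3, 3, 1, 1, 0, 3, 1, 3, 1, 1, 0, 4, 1, 4, 0, 3, 1, 1, 1, 1, 1, 4, 0, 0, 0, 4, 0, 0, 2, 1, 1, 2, 4, 4, 1, 2, 0, 4, 0, 3, 1, 1, 3, 0, 3, 3, 3, 3, 1, 3, 3, 0, 0, 1, 4, 4, 0, 0, 0, 0, 1, 3, 0, 0, 4, 0, 0, 4, 0, 4, 0, 4, 0, 0, 0, 4, 0, 0, 0, 4, 4, 4, 0, 4, 0, 4, 1, 4, 1, 1, 1, 1, 1, 1, 3, 1, 3, 3, 1, 1, 1, 1, 1, 4, 4, 0, 4, 4, 0, 4, 1, 3, 0, 3, 1, 0, 0, 3, 1, 3, 0, 0]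

/-- Normalises the multiplications, in the large group. -/
def gWord24 : List (Fin 5) := [2, 1, 3, 0, 4, 1, 1, 0, 4, 1, 3, 0, 3, 1, 1, 1, 3, 1, 3, 0, 4, 0, 1, 4, 4, 1, 1, 4, 0, 4, 4, 1, 2, 0, 3, 3, 2, 0, 0, 2, 0, 0, 0, 0, 4, 0, 0, 3, 0, 2, 0, 0, 4, 1, 1, 1, 2, 0, 0, 4, 1, 1, 1, 4, 4, 0, 0, 0, 0, 4, 1, 1, 1, 4, 4, 0, 4, 4, 1, 4, 4, 4, 0, 0, 0, 0, 0, 3, 1, 1, 3, 0, 4, 1, 4, 0, 3, 1, 1, 1, 1, 4, 0, 0, 0, 1, 4, 1, 1, 1, 1, 1, 1, 3, 1, 3, 3, 1, 1, 1, 2, 0, 3, 0, 3, 0, 2, 3, 3, 4, 4, 1, 1, 3, 1, 1, 4, 0, 1, 4, 4, 1, 1, 4, 0, 4, 4, 1, 4, 1, 1, 1, 1, 1, 1, 3, 0, 4, 1, 1, 3]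

/-- Normalises the multiplications, fixing the extra point. -/
def gWord23 : List (Fin 5) := [3, 3, 1, 3, 1, 3, 3, 0, 4, 1, 1, 3, 0, 3, 0, 4, 0, 1, 4, 0, 3, 3, 1, 1, 1, 3, 1, 1, 4, 0, 1, 4, 0, 3, 3, 1, 3, 2, 0, 0, 3, 1, 4, 0, 2, 0, 0, 4, 1, 1, 1, 0, 4, 4, 1, 3, 0, 1, 3, 1, 4, 1, 4, 0, 2, 0, 4, 4, 1, 3, 0, 2, 0, 3, 1, 3, 1, 1, 2, 1, 4, 4, 4, 0, 0, 2, 1, 3, 3, 0, 0, 4, 0, 0, 4, 4, 4, 0, 4, 0, 4, 1, 4, 1, 1, 1, 1, 1, 1, 3, 1, 3, 3, 1, 1, 1, 1, 1, 4, 4, 0, 4, 4, 0, 4, 1, 3, 0, 3, 1, 0, 0, 3, 1, 3, 0, 0]

/-- Transversals in three generators. -/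
def autLevels24 : TokLevels := [
  [(0, [(false, 2)]), (1, [(false, 0), (false, 2)]), (2, [(false, 0), (false, 0), (false, 2)]), (3, [(true, 2), (true, 0), (false, 2)]), (4, [(false, 1), (false, 0), (false, 0), (false, 2)]), (5, [(false, 2), (false, 0), (false, 2)]), (6, [(false, 0), (false, 2), (false, 0), (false, 2)]), (7, [(false, 2), (true, 1), (false, 0), (false, 2)]), (8, [(true, 2), (false, 1), (true, 0), (false, 2)]), (9, [(true, 0), (false, 1), (false, 2), (false, 0), (false, 2)]), (10, [(false, 1), (false, 2), (false, 0), (false, 2)]), (11, [(true, 1), (true, 0), (false, 2)]), (12, [(true, 1), (false, 0), (false, 2)]), (13, [(false, 0), (true, 1), (false, 0), (false, 2)]), (14, [(true, 1), (false, 2), (false, 0), (false, 2)]), (15, [(false, 0), (true, 1), (false, 2), (false, 0), (false, 2)]), (16, [(false, 2), (false, 2), (false, 0), (false, 0), (false, 2)]), (17, [(true, 1), (true, 1), (true, 0), (false, 2)]), (18, [(true, 2), (false, 1), (false, 2), (false, 0), (false, 2)]), (19, [(false, 1), (false, 1), (true, 0), (false, 2)]), (20, [(false,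 2), (false, 0), (false, 0), (false, 2)]), (21, [(false, 1), (true, 0), (false, 2)]), (22, [(true, 0), (false, 2)]), (23, [])],
  [(0, []), (1, [(false, 0)]), (2, [(false, 0), (false, 0)]), (3, [(false, 0), (false, 0), (false, 0)]), (4, [(false, 1), (false, 0), (false, 0)]), (5, [(true, 2), (false, 1), (false, 2), (true, 0)]), (6, [(true, 1), (true, 1), (false, 0)]), (7, [(false, 2), (false, 2), (true, 0)]), (8, [(true, 2), (true, 2), (false, 0), (false, 0)]), (9, [(true, 2), (true, 1), (false, 2), (false, 0)]), (10, [(true, 0), (true, 1), (true, 0)]), (11, [(true, 1), (true, 0)]), (12, [(true, 1), (false, 0)]), (13, [(false, 0), (true, 1), (false, 0)]), (14, [(true, 2), (true, 1), (false, 2), (true, 0)]), (15, [(true, 2), (true, 0), (true, 0), (true, 1), (true, 0), (false, 2), (false, 0), (false, 2)]), (16, [(false, 2), (false, 2), (false, 0), (false, 0)]), (17, [(true, 1), (true, 1), (true, 0)]), (18, [(true, 2), (false, 1), (false, 2), (false, 0)]), (19, [(false, 1), (false, 1), (true, 0)]), (20, [(true, 0), (false, 1), (true, 0)]), (21, [(false, 1),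 (true, 0)]), (22, [(true, 0)])],
  [(1, []), (2, [(false, 1)]), (3, [(true, 2), (true, 2), (true, 1)]), (4, [(false, 1), (false, 1)]), (5, [(true, 0), (true, 0), (true, 0), (true, 2), (true, 0), (false, 1), (false, 2), (true, 0), (false, 2)]), (6, [(true, 1), (true, 1)]), (7, [(true, 0), (true, 2), (true, 2), (false, 0)]), (8, [(true, 2), (true, 2), (false, 1)]), (9, [(true, 2), (true, 1), (false, 2)]), (10, [(true, 0), (true, 0), (true, 0), (true, 2), (true, 1), (true, 2), (false, 0), (false, 0)]), (11, [(true, 0), (true, 2), (true, 2), (false, 0), (true, 1)]), (12, [(true, 1)]), (13, [(true, 2), (false, 1), (false, 2), (false, 1)]), (14, [(true, 0), (true, 0), (true, 2), (true, 2), (true, 2), (true, 1), (false, 2), (true, 1), (false, 0)]), (15, [(true, 0), (false, 2), (false, 2), (false, 0)]), (16, [(false, 2), (false, 2), (false, 1)]), (17, [(false, 0), (true, 1), (true, 1), (true, 2), (true, 0), (true, 2), (true, 2), (false, 0), (true, 2), (false, 0)]), (18, [(true, 2), (false, 1), (false, 2)]), (19, [(true, 2), (true, 0), (true, 2), (true, 2), (false,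 0), (false, 2)]), (20, [(false, 0), (true, 1), (false, 0), (true, 2), (false, 1), (true, 2), (true, 0), (true, 0)]), (21, [(true, 0), (true, 0), (true, 0), (true, 2), (true, 2), (true, 1), (false, 0)]), (22, [(true, 0), (false, 1), (true, 0), (false, 2), (false, 2), (true, 1), (false, 0)])],
  [(2, []), (3, [(false, 0), (false, 1), (true, 2), (true, 2), (true, 0)]), (4, [(false, 1), (false, 1), (true, 0), (true, 0), (false, 2), (false, 2), (true, 2), (true, 0), (true, 0), (true, 2), (true, 0), (true, 0), (true, 0), (false, 2)]), (5, [(true, 0), (false, 1), (false, 2), (false, 2), (false, 0), (false, 0), (false, 0), (false, 0), (true, 1), (true, 1), (true, 2), (true, 2), (true, 0), (true, 0)]), (6, [(false, 1), (false, 2), (false, 2), (true, 0), (true, 2), (true, 2), (false, 0), (false, 1)]), (7, [(true, 0), (false, 2), (true, 0), (false, 2), (false, 2), (false, 0), (false, 2), (false, 1), (false, 1), (true, 0), (false, 0), (true, 2), (true, 2), (true, 2), (true, 1), (true, 2), (true, 0), (false, 1)]), (8, [(true, 2), (true, 2)]), (9, [(true, 2), (false,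 1), (false, 2), (true, 0), (true, 0), (true, 0), (true, 2), (true, 2), (true, 1), (false, 0), (false, 1)]), (10, [(true, 1), (true, 2), (true, 1), (false, 2), (false, 0), (true, 2), (true, 2), (false, 0), (true, 1), (true, 1), (false, 0)]), (11, [(true, 2), (false, 0), (true, 2), (true, 1), (false, 0), (false, 2), (false, 0), (false, 0), (false, 0), (true, 0), (true, 2), (true, 2), (true, 2), (true, 2), (false, 0)]), (12, [(false, 1), (false, 2), (false, 2), (false, 0), (false, 1), (true, 2), (true, 2), (true, 0), (false, 1)]), (13, [(true, 1), (true, 2), (true, 1), (false, 2), (true, 2), (false, 0), (false, 2), (false, 2), (true, 1), (true, 0), (false, 2)]), (14, [(true, 1), (true, 1), (false, 0), (true, 1), (true, 2), (true, 0), (true, 2), (true, 0), (true, 1), (false, 2), (true, 0), (false, 2)]), (15, [(true, 1), (true, 0), (true, 2), (true, 0), (false, 1), (false, 2), (true, 0), (false, 2), (true, 0)]), (16, [(false, 2), (false, 2)]), (17, [(false, 0), (true, 2), (true, 2), (true, 2), (true, 1), (true, 2), (true, 0)]), (18, [(false, 1), (true, 0),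 (true, 0), (true, 1), (true, 2), (true, 2), (false, 0), (false, 1), (false, 0)]), (19, [(true, 0), (false, 2), (false, 2), (false, 0), (true, 0), (true, 0), (false, 2), (false, 2), (true, 2), (true, 0), (false, 1), (false, 2), (true, 0), (false, 2), (false, 0)]), (20, [(true, 2), (true, 1), (false, 2), (true, 2), (true, 0), (true, 2), (true, 2), (false, 0), (true, 2), (false, 1)]), (21, [(true, 0), (true, 2), (true, 2), (false, 0), (true, 0), (false, 1), (true, 2), (true, 2), (false, 0), (true, 1), (false, 0)]), (22, [(true, 0), (false, 2), (false, 2), (false, 0), (true, 0), (true, 0), (false, 2), (false, 2), (false, 1), (false, 1), (false, 1), (false, 0)])],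
  [(3, []), (4, [(false, 0), (false, 2), (false, 1), (false, 2), (false, 2), (false, 2), (true, 0), (true, 0), (false, 2), (false, 2), (false, 0), (true, 0), (true, 0), (true, 1), (true, 2), (true, 2), (false, 0), (false, 0), (false, 0)]), (5, [(true, 0), (true, 1), (true, 1), (true, 1), (true, 2), (true, 2), (false, 0), (false, 0), (true, 0), (true, 2), (true, 2), (false, 0), (true, 0), (true, 2), (true, 2), (false, 0), (true, 2), (true, 0), (true, 2), (true, 2), (false, 0), (false, 1), (false, 2)]), (6, [(true, 1), (true, 0), (false, 1), (false, 2), (false, 2), (false, 0), (false, 0), (false, 0), (true, 2), (true, 1), (false, 2), (true, 0), (true, 0), (false, 2), (false, 1), (false, 2), (false, 0), (false, 0), (false, 0), (true, 0), (true, 0), (false, 2), (false, 2), (true, 2), (false, 1), (false, 2), (false, 0), (false, 0), (false, 0)]), (7, [(false, 0), (false, 2), (false, 2), (true, 1), (true, 0), (true, 2), (false, 1), (false, 2), (false, 0), (false, 1), (false, 0), (true, 2), (true, 2), (true, 1), (true, 0), (false, 1)]), (8, [(false, 2), (false,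 2), (true, 2), (false, 1), (false, 2), (true, 0), (true, 0), (true, 2), (true, 2), (true, 0), (true, 1), (true, 1), (true, 0)]), (9, [(false, 0), (false, 0), (false, 2), (false, 2), (false, 1), (false, 1), (true, 0), (true, 0), (true, 0), (true, 0), (true, 2), (true, 2), (true, 1), (false, 0), (true, 0), (true, 2), (true, 2), (false, 0), (true, 0), (true, 0), (true, 0), (true, 2), (true, 0), (false, 1), (false, 2), (true, 0), (true, 1), (false, 2)]), (10, [(true, 0), (true, 1), (true, 0), (false, 2), (false, 2), (false, 1), (false, 0), (false, 0), (true, 1), (true, 0), (false, 2), (true, 0), (false, 2), (false, 2), (false, 0), (false, 2), (false, 1), (false, 1), (true, 0), (false, 0), (false, 1), (false, 0), (true, 2), (true, 1), (true, 2), (true, 0), (true, 0)]), (11, [(true, 0), (true, 1), (true, 1), (true, 1), (true, 2), (true, 2), (false, 0), (false, 0), (true, 0), (true, 2), (true, 2), (false, 0), (true, 2), (false, 1), (false, 2), (true, 2), (false, 0), (false, 1), (true, 2), (true, 2), (true, 0), (false, 2)]), (12, [(true, 1), (true, 0), (false,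 2), (false, 2), (false, 0), (true, 2), (true, 2), (true, 1), (true, 0), (false, 1), (true, 2), (false, 1), (false, 2), (false, 2), (false, 2), (false, 0), (false, 0), (true, 0), (true, 0), (false, 2), (false, 2), (true, 2), (true, 0), (true, 0), (false, 2), (true, 0), (true, 0), (false, 2)]), (13, [(false, 1), (true, 0), (false, 2), (false, 2), (false, 0), (true, 0), (true, 0), (false, 2), (false, 2), (false, 1), (false, 1), (false, 0), (false, 0)]), (14, [(true, 2), (false, 0), (true, 2), (true, 1), (false, 0), (false, 2), (false, 0), (false, 0), (false, 0), (false, 0), (true, 1), (false, 0), (false, 2), (false, 2), (true, 0), (true, 0)]), (15, [(false, 0), (false, 0), (false, 2), (false, 2), (false, 1), (false, 1), (true, 0), (true, 0), (true, 0), (true, 0), (true, 2), (true, 2), (true, 1), (false, 0), (true, 2), (false, 1), (false, 2), (false, 0), (false, 1), (true, 2), (true, 2), (true, 0), (false, 1), (false, 1)]), (16, [(true, 1), (true, 0), (false, 2), (false, 2), (false, 0), (true, 2), (true, 2), (true, 1), (true, 2), (true, 2), (true, 2), (true,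 2)]), (17, [(false, 0), (false, 0), (false, 2), (false, 2), (false, 1), (false, 1), (true, 0), (true, 0), (true, 0), (true, 0), (true, 2), (true, 2), (true, 1), (false, 0), (false, 1), (true, 0), (false, 2), (false, 2), (false, 0), (false, 0), (true, 1), (true, 1), (true, 2), (true, 0), (true, 2), (true, 2), (false, 0), (false, 2), (false, 0)]), (18, [(true, 0), (true, 1), (true, 0), (false, 2), (false, 2), (false, 1), (false, 0), (false, 0), (true, 1), (false, 0), (false, 1), (true, 2), (true, 2), (true, 0), (false, 2), (false, 2)]), (19, [(true, 0), (false, 1), (true, 0), (false, 2), (false, 2), (true, 1), (false, 0), (true, 0), (false, 2), (false, 2), (false, 0), (true, 1), (true, 1), (true, 0), (true, 2), (true, 2), (false, 0), (false, 1), (false, 1)]), (20, [(true, 1), (false, 0), (false, 2), (false, 2), (true, 1), (true, 0), (true, 2), (true, 2), (true, 1), (false, 1), (false, 2), (false, 2), (false, 0), (false, 1), (false, 0), (true, 2), (true, 2), (true, 1), (true, 0)]), (21, [(true, 1), (false, 0), (false, 2), (false, 2), (true, 1), (true, 0),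 (true, 2), (true, 2), (true, 1), (false, 1), (true, 2), (true, 0), (false, 2), (false, 2), (false, 0), (false, 2)]), (22, [(true, 0), (false, 1), (true, 0), (false, 2), (false, 2), (true, 1), (false, 0), (true, 0), (false, 2), (false, 2), (false, 0), (true, 2), (true, 0), (false, 2), (false, 2), (false, 0), (false, 2), (true, 0), (true, 0), (false, 2), (false, 2), (true, 2), (true, 0), (false, 1), (false, 2), (true, 0), (true, 2), (false, 0)])],
  [(4, []), (6, [(false, 2), (false, 2), (false, 2), (false, 2), (false, 1), (false, 2), (false, 2), (true, 0), (true, 2), (true, 2), (false, 0), (false, 1), (false, 0), (false, 2), (false, 1), (false, 2), (false, 2), (false, 2), (true, 0), (true, 1), (true, 0), (true, 0), (false, 2), (false, 2), (true, 2), (true, 0), (true, 0), (true, 2), (true, 0), (false, 1), (true, 0), (false, 2)]), (7, [(true, 2), (true, 0), (true, 2), (true, 2), (false, 0), (false, 2), (true, 1), (false, 1), (false, 2), (false, 2), (false, 0), (false, 1), (true, 2), (true, 2), (true, 0), (false, 1), (true, 1), (false, 0), (false, 2), (false,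 2), (true, 1), (true, 0), (true, 2), (true, 2), (true, 1), (true, 1), (true, 2), (true, 1), (false, 2), (false, 0), (true, 1), (true, 2), (true, 0), (true, 2), (true, 0), (false, 1), (true, 2), (true, 0), (false, 2)]), (8, [(true, 0), (true, 2), (true, 0), (false, 2), (false, 2), (false, 0), (false, 2), (false, 1), (false, 1), (true, 0), (true, 0), (true, 2), (true, 2), (false, 0), (true, 1), (true, 0), (false, 1), (false, 2), (false, 2), (false, 0), (false, 0), (false, 0), (false, 0), (true, 1), (true, 1), (true, 2), (true, 2), (true, 0), (true, 0), (true, 2), (false, 0), (false, 0), (false, 0), (false, 2), (false, 0), (false, 0), (false, 2), (true, 2), (true, 2), (false, 0), (false, 0), (true, 1), (true, 1), (true, 0), (true, 0), (false, 2), (false, 1), (false, 2), (false, 0), (false, 0), (false, 0), (true, 0), (true, 0), (true, 2), (true, 0), (true, 0), (true, 0), (true, 2), (true, 0), (false, 2)]), (9, [(false, 0), (false, 0), (false, 2), (false, 2), (false, 1), (false, 1), (true, 0), (true, 0), (true, 0), (true, 0), (true, 2), (true, 2), (true, 1),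 (false, 0), (false, 1), (true, 2), (true, 0), (false, 2), (false, 2), (false, 0), (true, 2)]), (10, [(true, 2), (true, 0), (true, 2), (true, 2), (false, 0), (false, 2), (true, 1), (false, 1), (false, 2), (false, 2), (false, 0), (false, 1), (true, 2), (true, 2), (true, 0), (false, 1), (true, 1), (true, 0), (false, 2), (false, 2), (false, 0), (true, 2), (true, 2), (true, 1), (false, 1), (true, 2), (true, 0), (true, 2), (false, 0), (false, 1), (false, 0), (false, 0), (false, 2), (false, 1), (false, 1), (true, 0), (true, 0)]), (11, [(true, 0), (true, 0), (true, 1), (true, 1), (true, 2), (true, 2), (false, 0), (false, 0), (true, 0), (true, 2), (true, 2), (false, 0), (true, 1), (true, 1), (true, 2), (true, 2), (false, 0), (true, 2), (true, 1), (false, 2), (true, 2), (false, 0), (false, 2), (false, 0), (false, 1), (false, 0), (false, 2)]), (12, [(true, 0), (false, 2), (false, 0), (true, 2), (true, 1), (false, 0), (false, 2), (true, 2), (true, 2), (false, 0), (false, 0), (true, 2), (true, 0), (true, 2), (true, 2), (false, 0), (false, 2), (true, 0), (true, 2),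 (true, 2), (false, 0), (true, 0), (false, 1), (true, 2), (true, 2), (false, 0), (true, 1), (false, 0), (true, 0), (false, 2), (false, 2), (false, 2), (false, 2), (false, 0), (true, 0), (true, 0), (true, 0), (true, 2), (true, 0), (false, 1), (false, 2), (true, 0), (false, 2), (true, 1), (true, 2), (true, 2), (true, 0), (true, 0), (true, 0), (true, 2), (true, 0), (false, 1), (false, 2), (true, 0), (true, 2), (false, 1)]), (13, [(true, 1), (false, 0), (false, 1), (false, 2), (false, 2), (true, 0), (true, 1), (true, 0), (true, 2), (true, 1), (false, 2), (false, 0), (false, 1), (true, 2), (true, 2), (true, 0), (true, 1), (false, 2), (true, 0), (false, 2), (false, 2), (false, 0), (false, 2), (true, 2), (false, 1), (false, 2), (true, 2), (false, 0), (true, 2), (true, 1), (false, 0), (false, 2), (false, 0), (false, 0), (false, 0), (true, 0), (true, 0), (true, 0), (true, 2), (true, 0), (true, 2), (true, 0), (true, 1), (true, 1), (false, 0), (false, 2)]), (15, [(true, 0), (true, 0), (true, 0), (false, 2), (false, 2), (false, 1), (false, 0), (false, 0), (true, 0),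 (true, 2), (true, 2), (false, 0), (false, 0), (true, 2), (true, 2), (true, 2), (true, 1), (true, 2), (true, 0), (false, 2), (false, 2), (false, 1), (true, 0), (false, 2), (false, 2), (false, 0), (true, 0), (false, 2), (false, 2), (false, 0), (false, 1)]), (16, [(true, 2), (false, 0), (false, 2), (false, 2), (true, 1), (true, 0), (false, 2), (true, 2), (true, 1), (false, 2), (true, 0), (false, 2), (false, 2), (false, 0), (true, 0), (true, 0), (false, 2), (false, 2), (false, 1), (false, 1), (false, 1), (false, 0), (true, 1), (false, 0), (false, 2), (false, 1), (false, 2), (false, 2), (false, 2), (true, 0), (false, 0), (true, 1), (true, 1), (true, 2), (true, 0), (true, 2), (true, 2), (false, 0), (true, 2), (false, 0), (true, 1), (true, 2), (true, 1), (false, 2), (true, 2), (false, 0), (false, 2), (false, 2), (true, 1), (true, 0), (true, 2)]), (18, [(true, 0), (false, 2), (false, 0), (true, 2), (true, 1), (false, 0), (false, 2), (true, 2), (true, 2), (false, 0), (false, 0), (true, 2), (true, 0), (true, 2), (true, 2), (false, 0), (false, 2), (true, 0), (true,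 2), (true, 2), (false, 0), (true, 0), (false, 1), (true, 2), (true, 2), (false, 0), (true, 1), (false, 0), (true, 2), (true, 2), (true, 2), (false, 0), (true, 2), (true, 1), (false, 0), (false, 2), (false, 0), (false, 0), (false, 0), (false, 0), (true, 2), (true, 1), (false, 2), (true, 2), (false, 0), (false, 2), (false, 0), (false, 0), (false, 0), (false, 2)]), (19, [(true, 2), (false, 0), (false, 2), (false, 2), (true, 1), (true, 0), (false, 2), (true, 2), (true, 1), (false, 2), (true, 0), (false, 2), (false, 2), (false, 0), (true, 0), (true, 0), (false, 2), (false, 2), (false, 1), (false, 1), (false, 1), (false, 0), (true, 0), (false, 1), (false, 1), (true, 0), (false, 2), (false, 2), (true, 0), (true, 2), (false, 1), (false, 2), (false, 1), (false, 1), (false, 2), (false, 2), (false, 0), (false, 1), (false, 0), (true, 2), (true, 2), (true, 2), (true, 2), (true, 0)]), (20, [(true, 1), (true, 1), (false, 0), (false, 2), (false, 2), (true, 1), (true, 0), (true, 2), (true, 1), (false, 2), (true, 0), (false, 1), (false, 2), (false, 2), (false, 0), (false,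 0), (false, 0), (false, 0), (true, 1), (true, 1), (true, 2), (true, 2), (true, 0), (true, 0), (true, 0), (false, 1), (true, 0), (false, 2), (false, 2), (true, 1), (false, 0), (true, 0), (false, 2), (false, 2), (false, 0), (true, 0), (false, 1), (true, 2), (true, 2), (false, 0), (true, 1), (false, 0), (false, 0), (true, 1), (true, 2), (true, 2), (true, 0), (true, 0), (true, 0)]), (21, [(true, 1), (true, 1), (true, 0), (false, 2), (false, 2), (false, 0), (false, 1), (false, 1), (true, 0), (true, 2), (true, 2), (false, 0), (true, 0), (false, 1), (true, 2), (true, 2), (false, 0), (true, 1), (false, 0), (true, 0), (true, 1), (true, 1), (true, 1), (true, 2), (true, 2), (false, 0), (false, 0), (true, 0), (true, 2), (true, 2), (false, 0), (true, 0), (true, 2), (true, 2), (false, 0), (false, 0), (true, 2), (true, 1), (false, 2), (true, 2), (false, 0), (true, 1), (true, 2), (false, 1), (false, 0), (false, 2)]), (22, [(true, 0), (true, 0), (true, 0), (false, 2), (false, 2), (false, 1), (false, 0), (false, 0), (true, 0), (true, 2), (true, 2), (false, 0), (false, 0),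 (true, 2), (true, 2), (true, 2), (true, 1), (true, 2), (true, 0), (true, 0), (true, 2), (false, 0), (true, 2), (true, 1), (false, 0), (false, 2), (true, 2), (true, 2), (false, 0), (false, 0), (true, 0), (true, 2), (true, 2), (false, 0), (true, 0), (false, 2), (true, 0), (false, 2), (false, 2), (false, 0), (false, 2), (false, 1), (false, 1), (true, 0), (true, 2), (true, 0), (true, 2), (true, 2), (false, 0), (false, 2), (false, 1)])],
  [(5, []), (14, [(true, 1), (true, 0), (true, 2), (true, 2), (false, 0), (true, 0), (true, 2), (true, 2), (false, 0), (true, 1), (true, 2), (true, 2), (false, 0), (false, 2), (false, 1), (false, 2), (false, 2), (false, 2), (true, 0), (true, 0), (false, 2), (false, 2), (false, 0), (true, 0), (true, 0), (true, 1), (true, 2), (true, 2), (false, 0), (false, 0), (false, 0), (false, 2), (false, 2), (false, 2), (false, 2), (false, 1), (false, 2), (false, 2), (true, 0), (true, 2), (true, 2), (false, 0), (false, 1), (true, 1), (false, 0), (false, 2), (false, 1), (false, 2), (false, 2), (false, 2), (true, 0), (false, 0), (true, 1),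 (true, 1), (true, 2), (true, 0), (true, 2), (true, 2), (false, 0), (true, 2), (false, 0), (true, 0), (false, 2), (true, 0), (false, 2), (false, 2), (false, 0), (false, 2), (false, 1), (false, 1), (true, 0), (false, 0), (true, 2), (true, 1), (false, 2), (true, 2), (false, 0), (true, 1), (true, 2), (false, 0), (false, 0), (false, 2)]), (17, [(true, 1), (true, 0), (true, 2), (true, 2), (false, 0), (true, 0), (true, 2), (true, 2), (false, 0), (true, 1), (true, 2), (true, 2), (false, 0), (false, 2), (false, 1), (false, 2), (false, 2), (false, 2), (true, 0), (true, 0), (false, 2), (false, 2), (false, 0), (true, 0), (true, 0), (true, 1), (true, 2), (true, 2), (false, 0), (false, 0), (false, 0), (true, 1), (true, 1), (true, 0), (false, 2), (false, 2), (false, 0), (false, 1), (false, 1), (true, 0), (true, 2), (true, 2), (false, 0), (true, 0), (false, 1), (true, 2), (true, 2), (false, 0), (true, 1), (false, 0), (true, 1), (true, 0), (false, 2), (false, 2), (false, 0), (true, 2), (true, 2), (true, 1), (true, 1), (true, 2), (true, 1), (false, 2), (true, 0), (true,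 0), (true, 0), (true, 2), (true, 0), (false, 1), (false, 2), (true, 0), (false, 2), (false, 1)])]]

/-- Words separating the possible images of the shift. -/
def autRels24 : List (List ℕ) := [[0, 2, 0, 2, 0, 2, 0, 2, 0, 2, 0, 2, 0, 2, 0, 2, 0, 2, 0, 2, 0, 2, 0, 2, 0, 2, 0, 2], [0, 0, 2, 0, 0, 2, 0, 0, 2, 0, 0, 2, 0, 0, 2, 0, 0, 2]]

/-- Transversals in three generators. -/
def autLevels23 : TokLevels := [
  [(0, []), (1, [(false, 0)]), (2, [(false, 0), (false, 0)]), (3, [(false, 0), (false, 0), (false, 0)]), (4, [(false, 1), (false, 0), (false, 0)]), (5, [(false, 0), (false, 1), (false, 0), (false, 0)]), (6, [(true, 1), (true, 1), (false, 0)]), (7, [(true, 2), (true, 0)]), (8, [(false, 2), (false, 0), (false, 0)]), (9, [(false, 0), (false, 2), (false, 0), (false, 0)]), (10, [(false, 2), (false, 2), (true, 0)]), (11, [(false, 2), (true, 0)]), (12, [(true, 1), (false, 0)]), (13, [(false, 0), (true, 1), (false, 0)]), (14, [(false, 1), (true, 2), (true, 0)]), (15, [(true, 1), (true, 2), (true, 0)]), (16, [(true, 2), (false, 0), (false, 0)]), (17, [(true, 1),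 (false, 2), (true, 0)]), (18, [(false, 2), (false, 1), (false, 0), (false, 0)]), (19, [(false, 1), (false, 1), (true, 0)]), (20, [(true, 0), (false, 1), (true, 0)]), (21, [(false, 1), (true, 0)]), (22, [(true, 0)])],
  [(1, []), (2, [(false, 1)]), (3, [(false, 2), (true, 1)]), (4, [(false, 1), (false, 1)]), (5, [(true, 0), (false, 2), (false, 2), (false, 0)]), (6, [(true, 1), (true, 1)]), (7, [(true, 0), (false, 2), (false, 0)]), (8, [(false, 2), (false, 1)]), (9, [(false, 1), (true, 2), (false, 1)]), (10, [(true, 0), (true, 0), (false, 2), (false, 1), (false, 2), (false, 1), (false, 0)]), (11, [(true, 0), (true, 2), (false, 0), (false, 1)]), (12, [(true, 1)]), (13, [(true, 2), (true, 1)]), (14, [(true, 0), (true, 0), (false, 1), (false, 2), (false, 0)]), (15, [(true, 0), (true, 2), (false, 0)]), (16, [(true, 2), (false, 1)]), (17, [(true, 0), (true, 2), (false, 0), (true, 1)]), (18, [(false, 2), (false, 1), (false, 1)]), (19, [(false, 0), (false, 2), (false, 1), (true, 0), (true, 2), (false, 1), (false, 0)]), (20, [(true, 0), (true, 0), (true, 2), (true,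 0), (true, 2), (true, 2), (false, 1), (false, 0)]), (21, [(true, 0), (true, 0), (true, 0), (false, 2), (true, 1), (false, 0)]), (22, [(true, 0), (false, 1), (true, 0), (true, 2), (true, 1), (false, 0)])],
  [(2, []), (3, [(false, 0), (true, 1), (true, 1), (false, 2), (false, 1), (true, 0)]), (4, [(false, 1), (false, 2), (false, 0), (true, 1), (false, 0), (true, 1), (true, 1), (false, 2), (true, 0)]), (5, [(true, 0), (false, 1), (true, 2), (false, 0), (false, 0), (false, 0), (false, 0), (true, 1), (true, 1), (false, 2), (true, 0), (true, 0)]), (6, [(false, 2), (false, 2)]), (7, [(true, 0), (true, 2), (true, 2), (false, 0), (false, 0), (false, 2), (true, 0), (false, 2), (false, 0), (false, 0)]), (8, [(false, 2)]), (9, [(true, 2), (true, 2)]), (10, [(false, 1), (true, 2), (false, 0), (true, 2), (false, 1), (false, 0), (true, 2), (false, 1), (false, 0)]), (11, [(true, 0), (true, 1), (true, 2), (true, 1), (true, 2), (false, 0), (false, 0), (true, 0), (true, 0), (true, 1), (true, 2), (false, 0), (true, 2), (true, 2), (true, 0)]), (12, [(true, 1), (true, 1),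 (true, 2), (false, 0), (true, 2), (true, 2), (true, 0), (true, 1), (true, 0)]), (13, [(true, 0), (false, 1), (true, 0), (true, 2), (true, 1), (true, 2), (false, 0)]), (14, [(false, 0), (true, 2), (true, 1), (true, 0)]), (15, [(false, 0), (true, 2), (true, 1), (true, 0), (false, 2)]), (16, [(true, 2)]), (17, [(false, 0), (true, 2), (false, 1), (true, 2), (true, 2), (true, 0)]), (18, [(true, 1), (true, 2), (true, 0), (true, 2), (true, 2), (false, 0)]), (19, [(true, 1), (true, 1), (true, 2), (true, 0), (false, 1), (false, 1), (true, 0), (true, 2), (true, 0)]), (20, [(true, 0), (true, 2), (true, 2), (false, 0), (false, 0), (true, 1), (false, 0), (true, 2), (true, 0), (true, 0)]), (21, [(true, 0), (true, 2), (true, 2), (false, 0), (true, 0), (false, 1), (true, 2), (false, 0), (false, 0), (false, 0)]), (22, [(true, 0), (true, 2), (false, 0), (true, 0), (true, 0), (false, 1), (true, 2), (false, 0)])],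
  [(3, []), (4, [(true, 0), (false, 2), (false, 2), (false, 0), (false, 2), (false, 1), (true, 0), (false, 1), (false, 2), (false, 0), (true, 1), (false, 0), (true, 0), (true, 0), (true, 2), (false, 0), (true, 2), (true, 0)]), (5, [(true, 0), (false, 2), (false, 2), (false, 0), (false, 2), (false, 1), (true, 0), (false, 1), (false, 2), (false, 0), (true, 1), (false, 0), (true, 0), (true, 0), (true, 1), (true, 1), (false, 2), (false, 0), (false, 0)]), (6, [(false, 2), (false, 1), (false, 2), (false, 0), (true, 2), (true, 0), (true, 1), (false, 2), (false, 0)]), (7, [(true, 2), (false, 0), (false, 1), (false, 2), (true, 0), (false, 1), (false, 2), (false, 0), (true, 1), (false, 0), (true, 2), (false, 1), (true, 0)]), (8, [(false, 0), (false, 1), (false, 2), (true, 0), (true, 1), (false, 2), (true, 1), (true, 0), (false, 1), (true, 2), (false, 0), (false, 1), (false, 0)]), (9, [(true, 0), (true, 1), (false, 2), (true, 0), (true, 1), (false, 2), (true, 0), (false, 2), (true, 1), (true, 1), (false, 0), (false, 2), (true, 1), (false, 0), (true, 2), (true, 1),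 (false, 0)]), (10, [(false, 0), (false, 1), (false, 0), (false, 2), (false, 2), (true, 0), (false, 2), (false, 1), (false, 1), (false, 1), (true, 2), (false, 0), (true, 1), (true, 1), (false, 2), (false, 1), (true, 0), (false, 1)]), (11, [(true, 2), (true, 2), (false, 1), (true, 2), (true, 0), (false, 2), (false, 0), (false, 1)]), (12, [(false, 0), (false, 1), (false, 2), (true, 0), (true, 0), (true, 1), (false, 2), (false, 0), (true, 1), (true, 2), (true, 0), (true, 0), (true, 1), (false, 0), (true, 2), (false, 0)]), (13, [(true, 0), (false, 2), (true, 1), (false, 0), (false, 0), (true, 0), (false, 2), (false, 0), (false, 1), (true, 0), (false, 2), (false, 0), (true, 2), (true, 0), (false, 2), (false, 0)]), (14, [(false, 0), (false, 1), (false, 2), (true, 0), (true, 1), (false, 2), (true, 1), (false, 0), (false, 2), (false, 1), (false, 0), (false, 1), (true, 2), (true, 0)]), (15, [(true, 2), (true, 2), (true, 0), (true, 2), (true, 1), (false, 0), (false, 0), (false, 0), (true, 2), (true, 1), (true, 0), (false, 1)]), (16, [(true, 2), (false, 0), (false,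 1), (false, 2), (true, 0), (false, 1), (false, 0), (false, 2), (false, 1), (true, 0), (true, 2), (false, 0), (false, 0)]), (17, [(true, 2), (false, 1), (false, 2), (false, 0), (true, 2), (false, 1), (false, 0), (true, 2), (false, 0), (false, 0)]), (18, [(true, 0), (false, 2), (false, 2), (false, 0), (false, 2), (false, 1), (false, 1), (false, 1), (true, 0), (true, 0), (true, 2), (true, 1), (true, 2), (false, 0), (false, 0)]), (19, [(false, 0), (false, 1), (false, 2), (true, 0), (true, 1), (true, 0), (false, 2), (false, 0), (true, 0), (true, 0), (true, 2), (false, 1), (false, 1), (false, 0), (false, 0)]), (20, [(false, 0), (false, 1), (false, 2), (true, 0), (true, 1), (true, 0), (false, 2), (false, 0), (true, 0), (false, 2), (false, 0), (true, 1)]), (21, [(false, 2), (false, 2), (true, 1), (true, 0), (false, 2), (false, 0), (true, 0), (true, 0), (true, 2), (true, 0), (true, 2), (true, 2), (false, 0), (false, 0)]), (22, [(true, 1), (true, 1), (true, 2), (false, 0), (true, 2), (true, 0), (true, 1), (true, 2), (false, 0)])],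
  [(4, []), (6, [(false, 0), (true, 1), (false, 2), (true, 0), (false, 1), (true, 0), (true, 2), (true, 1), (false, 0), (true, 2), (true, 1), (true, 0), (false, 2), (true, 2), (false, 0), (false, 1), (false, 2), (true, 0), (true, 1), (true, 0), (false, 2), (false, 0), (false, 0), (true, 2), (true, 1), (true, 0), (true, 1)]), (7, [(true, 0), (true, 0), (true, 2), (false, 1), (false, 1), (false, 0), (false, 0), (true, 0), (false, 1), (true, 0), (true, 2), (true, 1), (false, 0), (true, 1), (true, 2), (true, 0), (true, 2), (true, 2), (false, 0), (true, 0), (false, 2), (false, 2), (false, 0), (false, 2), (false, 1), (false, 1), (true, 0), (true, 0), (true, 1), (false, 2), (false, 0), (false, 1), (false, 0)]), (8, [(true, 1), (true, 0), (true, 2), (false, 0), (false, 2), (true, 1), (false, 2), (false, 2), (true, 2), (false, 0), (false, 1), (false, 2), (true, 0), (true, 0), (false, 1), (true, 2), (false, 0), (false, 0), (false, 0), (true, 0), (true, 0), (true, 2), (true, 0), (false, 1), (true, 2), (false, 0), (false, 0)]), (9, [(false, 0), (true, 1), (false,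 2), (true, 0), (false, 1), (true, 0), (true, 2), (true, 1), (false, 0), (true, 2), (true, 1), (true, 0), (false, 2), (true, 0), (false, 2), (true, 1), (false, 0), (false, 0), (true, 0), (false, 2), (false, 0), (false, 0), (true, 2), (true, 1), (true, 0), (true, 2)]), (10, [(true, 1), (false, 0), (false, 1), (false, 2), (true, 0), (true, 0), (true, 0), (false, 1), (false, 2), (false, 0), (false, 2), (false, 2), (false, 0), (false, 1), (false, 2), (true, 0), (true, 0), (false, 2), (false, 0), (true, 0), (true, 1), (false, 0), (false, 2), (false, 0)]), (11, [(false, 0), (true, 1), (false, 2), (true, 0), (false, 1), (true, 0), (true, 2), (true, 1), (false, 0), (true, 2), (true, 1), (true, 0), (false, 2), (false, 2), (true, 0), (true, 1), (false, 2), (false, 0), (true, 1), (true, 2), (true, 0), (false, 0), (true, 2), (true, 1), (true, 0), (false, 1), (false, 1)]), (12, [(true, 0), (true, 0), (true, 1), (true, 1), (false, 2), (false, 0), (false, 0), (true, 0), (true, 2), (false, 0), (false, 1), (false, 0), (true, 2), (true, 1), (true, 0), (true, 0), (false,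 2), (true, 1), (false, 0), (false, 0), (true, 0), (false, 2), (false, 0), (true, 0), (true, 2), (true, 2), (false, 0), (true, 0), (true, 0), (true, 0), (true, 2), (false, 1), (false, 0), (false, 0)]), (13, [(true, 0), (true, 0), (true, 1), (true, 1), (false, 2), (false, 0), (false, 0), (true, 0), (true, 2), (false, 0), (false, 1), (false, 0), (true, 2), (true, 1), (true, 0), (false, 0), (false, 2), (false, 2), (true, 1), (false, 2), (true, 0), (false, 1), (false, 2), (false, 0), (false, 2), (true, 1), (false, 0), (false, 0), (true, 1), (false, 0)]), (15, [(true, 0), (true, 0), (false, 2), (false, 0), (true, 1), (true, 2), (true, 0), (true, 1), (false, 0), (true, 2), (true, 1), (true, 0), (false, 2), (false, 2), (true, 0), (false, 1), (false, 2), (false, 0), (true, 1), (false, 0), (false, 2), (true, 0), (false, 2), (false, 0)]), (16, [(false, 0), (false, 2), (true, 0), (false, 2), (false, 0), (false, 0), (true, 0), (false, 1), (true, 0), (true, 2), (true, 1), (false, 0), (true, 1), (true, 2), (true, 0), (true, 2), (true, 2), (false, 0), (false, 0), (false,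 2), (false, 2), (true, 1), (false, 2), (true, 0), (true, 0), (true, 2), (false, 0), (true, 0), (true, 0), (true, 1), (false, 2), (false, 0), (false, 0), (false, 0)]), (18, [(true, 0), (false, 2), (true, 0), (false, 1), (false, 0), (false, 0), (false, 2), (false, 1), (true, 0), (true, 2), (false, 1), (false, 0), (false, 0), (true, 2), (true, 1), (true, 0), (true, 0), (true, 0), (true, 2), (false, 0), (true, 2), (true, 0), (true, 0), (false, 2), (false, 2), (false, 0), (true, 1), (true, 1), (true, 0), (true, 2), (false, 0), (false, 1), (false, 1)]), (19, [(false, 0), (true, 1), (false, 2), (true, 0), (false, 1), (true, 0), (true, 2), (true, 1), (false, 0), (true, 2), (true, 1), (true, 0), (false, 2), (false, 0), (false, 0), (false, 2), (true, 0), (false, 1), (true, 0), (true, 0), (false, 2), (false, 2), (false, 0), (true, 1), (true, 2), (false, 0), (false, 2), (true, 0), (false, 2), (false, 1), (false, 0)]), (20, [(true, 1), (false, 0), (true, 1), (true, 2), (false, 1), (false, 1), (true, 0), (false, 2), (true, 1), (true, 1), (true, 1), (true, 2), (false,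 0), (true, 2), (true, 2), (true, 0), (true, 1), (true, 0), (true, 0), (false, 2), (true, 1), (false, 0), (false, 0), (true, 0), (false, 2), (false, 0), (false, 1), (false, 1), (true, 0), (false, 2), (false, 0), (true, 2), (false, 1)]), (21, [(true, 0), (true, 1), (true, 0), (false, 2), (true, 1), (false, 0), (false, 1), (true, 2), (false, 1), (false, 0), (true, 2), (true, 1), (true, 0), (false, 0), (true, 1), (true, 2), (false, 1), (false, 1), (true, 0), (false, 1), (true, 2), (true, 0), (true, 0), (true, 2), (true, 0), (false, 1), (true, 2), (false, 1), (false, 0)]), (22, [(true, 1), (true, 0), (true, 2), (false, 0), (false, 2), (true, 1), (false, 2), (false, 2), (true, 2), (true, 2), (true, 1), (true, 1), (true, 2), (false, 0), (true, 2), (true, 2), (true, 0), (false, 2), (true, 0)])],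
  [(5, []), (14, [(true, 0), (true, 0), (true, 1), (false, 2), (false, 0), (false, 0), (false, 0), (true, 0), (false, 2), (false, 2), (false, 0), (true, 0), (true, 2), (false, 0), (true, 0), (true, 0), (false, 1), (true, 2), (false, 0), (false, 0), (false, 1), (false, 2), (true, 0), (true, 1), (true, 0), (false, 2), (false, 0), (true, 0), (true, 0), (true, 2), (false, 1), (false, 1), (false, 0), (false, 0), (true, 0), (true, 0), (true, 1), (true, 1), (false, 2), (false, 0), (false, 0), (true, 0), (true, 2), (false, 0), (false, 1), (false, 0), (true, 2), (true, 1), (true, 0), (true, 2), (true, 0), (false, 2), (false, 0), (true, 0), (true, 0), (true, 0), (false, 2), (true, 1), (false, 2), (false, 0)]), (17, [(true, 0), (true, 1), (true, 2), (false, 0), (true, 2), (true, 0), (false, 2), (false, 1), (true, 0), (true, 2), (true, 2), (false, 0), (false, 0), (true, 1), (false, 0), (true, 2), (true, 0), (true, 0), (true, 2), (false, 0), (false, 1), (false, 2), (true, 0), (false, 1), (false, 2), (false, 0), (true, 1), (false, 0), (true, 2), (false, 1), (true, 0),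 (true, 0), (true, 1), (true, 0), (false, 2), (true, 1), (false, 0), (false, 1), (true, 2), (false, 1), (false, 0), (true, 2), (true, 1), (true, 0), (false, 0), (true, 1), (true, 2), (false, 1), (false, 1), (true, 0), (true, 0), (true, 2), (true, 1), (false, 0), (false, 0), (true, 0), (true, 0), (true, 2), (true, 0), (false, 2), (true, 1), (true, 1), (false, 0)])]]

/-- Words separating the possible images of the shift. -/
def autRels23 : List (List ℕ) := [[0, 2, 0, 2, 0, 2, 0, 2, 0, 2, 0, 2, 0, 2], [0, 0, 2, 0, 0, 2, 0, 0, 2, 0, 0, 2, 0, 0, 2, 0, 0, 2, 0, 0, 2], [0, 1, 2, 0, 1, 2, 0, 1, 2, 0, 1, 2, 0, 1, 2, 0, 1, 2, 0, 1, 2, 0, 1, 2]]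

/-- Tables of the generators. -/
def autTabs24 : List (List ℕ × List ℕ) := [([1, 2, 3, 4, 5, 6, 7, 8, 9, 10, 11, 12, 13, 14, 15, 16, 17, 18, 19, 20, 21, 22, 0, 23], [22, 0, 1, 2, 3, 4, 5, 6, 7, 8, 9, 10, 11, 12, 13, 14, 15, 16, 17, 18, 19, 20, 21, 23]), ([0, 2, 4, 6, 8, 10, 12, 14, 16, 18, 20, 22, 1, 3, 5, 7, 9, 11, 13, 15, 17, 19, 21, 23], [0, 12, 1, 13, 2, 14, 3, 15, 4, 16, 5, 17, 6, 18, 7, 19, 8, 20, 9, 21, 10, 22, 11, 23]), ([23, 5, 20, 22, 11, 1, 19, 13, 21, 14, 4, 3, 7, 17, 6, 9, 15, 18, 10, 8, 16, 2, 12, 0], [23, 5, 21, 11, 10, 1, 14, 12, 19, 15, 18, 4, 22, 7, 9, 16, 20, 13, 17, 6, 2, 8, 3, 0])]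

/-- Tables of the generators. -/
def autTabs23 : List (List ℕ × List ℕ) := [([1, 2, 3, 4, 5, 6, 7, 8, 9, 10, 11, 12, 13, 14, 15, 16, 17, 18, 19, 20, 21, 22, 0, 23], [22, 0, 1, 2, 3, 4, 5, 6, 7, 8, 9, 10, 11, 12, 13, 14, 15, 16, 17, 18, 19, 20, 21, 23]), ([0, 2, 4, 6, 8, 10, 12, 14, 16, 18, 20, 22, 1, 3, 5, 7, 9, 11, 13, 15, 17, 19, 21, 23], [0, 12, 1, 13, 2, 14, 3, 15, 4, 16, 5, 17, 6, 18, 7, 19, 8, 20, 9, 21, 10, 22, 11, 23]), ([0, 1, 8, 4, 18, 5, 9, 22, 6, 16, 17, 10, 3, 12, 15, 20, 2, 7, 13, 14, 21, 19, 11, 23], [0, 1, 16, 12, 3, 5, 8, 17, 2, 6, 11, 22, 13, 18, 19, 14, 9, 10, 4, 21, 15, 20, 7, 23])]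

end Cfsg.Agent.Golay
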