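import Cfsg.Agent.Lib.Golay.Mathieu
import Cfsg.Agent.Lib.Golay.AutData
import Cfsg.Prelude.Def_KGroupFacts
import Cfsg.Prelude.Def_Spor_Mathieu

/-! The two largest groups of the length-24 code have only inner automorphisms. -/

set_option autoImplicit false

namespace Cfsg.Agent.Golay

open Cfsg
open scoped Pointwise

/-- An automorphism criterion through a Sylow 23-normaliser. -/
theorem all_inner {G : Type*} [Group G] [Finite G] (a h g : G)
    (hgen : Subgroup.closure ({a, h, g} : Set G) = ⊤) (ha : orderOf a = 23)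
    (h23 : ¬ 23 ^ 2 ∣ Nat.card G) (hh : orderOf h = 11) (hha : h⁻¹ * a * h = a ^ (12 : ℤ))
    (m e l : ℤ) (hgh : g⁻¹ * h * g = h ^ m) (he : (11 : ℤ) ∣ (m - 1) * e - 1)
    (hl : (11 : ℤ) ∣ m * l - 1)
    (hCa : ∀ x : G, Commute x a → x ∈ Subgroup.zpowers a)
    (hCh : ∀ x : G, Commute x h → x ∈ Subgroup.zpowers h)
    (hrel : ∀ k : ℕ, 2 ≤ k → k < 23 → ∀ φ : MulAut G, φ a = a ^ k → φ h = h → φ g ≠ g)
    (φ : MulAut G) : φ ∈ Cfsg.Inn G := by
  haveI : Fact (Nat.Prime 23) := ⟨by norm_num⟩
  have hp : ∀ x : G, orderOf x = 23 →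
      Nat.card (Subgroup.zpowers x) = 23 ^ (Nat.card G).factorization 23 := by
    intro x hx
    have h1 : 23 ∣ Nat.card G := hx ▸ orderOf_dvd_natCard x
    have h2 : (Nat.card G).factorization 23 = 1 := by
      have hpos : (Nat.card G).factorization 23 ≠ 0 :=
        (Nat.Prime.factorization_pos_of_dvd Fact.out Nat.card_pos.ne' h1).ne'
      by_contra hne
      exact h23 (dvd_trans (pow_dvd_pow 23 (by omega)) (Nat.ordProj_dvd _ 23))
    rw [Nat.card_zpowers, hx, h2, pow_one]
  obtain ⟨c, hc⟩ : ∃ c : G, c * φ a * c⁻¹ ∈ Subgroup.zpowers a := by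
    have hφa : orderOf (φ a) = 23 := by rw [MulEquiv.orderOf_eq φ, ha]
    obtain ⟨c, hc⟩ := MulAction.exists_smul_eq G (Sylow.ofCard _ (hp _ hφa)) (Sylow.ofCard _ (hp _ ha))
    refine ⟨c, ?_⟩
    have hc' := congrArg (fun P : Sylow 23 G => (P : Subgroup G)) hc
    simp only [Sylow.coe_subgroup_smul, Sylow.coe_ofCard] at hc'
    have := Subgroup.smul_mem_pointwise_smul (φ a) (MulAut.conj c) _ (Subgroup.mem_zpowers (φ a))
    rw [hc'] at this
    simpa [MulAut.smul_def] using this
  set φ₁ := MulAut.conj c * φ with hφ₁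
  obtain ⟨i₀, hi₀⟩ := Subgroup.mem_zpowers_iff.mp hc
  have hk0 : φ₁ a = a ^ (i₀ % 23).toNat := by
    rw [← zpow_natCast, Int.toNat_of_nonneg (Int.emod_nonneg _ (by norm_num))]
    show c * φ a * c⁻¹ = _
    rw [← hi₀, ← zpow_mod_orderOf a i₀, ha]; rfl
  set k := (i₀ % 23).toNat
  have hk23 : k < 23 := by
    have := Int.emod_lt_of_pos i₀ (show (0 : ℤ) < 23 by norm_num)
    omega
  have hk1 : k ≠ 0 := fun h0 => by
    rw [h0, pow_zero] at hk0
    have : a = 1 := φ₁.injective (by rw [hk0, map_one])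
    rw [this, orderOf_one] at ha; norm_num at ha
  obtain ⟨l', hl'⟩ : ∃ l' : ℕ, (a ^ k) ^ l' = a := by
    have hco : Nat.Coprime k (orderOf a) := by
      rw [ha, Nat.coprime_comm, Nat.Prime.coprime_iff_not_dvd Fact.out]
      exact fun hd => hk1 (Nat.eq_zero_of_dvd_of_lt hd hk23)
    exact exists_pow_eq_self_of_coprime hco
  -- the image of the normaliser of the shift
  have h1 : Commute (φ₁ h * h⁻¹) a := by
    have e1 : φ₁ h⁻¹ * a ^ k * φ₁ h = (a ^ k) ^ (12 : ℤ) := by
      rw [← hk0, ← map_mul, ← map_mul, hha, map_zpow]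
    have e2 : (φ₁ h)⁻¹ * a * φ₁ h = a ^ (12 : ℤ) := by
      calc (φ₁ h)⁻¹ * a * φ₁ h = (φ₁ h)⁻¹ * (a ^ k) ^ l' * φ₁ h := by rw [hl']
        _ = ((φ₁ h)⁻¹ * a ^ k * φ₁ h) ^ l' := by
            simpa using (conj_pow (a := (φ₁ h)⁻¹) (b := a ^ k) (i := l')).symm
        _ = a ^ (12 : ℤ) := by
            rw [← map_inv, e1, ← zpow_natCast ((a ^ k) ^ (12 : ℤ)), ← zpow_mul, mul_comm, zpow_mul,
              zpow_natCast, hl']
    rw [← hha] at e2
    have := congrArg (fun x => φ₁ h * x * h⁻¹) e2
    simp only [← mul_assoc, mul_inv_cancel, one_mul] at this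
    rw [mul_assoc (φ₁ h * h⁻¹ * a) h, mul_inv_cancel, mul_one] at this
    rw [Commute, SemiconjBy, ← this]
    simp [mul_assoc]
  obtain ⟨i, hi⟩ := Subgroup.mem_zpowers_iff.mp (hCa _ h1)
  have hφh : φ₁ h = a ^ i * h := by rw [hi]; simp
  set φ₂ := MulAut.conj (a ^ i) * φ₁ with hφ₂
  have hk2 : φ₂ a = a ^ k := by
    show a ^ i * φ₁ a * (a ^ i)⁻¹ = _
    rw [hk0, ← zpow_natCast, ← zpow_neg, ← zpow_add, ← zpow_add]; congr 1; ring
  have hh2 : φ₂ h = h := by
    have e : h⁻¹ * a ^ (2 * i) * h = a ^ i := by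
      have e' : h⁻¹ * a ^ (2 * i) * h = (h⁻¹ * a * h) ^ (2 * i) := by
        simpa using (conj_zpow (a := h⁻¹) (b := a) (i := 2 * i)).symm
      rw [e', hha, ← zpow_mul]
      apply zpow_eq_zpow_iff_modEq.mpr
      rw [ha, Int.modEq_iff_dvd]
      exact ⟨-i, by push_cast; ring⟩
    have hcomm : h * (a ^ i)⁻¹ = (a ^ (2 * i))⁻¹ * h := by
      rw [← e]; simp [mul_assoc]
    show a ^ i * φ₁ h * (a ^ i)⁻¹ = h
    rw [hφh, mul_assoc, mul_assoc, hcomm, ← mul_assoc, ← mul_assoc, ← zpow_neg, ← zpow_add, ← zpow_add]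
    rw [show i + i + -(2 * i) = 0 by ring, zpow_zero, one_mul]
  -- the image of the normaliser of the multiplications
  have h3 : Commute (g⁻¹ * φ₂ g) (h ^ m) := by
    have e1 : (φ₂ g)⁻¹ * h * φ₂ g = h ^ m := by
      conv_lhs => rw [← hh2, ← map_inv, ← map_mul, ← map_mul, hgh, map_zpow, hh2]
    have e2 : g * h ^ m * g⁻¹ = h := by rw [← hgh]; simp [mul_assoc]
    rw [Commute, SemiconjBy]
    calc g⁻¹ * φ₂ g * h ^ m = g⁻¹ * (φ₂ g * h ^ m * (φ₂ g)⁻¹) * φ₂ g := by simp [mul_assoc]
      _ = g⁻¹ * (g * h ^ m * g⁻¹) * φ₂ g := by rw [e2, ← e1]; simp [mul_assoc]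
      _ = h ^ m * (g⁻¹ * φ₂ g) := by simp [mul_assoc]
  have h4 : Commute (g⁻¹ * φ₂ g) h := by
    have := h3.zpow_right l
    rwa [← zpow_mul, show h ^ (m * l) = h from by
      conv_rhs => rw [← zpow_one h]
      apply zpow_eq_zpow_iff_modEq.mpr
      rw [hh, Int.modEq_iff_dvd]
      exact (dvd_neg.mpr hl).trans (dvd_of_eq (by ring))] at this
  obtain ⟨j, hj⟩ := Subgroup.mem_zpowers_iff.mp (hCh _ h4)
  have hφg : φ₂ g = g * h ^ j := by rw [hj]; simp
  set φ₃ := MulAut.conj (h ^ (-(j * e))) * φ₂ with hφ₃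
  have hh3 : φ₃ h = h := by
    show h ^ (-(j * e)) * φ₂ h * (h ^ (-(j * e)))⁻¹ = h
    rw [hh2, ← zpow_neg, ← zpow_add_one, ← zpow_add]
    conv_rhs => rw [← zpow_one h]
    congr 1; ring
  have hg3 : φ₃ g = g := by
    show h ^ (-(j * e)) * φ₂ g * (h ^ (-(j * e)))⁻¹ = g
    have hcomm : h ^ (-(j * e)) * g = g * h ^ (m * (-(j * e))) := by
      rw [zpow_mul, ← hgh]
      have := conj_zpow (a := g⁻¹) (b := h) (i := -(j * e))
      rw [inv_inv] at this
      rw [this]; simp [mul_assoc]
    rw [hφg, ← zpow_neg, ← mul_assoc, hcomm, mul_assoc, mul_assoc, ← zpow_add, ← zpow_add]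
    have : h ^ (m * (-(j * e)) + (j + -(-(j * e)))) = 1 := by
      rw [← orderOf_dvd_iff_zpow_eq_one, hh]
      exact (dvd_mul_of_dvd_right he (-j)).trans (dvd_of_eq (by ring))
    rw [this, mul_one]
  -- the shift is mapped to a power fixed by the relations
  obtain ⟨k', hk3, hk'⟩ : ∃ k' : ℕ, φ₃ a = a ^ k' ∧ k' < 23 := by
    have hmem : φ₃ a ∈ Subgroup.zpowers a := by
      show h ^ (-(j * e)) * φ₂ a * (h ^ (-(j * e)))⁻¹ ∈ _
      rw [hk2]
      have hnorm : h⁻¹ ∈ Subgroup.normalizer ((Subgroup.zpowers a : Subgroup G) : Set G) := by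
        have hmap : (Subgroup.zpowers a).map (MulAut.conj h⁻¹).toMonoidHom = Subgroup.zpowers a := by
          refine Subgroup.eq_of_le_of_card_ge ?_ ?_
          · rw [MonoidHom.map_zpowers, Subgroup.zpowers_le]
            show h⁻¹ * a * h⁻¹⁻¹ ∈ _
            rw [inv_inv, hha]
            exact zpow_mem (Subgroup.mem_zpowers a) 12
          · rw [Subgroup.card_map_of_injective (MulAut.conj h⁻¹).injective]
        rw [Subgroup.mem_normalizer_iff]
        intro x
        conv_rhs => rw [← hmap]
        exact ⟨fun hx => ⟨x, hx, rfl⟩, fun ⟨y, hy, hyx⟩ => by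
          have : y = x := (MulAut.conj h⁻¹).injective hyx
          rwa [← this]⟩
      exact (Subgroup.mem_normalizer_iff.mp (by simpa using zpow_mem hnorm (j * e)) _).mp
        (Subgroup.pow_mem _ (Subgroup.mem_zpowers a) k)
    obtain ⟨i', hi'⟩ := Subgroup.mem_zpowers_iff.mp hmem
    refine ⟨(i' % 23).toNat, ?_, by have := Int.emod_lt_of_pos i' (show (0 : ℤ) < 23 by norm_num); omega⟩
    rw [← zpow_natCast, Int.toNat_of_nonneg (Int.emod_nonneg _ (by norm_num)), ← hi',
      ← zpow_mod_orderOf a i', ha]; rfl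
  have hk'1 : k' = 1 := by
    rcases Nat.lt_or_ge k' 2 with h2 | h2
    · rcases Nat.eq_zero_or_pos k' with h0 | h0
      · exfalso
        rw [h0, pow_zero] at hk3
        have : a = 1 := φ₃.injective (by rw [hk3, map_one])
        rw [this, orderOf_one] at ha; norm_num at ha
      · omega
    · exact absurd hg3 (hrel k' h2 hk' φ₃ hk3 hh3)
  rw [hk'1, pow_one] at hk3
  have hid : φ₃ = 1 := by
    have hEq : φ₃.toMonoidHom = MonoidHom.id G :=
      MonoidHom.eq_of_eqOn_dense hgen (by rintro x (rfl | rfl | rfl) <;> assumption)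
    ext x; exact DFunLike.congr_fun hEq x
  have hin : ∀ x : G, MulAut.conj x ∈ Cfsg.Inn G := fun x => ⟨x, rfl⟩
  have : φ = (MulAut.conj c)⁻¹ * ((MulAut.conj (a ^ i))⁻¹ * ((MulAut.conj (h ^ (-(j * e))))⁻¹ * φ₃)) := by
    simp [hφ₁, hφ₂, hφ₃]
  rw [this, hid]
  exact mul_mem (inv_mem (hin _)) (mul_mem (inv_mem (hin _)) (mul_mem (inv_mem (hin _)) (one_mem _)))

theorem card_out_one {G : Type*} [Group G] (h : ∀ φ : MulAut G, φ ∈ Cfsg.Inn G) :
    Nat.card (Cfsg.Out G) = 1 := by
  have : Cfsg.Inn G = ⊤ := eq_top_iff.mpr fun φ _ => h φ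
  show Nat.card (MulAut G ⧸ Cfsg.Inn G) = 1
  rw [← Subgroup.index, this, Subgroup.index_top]

/-! ### The centralisers -/

/-- Pulling a mask back along a map of positions. -/
def pullMask (f : Fin 24 → Fin 24) (m : ℕ) : ℕ := Nat.ofBits fun i : Fin 24 => m.testBit (f i).val

theorem pullMask_mem {σ : Equiv.Perm GolayPt} (hσ : σ ∈ M24) {f : Fin 24 → Fin 24}
    (hf : ∀ i, idx (σ (pt i)) = f i) : ∀ x ∈ basis, inC (pullMask f x.2) = true := by
  intro x hx
  have := inC_of_mem (forall_of_mem_M24 hσ (ofMask_basis hx))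
  have e : mask (fun p => ofMask x.2 (σ p)) = pullMask f x.2 := by
    simp only [mask, pullMask]
    congr 1
    funext i
    simp only [ofMask, hf]
    cases x.2.testBit (f i).val <;> simp
  rwa [e] at this

theorem ev_append (v w : List (Fin 5)) (i : Fin 24) : ev (v ++ w) i = ev v (ev w i) := by
  induction v with
  | nil => rfl
  | cons k v ih => exact congrArg (act k) ih

theorem idx_injective' : Function.Injective idx := Function.LeftInverse.injective pt_idx

theorem commute_ev {σ : Equiv.Perm GolayPt} {w : List (Fin 5)} (h : Commute σ (wordPerm w)) (n : ℕ)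
    (i : Fin 24) : idx (σ (pt (ev (List.replicate n w).flatten i))) =
      ev (List.replicate n w).flatten (idx (σ (pt i))) := by
  have h2 := h.pow_right n
  rw [← wordPerm_pow] at h2
  have h3 := congrArg (fun π : Equiv.Perm GolayPt => π (pt i)) h2.eq
  simp only [Equiv.Perm.mul_apply] at h3
  rw [← wordPerm_apply, h3]
  conv_lhs => rw [← pt_idx (σ (pt i)), wordPerm_apply, idx_pt]

theorem shift_orbit : (∀ i : Fin 24, i.val < 23 → ev (List.replicate i.val [0]).flatten 0 = i) ∧
    (∀ i : Fin 24, ev [0] i = i → i = 23) ∧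
    ∀ c : Fin 24, c.val < 23 → ∀ i : Fin 24, i.val < 23 →
      ev (List.replicate i.val [0]).flatten c = ev (List.replicate c.val [0]).flatten i := by
  decide +kernel

theorem centralizer_shift {σ : Equiv.Perm GolayPt} (hc : Commute σ (wordPerm [0])) :
    σ ∈ Subgroup.zpowers (wordPerm [0]) := by
  obtain ⟨o1, o2, o3⟩ := shift_orbit
  have h23 : idx (σ (pt 23)) = 23 := o2 _ (by
    have := commute_ev hc 1 23
    simpa [show ev [0] 23 = 23 by decide +kernel] using this.symm)
  set c := idx (σ (pt 0)) with hcdef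
  have hc23 : c.val < 23 := by
    have := c.isLt
    by_contra h
    have e : c = 23 := Fin.ext (by show c.val = 23; omega)
    rw [hcdef, ← h23] at e
    have := congrArg idx (σ.injective (idx_injective' e))
    rw [idx_pt, idx_pt] at this
    exact absurd this (by decide)
  refine Subgroup.mem_zpowers_iff.mpr ⟨(c.val : ℤ), ?_⟩
  rw [zpow_natCast, ← wordPerm_pow]
  ext1 p
  rw [← pt_idx p, wordPerm_apply]
  apply_fun idx using Function.LeftInverse.injective pt_idx
  rw [idx_pt]
  by_cases hp : (idx p).val < 23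
  · rw [← o3 c hc23 _ hp]
    conv_rhs => rw [← o1 _ hp, commute_ev hc]
  · have e : idx p = 23 := Fin.ext (by show (idx p).val = 23; have := (idx p).isLt; omega)
    rw [e, h23]
    exact (show ∀ n : Fin 24, ev (List.replicate n.val [0]).flatten 23 = 23 by decide +kernel) c

/-- Multiplication by a power of two. -/
def dbl (n : ℕ) (i : Fin 24) : Fin 24 :=
  if i.val = 23 then i else Fin.ofNat 24 (2 ^ n * i.val % 23)

theorem hWord_eq : ∀ i : Fin 24, ev hWord i = dbl 1 i := by decide +kernel

theorem dbl_succ : ∀ (n : Fin 11) (i : Fin 24), dbl (n.val + 1) i = dbl 1 (dbl n.val i) ∧ dbl 0 i = i := by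
  decide +kernel

theorem ev_hWord_pow (n : ℕ) (hn : n ≤ 11) (i : Fin 24) :
    ev (List.replicate n hWord).flatten i = dbl n i := by
  induction n with
  | zero => simp [ev, (dbl_succ 0 i).2]
  | succ n ih =>
    rw [List.replicate_succ, List.flatten_cons, (dbl_succ ⟨n, by omega⟩ i).1, ← ih (by omega),
      ← hWord_eq, ev_append]

theorem hWord_reps : ∀ i : Fin 24, i = 23 ∨ i = 0 ∨
    (∃ n : Fin 11, dbl n.val 1 = i) ∨ ∃ n : Fin 11, dbl n.val 5 = i := by decide +kernel

theorem hWord_fixed : ∀ i : Fin 24, dbl 1 i = i ↔ i = 23 ∨ i = 0 := by decide +kernel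

/-- The candidate with the given values on orbit representatives. -/
def hCand (z v₀ u v : Fin 24) (i : Fin 24) : Fin 24 :=
  if i.val = 23 then z else if i.val = 0 then v₀ else
    match (List.finRange 11).find? fun n => dbl n.val 1 == i with
    | some n => dbl n.val u
    | none => match (List.finRange 11).find? fun n => dbl n.val 5 == i with
      | some n => dbl n.val v
      | none => i

theorem hCand_check : ∀ z ∈ ([23, 0] : List (Fin 24)), ∀ v₀ ∈ ([23, 0] : List (Fin 24)), z ≠ v₀ →
    ∀ u : Fin 24, u ≠ 23 → u ≠ 0 → ∀ v : Fin 24, v ≠ 23 → v ≠ 0 →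
      (basis.all fun x => inC (pullMask (hCand z v₀ u v) x.2)) = true →
        ∃ n : Fin 11, ∀ i, hCand z v₀ u v i = dbl n.val i := by decide +kernel

theorem centralizer_double {σ : Equiv.Perm GolayPt} (hσ : σ ∈ M24)
    (hc : Commute σ (wordPerm hWord)) : σ ∈ Subgroup.zpowers (wordPerm hWord) := by
  set s : Fin 24 → Fin 24 := fun i => idx (σ (pt i)) with hsdef
  have hs : ∀ (n : Fin 11) i, s (dbl n.val i) = dbl n.val (s i) := by
    intro n i
    rw [← ev_hWord_pow _ n.isLt.le, ← ev_hWord_pow _ n.isLt.le]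
    exact commute_ev hc _ i
  have hinj : Function.Injective s := fun x y h => by
    have := σ.injective (idx_injective' h)
    have := congrArg idx this
    rwa [idx_pt, idx_pt] at this
  have hfix : ∀ i, (i = 23 ∨ i = 0) → (s i = 23 ∨ s i = 0) := fun i hi => by
    rw [← hWord_fixed, ← hs ⟨1, by norm_num⟩ i, (hWord_fixed i).mpr hi]
  have hmov : ∀ i, i ≠ 23 → i ≠ 0 → s i ≠ 23 ∧ s i ≠ 0 := by
    intro i h1 h2
    have : ¬ (s i = 23 ∨ s i = 0) := fun h => by
      have := hinj ((hs ⟨1, by norm_num⟩ i).trans ((hWord_fixed _).mpr h))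
      rcases (hWord_fixed i).mp this with h | h <;> contradiction
    exact not_or.mp this
  have hcand : hCand (s 23) (s 0) (s 1) (s 5) = s := by
    funext i
    unfold hCand
    split_ifs with h1 h2
    · rw [show i = 23 from Fin.ext h1]
    · rw [show i = 0 from Fin.ext h2]
    · cases e : (List.finRange 11).find? fun n => dbl n.val 1 == i with
      | some n =>
        have := List.find?_some e
        rw [beq_iff_eq] at this
        simp only [← hs, this]
      | none =>
        cases e' : (List.finRange 11).find? fun n => dbl n.val 5 == i with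
        | some n =>
          have := List.find?_some e'
          rw [beq_iff_eq] at this
          simp only [← hs, this]
        | none =>
          exfalso
          rw [List.find?_eq_none] at e e'
          rcases hWord_reps i with h | h | ⟨n, h⟩ | ⟨n, h⟩
          · exact h1 (by rw [h]; rfl)
          · exact h2 (by rw [h]; rfl)
          · exact e n (List.mem_finRange n) (by rw [h]; exact beq_self_eq_true i)
          · exact e' n (List.mem_finRange n) (by rw [h]; exact beq_self_eq_true i)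
  obtain ⟨n, hn⟩ := hCand_check (s 23) (by simpa using hfix 23 (Or.inl rfl)) (s 0)
    (by simpa using hfix 0 (Or.inr rfl)) (fun h => absurd (hinj h) (by decide))
    (s 1) (hmov 1 (by decide) (by decide)).1 (hmov 1 (by decide) (by decide)).2
    (s 5) (hmov 5 (by decide) (by decide)).1 (hmov 5 (by decide) (by decide)).2
    (by rw [hcand, List.all_eq_true]; exact pullMask_mem hσ fun i => rfl)
  refine Subgroup.mem_zpowers_iff.mpr ⟨(n.val : ℤ), ?_⟩
  rw [zpow_natCast, ← wordPerm_pow]
  ext1 p
  rw [← pt_idx p, wordPerm_apply, ev_hWord_pow _ n.isLt.le, ← hn, hcand]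
  simp [hsdef, pt_idx]

/-! ### The two groups -/

/-- A table as a map. -/
def tabFn (l : List ℕ) (i : Fin 24) : Fin 24 := Fin.ofNat 24 (l.getD i.val 0)

/-- Evaluation of tokens through tables. -/
def evTab (T : List (List ℕ × List ℕ)) : List Tok → Fin 24 → Fin 24
  | [], i => i
  | t :: r, i =>
    if t.2 < T.length then
      tabFn (if t.1 then (T.getD t.2 ([], [])).2 else (T.getD t.2 ([], [])).1) (evTab T r i)
    else evTab T r i

/-- The tables describe the generators. -/
def TabOK (gens : List (List (Fin 5))) (T : List (List ℕ × List ℕ)) : Prop :=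
  gens.length = T.length ∧ ∀ j : Fin T.length, ∀ i : Fin 24,
    ev (gens.getD j.val []) i = tabFn (T.getD j.val ([], [])).1 i ∧
      ev (winv (gens.getD j.val [])) i = tabFn (T.getD j.val ([], [])).2 i

theorem autTabs24_ok : TabOK [[0], hWord, gWord24] autTabs24 := by unfold TabOK; decide +kernel

theorem autTabs23_ok : TabOK [[0], hWord, gWord23] autTabs23 := by unfold TabOK; decide +kernel

theorem ev_tokWord {gens : List (List (Fin 5))} {T : List (List ℕ × List ℕ)} (h : TabOK gens T)
    (t : List Tok) (i : Fin 24) : ev (tokWord gens t) i = evTab T t i := by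
  induction t with
  | nil => rfl
  | cons a t ih =>
    have e : tokWord gens (a :: t) = tokW gens a ++ tokWord gens t := by simp [tokWord]
    rw [e, ev_append, ih, evTab]
    by_cases hj : a.2 < T.length
    · rw [if_pos hj]
      obtain ⟨h1, h2⟩ := h.2 ⟨a.2, hj⟩ (evTab T t i)
      unfold tokW
      split_ifs
      · exact h2
      · exact h1
    · rw [if_neg hj]
      have : gens.getD a.2 [] = [] := by
        rw [List.getD_eq_getElem?_getD, List.getElem?_eq_none (by have := h.1; omega)]; rfl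
      unfold tokW; rw [this]; split_ifs <;> rfl

/-- Evaluation of a relation, the shift raised to the power `k`. -/
def evRel (T : List (List ℕ × List ℕ)) (k : ℕ) : List ℕ → Fin 24 → Fin 24
  | [], i => i
  | 0 :: r, i => evTab T (List.replicate k (false, 0)) (evRel T k r i)
  | 1 :: r, i => evTab T [(false, 1)] (evRel T k r i)
  | (_ + 2) :: r, i => evTab T [(false, 2)] (evRel T k r i)


theorem orderOf_word {p : ℕ} [Fact p.Prime] {w : List (Fin 5)}
    (h1 : ∀ i : Fin 24, ev (List.replicate p w).flatten i = i) (h2 : ∃ i : Fin 24, ev w i ≠ i) :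
    orderOf (wordPerm w) = p := by
  refine orderOf_eq_prime (by rw [← wordPerm_pow, wordPerm_eq_one h1]) fun h => ?_
  obtain ⟨i, hi⟩ := h2
  have := wordPerm_apply w i
  rw [h, Equiv.Perm.one_apply] at this
  exact hi (by have := congrArg idx this; rwa [idx_pt, idx_pt, eq_comm] at this)

theorem wordPerm_flatten_map {β : Type*} (f : β → List (Fin 5)) (L : List β) :
    wordPerm (L.map f).flatten = (L.map fun x => wordPerm (f x)).prod := by
  induction L with
  | nil => simp [wordPerm]
  | cons x L ih => simp [wordPerm_append, ih]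

/-- The three words with the shift raised to a power. -/
def imgWord (g : List (Fin 5)) (k j : ℕ) : List (Fin 5) :=
  match j with
  | 0 => List.replicate k 0
  | 1 => hWord
  | _ => g

theorem out_one {H : Subgroup (Equiv.Perm GolayPt)} (hH : H ≤ M24) (g : List (Fin 5))
    (ha : wordPerm [0] ∈ H) (hh : wordPerm hWord ∈ H) (hg : wordPerm g ∈ H)
    (h23 : ¬ 23 ^ 2 ∣ Nat.card H) (m e l : ℕ)
    (hgh : ∀ i : Fin 24, ev (winv g ++ hWord ++ g) i = ev (List.replicate m hWord).flatten i)
    (he : (11 : ℤ) ∣ ((m : ℤ) - 1) * e - 1) (hl : (11 : ℤ) ∣ (m : ℤ) * l - 1)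
    (hgen : H ≤ Subgroup.closure {wordPerm [0], wordPerm hWord, wordPerm g})
    (rels : List (List ℕ))
    (hrels : ∀ t ∈ rels, (∀ i : Fin 24, ev (t.map (imgWord g 1)).flatten i = i))
    (hsep : ∀ k : Fin 23, 2 ≤ k.val → ∃ t ∈ rels, ∃ i : Fin 24, ev (t.map (imgWord g k.val)).flatten i ≠ i) :
    Nat.card (Cfsg.Out H) = 1 := by
  haveI : Fact (Nat.Prime 23) := ⟨by norm_num⟩
  haveI : Fact (Nat.Prime 11) := ⟨by norm_num⟩
  set A : H := ⟨_, ha⟩
  set Hh : H := ⟨_, hh⟩
  set Gg : H := ⟨_, hg⟩
  refine card_out_one (all_inner A Hh Gg ?_ ?_ h23 ?_ ?_ (m : ℤ) (e : ℤ) (l : ℤ) ?_ he hl ?_ ?_ ?_)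
  · rw [eq_top_iff]
    rintro ⟨x, hx⟩ -
    have := hgen hx
    rw [show ({wordPerm [0], wordPerm hWord, wordPerm g} : Set (Equiv.Perm GolayPt)) =
      H.subtype '' {A, Hh, Gg} by simp [Set.image_insert_eq, A, Hh, Gg], ← MonoidHom.map_closure] at this
    obtain ⟨y, hy, e⟩ := this
    rwa [show (⟨x, hx⟩ : H) = y from Subtype.ext e.symm]
  · rw [← Subgroup.orderOf_coe]; exact orderOf_word (by decide +kernel) (by decide +kernel)
  · rw [← Subgroup.orderOf_coe]; exact orderOf_word (by decide +kernel) (by decide +kernel)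
  · apply Subtype.ext
    show (wordPerm hWord)⁻¹ * wordPerm [0] * wordPerm hWord = (wordPerm [0]) ^ (12 : ℤ)
    rw [show (12 : ℤ) = ((12 : ℕ) : ℤ) from rfl, zpow_natCast, ← wordPerm_pow, ← wordPerm_winv,
      ← wordPerm_append, ← wordPerm_append]
    exact wordPerm_ext (by decide +kernel)
  · apply Subtype.ext
    show (wordPerm g)⁻¹ * wordPerm hWord * wordPerm g = (((Hh ^ (m : ℤ) : H)) : Equiv.Perm GolayPt)
    rw [zpow_natCast, SubmonoidClass.coe_pow, show ((Hh : H) : Equiv.Perm GolayPt) = wordPerm hWord from rfl,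
      ← wordPerm_pow, ← wordPerm_winv, ← wordPerm_append, ← wordPerm_append]
    exact wordPerm_ext hgh
  · intro x hx
    obtain ⟨n, hn⟩ := Subgroup.mem_zpowers_iff.mp
      (centralizer_shift (σ := x.1) (congrArg Subtype.val hx.eq))
    exact Subgroup.mem_zpowers_iff.mpr ⟨n, Subtype.ext (by simpa using hn)⟩
  · intro x hx
    obtain ⟨n, hn⟩ := Subgroup.mem_zpowers_iff.mp
      (centralizer_double (σ := x.1) (hH x.2) (congrArg Subtype.val hx.eq))
    exact Subgroup.mem_zpowers_iff.mpr ⟨n, Subtype.ext (by simpa using hn)⟩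
  · intro k hk2 hk23 φ h1 h2 h3
    obtain ⟨t, ht, i, hi⟩ := hsep ⟨k, hk23⟩ hk2
    let el : ℕ → H := fun j => match j with | 0 => A | 1 => Hh | _ => Gg
    let el' : ℕ → H := fun j => match j with | 0 => A ^ k | 1 => Hh | _ => Gg
    have hk' : wordPerm (List.replicate k 0) = wordPerm [0] ^ k := by
      rw [← wordPerm_pow]; congr 1; induction k with
      | zero => rfl
      | succ n ih' => simp [List.replicate_succ]
    have e1 : ((t.map el).prod : H) = 1 := by
      apply Subtype.ext
      rw [Subgroup.val_list_prod, List.map_map, OneMemClass.coe_one, ← wordPerm_eq_one (hrels t ht),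
        wordPerm_flatten_map]
      congr 1
      refine List.map_congr_left fun j _ => ?_
      match j with
      | 0 => rfl
      | 1 => rfl
      | (_ + 2) => rfl
    have e2 : ((t.map el').prod : H) = φ ((t.map el).prod) := by
      rw [map_list_prod, List.map_map]
      congr 1
      refine List.map_congr_left fun j _ => ?_
      match j with
      | 0 => exact h1.symm
      | 1 => exact h2.symm
      | (_ + 2) => exact h3.symm
    rw [e1, map_one] at e2
    have e3 : wordPerm (t.map (imgWord g k)).flatten = 1 := by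
      rw [wordPerm_flatten_map]
      have e2' := congrArg Subtype.val e2
      rw [Subgroup.val_list_prod, List.map_map, OneMemClass.coe_one] at e2'
      rw [← e2']
      congr 1
      refine List.map_congr_left fun j _ => ?_
      match j with
      | 0 => exact hk'
      | 1 => rfl
      | (_ + 2) => rfl
    have := wordPerm_apply (t.map (imgWord g k)).flatten i
    rw [e3, Equiv.Perm.one_apply] at this
    exact hi (by have := congrArg idx this; rwa [idx_pt, idx_pt, eq_comm] at this)

theorem autLevels24_ok : LevOK [[0], hWord, gWord24] autLevels24 baseL 0 := by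
  unfold LevOK
  simp only [ev_tokWord autTabs24_ok]
  decide +kernel

theorem autLevels23_ok : LevOK [[0], hWord, gWord23] autLevels23 baseL 1 := by
  unfold LevOK
  simp only [ev_tokWord autTabs23_ok]
  decide +kernel

theorem ev_imgWord {g : List (Fin 5)} {T : List (List ℕ × List ℕ)}
    (h : TabOK [[0], hWord, g] T) (k : ℕ) (t : List ℕ) (i : Fin 24) :
    ev (t.map (imgWord g k)).flatten i = evRel T k t i := by
  induction t with
  | nil => rfl
  | cons a t ih =>
    rw [List.map_cons, List.flatten_cons, ev_append, ih]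
    match a with
    | 0 =>
      rw [evRel, ← ev_tokWord h]
      congr 1
      simp only [tokWord, imgWord, List.map_replicate]
      induction k with
      | zero => rfl
      | succ n ih' => simp [List.replicate_succ, tokW]
    | 1 => rw [evRel, ← ev_tokWord h]; simp [tokWord, tokW, imgWord]
    | (_ + 2) => rw [evRel, ← ev_tokWord h]; simp [tokWord, tokW, imgWord]

theorem autLevels24_fst : ∀ k : Fin autLevels24.length,
    (autLevels24.getD k.val []).map Prod.fst = (lev k.val).map Prod.fst := by decide +kernel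

theorem autLevels23_fst : ∀ k : Fin autLevels23.length,
    (autLevels23.getD k.val []).map Prod.fst = (lev (1 + k.val)).map Prod.fst := by decide +kernel

theorem chain_le_three (gW : List (Fin 5)) (L : TokLevels) (start : ℕ) (hlen : start + L.length = 7)
    (hL : LevOK [[0], hWord, gW] L baseL start)
    (hfst : ∀ k : Fin L.length, (L.getD k.val []).map Prod.fst = (lev (start + k.val)).map Prod.fst) :
    chain start ≤ Subgroup.closure {wordPerm [0], wordPerm hWord, wordPerm gW} := by
  refine fixN_le (H := M24) (bs := baseL) _ chain_seven ?_ (7 - start) start (le_refl _) (by omega)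
  intro i hi1 hi2 σ hσ
  obtain ⟨k, rfl⟩ : ∃ k, i = start + k := ⟨i - start, by omega⟩
  have hcov := base_orbit_mem ⟨start + k, hi2⟩ hσ
  rw [← hfst ⟨k, by omega⟩] at hcov
  obtain ⟨e, he, hx⟩ := List.mem_map.mp hcov
  obtain ⟨h1, h2⟩ := hL ⟨k, by omega⟩ e he
  refine ⟨wordPerm (tokWord [[0], hWord, gW] e.2), fixN_word (wordPerm_mem _) h2,
    tokWord_mem (fun g hg => ?_) _, ?_⟩
  · refine Subgroup.subset_closure ?_
    simp only [List.mem_cons, List.not_mem_nil, or_false] at hg
    rcases hg with rfl | rfl | rfl <;> simp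
  · rw [wordPerm_apply, h1, hx, pt_idx]; rfl

theorem M23_eq : Cfsg.Spor.M23 = chain 1 := by
  ext σ
  have hb : pt (bpt 0) = none := by decide +kernel
  constructor
  · rintro ⟨h1, h2⟩
    refine ⟨h1, fun i hi => ?_⟩
    obtain rfl : i = 0 := by omega
    rw [hb]; exact h2
  · rintro ⟨h1, h2⟩
    refine ⟨h1, ?_⟩
    have := h2 0 Nat.one_pos
    rwa [hb] at this

theorem out_M24 : Nat.card (Cfsg.Out M24) = 1 :=
  out_one (le_refl _) gWord24 (wordPerm_mem _) (wordPerm_mem _) (wordPerm_mem _)
    (by rw [← chain_zero, card_chain.1]; norm_num) 6 9 2 (by decide +kernel) (by norm_num) (by norm_num)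
    (by rw [← chain_zero]; exact chain_le_three _ _ 0 (by decide +kernel) autLevels24_ok (fun k => by rw [Nat.zero_add]; exact autLevels24_fst k))
    autRels24 (by simp only [ev_imgWord autTabs24_ok]; decide +kernel) (by simp only [ev_imgWord autTabs24_ok]; decide +kernel)

theorem out_M23 : Nat.card (Cfsg.Out Cfsg.Spor.M23) = 1 := by
  rw [M23_eq]
  have hfix : ∀ w : List (Fin 5), ev w (bpt 0) = bpt 0 → wordPerm w ∈ chain 1 := fun w hw =>
    ⟨wordPerm_mem w, fun i hi => by
      obtain rfl : i = 0 := by omega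
      rw [wordPerm_apply, hw]⟩
  exact out_one (fun σ h => h.1) gWord23 (hfix _ (by decide +kernel)) (hfix _ (by decide +kernel))
    (hfix _ (by decide +kernel)) (by rw [card_chain.2.1]; norm_num) 4 4 3 (by decide +kernel)
    (by norm_num) (by norm_num)
    (chain_le_three _ _ 1 (by decide +kernel) autLevels23_ok autLevels23_fst)
    autRels23 (by simp only [ev_imgWord autTabs23_ok]; decide +kernel) (by simp only [ev_imgWord autTabs23_ok]; decide +kernel)

end Cfsg.Agent.Golay
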