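import Cfsg.Agent.Lib.Golay.M24
import Mathlib.InformationTheory.Hamming
import Mathlib.FieldTheory.Finiteness

/-! Counting in the length-24 code and the action of its automorphism group on the octads. -/

set_option autoImplicit false

namespace Cfsg.Agent.Golay

open Cfsg
open scoped Pointwise

/-- The information index of a mask. -/
def infoIdx (m : ℕ) : ℕ := basis.foldl (fun a x => 2 * a + if m.testBit x.1 then 1 else 0) 0

theorem codeList_infoIdx : (codeList.map infoIdx == List.range 4096) = true := by decide +kernel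

theorem codeList_nodup : codeList.Nodup :=
  List.Nodup.of_map infoIdx (by rw [beq_iff_eq.mp codeList_infoIdx]; exact List.nodup_range)

/-- The masks of the code words of weight `n`. -/
def wtList (n : ℕ) : List ℕ := codeList.filter fun m => popc m == n

theorem octList_eq : octList = wtList 8 := rfl

theorem mask_lt (w : GolayPt → ZMod 2) : mask w < 2 ^ 24 :=
  Nat.lt_pow_two_of_testBit _ fun i hi => testBit_mask_ge w i hi

theorem maskF_eq (s : Finset GolayPt) : maskF s = mask (fun p => if p ∈ s then 1 else 0) := by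
  simp only [maskF, mask]
  congr 1
  funext i
  by_cases hp : pt i ∈ s <;> simp [hp]

theorem maskF_lt (s : Finset GolayPt) : maskF s < 2 ^ 24 := by rw [maskF_eq]; exact mask_lt _

theorem testBit_maskF (s : Finset GolayPt) (p : GolayPt) :
    (maskF s).testBit (idx p).val = decide (p ∈ s) := by
  rw [maskF_eq, testBit_mask]
  by_cases hp : p ∈ s <;> simp [hp]

theorem mem_supp {m : ℕ} {p : GolayPt} : p ∈ supp m ↔ m.testBit (idx p).val = true := by simp [supp]

theorem supp_maskF (s : Finset GolayPt) : supp (maskF s) = s := by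
  ext p; simp [mem_supp, testBit_maskF]

theorem maskF_supp {m : ℕ} (hm : m < 2 ^ 24) : maskF (supp m) = m := by
  rw [maskF_eq]
  conv_rhs => rw [← mask_ofMask hm]
  congr 1
  funext p
  simp [ofMask, mem_supp]

theorem popc_eq (n : ℕ) : popc n = (supp n).card := by
  rw [supp, popc, List.countP_eq_length_filter]
  have h1 : (Finset.univ.filter fun p : GolayPt => n.testBit (idx p).val).card =
      ((Finset.range 24).filter fun i => n.testBit i).card :=
    Finset.card_bij' (fun p _ => (idx p).val) (fun i hi => pt ⟨i, Finset.mem_range.mp (Finset.mem_filter.mp hi).1⟩)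
      (by simp) (by simp [idx_pt]) (by simp [pt_idx]) (by simp [idx_pt])
  rw [h1, Finset.card_def, Finset.filter_val, Finset.range_val, Multiset.range,
    Multiset.filter_coe, Multiset.coe_card]
  simp

theorem card_eq_popc (s : Finset GolayPt) : s.card = popc (maskF s) := by
  rw [popc_eq, supp_maskF]

theorem hammingNorm_eq (w : GolayPt → ZMod 2) : hammingNorm w = popc (mask w) := by
  rw [popc_eq, hammingNorm]
  congr 1
  ext p
  simp [mem_supp, testBit_mask]

theorem mem_wordsOfWeight (n : ℕ) (s : Finset GolayPt) :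
    s ∈ wordsOfWeight (golayCode : Set (GolayPt → ZMod 2)) n ↔ maskF s ∈ wtList n := by
  simp only [wordsOfWeight, Set.mem_ofPred_eq, mem_supports_iff, wtList, List.mem_filter, mem_codeList_iff,
    maskF_lt, true_and, card_eq_popc, beq_iff_eq]

theorem mem_octads (s : Finset GolayPt) : s ∈ octads ↔ maskF s ∈ wtList 8 := mem_wordsOfWeight 8 s

theorem mem_dodecads (s : Finset GolayPt) : s ∈ dodecads ↔ maskF s ∈ wtList 12 := mem_wordsOfWeight 12 s

theorem wtList_lt {n m : ℕ} (h : m ∈ wtList n) : m < 2 ^ 24 :=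
  ((mem_codeList_iff m).mp (List.mem_filter.mp h).1).1

theorem wtList_inC {n m : ℕ} (h : m ∈ wtList n) : inC m = true :=
  ((mem_codeList_iff m).mp (List.mem_filter.mp h).1).2

theorem ncard_wordsOfWeight (n : ℕ) :
    (wordsOfWeight (golayCode : Set (GolayPt → ZMod 2)) n).ncard = (wtList n).length := by
  have e : wordsOfWeight (golayCode : Set (GolayPt → ZMod 2)) n = ↑((wtList n).map supp).toFinset := by
    ext s
    simp only [mem_wordsOfWeight, List.coe_toFinset, List.mem_map, Set.mem_ofPred_eq]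
    exact ⟨fun h => ⟨_, h, supp_maskF s⟩, fun ⟨m, hm, e⟩ => by rw [← e, maskF_supp (wtList_lt hm)]; exact hm⟩
  rw [e, Set.ncard_coe_finset, List.toFinset_card_of_nodup, List.length_map]
  refine List.Nodup.map_on (fun a ha b hb hab => ?_) (codeList_nodup.filter _)
  rw [← maskF_supp (wtList_lt ha), hab, maskF_supp (wtList_lt hb)]

/-- The code as a list of words. -/
noncomputable def codeEquiv : golayCode ≃ {m : ℕ // m ∈ codeList} where
  toFun w := ⟨mask w.1, mask_mem_codeList w.2⟩
  invFun m := ⟨ofMask m.1, (mem_golay_iff _).mpr (by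
    obtain ⟨h1, h2⟩ := (mem_codeList_iff _).mp m.2
    rwa [mask_ofMask h1])⟩
  left_inv w := Subtype.ext (ofMask_mask w.1)
  right_inv m := Subtype.ext (mask_ofMask ((mem_codeList_iff _).mp m.2).1)

theorem card_golayCode : Nat.card golayCode = 4096 := by
  have h : Nat.card {m : ℕ // m ∈ codeList} = codeList.toFinset.card := by
    rw [← Nat.card_eq_finsetCard]
    exact Nat.card_congr (Equiv.subtypeEquivRight (fun m => (List.mem_toFinset).symm))
  rw [Nat.card_congr codeEquiv, h, List.toFinset_card_of_nodup codeList_nodup]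
  decide +kernel

theorem finrank_golayCode : Module.finrank (ZMod 2) golayCode = 12 := by
  haveI : Finite golayCode := Nat.finite_of_card_ne_zero (by rw [card_golayCode]; norm_num)
  have h := Module.natCard_eq_pow_finrank (K := ZMod 2) (V := golayCode)
  rw [card_golayCode, Nat.card_zmod] at h
  have h2 : (2 : ℕ) ^ 12 = 2 ^ Module.finrank (ZMod 2) golayCode := by omega
  exact (Nat.pow_right_injective (le_refl 2) h2).symm

theorem weights_ok : codeList.all (fun m => [0, 8, 12, 16, 24].contains (popc m)) = true := by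
  decide +kernel

theorem smul_supp_mem {σ : Equiv.Perm GolayPt} (hσ : σ ∈ M24) {s : Finset GolayPt}
    (hs : s ∈ supports (golayCode : Set (GolayPt → ZMod 2))) :
    σ • s ∈ supports (golayCode : Set (GolayPt → ZMod 2)) := by
  rw [← MulAction.mem_stabilizer_iff.mp hσ]
  exact Set.smul_mem_smul_set hs

theorem smul_mem_weight {σ : Equiv.Perm GolayPt} (hσ : σ ∈ M24) {n : ℕ} {s : Finset GolayPt}
    (hs : s ∈ wordsOfWeight (golayCode : Set (GolayPt → ZMod 2)) n) :
    σ • s ∈ wordsOfWeight (golayCode : Set (GolayPt → ZMod 2)) n :=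
  ⟨smul_supp_mem hσ hs.1, by rw [Finset.card_smul_finset]; exact hs.2⟩

/-- The first five base points. -/
def base5 : Finset GolayPt := ((baseL.take 5).map pt).toFinset

theorem base5_card : base5.card = 5 := by decide +kernel

theorem exists_map_base5 (s : Finset GolayPt) (hs : s.card = 5) :
    ∃ σ ∈ M24, σ • base5 = s := by
  obtain ⟨σ, hσ, h⟩ := exists_mem_M24_map
    ((s.equivFinOfCardEq hs).symm.toEmbedding.trans (Function.Embedding.subtype _))
  refine ⟨σ, hσ, Finset.eq_of_subset_of_card_le ?_ ?_⟩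
  · intro p hp
    obtain ⟨q, hq, rfl⟩ := Finset.mem_smul_finset.mp hp
    have key : ∀ q ∈ base5, ∃ i : Fin 5, q = pt (bpt i.val) := by decide +kernel
    obtain ⟨i, rfl⟩ := key q hq
    rw [Equiv.Perm.smul_def, h i]
    exact ((s.equivFinOfCardEq hs).symm i).2
  · rw [Finset.card_smul_finset, base5_card, hs]

theorem base5_unique (o : Finset GolayPt) : (o ∈ octads ∧ base5 ⊆ o) ↔ o = supp baseOct := by
  have key : baseOct ∈ wtList 8 ∧ base5 ⊆ supp baseOct := by decide +kernel
  constructor
  · rintro ⟨ho, hb⟩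
    have hu := baseOct_ok
    rw [uniqOct, beq_iff_eq] at hu
    have hm : maskF o ∈ octList.filter fun m => (baseL.take 5).all fun i => m.testBit i.val := by
      refine List.mem_filter.mpr ⟨(mem_octads o).mp ho, List.all_eq_true.mpr fun i hi => ?_⟩
      rw [← idx_pt i, testBit_maskF, decide_eq_true_eq]
      exact hb (List.mem_toFinset.mpr (List.mem_map_of_mem hi))
    rw [hu, List.mem_singleton] at hm
    rw [← hm, supp_maskF]
  · rintro rfl
    exact ⟨(mem_octads _).mpr (by rw [maskF_supp (wtList_lt key.1)]; exact key.1), key.2⟩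

theorem octads_steiner : IsSteinerSystem 5 8 octads := by
  refine ⟨fun b hb => hb.2, fun s hs => ?_⟩
  obtain ⟨σ, hσ, rfl⟩ := exists_map_base5 s hs
  refine ⟨σ • supp baseOct, ⟨smul_mem_weight hσ ((base5_unique _).mpr rfl).1,
    Finset.smul_finset_subset_smul_finset ((base5_unique _).mpr rfl).2⟩, fun b hb => ?_⟩
  have := (base5_unique (σ⁻¹ • b)).mp ⟨smul_mem_weight (inv_mem hσ) hb.1,
    Finset.smul_finset_subset_iff.mp hb.2⟩
  rw [← this, smul_inv_smul]

theorem octad_transitive {o o' : Finset GolayPt} (ho : o ∈ octads) (ho' : o' ∈ octads) :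
    ∃ σ ∈ M24, σ • o = o' := by
  obtain ⟨s, hso, hs⟩ := Finset.exists_subset_card_eq (s := o) (n := 5) (by rw [ho.2]; norm_num)
  obtain ⟨s', hso', hs'⟩ := Finset.exists_subset_card_eq (s := o') (n := 5) (by rw [ho'.2]; norm_num)
  obtain ⟨σ, hσ, rfl⟩ := exists_map_base5 s hs
  obtain ⟨τ, hτ, rfl⟩ := exists_map_base5 s' hs'
  refine ⟨τ * σ⁻¹, mul_mem hτ (inv_mem hσ), ?_⟩
  obtain ⟨b, -, hb⟩ := octads_steiner.2 (τ • base5) hs'
  refine (hb _ ⟨smul_mem_weight (mul_mem hτ (inv_mem hσ)) ho, ?_⟩).trans (hb o' ⟨ho', hso'⟩).symm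
  rw [mul_smul]
  exact Finset.smul_finset_subset_smul_finset
    (Finset.smul_finset_subset_iff.mp hso : base5 ⊆ σ⁻¹ • o)

theorem M24_eq_octads : M24 = setSystemAut octads := by
  refine le_antisymm (fun σ hσ => ?_) (fun σ hσ => ?_)
  · rw [MulAction.mem_stabilizer_set_iff_smul_set_subset (Set.toFinite _)]
    rintro _ ⟨o, ho, rfl⟩
    exact smul_mem_weight hσ ho
  · suffices h : ∀ w ∈ golayCode, (fun p => w (σ p)) ∈ golayCode by
      have := inv_mem (mem_M24_of_forall h)
      rwa [inv_inv] at this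
    intro w hw
    have hb : ∀ x ∈ basis, (fun p => ofMask x.2 (σ p)) ∈ golayCode := by
      intro x hx
      have hx8 : ∀ x ∈ basis, popc x.2 = 8 ∧ x.2 < 2 ^ 24 ∧ inC x.2 = true := by decide +kernel
      obtain ⟨h8, hlt, hin⟩ := hx8 x hx
      have ho : supp x.2 ∈ octads := (mem_octads _).mpr (by
        rw [maskF_supp hlt]; exact List.mem_filter.mpr ⟨(mem_codeList_iff _).mpr ⟨hlt, hin⟩, by simp [h8]⟩)
      have hi : σ⁻¹ • supp x.2 ∈ octads := by
        rw [← MulAction.mem_stabilizer_iff.mp (inv_mem hσ)]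
        exact Set.smul_mem_smul_set ho
      rw [mem_golay_iff]
      have e : mask (fun p => ofMask x.2 (σ p)) = maskF (σ⁻¹ • supp x.2) := by
        rw [maskF_eq]
        congr 1
        funext p
        simp [Finset.mem_inv_smul_finset_iff, mem_supp, ofMask]
      rw [e]
      exact (mem_supports_iff _).mp hi.1
    have hd : ∀ l : List (ℕ × ℕ), (∀ x ∈ l, (fun p => ofMask x.2 (σ p)) ∈ golayCode) →
        ∀ m, (fun p => ofMask (decodeL l m) (σ p)) ∈ golayCode := by
      intro l
      induction l with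
      | nil => intro _ m; simp only [decodeL, ofMask_zero]; exact Submodule.zero_mem _
      | cons x l ih =>
        intro h m
        obtain ⟨q, c⟩ := x
        simp only [decodeL, ofMask_xor]
        refine Submodule.add_mem _ ?_ (ih (fun y hy => h y (List.mem_cons_of_mem _ hy)) m)
        split_ifs
        · exact h (q, c) List.mem_cons_self
        · simp only [ofMask_zero]; exact Submodule.zero_mem _
    have := hd basis hb (mask w)
    rwa [beq_iff_eq.mp (inC_of_mem hw), ofMask_mask] at this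

theorem card_stab (p : GolayPt) : Nat.card (MulAction.stabilizer M24 p) = 10200960 := by
  obtain ⟨σ, hσ, h⟩ : ∃ σ ∈ M24, σ (pt (bpt 0)) = p := by
    obtain ⟨e, he, hx⟩ := List.mem_map.mp
      (lev_small ⟨0, by norm_num⟩ (idx p) fun j => Fin.elim0 j)
    obtain ⟨hw, hb⟩ := wordPerm_mem_chain ⟨0, by norm_num⟩ he
    exact ⟨_, hw.1, by simp only at hb; rw [hb, hx, pt_idx]⟩
  rw [← card_chain.2.1]
  refine Nat.card_congr
    { toFun := fun g => ⟨σ⁻¹ * g.1.1 * σ, mul_mem (mul_mem (inv_mem hσ) g.1.2) hσ, fun i hi => ?_⟩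
      invFun := fun g => ⟨⟨σ * g.1 * σ⁻¹, mul_mem (mul_mem hσ g.2.1) (inv_mem hσ)⟩, ?_⟩
      left_inv := fun g => by apply Subtype.ext; apply Subtype.ext; simp [mul_assoc]
      right_inv := fun g => by apply Subtype.ext; simp [mul_assoc] }
  · obtain rfl : i = 0 := by omega
    rw [Equiv.Perm.mul_apply, Equiv.Perm.mul_apply, h, Equiv.Perm.coe_inv, Equiv.symm_apply_eq, h]
    exact g.2
  · show (σ * g.1 * σ⁻¹) p = p
    rw [← h, Equiv.Perm.mul_apply, Equiv.Perm.mul_apply, Equiv.Perm.coe_inv, Equiv.symm_apply_apply,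
      g.2.2 0 Nat.one_pos]

theorem card_stab_two (p q : GolayPt) (hpq : p ≠ q) :
    Nat.card ↥(MulAction.stabilizer M24 p ⊓ MulAction.stabilizer M24 q) = 443520 := by
  obtain ⟨σ, hσ, h0, h1⟩ : ∃ σ ∈ M24, σ (pt (bpt 0)) = p ∧ σ (pt (bpt 1)) = q := by
    obtain ⟨e, he, hx⟩ := List.mem_map.mp (lev_small ⟨0, by norm_num⟩ (idx p) fun j => Fin.elim0 j)
    obtain ⟨hw, hb⟩ := wordPerm_mem_chain ⟨0, by norm_num⟩ he
    simp only at hb
    have hq : idx ((wordPerm e.2).symm q) ∈ (lev 1).map Prod.fst := by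
      refine lev_small ⟨1, by norm_num⟩ _ fun j hj => ?_
      obtain rfl : j = ⟨0, Nat.one_pos⟩ := Fin.ext (Nat.lt_one_iff.mp j.isLt)
      apply_fun pt at hj
      rw [pt_idx, Equiv.symm_apply_eq, hb, hx, pt_idx] at hj
      exact hpq hj.symm
    obtain ⟨f, hf, hy⟩ := List.mem_map.mp hq
    obtain ⟨hv, hc⟩ := wordPerm_mem_chain ⟨1, by norm_num⟩ hf
    simp only at hc
    exact ⟨wordPerm e.2 * wordPerm f.2, mul_mem hw.1 hv.1,
      by rw [Equiv.Perm.mul_apply, hv.2 0 Nat.one_pos, hb, hx, pt_idx],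
      by rw [Equiv.Perm.mul_apply, hc, hy, pt_idx, Equiv.apply_symm_apply]⟩
  rw [← card_chain.2.2]
  refine Nat.card_congr
    { toFun := fun g => ⟨σ⁻¹ * g.1.1 * σ, mul_mem (mul_mem (inv_mem hσ) g.1.2) hσ, fun i hi => ?_⟩
      invFun := fun g => ⟨⟨σ * g.1 * σ⁻¹, mul_mem (mul_mem hσ g.2.1) (inv_mem hσ)⟩, ?_, ?_⟩
      left_inv := fun g => by apply Subtype.ext; apply Subtype.ext; simp [mul_assoc]
      right_inv := fun g => by apply Subtype.ext; simp [mul_assoc] }
  · rw [Equiv.Perm.mul_apply, Equiv.Perm.mul_apply, Equiv.Perm.coe_inv, Equiv.symm_apply_eq]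
    obtain rfl | rfl : i = 0 ∨ i = 1 := by omega
    · rw [h0]; exact g.2.1
    · rw [h1]; exact g.2.2
  · show (σ * g.1 * σ⁻¹) p = p
    rw [← h0, Equiv.Perm.mul_apply, Equiv.Perm.mul_apply, Equiv.Perm.coe_inv, Equiv.symm_apply_apply,
      g.2.2 0 (by norm_num)]
  · show (σ * g.1 * σ⁻¹) q = q
    rw [← h1, Equiv.Perm.mul_apply, Equiv.Perm.mul_apply, Equiv.Perm.coe_inv, Equiv.symm_apply_apply,
      g.2.2 1 (by norm_num)]

theorem orthogonal_basis : ∀ a ∈ basis, ∀ b ∈ basis, Even (popc (a.2 &&& b.2)) := by decide +kernel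

theorem self_orthogonal {v w : GolayPt → ZMod 2} (hv : v ∈ golayCode) (hw : w ∈ golayCode) :
    ∑ i, v i * w i = 0 := by
  have key : ∀ a b : ℕ, Even (popc (a &&& b)) → ∑ i, ofMask a i * ofMask b i = 0 := by
    intro a b h
    have : ∀ i, ofMask a i * ofMask b i = if i ∈ supp (a &&& b) then (1 : ZMod 2) else 0 := by
      intro i
      simp only [ofMask, mem_supp, Nat.testBit_and]
      cases a.testBit (idx i).val <;> cases b.testBit (idx i).val <;> simp
    rw [Finset.sum_congr rfl fun i _ => this i, Finset.sum_boole, Finset.filter_mem_eq_inter,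
      Finset.univ_inter, ← popc_eq]
    exact ZMod.natCast_eq_zero_iff_even.mpr h
  have hd : ∀ l : List (ℕ × ℕ), ∀ (m : ℕ) (u : GolayPt → ZMod 2),
      (∀ x ∈ l, ∑ i, ofMask x.2 i * u i = 0) → ∑ i, ofMask (decodeL l m) i * u i = 0 := by
    intro l
    induction l with
    | nil => intro m u _; simp [decodeL, ofMask_zero]
    | cons x l ih =>
      intro m u h
      obtain ⟨q, c⟩ := x
      simp only [decodeL, ofMask_xor, Pi.add_apply, add_mul, Finset.sum_add_distrib]
      rw [ih m u fun y hy => h y (List.mem_cons_of_mem _ hy), add_zero]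
      split_ifs
      · exact h (q, c) List.mem_cons_self
      · simp [ofMask_zero]
  rw [← ofMask_mask v, ← ofMask_mask w, ← beq_iff_eq.mp (inC_of_mem hv),
    ← beq_iff_eq.mp (inC_of_mem hw)]
  refine hd _ _ _ fun x hx => ?_
  simp only [mul_comm (ofMask x.2 _)]
  exact hd _ _ _ fun y hy => key _ _ (orthogonal_basis y hy x hx)

end Cfsg.Agent.Golay
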