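import Cfsg.Agent.Lib.Golay.Tok

/-! The stabiliser of five points in `M24`, listed, and transport of six points. -/

set_option autoImplicit false

namespace Cfsg.Agent.Golay

open Cfsg
open scoped Pointwise

/-- Words for the 48 elements fixing five base points. -/
def words48 : List (List (Fin 5)) := (lev 5).flatMap fun e => (lev 6).map fun f => e.2 ++ f.2

/-- The value table of a word. -/
def tab (w : List (Fin 5)) : List (Fin 24) := (List.finRange 24).map (ev w)

theorem tab_nodup : (words48.map tab).Nodup := by decide +kernel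

theorem wordPerm_tab {v w : List (Fin 5)} : wordPerm v = wordPerm w ↔ tab v = tab w := by
  constructor
  · intro h
    refine List.map_congr_left fun i _ => ?_
    have := congrArg (fun g => g (pt i)) h
    simp only [wordPerm_apply] at this
    apply_fun idx at this
    rwa [idx_pt, idx_pt] at this
  · intro h
    refine wordPerm_ext fun i => ?_
    exact List.map_eq_map_iff.mp h i (List.mem_finRange i)

theorem wordPerm_mem_chain_five {w : List (Fin 5)} (hw : w ∈ words48) : wordPerm w ∈ chain 5 := by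
  obtain ⟨e, he, f, hf, rfl⟩ : ∃ e ∈ lev 5, ∃ f ∈ lev 6, e.2 ++ f.2 = w := by
    simpa [words48] using hw
  rw [wordPerm_append]
  refine mul_mem (wordPerm_mem_chain ⟨5, by omega⟩ he).1 ?_
  have := (wordPerm_mem_chain ⟨6, by omega⟩ hf).1
  exact ⟨this.1, fun j hj => this.2 j (by show j < 6; omega)⟩

theorem chain_five_words {σ : Equiv.Perm GolayPt} (hσ : σ ∈ chain 5) :
    ∃ w ∈ words48, wordPerm w = σ := by
  obtain ⟨e, he, h⟩ := chain_step ⟨5, by omega⟩ hσ
  obtain ⟨f, hf, h'⟩ := chain_step ⟨6, by omega⟩ h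
  rw [chain_seven, Subgroup.mem_bot] at h'
  refine ⟨e.2 ++ f.2, by simp only [words48, List.mem_flatMap, List.mem_map]; exact ⟨e, he, f, hf, rfl⟩, ?_⟩
  rw [wordPerm_append]
  rw [← mul_assoc, ← mul_inv_rev, inv_mul_eq_one] at h'
  exact h'

/-- Counting the elements of a set inside the five-point stabiliser by a list of words. -/
theorem card_of_words (P : Equiv.Perm GolayPt → Prop) (q : List (Fin 5) → Bool)
    (hP : ∀ g, P g → g ∈ chain 5) (hq : ∀ w ∈ words48, (q w = true ↔ P (wordPerm w))) :
    Nat.card {g : Equiv.Perm GolayPt // P g} = (words48.filter q).length := by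
  classical
  have e : {g : Equiv.Perm GolayPt | P g} = (((words48.filter q).map wordPerm).toFinset : Set _) := by
    ext g
    simp only [Set.mem_setOf_eq, List.coe_toFinset, List.mem_map, List.mem_filter]
    constructor
    · intro hg
      obtain ⟨w, hw, rfl⟩ := chain_five_words (hP g hg)
      exact ⟨w, ⟨hw, (hq w hw).mpr hg⟩, rfl⟩
    · rintro ⟨w, ⟨hw, hqw⟩, rfl⟩
      exact (hq w hw).mp hqw
  show Nat.card ({g : Equiv.Perm GolayPt | P g} : Set _) = _
  rw [Nat.card_coe_set_eq, e, Set.ncard_coe_finset, List.toFinset_card_of_nodup, List.length_map]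
  refine List.Nodup.map_on (fun v hv w hw h => ?_) (List.Nodup.filter _ (List.Nodup.of_map tab tab_nodup))
  exact List.inj_on_of_nodup_map tab_nodup (List.mem_of_mem_filter hv) (List.mem_of_mem_filter hw)
    (wordPerm_tab.mp h)

theorem fixes_pt_iff (w : List (Fin 5)) (i : Fin 24) : ev w i = i ↔ wordPerm w (pt i) = pt i := by
  rw [wordPerm_apply]
  exact ⟨fun h => by rw [h], fun h => by apply_fun idx at h; rwa [idx_pt, idx_pt] at h⟩

/-- `j` is the canonical sixth position: six inside the octad, five outside. -/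
def sixth (b : Bool) : ℕ := if b then 6 else 5

/-- The canonical six positions. -/
def canon (b : Bool) (i : Fin 6) : GolayPt := if i.val < 5 then pt (bpt i.val) else pt (bpt (sixth b))

theorem canon_octad : (∀ i : Fin 6, canon true i ∈ supp baseOct) ∧
    (∀ i : Fin 5, pt (bpt i.val) ∈ supp baseOct) ∧ pt (bpt 5) ∉ supp baseOct := by decide +kernel

theorem smul_octad_iff {σ : Equiv.Perm GolayPt} (hσ : σ ∈ M24) {n : ℕ} (x : Fin n → GolayPt) :
    (∃ o ∈ octads, ∀ i, σ (x i) ∈ o) ↔ ∃ o ∈ octads, ∀ i, x i ∈ o := by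
  constructor
  · rintro ⟨o, ho, h⟩
    refine ⟨σ⁻¹ • o, smul_mem_weight (inv_mem hσ) ho, fun i => ?_⟩
    rw [Finset.mem_inv_smul_finset_iff]; exact h i
  · rintro ⟨o, ho, h⟩
    exact ⟨σ • o, smul_mem_weight hσ ho, fun i => Finset.smul_mem_smul_finset (h i)⟩

theorem canon_octad_iff (b : Bool) : (∃ o ∈ octads, ∀ i : Fin 6, canon b i ∈ o) ↔ b = true := by
  constructor
  · rintro ⟨o, ho, h⟩
    by_contra hb
    rw [Bool.not_eq_true] at hb
    subst hb
    have : o = supp baseOct := (base5_unique o).mp ⟨ho, fun p hp => by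
      have key : ∀ q ∈ base5, ∃ i : Fin 6, q = canon false i := by decide +kernel
      obtain ⟨i, rfl⟩ := key p hp; exact h i⟩
    exact canon_octad.2.2 (this ▸ h 5)
  · rintro rfl
    exact ⟨supp baseOct, ((base5_unique _).mpr rfl).1, canon_octad.1⟩

/-- Every six points are the image of one of the two canonical sextuples. -/
theorem exists_canon (x : Fin 6 ↪ GolayPt) :
    ∃ b, ∃ σ ∈ M24, ∀ i, σ (canon b i) = x i := by
  obtain ⟨τ, hτ, h⟩ := exists_mem_M24_map ((Fin.castLEEmb (show 5 ≤ 6 by omega)).trans x)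
  set z := idx (τ.symm (x 5)) with hz
  have hne : ∀ j : Fin 5, z ≠ bpt j.val := by
    intro j he
    apply_fun pt at he
    rw [hz, pt_idx, Equiv.symm_apply_eq, h j] at he
    have hval := congrArg Fin.val (x.injective he)
    have := j.isLt
    simp at hval; omega
  have key : ∀ (b : Bool) (w : List (Fin 5)), wordPerm w ∈ chain 5 →
      wordPerm w (pt (bpt (sixth b))) = pt z → ∃ b, ∃ σ ∈ M24, ∀ i, σ (canon b i) = x i := by
    intro b w hw hwz
    refine ⟨b, τ * wordPerm w, mul_mem hτ hw.1, fun i => ?_⟩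
    rw [Equiv.Perm.mul_apply, canon]
    split_ifs with hi
    · rw [hw.2 i.val hi]
      exact h ⟨i.val, hi⟩
    · rw [hwz, hz, pt_idx, Equiv.apply_symm_apply]
      congr 1; ext; simp; omega
  by_cases ho : baseOct.testBit z.val = true
  · obtain ⟨e, he, hx⟩ := List.mem_map.mp (lev_six z ho hne)
    obtain ⟨hw, hb⟩ := wordPerm_mem_chain ⟨6, by omega⟩ he
    exact key true e.2 ⟨hw.1, fun j hj => hw.2 j (by show j < 6; omega)⟩ (by rw [← hx]; exact hb)
  · obtain ⟨e, he, hx⟩ := List.mem_map.mp (lev_five z (by simpa using ho))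
    obtain ⟨hw, hb⟩ := wordPerm_mem_chain ⟨5, by omega⟩ he
    exact key false e.2 hw (by rw [← hx]; exact hb)

/-- Six points can be moved to six others exactly when both or neither lie in an octad. -/
theorem six_transport (x y : Fin 6 ↪ GolayPt)
    (h : (∃ o ∈ octads, ∀ i, x i ∈ o) ↔ ∃ o ∈ octads, ∀ i, y i ∈ o) :
    ∃ g ∈ M24, ∀ i, g (x i) = y i := by
  obtain ⟨b, σ, hσ, h1⟩ := exists_canon x
  obtain ⟨c, τ, hτ, h2⟩ := exists_canon y
  simp only [← h1, ← h2] at h
  rw [smul_octad_iff hσ, smul_octad_iff hτ, canon_octad_iff, canon_octad_iff] at h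
  obtain rfl : b = c := Bool.eq_iff_iff.mpr h
  exact ⟨τ * σ⁻¹, mul_mem hτ (inv_mem hσ), fun i => by
    rw [← h1 i, Equiv.Perm.mul_apply, Equiv.Perm.coe_inv, Equiv.symm_apply_apply, h2 i]⟩

/-- Pointwise stabilisers of the canonical sextuples. -/
theorem card_fix_canon (b : Bool) :
    Nat.card {g : Equiv.Perm GolayPt // g ∈ M24 ∧ ∀ i, g (canon b i) = canon b i} =
      if b then 16 else 3 := by
  rw [card_of_words _ (fun w => decide (ev w (bpt (sixth b)) = bpt (sixth b))) ?_ ?_]
  · cases b <;> decide +kernel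
  · rintro g ⟨hg, h⟩
    refine ⟨hg, fun i hi => ?_⟩
    have := h ⟨i, by omega⟩
    simpa [canon, hi] using this
  · intro w hw
    have hm := wordPerm_mem_chain_five hw
    rw [decide_eq_true_eq, fixes_pt_iff]
    constructor
    · refine fun h => ⟨hm.1, fun i => ?_⟩
      rw [canon]; split_ifs with hi
      · exact hm.2 i.val hi
      · exact h
    · intro h
      simpa [canon] using h.2 5

/-- The pointwise stabiliser of the standard octad. -/
theorem card_fix_baseOct :
    Nat.card {g : Equiv.Perm GolayPt // g ∈ M24 ∧ ∀ p ∈ supp baseOct, g p = p} = 16 ∧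
      ∀ g ∈ M24, (∀ p ∈ supp baseOct, g p = p) → g * g = 1 := by
  have hc : ∀ g, g ∈ M24 ∧ (∀ p ∈ supp baseOct, g p = p) → g ∈ chain 5 := fun g hg =>
    ⟨hg.1, fun i hi => hg.2 _ (canon_octad.2.1 ⟨i, hi⟩)⟩
  let q : List (Fin 5) → Bool := fun w =>
    (List.finRange 24).all fun i => !baseOct.testBit i.val || decide (ev w i = i)
  have hq : ∀ w ∈ words48, q w = true ↔
      (wordPerm w ∈ M24 ∧ ∀ p ∈ supp baseOct, wordPerm w p = p) := by
    intro w hw
    simp only [q, List.all_eq_true, List.mem_finRange, true_implies, Bool.or_eq_true,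
      decide_eq_true_eq]
    constructor
    · refine fun h => ⟨(wordPerm_mem_chain_five hw).1, fun p hp => ?_⟩
      rw [mem_supp] at hp
      rcases h (idx p) with h' | h'
      · simp [hp] at h'
      · rw [← pt_idx p, ← fixes_pt_iff]; exact h'
    · intro h i
      by_cases hb : baseOct.testBit i.val = true
      · right
        exact (fixes_pt_iff w i).mpr (h.2 _ (by rw [mem_supp, idx_pt]; exact hb))
      · left; simpa using hb
  refine ⟨?_, fun g hg hfix => ?_⟩
  · rw [card_of_words _ q hc hq]; decide +kernel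
  · obtain ⟨w, hw, rfl⟩ := chain_five_words (hc g ⟨hg, hfix⟩)
    have key : ∀ w ∈ words48, q w = true → ∀ i : Fin 24, ev (w ++ w) i = i := by decide +kernel
    rw [← wordPerm_append]
    exact wordPerm_eq_one (key w hw ((hq w hw).mpr ⟨hg, hfix⟩))

end Cfsg.Agent.Golay
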