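import Cfsg.Agent.Lib.Golay.MathieuData

/-! Tables for the automorphisms of the three smaller groups of the code. -/

set_option autoImplicit false

namespace Cfsg.Agent.Golay

/-- The transversals of the big group as tables. -/
def levTabs : List (List (List ℕ × List ℕ)) := [
  [([23, 22, 11, 15, 17, 9, 19, 13, 20, 5, 16, 2, 21, 7, 18, 3, 10, 4, 14, 6, 8, 12, 1, 0], [23, 22, 11, 15, 17, 9, 19, 13, 20, 5, 16, 2, 21, 7, 18, 3, 10, 4, 14, 6, 8, 12, 1, 0]), ([23, 0, 12, 16, 18, 10, 20, 14, 21, 6, 17, 3, 22, 8, 19, 4, 11, 5, 15, 7, 9, 13, 2, 1], [1, 23, 22, 11, 15, 17, 9, 19, 13, 20, 5, 16, 2, 21, 7, 18, 3, 10, 4, 14, 6, 8, 12, 0]), ([23, 1, 13, 17, 19, 11, 21, 15, 22, 7, 18, 4, 0, 9, 20, 5, 12, 6, 16, 8, 10, 14, 3, 2], [12, 1, 23, 22, 11, 15, 17, 9, 19, 13, 20, 5, 16, 2, 21, 7, 18, 3, 10, 4, 14, 6, 8, 0]), ([23,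 2, 14, 18, 20, 12, 22, 16, 0, 8, 19, 5, 1, 10, 21, 6, 13, 7, 17, 9, 11, 15, 4, 3], [8, 12, 1, 23, 22, 11, 15, 17, 9, 19, 13, 20, 5, 16, 2, 21, 7, 18, 3, 10, 4, 14, 6, 0]), ([23, 6, 16, 14, 11, 17, 5, 15, 19, 10, 1, 18, 0, 13, 21, 7, 9, 2, 8, 12, 20, 22, 3, 4], [12, 10, 17, 22, 23, 6, 1, 15, 18, 16, 9, 4, 19, 13, 3, 7, 2, 5, 11, 8, 20, 14, 21, 0]), ([23, 22, 8, 7, 0, 19, 20, 21, 4, 1, 13, 2, 18, 11, 10, 17, 16, 6, 14, 9, 12, 15, 3, 5], [4, 9, 11, 22, 8, 23, 17, 3, 2, 19, 14, 13, 20, 10, 18, 21, 16, 15, 12, 5, 6, 7, 1, 0]), ([23, 0, 9, 8, 1, 20, 21, 22, 5, 2, 14, 3, 19, 12, 11, 18, 17, 7, 15, 10, 13, 16, 4, 6], [1, 4, 9, 11, 22, 8, 23, 17, 3, 2, 19, 14, 13, 20, 10, 18, 21, 16, 15, 12, 5, 6, 7, 0]), ([23, 1, 10, 9, 2, 21, 22, 0, 6, 3, 15, 4, 20, 13, 12, 19, 18, 8, 16, 11, 14, 17, 5, 7], [7, 1, 4, 9, 11, 22, 8,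 23, 17, 3, 2, 19, 14, 13, 20, 10, 18, 21, 16, 15, 12, 5, 6, 0]), ([23, 2, 11, 10, 3, 22, 0, 1, 7, 4, 16, 5, 21, 14, 13, 20, 19, 9, 17, 12, 15, 18, 6, 8], [6, 7, 1, 4, 9, 11, 22, 8, 23, 17, 3, 2, 19, 14, 13, 20, 10, 18, 21, 16, 15, 12, 5, 0]), ([0, 1, 20, 13, 23, 6, 8, 12, 17, 22, 7, 11, 14, 2, 16, 4, 10, 19, 18, 5, 21, 3, 15, 9], [0, 1, 13, 21, 15, 19, 5, 10, 6, 23, 16, 11, 7, 3, 12, 22, 14, 8, 18, 17, 2, 20, 9, 4]), ([22, 21, 6, 3, 5, 1, 11, 2, 0, 12, 13, 16, 23, 4, 7, 8, 20, 18, 9, 19, 15, 17, 14, 10], [8, 5, 7, 3, 13, 4, 2, 14, 15, 18, 23, 6, 9, 10, 22, 20, 11, 21, 17, 19, 16, 1, 0, 12]), ([0, 22, 7, 4, 6, 2, 12, 3, 1, 13, 14, 17, 23, 5, 8, 9, 21, 19, 10, 20, 16, 18, 15, 11], [0, 8, 5, 7, 3, 13, 4, 2, 14, 15, 18, 23, 6, 9, 10, 22, 20, 11, 21, 17, 19, 16, 1, 12]), ([0, 8, 5, 7, 3, 13, 4, 2, 14, 15, 18, 23,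 6, 9, 10, 22, 20, 11, 21, 17, 19, 16, 1, 12], [0, 22, 7, 4, 6, 2, 12, 3, 1, 13, 14, 17, 23, 5, 8, 9, 21, 19, 10, 20, 16, 18, 15, 11]), ([23, 19, 6, 16, 12, 15, 3, 7, 21, 1, 14, 17, 9, 0, 10, 5, 11, 2, 8, 20, 4, 18, 22, 13], [13, 9, 17, 6, 20, 15, 2, 7, 18, 12, 14, 16, 4, 23, 10, 5, 3, 11, 21, 1, 19, 8, 22, 0]), ([23, 20, 7, 17, 13, 16, 4, 8, 22, 2, 15, 18, 10, 1, 11, 6, 12, 3, 9, 21, 5, 19, 0, 14], [22, 13, 9, 17, 6, 20, 15, 2, 7, 18, 12, 14, 16, 4, 23, 10, 5, 3, 11, 21, 1, 19, 8, 0]), ([23, 21, 8, 18, 14, 17, 5, 9, 0, 3, 16, 19, 11, 2, 12, 7, 13, 4, 10, 22, 6, 20, 1, 15], [8, 22, 13, 9, 17, 6, 20, 15, 2, 7, 18, 12, 14, 16, 4, 23, 10, 5, 3, 11, 21, 1, 19, 0]), ([23, 21, 6, 11, 2, 5, 8, 15, 18, 22, 9, 1, 12, 14, 20, 0, 17, 19, 13, 3, 10, 7, 4, 16], [15, 11, 4, 19, 22, 5, 2, 21, 6, 10, 20, 3, 12, 18, 13, 7, 23,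 16, 8, 17, 14, 1, 9, 0]), ([23, 22, 7, 12, 3, 6, 9, 16, 19, 0, 10, 2, 13, 15, 21, 1, 18, 20, 14, 4, 11, 8, 5, 17], [9, 15, 11, 4, 19, 22, 5, 2, 21, 6, 10, 20, 3, 12, 18, 13, 7, 23, 16, 8, 17, 14, 1, 0]), ([23, 0, 8, 13, 4, 7, 10, 17, 20, 1, 11, 3, 14, 16, 22, 2, 19, 21, 15, 5, 12, 9, 6, 18], [1, 9, 15, 11, 4, 19, 22, 5, 2, 21, 6, 10, 20, 3, 12, 18, 13, 7, 23, 16, 8, 17, 14, 0]), ([23, 5, 20, 22, 8, 12, 1, 9, 11, 18, 15, 6, 21, 2, 14, 4, 13, 3, 16, 7, 10, 17, 0, 19], [22, 6, 13, 17, 15, 1, 11, 19, 4, 7, 20, 8, 5, 16, 14, 10, 18, 21, 9, 23, 2, 12, 3, 0]), ([23, 19, 8, 12, 14, 6, 16, 10, 17, 2, 13, 22, 18, 4, 15, 0, 7, 1, 11, 3, 5, 9, 21, 20], [15, 17, 9, 19, 13, 20, 5, 16, 2, 21, 7, 18, 3, 10, 4, 14, 6, 8, 12, 1, 23, 22, 11, 0]), ([23, 20, 9, 13, 15, 7, 17, 11, 18, 3, 14, 0, 19, 5, 16, 1, 8, 2, 12, 4, 6, 10, 22,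 21], [11, 15, 17, 9, 19, 13, 20, 5, 16, 2, 21, 7, 18, 3, 10, 4, 14, 6, 8, 12, 1, 23, 22, 0]), ([23, 21, 10, 14, 16, 8, 18, 12, 19, 4, 15, 1, 20, 6, 17, 2, 9, 3, 13, 5, 7, 11, 0, 22], [22, 11, 15, 17, 9, 19, 13, 20, 5, 16, 2, 21, 7, 18, 3, 10, 4, 14, 6, 8, 12, 1, 23, 0]), ([0, 1, 2, 3, 4, 5, 6, 7, 8, 9, 10, 11, 12, 13, 14, 15, 16, 17, 18, 19, 20, 21, 22, 23], [0, 1, 2, 3, 4, 5, 6, 7, 8, 9, 10, 11, 12, 13, 14, 15, 16, 17, 18, 19, 20, 21, 22, 23])],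
  [([0, 1, 2, 3, 4, 5, 6, 7, 8, 9, 10, 11, 12, 13, 14, 15, 16, 17, 18, 19, 20, 21, 22, 23], [0, 1, 2, 3, 4, 5, 6, 7, 8, 9, 10, 11, 12, 13, 14, 15, 16, 17, 18, 19, 20, 21, 22, 23]), ([1, 2, 3, 4, 5, 6, 7, 8, 9, 10, 11, 12, 13, 14, 15, 16, 17, 18, 19, 20, 21, 22, 0, 23], [22, 0, 1, 2, 3, 4, 5, 6, 7, 8, 9, 10, 11, 12, 13, 14, 15, 16, 17, 18, 19, 20, 21, 23]), ([2, 3, 4, 5, 6, 7, 8, 9, 10, 11, 12, 13, 14, 15, 16, 17, 18, 19, 20, 21, 22, 0, 1, 23], [21, 22, 0, 1, 2, 3, 4, 5, 6, 7, 8, 9, 10, 11, 12, 13, 14, 15, 16, 17, 18, 19, 20, 23]), ([3, 4, 5, 6, 7, 8, 9, 10, 11, 12, 13, 14, 15, 16, 17, 18, 19, 20, 21, 22, 0, 1, 2, 23], [20, 21, 22, 0, 1, 2, 3, 4, 5, 6, 7, 8, 9, 10, 11, 12, 13, 14, 15, 16, 17, 18, 19, 23]), ([4, 3, 18, 7, 2, 10, 12, 13, 20, 17, 9, 16, 22, 15, 8, 14, 1, 11, 21, 5, 19, 0, 6, 23], [21, 16, 4, 1,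 0, 19, 22, 3, 14, 10, 5, 17, 6, 7, 15, 13, 11, 9, 2, 20, 8, 18, 12, 23]), ([5, 3, 2, 17, 6, 1, 9, 11, 12, 19, 16, 8, 15, 21, 14, 7, 13, 0, 10, 20, 4, 18, 22, 23], [17, 5, 2, 1, 20, 0, 4, 15, 11, 6, 18, 7, 8, 16, 14, 12, 10, 3, 21, 9, 19, 13, 22, 23]), ([6, 4, 3, 18, 7, 2, 10, 12, 13, 20, 17, 9, 16, 22, 15, 8, 14, 1, 11, 21, 5, 19, 0, 23], [22, 17, 5, 2, 1, 20, 0, 4, 15, 11, 6, 18, 7, 8, 16, 14, 12, 10, 3, 21, 9, 19, 13, 23]), ([7, 5, 4, 19, 8, 3, 11, 13, 14, 21, 18, 10, 17, 0, 16, 9, 15, 2, 12, 22, 6, 20, 1, 23], [13, 22, 17, 5, 2, 1, 20, 0, 4, 15, 11, 6, 18, 7, 8, 16, 14, 12, 10, 3, 21, 9, 19, 23]), ([8, 6, 5, 20, 9, 4, 12, 14, 15, 22, 19, 11, 18, 1, 17, 10, 16, 3, 13, 0, 7, 21, 2, 23], [19, 13, 22, 17, 5, 2, 1, 20, 0, 4, 15, 11, 6, 18, 7, 8, 16, 14, 12, 10, 3, 21, 9, 23]), ([9, 14, 11, 21, 6, 18, 10, 0, 2,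 15, 19, 1, 4, 5, 16, 13, 17, 8, 7, 3, 20, 12, 22, 23], [7, 11, 8, 19, 12, 13, 4, 18, 17, 0, 6, 2, 21, 15, 1, 9, 14, 16, 5, 10, 20, 3, 22, 23]), ([10, 7, 18, 11, 12, 3, 17, 16, 22, 5, 1, 20, 14, 0, 8, 13, 15, 4, 9, 19, 2, 21, 6, 23], [13, 10, 20, 5, 17, 9, 22, 1, 14, 18, 0, 3, 4, 15, 12, 16, 7, 6, 2, 19, 11, 21, 8, 23]), ([11, 0, 2, 18, 3, 1, 10, 4, 20, 9, 16, 21, 14, 13, 8, 19, 15, 12, 22, 6, 17, 5, 7, 23], [1, 5, 2, 4, 7, 21, 19, 22, 14, 9, 6, 0, 17, 13, 12, 16, 10, 20, 3, 15, 8, 11, 18, 23]), ([12, 21, 16, 4, 1, 0, 19, 22, 3, 14, 10, 5, 17, 6, 7, 15, 13, 11, 9, 2, 20, 8, 18, 23], [5, 4, 19, 8, 3, 11, 13, 14, 21, 18, 10, 17, 0, 16, 9, 15, 2, 12, 22, 6, 20, 1, 7, 23]), ([13, 22, 17, 5, 2, 1, 20, 0, 4, 15, 11, 6, 18, 7, 8, 16, 14, 12, 10, 3, 21, 9, 19, 23], [7, 5, 4, 19, 8, 3, 11, 13, 14, 21, 18, 10, 17, 0, 16,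 9, 15, 2, 12, 22, 6, 20, 1, 23]), ([14, 0, 18, 6, 3, 2, 21, 1, 5, 16, 12, 7, 19, 8, 9, 17, 15, 13, 11, 4, 22, 10, 20, 23], [1, 7, 5, 4, 19, 8, 3, 11, 13, 14, 21, 18, 10, 17, 0, 16, 9, 15, 2, 12, 22, 6, 20, 23]), ([15, 1, 19, 7, 4, 3, 22, 2, 6, 17, 13, 8, 20, 9, 10, 18, 16, 14, 12, 5, 0, 11, 21, 23], [20, 1, 7, 5, 4, 19, 8, 3, 11, 13, 14, 21, 18, 10, 17, 0, 16, 9, 15, 2, 12, 22, 6, 23]), ([16, 4, 1, 0, 19, 22, 3, 14, 10, 5, 17, 6, 7, 15, 13, 11, 9, 2, 20, 8, 18, 12, 21, 23], [3, 2, 17, 6, 1, 9, 11, 12, 19, 16, 8, 15, 21, 14, 7, 13, 0, 10, 20, 4, 18, 22, 5, 23]), ([17, 5, 2, 1, 20, 0, 4, 15, 11, 6, 18, 7, 8, 16, 14, 12, 10, 3, 21, 9, 19, 13, 22, 23], [5, 3, 2, 17, 6, 1, 9, 11, 12, 19, 16, 8, 15, 21, 14, 7, 13, 0, 10, 20, 4, 18, 22, 23]), ([18, 6, 3, 2, 21, 1, 5, 16, 12, 7, 19, 8, 9, 17, 15, 13, 11, 4, 22, 10,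 20, 14, 0, 23], [22, 5, 3, 2, 17, 6, 1, 9, 11, 12, 19, 16, 8, 15, 21, 14, 7, 13, 0, 10, 20, 4, 18, 23]), ([19, 0, 6, 4, 3, 18, 7, 2, 10, 12, 13, 20, 17, 9, 16, 22, 15, 8, 14, 1, 11, 21, 5, 23], [1, 19, 7, 4, 3, 22, 2, 6, 17, 13, 8, 20, 9, 10, 18, 16, 14, 12, 5, 0, 11, 21, 15, 23]), ([20, 21, 22, 0, 1, 2, 3, 4, 5, 6, 7, 8, 9, 10, 11, 12, 13, 14, 15, 16, 17, 18, 19, 23], [3, 4, 5, 6, 7, 8, 9, 10, 11, 12, 13, 14, 15, 16, 17, 18, 19, 20, 21, 22, 0, 1, 2, 23]), ([21, 22, 0, 1, 2, 3, 4, 5, 6, 7, 8, 9, 10, 11, 12, 13, 14, 15, 16, 17, 18, 19, 20, 23], [2, 3, 4, 5, 6, 7, 8, 9, 10, 11, 12, 13, 14, 15, 16, 17, 18, 19, 20, 21, 22, 0, 1, 23]), ([22, 0, 1, 2, 3, 4, 5, 6, 7, 8, 9, 10, 11, 12, 13, 14, 15, 16, 17, 18, 19, 20, 21, 23], [1, 2, 3, 4, 5, 6, 7, 8, 9, 10, 11, 12, 13, 14, 15, 16, 17, 18, 19, 20, 21, 22, 0, 23])],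
  [([0, 1, 2, 3, 4, 5, 6, 7, 8, 9, 10, 11, 12, 13, 14, 15, 16, 17, 18, 19, 20, 21, 22, 23], [0, 1, 2, 3, 4, 5, 6, 7, 8, 9, 10, 11, 12, 13, 14, 15, 16, 17, 18, 19, 20, 21, 22, 23]), ([0, 2, 18, 3, 1, 10, 4, 20, 9, 16, 21, 14, 13, 8, 19, 15, 12, 22, 6, 17, 5, 7, 11, 23], [0, 4, 1, 3, 6, 20, 18, 21, 13, 8, 5, 22, 16, 12, 11, 15, 9, 19, 2, 14, 7, 10, 17, 23]), ([0, 3, 17, 15, 18, 10, 5, 2, 19, 13, 9, 8, 12, 6, 16, 22, 11, 4, 7, 14, 20, 1, 21, 23], [0, 21, 7, 1, 17, 6, 13, 18, 11, 10, 5, 16, 12, 9, 19, 3, 14, 2, 4, 8, 20, 22, 15, 23]), ([0, 4, 1, 3, 6, 20, 18, 21, 13, 8, 5, 22, 16, 12, 11, 15, 9, 19, 2, 14, 7, 10, 17, 23], [0, 2, 18, 3, 1, 10, 4, 20, 9, 16, 21, 14, 13, 8, 19, 15, 12, 22, 6, 17, 5, 7, 11, 23]), ([0, 5, 6, 3, 17, 9, 4, 10, 18, 21, 12, 1, 22, 13, 15, 8, 7, 19, 20, 2, 14, 11, 16, 23], [0, 11, 19, 3,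 6, 1, 2, 16, 15, 5, 7, 21, 10, 13, 20, 14, 22, 4, 8, 17, 18, 9, 12, 23]), ([0, 6, 4, 3, 18, 7, 2, 10, 12, 13, 20, 17, 9, 16, 22, 15, 8, 14, 1, 11, 21, 5, 19, 23], [0, 18, 6, 3, 2, 21, 1, 5, 16, 12, 7, 19, 8, 9, 17, 15, 13, 11, 4, 22, 10, 20, 14, 23]), ([0, 7, 21, 2, 8, 6, 5, 20, 9, 4, 12, 14, 15, 22, 19, 11, 18, 1, 17, 10, 16, 3, 13, 23], [0, 17, 3, 21, 9, 6, 5, 1, 4, 8, 19, 15, 10, 22, 11, 12, 20, 18, 16, 14, 7, 2, 13, 23]), ([0, 8, 21, 14, 15, 5, 2, 4, 7, 17, 16, 18, 22, 10, 12, 1, 11, 6, 13, 3, 20, 9, 19, 23], [0, 15, 6, 19, 7, 5, 17, 8, 1, 21, 13, 16, 14, 18, 3, 4, 10, 9, 11, 22, 20, 2, 12, 23]), ([0, 9, 17, 4, 20, 1, 21, 15, 2, 18, 8, 16, 19, 3, 6, 10, 22, 12, 11, 14, 5, 7, 13, 23], [0, 5, 8, 13, 3, 20, 14, 21, 10, 1, 15, 18, 17, 22, 19, 7, 11, 2, 9, 12, 4, 6, 16, 23]), ([0, 10, 15, 12, 22, 7, 19, 11, 1,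 3, 16, 20, 2, 5, 6, 17, 14, 18, 9, 8, 4, 21, 13, 23], [0, 8, 12, 9, 20, 13, 14, 5, 19, 18, 1, 7, 3, 22, 16, 2, 10, 15, 17, 6, 11, 21, 4, 23]), ([0, 11, 8, 7, 3, 6, 10, 21, 17, 12, 1, 13, 14, 22, 20, 18, 16, 9, 4, 15, 2, 19, 5, 23], [0, 10, 20, 4, 18, 22, 5, 3, 2, 17, 6, 1, 9, 11, 12, 19, 16, 8, 15, 21, 14, 7, 13, 23]), ([0, 12, 2, 16, 17, 6, 15, 4, 9, 11, 8, 22, 5, 13, 3, 1, 21, 20, 7, 14, 18, 19, 10, 23], [0, 15, 2, 14, 7, 12, 5, 18, 10, 8, 22, 9, 1, 13, 19, 6, 3, 4, 20, 21, 17, 16, 11, 23]), ([0, 13, 2, 22, 10, 1, 9, 6, 3, 19, 20, 15, 7, 17, 16, 8, 12, 4, 11, 14, 5, 18, 21, 23], [0, 5, 2, 8, 17, 20, 7, 12, 15, 6, 4, 18, 16, 1, 19, 11, 14, 13, 21, 9, 10, 22, 3, 23]), ([0, 14, 15, 4, 13, 2, 7, 9, 6, 20, 3, 11, 1, 22, 19, 18, 5, 12, 16, 17, 8, 21, 10, 23], [0, 12, 5, 10, 3, 16, 8, 6, 20, 7, 22, 11, 17, 4, 1,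 2, 18, 19, 15, 14, 9, 21, 13, 23]), ([0, 15, 4, 22, 7, 9, 10, 17, 14, 6, 13, 19, 12, 5, 11, 21, 8, 18, 2, 16, 20, 3, 1, 23], [0, 22, 18, 21, 2, 13, 9, 4, 16, 5, 6, 14, 12, 10, 8, 1, 19, 7, 17, 11, 20, 15, 3, 23]), ([0, 16, 1, 22, 8, 2, 18, 7, 14, 19, 12, 11, 6, 17, 13, 10, 20, 4, 15, 3, 5, 9, 21, 23], [0, 2, 5, 19, 17, 20, 12, 7, 4, 21, 15, 11, 10, 14, 8, 18, 1, 13, 6, 9, 16, 22, 3, 23]), ([0, 17, 3, 21, 9, 6, 5, 1, 4, 8, 19, 15, 10, 22, 11, 12, 20, 18, 16, 14, 7, 2, 13, 23], [0, 7, 21, 2, 8, 6, 5, 20, 9, 4, 12, 14, 15, 22, 19, 11, 18, 1, 17, 10, 16, 3, 13, 23]), ([0, 18, 6, 3, 2, 21, 1, 5, 16, 12, 7, 19, 8, 9, 17, 15, 13, 11, 4, 22, 10, 20, 14, 23], [0, 6, 4, 3, 18, 7, 2, 10, 12, 13, 20, 17, 9, 16, 22, 15, 8, 14, 1, 11, 21, 5, 19, 23]), ([0, 19, 22, 3, 14, 10, 5, 17, 6, 7, 15, 13, 11, 9, 2, 20, 8, 18, 12, 21,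 16, 4, 1, 23], [0, 22, 14, 3, 21, 6, 8, 9, 16, 13, 5, 12, 18, 11, 4, 10, 20, 7, 17, 1, 15, 19, 2, 23]), ([0, 20, 9, 11, 1, 7, 16, 14, 13, 21, 18, 3, 17, 10, 6, 12, 2, 8, 22, 4, 19, 5, 15, 23], [0, 4, 16, 11, 19, 21, 14, 5, 17, 2, 13, 3, 15, 8, 7, 22, 6, 12, 10, 20, 1, 9, 18, 23]), ([0, 21, 20, 4, 11, 15, 17, 8, 19, 3, 5, 12, 18, 22, 13, 10, 2, 6, 9, 16, 7, 1, 14, 23], [0, 21, 16, 9, 3, 10, 17, 20, 7, 18, 15, 4, 11, 14, 22, 5, 19, 6, 12, 8, 2, 1, 13, 23]), ([0, 22, 18, 21, 2, 13, 9, 4, 16, 5, 6, 14, 12, 10, 8, 1, 19, 7, 17, 11, 20, 15, 3, 23], [0, 15, 4, 22, 7, 9, 10, 17, 14, 6, 13, 19, 12, 5, 11, 21, 8, 18, 2, 16, 20, 3, 1, 23])],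
  [([0, 1, 2, 3, 4, 5, 6, 7, 8, 9, 10, 11, 12, 13, 14, 15, 16, 17, 18, 19, 20, 21, 22, 23], [0, 1, 2, 3, 4, 5, 6, 7, 8, 9, 10, 11, 12, 13, 14, 15, 16, 17, 18, 19, 20, 21, 22, 23]), ([0, 1, 3, 2, 15, 5, 6, 8, 7, 11, 19, 9, 16, 21, 17, 4, 12, 14, 18, 10, 20, 13, 22, 23], [0, 1, 3, 2, 15, 5, 6, 8, 7, 11, 19, 9, 16, 21, 17, 4, 12, 14, 18, 10, 20, 13, 22, 23]), ([0, 1, 4, 11, 14, 3, 7, 5, 17, 13, 22, 6, 12, 10, 19, 2, 21, 20, 9, 15, 16, 8, 18, 23], [0, 1, 15, 5, 2, 7, 11, 6, 21, 18, 13, 3, 12, 9, 4, 19, 20, 8, 22, 14, 17, 16, 10, 23]), ([0, 1, 5, 17, 18, 2, 16, 12, 8, 9, 21, 15, 7, 20, 14, 11, 6, 3, 4, 19, 13, 10, 22, 23], [0, 1, 5, 17, 18, 2, 16, 12, 8, 9, 21, 15, 7, 20, 14, 11, 6, 3, 4, 19, 13, 10, 22, 23]), ([0, 1, 6, 22, 7, 18, 15, 16, 3, 4, 12, 10, 8, 21, 20, 9, 2, 5, 13, 11, 17, 14, 19, 23], [0, 1, 16, 8, 9,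 17, 2, 4, 12, 15, 11, 19, 10, 18, 21, 6, 7, 20, 5, 22, 14, 13, 3, 23]), ([0, 1, 7, 15, 12, 8, 17, 11, 18, 6, 19, 3, 9, 13, 5, 2, 14, 4, 16, 22, 21, 10, 20, 23], [0, 1, 15, 11, 17, 14, 9, 2, 5, 12, 21, 7, 4, 13, 16, 3, 18, 6, 8, 10, 22, 20, 19, 23]), ([0, 1, 8, 10, 7, 13, 21, 20, 14, 2, 18, 22, 19, 4, 3, 12, 15, 6, 9, 17, 11, 16, 5, 23], [0, 1, 9, 14, 13, 22, 17, 4, 2, 18, 3, 20, 15, 5, 8, 16, 21, 19, 10, 12, 7, 6, 11, 23]), ([0, 1, 9, 11, 20, 13, 22, 14, 7, 6, 17, 3, 18, 10, 21, 12, 15, 5, 16, 19, 4, 8, 2, 23], [0, 1, 22, 11, 20, 17, 9, 8, 21, 2, 13, 3, 15, 5, 7, 16, 18, 10, 12, 19, 4, 14, 6, 23]), ([0, 1, 10, 11, 18, 7, 6, 3, 16, 20, 15, 12, 5, 14, 17, 9, 4, 22, 19, 8, 2, 13, 21, 23], [0, 1, 20, 7, 16, 12, 6, 5, 19, 15, 2, 3, 11, 21, 13, 10, 8, 14, 4, 18, 9, 22, 17, 23]), ([0, 1, 11, 22, 3, 10, 14, 6, 8, 5,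 9, 12, 2, 19, 7, 13, 20, 17, 18, 15, 21, 16, 4, 23], [0, 1, 12, 4, 22, 9, 7, 14, 8, 10, 5, 2, 11, 15, 6, 19, 21, 17, 18, 13, 16, 20, 3, 23]), ([0, 1, 12, 14, 17, 7, 19, 10, 22, 18, 8, 3, 15, 9, 20, 11, 4, 13, 21, 5, 2, 16, 6, 23], [0, 1, 20, 11, 16, 19, 22, 5, 10, 13, 7, 15, 2, 17, 3, 12, 21, 4, 9, 6, 14, 18, 8, 23]), ([0, 1, 13, 17, 20, 18, 11, 5, 22, 3, 10, 16, 4, 7, 15, 6, 14, 19, 2, 21, 8, 9, 12, 23], [0, 1, 18, 9, 12, 7, 15, 13, 20, 21, 10, 6, 22, 2, 16, 14, 11, 3, 5, 17, 4, 19, 8, 23]), ([0, 1, 14, 21, 20, 18, 3, 5, 22, 11, 15, 8, 19, 12, 10, 6, 13, 4, 9, 17, 16, 2, 7, 23], [0, 1, 21, 6, 17, 7, 15, 22, 11, 18, 14, 9, 13, 16, 2, 10, 20, 19, 5, 12, 4, 3, 8, 23]), ([0, 1, 15, 13, 3, 18, 20, 9, 7, 11, 14, 8, 4, 12, 17, 16, 21, 19, 5, 10, 6, 2, 22, 23], [0, 1, 21, 4, 12, 18, 20, 8, 11, 7, 19, 9, 13, 3, 10,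 2, 15, 14, 5, 17, 6, 16, 22, 23]), ([0, 1, 16, 14, 4, 6, 8, 17, 9, 5, 19, 18, 7, 22, 11, 12, 2, 15, 3, 21, 10, 20, 13, 23], [0, 1, 16, 18, 4, 9, 5, 12, 6, 8, 20, 14, 15, 22, 3, 17, 2, 7, 11, 10, 21, 19, 13, 23]), ([0, 1, 17, 10, 4, 7, 2, 5, 15, 16, 20, 18, 13, 9, 11, 8, 12, 22, 19, 14, 21, 3, 6, 23], [0, 1, 6, 21, 4, 7, 22, 5, 15, 13, 3, 14, 16, 12, 19, 8, 9, 2, 11, 18, 10, 20, 17, 23]), ([0, 1, 18, 16, 6, 7, 12, 2, 19, 4, 10, 15, 17, 5, 3, 21, 22, 9, 13, 11, 14, 8, 20, 23], [0, 1, 7, 14, 9, 13, 4, 5, 21, 17, 10, 19, 6, 18, 20, 11, 3, 12, 2, 8, 22, 15, 16, 23]), ([0, 1, 19, 15, 4, 18, 16, 10, 14, 2, 6, 8, 22, 11, 17, 21, 20, 13, 9, 5, 7, 12, 3, 23], [0, 1, 9, 22, 4, 19, 10, 20, 11, 18, 7, 13, 21, 17, 8, 3, 6, 14, 5, 2, 16, 15, 12, 23]), ([0, 1, 20, 14, 19, 7, 16, 21, 6, 10, 15, 22, 5, 11, 13, 2, 4, 12, 18, 8,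 9, 17, 3, 23], [0, 1, 15, 22, 16, 12, 8, 5, 19, 20, 9, 13, 17, 14, 3, 10, 6, 21, 18, 4, 2, 7, 11, 23]), ([0, 1, 21, 9, 20, 11, 14, 4, 19, 12, 22, 2, 7, 8, 5, 3, 17, 13, 6, 10, 15, 18, 16, 23], [0, 1, 11, 15, 7, 14, 18, 12, 13, 3, 19, 5, 9, 17, 6, 20, 22, 16, 21, 8, 4, 2, 10, 23]), ([0, 1, 22, 18, 9, 20, 17, 10, 15, 4, 13, 3, 12, 19, 5, 2, 14, 6, 21, 7, 16, 11, 8, 23], [0, 1, 15, 11, 9, 14, 17, 19, 22, 4, 7, 21, 12, 10, 16, 8, 20, 6, 3, 13, 5, 18, 2, 23])],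
  [([0, 1, 2, 3, 4, 5, 6, 7, 8, 9, 10, 11, 12, 13, 14, 15, 16, 17, 18, 19, 20, 21, 22, 23], [0, 1, 2, 3, 4, 5, 6, 7, 8, 9, 10, 11, 12, 13, 14, 15, 16, 17, 18, 19, 20, 21, 22, 23]), ([0, 1, 2, 4, 3, 16, 6, 7, 9, 8, 12, 20, 10, 17, 22, 18, 5, 13, 15, 19, 11, 21, 14, 23], [0, 1, 2, 4, 3, 16, 6, 7, 9, 8, 12, 20, 10, 17, 22, 18, 5, 13, 15, 19, 11, 21, 14, 23]), ([0, 1, 2, 5, 9, 14, 6, 19, 22, 12, 18, 13, 4, 20, 3, 8, 10, 17, 16, 21, 11, 7, 15, 23], [0, 1, 2, 14, 12, 3, 6, 21, 15, 4, 16, 20, 9, 11, 5, 22, 18, 17, 10, 7, 13, 19, 8, 23]), ([0, 1, 2, 6, 12, 7, 22, 13, 20, 3, 5, 9, 15, 18, 19, 14, 8, 21, 10, 4, 17, 16, 11, 23], [0, 1, 2, 9, 19, 10, 3, 5, 16, 11, 18, 22, 4, 7, 15, 12, 21, 20, 13, 14, 8, 17, 6, 23]), ([0, 1, 2, 7, 14, 19, 4, 22, 8, 10, 15, 12, 18, 5, 6, 9, 17, 21, 11, 13, 20, 16, 3, 23], [0, 1, 2, 22, 6,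 13, 14, 3, 8, 15, 9, 18, 11, 19, 4, 10, 21, 16, 12, 5, 20, 17, 7, 23]), ([0, 1, 2, 8, 7, 18, 20, 9, 16, 14, 17, 4, 13, 21, 11, 3, 19, 12, 22, 15, 5, 10, 6, 23], [0, 1, 2, 15, 11, 20, 22, 4, 3, 7, 21, 14, 17, 12, 9, 19, 8, 10, 5, 16, 6, 13, 18, 23]), ([0, 1, 2, 9, 22, 15, 17, 3, 12, 7, 6, 8, 11, 4, 20, 21, 16, 10, 18, 14, 19, 5, 13, 23], [0, 1, 2, 7, 13, 21, 10, 9, 11, 3, 17, 12, 8, 22, 19, 5, 16, 6, 18, 20, 14, 15, 4, 23]), ([0, 1, 2, 10, 21, 20, 11, 8, 17, 13, 22, 14, 5, 7, 15, 16, 6, 9, 3, 18, 4, 12, 19, 23], [0, 1, 2, 18, 20, 12, 16, 13, 7, 17, 3, 6, 21, 9, 11, 14, 15, 8, 19, 22, 5, 4, 10, 23]), ([0, 1, 2, 11, 5, 12, 22, 16, 10, 6, 7, 9, 20, 17, 8, 19, 14, 18, 15, 13, 21, 4, 3, 23], [0, 1, 2, 22, 21, 4, 9, 10, 14, 11, 8, 3, 5, 19, 16, 18, 7, 13, 17, 15, 12, 20, 6, 23]), ([0, 1, 2, 12, 14, 18, 6, 21, 4, 15,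 9, 13, 16, 17, 8, 10, 3, 11, 22, 7, 20, 19, 5, 23], [0, 1, 2, 16, 8, 22, 6, 19, 14, 10, 15, 17, 3, 11, 4, 9, 12, 13, 5, 21, 20, 7, 18, 23]), ([0, 1, 2, 13, 8, 22, 15, 9, 19, 5, 17, 6, 7, 18, 16, 14, 11, 4, 21, 10, 3, 20, 12, 23], [0, 1, 2, 20, 17, 9, 11, 12, 4, 7, 19, 16, 22, 3, 15, 6, 14, 10, 13, 8, 21, 18, 5, 23]), ([0, 1, 2, 14, 15, 3, 13, 22, 12, 19, 7, 11, 18, 20, 5, 21, 9, 17, 8, 16, 6, 4, 10, 23], [0, 1, 2, 5, 21, 14, 20, 10, 18, 16, 22, 11, 8, 6, 3, 4, 19, 17, 12, 9, 13, 15, 7, 23]), ([0, 1, 2, 15, 3, 20, 6, 19, 11, 13, 16, 12, 8, 14, 9, 4, 17, 10, 18, 21, 22, 7, 5, 23], [0, 1, 2, 4, 15, 22, 6, 21, 12, 14, 17, 8, 11, 9, 13, 3, 10, 16, 18, 7, 5, 19, 20, 23]), ([0, 1, 2, 16, 9, 13, 6, 21, 11, 17, 14, 18, 12, 15, 22, 5, 20, 4, 8, 7, 3, 19, 10, 23], [0, 1, 2, 20, 17, 15, 6, 19, 18, 4, 22, 8, 12, 5, 10, 13,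 3, 9, 11, 21, 16, 7, 14, 23]), ([0, 1, 2, 17, 21, 5, 18, 11, 13, 10, 15, 16, 4, 19, 3, 9, 7, 14, 22, 8, 20, 12, 6, 23], [0, 1, 2, 14, 12, 5, 22, 16, 19, 15, 9, 7, 21, 8, 17, 10, 11, 3, 6, 13, 20, 4, 18, 23]), ([0, 1, 2, 18, 7, 12, 5, 14, 20, 4, 22, 9, 15, 6, 11, 13, 21, 8, 10, 3, 16, 17, 19, 23], [0, 1, 2, 19, 9, 6, 13, 4, 17, 11, 18, 14, 5, 15, 7, 12, 20, 21, 3, 22, 8, 16, 10, 23]), ([0, 1, 2, 19, 16, 6, 20, 15, 11, 17, 3, 12, 8, 4, 7, 14, 13, 21, 18, 10, 5, 9, 22, 23], [0, 1, 2, 10, 13, 20, 5, 14, 12, 21, 19, 8, 11, 16, 15, 7, 4, 9, 18, 3, 6, 17, 22, 23]), ([0, 1, 2, 20, 11, 10, 6, 7, 22, 14, 5, 4, 16, 18, 9, 17, 12, 15, 13, 19, 3, 21, 8, 23], [0, 1, 2, 20, 11, 10, 6, 7, 22, 14, 5, 4, 16, 18, 9, 17, 12, 15, 13, 19, 3, 21, 8, 23]), ([0, 1, 2, 21, 9, 6, 18, 12, 4, 3, 14, 13, 16, 10, 19, 17, 15, 7, 22, 11, 5,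 8, 20, 23], [0, 1, 2, 9, 8, 20, 5, 17, 21, 4, 13, 19, 7, 11, 10, 16, 12, 15, 6, 14, 22, 3, 18, 23]), ([0, 1, 2, 22, 10, 13, 12, 8, 3, 19, 21, 17, 5, 15, 4, 6, 9, 16, 14, 11, 7, 18, 20, 23], [0, 1, 2, 8, 14, 12, 15, 20, 7, 16, 4, 19, 6, 5, 18, 13, 17, 11, 21, 9, 22, 10, 3, 23])],
  [([0, 1, 2, 3, 4, 5, 6, 7, 8, 9, 10, 11, 12, 13, 14, 15, 16, 17, 18, 19, 20, 21, 22, 23], [0, 1, 2, 3, 4, 5, 6, 7, 8, 9, 10, 11, 12, 13, 14, 15, 16, 17, 18, 19, 20, 21, 22, 23]), ([0, 1, 2, 3, 6, 17, 15, 9, 12, 16, 22, 8, 11, 21, 5, 4, 7, 14, 18, 10, 13, 20, 19, 23], [0, 1, 2, 3, 15, 14, 4, 16, 11, 7, 19, 12, 8, 20, 17, 6, 9, 5, 18, 22, 21, 13, 10, 23]), ([0, 1, 2, 3, 7, 17, 20, 10, 11, 13, 4, 18, 12, 19, 5, 22, 6, 14, 8, 9, 16, 15, 21, 23], [0, 1, 2, 3, 10, 14, 16, 4, 18, 19, 7, 8, 12, 9, 17, 21, 20, 5, 11, 13, 6, 22, 15, 23]), ([0,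 1, 2, 3, 8, 14, 7, 19, 9, 4, 16, 10, 15, 18, 17, 22, 11, 5, 20, 6, 13, 21, 12, 23], [0, 1, 2, 3, 9, 17, 19, 6, 4, 8, 11, 16, 22, 20, 5, 12, 10, 14, 13, 7, 18, 21, 15, 23]), ([0, 1, 2, 3, 9, 14, 13, 22, 8, 21, 6, 18, 11, 10, 17, 19, 15, 5, 12, 16, 7, 4, 20, 23], [0, 1, 2, 3, 21, 17, 10, 20, 8, 4, 13, 12, 18, 6, 5, 16, 19, 14, 11, 15, 22, 9, 7, 23]), ([0, 1, 2, 3, 10, 5, 11, 12, 19, 22, 4, 6, 7, 20, 14, 16, 15, 17, 21, 8, 13, 18, 9, 23], [0, 1, 2, 3, 10, 5, 11, 12, 19, 22, 4, 6, 7, 20, 14, 16, 15, 17, 21, 8, 13, 18, 9, 23]), ([0, 1, 2, 3, 11, 17, 16, 22, 7, 15, 9, 19, 6, 18, 5, 10, 12, 14, 21, 4, 20, 13, 8, 23], [0, 1, 2, 3, 19, 14, 12, 8, 22, 10, 15, 4, 16, 21, 17, 9, 6, 5, 13, 11, 20, 18, 7, 23]), ([0, 1, 2, 3, 12, 17, 13, 4, 6, 20, 10, 21, 7, 8, 5, 9, 11, 14, 19, 22, 15, 16, 18, 23], [0, 1, 2, 3, 7, 14, 8,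 12, 13, 15, 10, 16, 4, 6, 17, 20, 21, 5, 22, 18, 9, 11, 19, 23]), ([0, 1, 2, 3, 13, 5, 19, 21, 11, 15, 20, 8, 18, 4, 14, 9, 22, 17, 12, 6, 10, 7, 16, 23], [0, 1, 2, 3, 13, 5, 19, 21, 11, 15, 20, 8, 18, 4, 14, 9, 22, 17, 12, 6, 10, 7, 16, 23]), ([0, 1, 2, 3, 15, 17, 6, 19, 13, 11, 8, 22, 16, 10, 5, 18, 20, 14, 4, 21, 12, 7, 9, 23], [0, 1, 2, 3, 18, 14, 6, 21, 10, 22, 13, 9, 20, 8, 17, 4, 12, 5, 15, 7, 16, 19, 11, 23]), ([0, 1, 2, 3, 16, 17, 11, 8, 20, 6, 19, 9, 15, 4, 5, 21, 13, 14, 10, 18, 7, 12, 22, 23], [0, 1, 2, 3, 13, 14, 9, 20, 7, 11, 18, 6, 21, 16, 17, 12, 4, 5, 19, 10, 8, 15, 22, 23]), ([0, 1, 2, 3, 18, 5, 15, 20, 22, 19, 21, 16, 13, 12, 14, 6, 11, 17, 4, 9, 7, 10, 8, 23], [0, 1, 2, 3, 18, 5, 15, 20, 22, 19, 21, 16, 13, 12, 14, 6, 11, 17, 4, 9, 7, 10, 8, 23]), ([0, 1, 2, 3, 19, 14, 12, 8, 22, 10, 15,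 4, 16, 21, 17, 9, 6, 5, 13, 11, 20, 18, 7, 23], [0, 1, 2, 3, 11, 17, 16, 22, 7, 15, 9, 19, 6, 18, 5, 10, 12, 14, 21, 4, 20, 13, 8, 23]), ([0, 1, 2, 3, 20, 5, 8, 18, 6, 16, 13, 19, 21, 10, 14, 22, 9, 17, 7, 11, 4, 12, 15, 23], [0, 1, 2, 3, 20, 5, 8, 18, 6, 16, 13, 19, 21, 10, 14, 22, 9, 17, 7, 11, 4, 12, 15, 23]), ([0, 1, 2, 3, 21, 5, 16, 13, 9, 8, 18, 15, 20, 7, 14, 11, 6, 17, 10, 22, 12, 4, 19, 23], [0, 1, 2, 3, 21, 5, 16, 13, 9, 8, 18, 15, 20, 7, 14, 11, 6, 17, 10, 22, 12, 4, 19, 23]), ([0, 1, 2, 3, 22, 17, 8, 11, 10, 19, 6, 15, 9, 13, 5, 7, 4, 14, 20, 12, 21, 18, 16, 23], [0, 1, 2, 3, 16, 14, 10, 15, 6, 12, 8, 7, 19, 13, 17, 11, 22, 5, 21, 9, 18, 20, 4, 23])],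
  [([0, 1, 2, 3, 4, 5, 6, 7, 8, 9, 10, 11, 12, 13, 14, 15, 16, 17, 18, 19, 20, 21, 22, 23], [0, 1, 2, 3, 4, 5, 6, 7, 8, 9, 10, 11, 12, 13, 14, 15, 16, 17, 18, 19, 20, 21, 22, 23]), ([0, 1, 2, 3, 4, 14, 15, 10, 21, 8, 12, 19, 7, 22, 17, 18, 13, 5, 6, 20, 11, 9, 16, 23], [0, 1, 2, 3, 4, 17, 18, 12, 9, 21, 7, 20, 10, 16, 5, 6, 22, 14, 15, 11, 19, 8, 13, 23]), ([0, 1, 2, 3, 4, 17, 18, 12, 9, 21, 7, 20, 10, 16, 5, 6, 22, 14, 15, 11, 19, 8, 13, 23], [0, 1, 2, 3, 4, 14, 15, 10, 21, 8, 12, 19, 7, 22, 17, 18, 13, 5, 6, 20, 11, 9, 16, 23])]]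

/-- Doubling. -/
def tabA : List ℕ × List ℕ := ([0, 2, 4, 6, 8, 10, 12, 14, 16, 18, 20, 22, 1, 3, 5, 7, 9, 11, 13, 15, 17, 19, 21, 23], [0, 12, 1, 13, 2, 14, 3, 15, 4, 16, 5, 17, 6, 18, 7, 19, 8, 20, 9, 21, 10, 22, 11, 23])

/-- An element of order five normalising the doubling. -/
def tabB : List ℕ × List ℕ := ([0, 1, 8, 4, 18, 5, 9, 22, 6, 16, 17, 10, 3, 12, 15, 20, 2, 7, 13, 14, 21, 19, 11, 23], [0, 1, 16, 12, 3, 5, 8, 17, 2, 6, 11, 22, 13, 18, 19, 14, 9, 10, 4, 21, 15, 20, 7, 23])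

/-- Constraints between base points under the element of order five. -/
def levCons : List (List (ℕ × ℕ)) := [[(0, 1), (0, 2), (0, 3), (0, 4)], [(1, 1), (1, 2), (1, 3), (1, 4)], [(2, 1), (2, 2), (2, 3), (2, 4)], [], [], [(4, 1)], [(6, 1), (6, 2), (6, 3), (6, 4)]]

/-- A normaliser of the element of order five. -/
def tabG22 : List ℕ × List ℕ := ([0, 5, 6, 22, 10, 1, 8, 12, 16, 9, 3, 13, 17, 11, 20, 19, 2, 18, 7, 14, 15, 21, 4, 23], [0, 5, 16, 10, 22, 1, 2, 18, 6, 9, 4, 13, 7, 11, 19, 20, 8, 12, 17, 15, 14, 21, 3, 23])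

/-- A further element. -/
def tabK22 : List ℕ × List ℕ := ([0, 5, 6, 22, 10, 1, 8, 12, 16, 9, 3, 13, 17, 11, 20, 19, 2, 18, 7, 14, 15, 21, 4, 23], [0, 5, 16, 10, 22, 1, 2, 18, 6, 9, 4, 13, 7, 11, 19, 20, 8, 12, 17, 15, 14, 21, 3, 23])

/-- The centraliser of the element of order five. -/
def cent22 : List (List ℕ × List ℕ) := [([0, 1, 2, 3, 4, 5, 6, 7, 8, 9, 10, 11, 12, 13, 14, 15, 16, 17, 18, 19, 20, 21, 22, 23], [0, 1, 2, 3, 4, 5, 6, 7, 8, 9, 10, 11, 12, 13, 14, 15, 16, 17, 18, 19, 20, 21, 22, 23]), ([0, 1, 6, 18, 13, 5, 16, 11, 9, 2, 7, 17, 4, 3, 20, 21, 8, 22, 12, 15, 19, 14, 10, 23], [0, 1, 9, 13, 12, 5, 2, 10, 16, 8, 22, 7, 18, 4, 21, 19, 6, 11, 3, 20, 14, 15, 17, 23]), ([0, 1, 8, 4, 18, 5, 9, 22, 6, 16, 17, 10, 3, 12, 15, 20, 2, 7, 13, 14, 21, 19, 11, 23], [0, 1, 16, 12, 3, 5, 8, 17, 2, 6, 11, 22, 13,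 18, 19, 14, 9, 10, 4, 21, 15, 20, 7, 23]), ([0, 1, 9, 13, 12, 5, 2, 10, 16, 8, 22, 7, 18, 4, 21, 19, 6, 11, 3, 20, 14, 15, 17, 23], [0, 1, 6, 18, 13, 5, 16, 11, 9, 2, 7, 17, 4, 3, 20, 21, 8, 22, 12, 15, 19, 14, 10, 23]), ([0, 1, 16, 12, 3, 5, 8, 17, 2, 6, 11, 22, 13, 18, 19, 14, 9, 10, 4, 21, 15, 20, 7, 23], [0, 1, 8, 4, 18, 5, 9, 22, 6, 16, 17, 10, 3, 12, 15, 20, 2, 7, 13, 14, 21, 19, 11, 23])]

/-- Relations. -/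
def outRels22 : List (List ℕ) := [[3, 2, 2, 2], [0, 3, 0, 3, 0, 3, 0, 3, 0, 3, 0, 3, 0, 3], [0, 0, 2, 0, 0, 2, 0, 0, 2, 0, 0, 2, 0, 0, 2, 0, 0, 2, 0, 0, 2, 0, 0, 2, 0, 0, 2, 0, 0, 2, 0, 0, 2]]

/-- Transversals. -/
def outLevels22 : TokLevels := [
  [(1, []), (2, [(false, 0)]), (3, [(false, 1), (true, 0)]), (4, [(false, 0), (false, 0)]), (5, [(false, 2)]), (6, [(false, 2), (false, 0)]), (7, [(true, 2), (true, 0)]), (8, [(false, 1), (false, 0)]), (9, [(false, 1), (false, 2), (false, 0)]), (10, [(false, 0), (false, 2)]), (11, [(true, 1), (false, 0), (false, 2)]), (12, [(true, 0)]), (13, [(true, 1), (true, 0)]), (14, [(true, 0), (false, 2)]), (15, [(false, 1), (true, 0), (false, 2)]), (16, [(true, 1), (false, 0)]), (17, [(false, 2), (true, 0)]), (18, [(false, 1), (false, 0), (false, 0)]), (19, [(true, 1), (true,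 0), (false, 2)]), (20, [(false, 0), (false, 0), (false, 2)]), (21, [(false, 0), (true, 2), (false, 0), (false, 0)]), (22, [(true, 2), (false, 0), (false, 0)])],
  [(2, []), (3, [(true, 0), (true, 2), (true, 1), (false, 0), (true, 1), (false, 0)]), (4, [(true, 0), (false, 1), (false, 2), (false, 0), (false, 0), (false, 0)]), (5, [(true, 0), (true, 1), (false, 2), (true, 0), (true, 0)]), (6, [(false, 1), (false, 1)]), (7, [(true, 0), (true, 2), (true, 1), (false, 0), (true, 2), (false, 0)]), (8, [(false, 1)]), (9, [(true, 2), (false, 1), (false, 2)]), (10, [(false, 0), (true, 1), (true, 0), (false, 2), (false, 0)]), (11, [(true, 0), (false, 1), (false, 2), (false, 1), (false, 0)]), (12, [(true, 2), (true, 0), (true, 0), (false, 2), (true, 0), (false, 2)]), (13, [(true, 2), (false, 0), (false, 1), (true, 2), (true,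 0), (false, 2)]), (14, [(true, 2), (true, 0), (false, 1), (false, 0), (false, 2), (true, 0)]), (15, [(true, 0), (true, 2), (true, 0), (true, 0)]), (16, [(true, 1)]), (17, [(true, 0), (false, 1), (true, 2), (false, 0)]), (18, [(true, 0), (true, 2), (true, 2), (true, 0), (true, 1), (false, 0)]), (19, [(true, 0), (true, 0), (true, 2), (false, 0), (false, 2)]), (20, [(false, 0), (true, 2), (false, 1), (false, 0), (false, 2)]), (21, [(true, 2), (false, 0), (true, 1), (true, 0), (true, 2), (true, 0), (false, 1)]), (22, [(false, 0), (false, 2), (true, 0), (true, 0), (false, 2)])],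
  [(3, []), (4, [(true, 0), (false, 2), (true, 1), (false, 0), (true, 2), (false, 0), (false, 1), (true, 2), (true, 0), (true, 2)]), (5, [(true, 0), (false, 2), (true, 1), (false, 0), (false, 0), (false, 0), (false, 2), (false, 0)]), (6, [(true, 1), (true, 1), (true, 0), (true, 2), (true, 2), (false, 1), (false, 0)]), (7, [(false, 1), (true, 0), (true, 2), (true, 1), (false, 0), (true, 2), (false, 0), (false, 1)]), (8, [(true, 0), (false, 2), (true, 0), (false, 1), (false, 2), (false, 0), (true, 0), (true, 1), (true, 0), (false, 2), (false, 1), (false, 0)]), (9, [(true, 0), (true, 1), (true, 2), (true, 1), (false, 0), (true, 0), (true, 2), (true, 0), (true, 0), (true, 1)]), (10, [(false, 0), (false, 0), (true, 2), (false, 1), (false, 0), (true, 0), (false, 1), (false, 0), (false, 2), (true, 0), (true, 0)]),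 (11, [(true, 0), (true, 1), (true, 2), (true, 1), (false, 0), (false, 0), (true, 1), (false, 2), (false, 0), (false, 1), (false, 2)]), (12, [(true, 0), (false, 2), (true, 0), (false, 1), (false, 2), (false, 0), (false, 0), (true, 1), (true, 0), (true, 2), (false, 1), (false, 0)]), (13, [(true, 0), (false, 2), (true, 0), (false, 1), (false, 2), (false, 0), (true, 0), (true, 0), (false, 2), (true, 0), (false, 1), (false, 2), (true, 0), (true, 2)]), (14, [(true, 0), (true, 1), (true, 2), (true, 1), (false, 0), (true, 0), (true, 1), (true, 0), (true, 2), (false, 0)]), (15, [(false, 0), (false, 0), (false, 2), (false, 0), (true, 0), (true, 0), (false, 2), (true, 0), (false, 1), (true, 0), (false, 2), (true, 0)]), (16, [(true, 0), (true, 2), (false, 0), (false, 1), (true, 0), (true, 0), (true, 0), (true, 2), (false,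 0), (false, 1), (false, 2)]), (17, [(true, 2), (true, 0), (false, 2), (false, 0), (false, 0), (true, 2), (true, 0), (true, 2), (false, 1), (true, 0)]), (18, [(true, 2), (true, 0), (true, 1), (false, 2), (true, 0), (false, 0), (true, 1), (false, 2), (false, 0), (false, 2)]), (19, [(true, 1), (true, 0), (true, 2), (true, 0), (true, 0), (false, 1)]), (20, [(true, 1), (false, 0), (false, 2), (false, 0), (false, 1), (true, 0), (false, 2), (true, 0), (true, 0), (false, 2), (false, 0), (false, 0), (false, 2), (true, 0)]), (21, [(true, 1), (true, 1), (true, 2), (true, 0), (false, 2), (false, 0), (false, 0)]), (22, [(true, 2), (true, 0), (true, 1), (false, 2), (true, 0), (true, 2), (true, 0), (true, 0), (true, 0), (false, 2), (true, 0)])],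
  [(4, []), (6, [(true, 0), (false, 2), (false, 0), (false, 1), (false, 0), (true, 0), (false, 1), (false, 2), (false, 1), (false, 0), (false, 1), (false, 0), (true, 2), (false, 1), (false, 0), (false, 2), (false, 1)]), (7, [(true, 0), (true, 0), (true, 2), (false, 0), (false, 2), (false, 1), (false, 1), (false, 0), (true, 2), (true, 0), (true, 1), (false, 0), (false, 2), (true, 2), (true, 0), (true, 2), (false, 1), (true, 0), (false, 1)]), (8, [(false, 2), (false, 0), (false, 2), (true, 1), (true, 0), (false, 2), (true, 0), (false, 1), (true, 2), (false, 0), (true, 0), (true, 0), (true, 0), (true, 2), (true, 1), (false, 0), (true, 0), (true, 2), (true, 1), (true, 2), (false, 0), (true, 1), (false, 0)]), (9, [(true, 0), (false, 2), (false, 0), (false, 1), (false, 0), (true, 0), (false, 1), (false, 2), (false,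 1), (false, 0), (false, 1), (false, 0), (true, 2), (false, 1), (false, 0), (true, 2)]), (10, [(false, 0), (true, 1), (false, 2), (false, 0), (false, 2), (true, 0), (true, 0), (true, 2), (false, 0), (false, 2), (true, 0), (false, 1), (false, 0), (false, 2), (false, 2), (false, 0), (true, 2), (true, 0), (true, 0), (true, 0), (false, 2), (true, 0), (false, 1)]), (11, [(true, 0), (true, 1), (true, 2), (false, 0), (false, 1), (false, 0), (true, 0), (true, 2), (true, 1), (false, 0), (true, 2), (false, 0), (true, 2), (false, 0), (true, 2), (false, 0), (false, 0), (false, 2), (true, 2), (true, 0), (true, 1), (false, 2), (true, 0), (false, 1)]), (12, [(true, 1), (true, 2), (true, 2)]), (13, [(true, 0), (false, 2), (false, 0), (false, 1), (false, 0), (true, 0), (false, 1), (false, 2), (false, 1), (false, 0), (true, 0),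 (false, 1), (false, 0), (false, 2), (false, 2), (false, 0), (true, 0), (true, 2), (false, 0), (false, 2), (false, 0), (false, 2)]), (15, [(true, 2), (false, 0), (false, 0), (true, 2), (true, 0), (false, 0), (false, 0), (true, 2), (false, 1), (false, 0)]), (16, [(true, 0), (true, 0), (true, 2), (false, 0), (false, 2), (false, 1), (false, 1), (true, 2), (false, 0), (true, 2), (false, 0), (false, 0), (false, 2), (false, 0), (true, 1), (false, 2), (false, 0), (true, 2)]), (18, [(true, 0), (false, 2), (false, 0), (false, 1), (false, 0), (true, 0), (false, 1), (false, 2), (false, 1), (false, 0), (true, 2), (false, 0), (false, 0), (true, 2), (true, 0), (true, 2), (true, 0), (true, 0), (false, 2), (true, 0), (true, 2)]), (19, [(true, 0), (false, 2), (false, 0), (false, 1), (false, 0), (true, 0), (false, 1), (false,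 2), (false, 1), (false, 0), (true, 2), (false, 0), (false, 0), (true, 2), (true, 0), (true, 0), (false, 1), (true, 0), (false, 1), (false, 2), (false, 0)]), (20, [(true, 2), (true, 0), (false, 2), (false, 0), (false, 0), (true, 0), (true, 2), (true, 1), (false, 0), (false, 2), (false, 1), (false, 0)]), (21, [(true, 2), (true, 0), (true, 2), (false, 1), (true, 0), (false, 0), (true, 2), (false, 1), (false, 0), (false, 2), (true, 0), (false, 2), (true, 0), (false, 1), (false, 2), (false, 0), (true, 0), (true, 2), (true, 1), (true, 2), (false, 0), (true, 2), (false, 0)]), (22, [(true, 0), (true, 0), (true, 2), (false, 0), (false, 2), (false, 1), (false, 1), (true, 2), (false, 0), (false, 2), (true, 1), (true, 0), (false, 2), (true, 0), (true, 1), (true, 0), (true, 2), (false, 0), (false, 1)])],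
  [(5, []), (14, [(false, 2), (true, 0), (true, 1), (false, 2), (true, 0), (true, 1), (true, 0), (true, 1), (true, 2), (true, 1), (false, 0), (true, 0), (true, 1), (true, 0), (true, 2), (false, 0), (true, 2), (true, 0), (true, 2), (false, 1), (true, 0), (false, 0), (true, 2), (false, 1), (false, 0), (false, 2), (true, 1), (true, 1), (true, 2), (true, 0), (true, 2), (true, 1), (false, 0), (false, 0)]), (17, [(false, 1), (false, 0), (false, 0), (false, 2), (false, 0), (true, 0), (false, 1), (false, 2), (false, 1), (false, 0), (true, 0), (false, 2), (true, 0), (false, 1), (false, 2), (false, 0), (true, 2), (true, 0), (true, 2), (true, 0), (false, 2), (false, 0)])],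
  [(6, [])],
  [(7, [])]]

/-- A base. -/
def outBase22 : List (Fin 24) := [1, 2, 3, 4, 5, 6, 7]

/-- Witnesses of the surviving cases. -/
def outWit22 : List (ℕ × ℕ × ℕ × Bool × (List ℕ × List ℕ)) := [(1, 0, 0, false, ([0, 1, 2, 3, 4, 5, 6, 7, 8, 9, 10, 11, 12, 13, 14, 15, 16, 17, 18, 19, 20, 21, 22, 23], [0, 1, 2, 3, 4, 5, 6, 7, 8, 9, 10, 11, 12, 13, 14, 15, 16, 17, 18, 19, 20, 21, 22, 23])), (2, 4, 4, true, ([0, 9, 8, 1, 2, 22, 6, 7, 12, 18, 17, 15, 13, 4, 19, 5, 3, 14, 16, 20, 10, 11, 21, 23], [0, 3, 4, 16, 13, 15, 6, 7, 2, 1, 20, 21, 8, 12, 17, 11, 18, 10, 9, 14, 19, 22, 5, 23])), (3, 1, 1, false, ([0, 1, 8, 4, 18, 5, 9, 22, 6, 16, 17, 10, 3, 12, 15, 20, 2, 7, 13, 14, 21, 19, 11, 23], [0, 1, 16, 12, 3, 5, 8, 17, 2, 6, 11, 22, 13, 18, 19, 14, 9, 10, 4, 21, 15, 20, 7, 23])), (4, 3, 3, false, ([0, 1, 16, 12,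 3, 5, 8, 17, 2, 6, 11, 22, 13, 18, 19, 14, 9, 10, 4, 21, 15, 20, 7, 23], [0, 1, 8, 4, 18, 5, 9, 22, 6, 16, 17, 10, 3, 12, 15, 20, 2, 7, 13, 14, 21, 19, 11, 23])), (5, 2, 2, false, ([0, 1, 9, 13, 12, 5, 2, 10, 16, 8, 22, 7, 18, 4, 21, 19, 6, 11, 3, 20, 14, 15, 17, 23], [0, 1, 6, 18, 13, 5, 16, 11, 9, 2, 7, 17, 4, 3, 20, 21, 8, 22, 12, 15, 19, 14, 10, 23])), (6, 2, 2, true, ([0, 9, 12, 2, 16, 22, 18, 21, 6, 3, 14, 17, 1, 13, 5, 10, 8, 7, 4, 19, 11, 20, 15, 23], [0, 12, 3, 9, 18, 14, 8, 17, 16, 1, 15, 20, 2, 13, 10, 22, 4, 11, 6, 19, 21, 7, 5, 23])), (7, 3, 3, true, ([0, 9, 6, 16, 4, 22, 3, 15, 18, 8, 7, 14, 2, 1, 10, 11, 12, 21, 13, 5, 20, 19, 17, 23], [0, 13, 12, 6, 4, 19, 2, 10, 9, 1, 14, 15, 16, 18, 11, 7, 3, 22, 8, 21, 20, 17, 5, 23])), (8, 1, 1, true, ([0, 9, 3, 13, 1, 22, 12, 14, 8, 6, 15, 21, 4, 16, 20,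 19, 18, 17, 2, 11, 5, 10, 7, 23], [0, 4, 18, 2, 12, 20, 9, 22, 8, 1, 21, 19, 6, 3, 7, 10, 13, 17, 16, 15, 14, 11, 5, 23])), (9, 4, 4, false, ([0, 1, 6, 18, 13, 5, 16, 11, 9, 2, 7, 17, 4, 3, 20, 21, 8, 22, 12, 15, 19, 14, 10, 23], [0, 1, 9, 13, 12, 5, 2, 10, 16, 8, 22, 7, 18, 4, 21, 19, 6, 11, 3, 20, 14, 15, 17, 23])), (10, 0, 0, true, ([0, 9, 18, 4, 13, 22, 8, 17, 3, 12, 21, 7, 16, 2, 11, 20, 6, 15, 1, 10, 19, 5, 14, 23], [0, 18, 13, 8, 3, 21, 16, 11, 6, 1, 19, 14, 9, 4, 22, 17, 12, 7, 2, 20, 15, 10, 5, 23]))]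

/-- An outer element. -/
def tabTau22 : List ℕ × List ℕ := ([23, 22, 11, 15, 17, 9, 19, 13, 20, 5, 16, 2, 21, 7, 18, 3, 10, 4, 14, 6, 8, 12, 1, 0], [23, 22, 11, 15, 17, 9, 19, 13, 20, 5, 16, 2, 21, 7, 18, 3, 10, 4, 14, 6, 8, 12, 1, 0])

/-- A normaliser of the element of order five. -/
def tabG12 : List ℕ × List ℕ := ([0, 1, 16, 12, 4, 23, 9, 15, 8, 2, 20, 14, 18, 3, 10, 7, 6, 19, 13, 22, 11, 17, 21, 5], [0, 1, 9, 13, 4, 23, 16, 15, 8, 6, 14, 20, 3, 18, 11, 7, 2, 21, 12, 17, 10, 22, 19, 5])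

/-- A further element. -/
def tabK12 : List ℕ × List ℕ := ([1, 0, 3, 2, 8, 23, 18, 15, 4, 13, 19, 21, 16, 9, 17, 7, 12, 14, 6, 10, 22, 11, 20, 5], [1, 0, 3, 2, 8, 23, 18, 15, 4, 13, 19, 21, 16, 9, 17, 7, 12, 14, 6, 10, 22, 11, 20, 5])

/-- The centraliser of the element of order five. -/
def cent12 : List (List ℕ × List ℕ) := [([1, 0, 4, 8, 6, 23, 13, 20, 18, 12, 14, 19, 2, 16, 7, 22, 3, 15, 9, 17, 11, 10, 21, 5], [1, 0, 12, 16, 2, 23, 4, 14, 3, 18, 21, 20, 9, 6, 10, 17, 13, 19, 8, 11, 7, 22, 15, 5]), ([1, 0, 13, 9, 16, 23, 3, 19, 12, 4, 20, 15, 6, 8, 11, 10, 18, 21, 2, 22, 17, 7, 14, 5], [1, 0, 18, 6, 9, 23, 12, 21, 13, 3, 15, 14, 8, 2, 22, 11, 4, 20, 16, 7, 10, 17, 19, 5]), ([1, 0, 3, 2, 8, 23, 18, 15, 4, 13, 19, 21, 16, 9, 17, 7, 12, 14, 6, 10, 22, 11, 20, 5], [1, 0, 3, 2, 8, 23, 18, 15, 4, 13, 19, 21, 16,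 9, 17, 7, 12, 14, 6, 10, 22, 11, 20, 5]), ([1, 0, 18, 6, 9, 23, 12, 21, 13, 3, 15, 14, 8, 2, 22, 11, 4, 20, 16, 7, 10, 17, 19, 5], [1, 0, 13, 9, 16, 23, 3, 19, 12, 4, 20, 15, 6, 8, 11, 10, 18, 21, 2, 22, 17, 7, 14, 5]), ([1, 0, 12, 16, 2, 23, 4, 14, 3, 18, 21, 20, 9, 6, 10, 17, 13, 19, 8, 11, 7, 22, 15, 5], [1, 0, 4, 8, 6, 23, 13, 20, 18, 12, 14, 19, 2, 16, 7, 22, 3, 15, 9, 17, 11, 10, 21, 5]), ([0, 1, 2, 3, 4, 5, 6, 7, 8, 9, 10, 11, 12, 13, 14, 15, 16, 17, 18, 19, 20, 21, 22, 23], [0, 1, 2, 3, 4, 5, 6, 7, 8, 9, 10, 11, 12, 13, 14, 15, 16, 17, 18, 19, 20, 21, 22, 23]), ([0, 1, 6, 18, 13, 5, 16, 11, 9, 2, 7, 17, 4, 3, 20, 21, 8, 22, 12, 15, 19, 14, 10, 23], [0, 1, 9, 13, 12, 5, 2, 10, 16, 8, 22, 7, 18, 4, 21, 19, 6, 11, 3, 20, 14, 15, 17, 23]), ([0, 1, 8, 4, 18, 5, 9, 22, 6, 16, 17, 10, 3, 12, 15, 20, 2, 7, 13,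 14, 21, 19, 11, 23], [0, 1, 16, 12, 3, 5, 8, 17, 2, 6, 11, 22, 13, 18, 19, 14, 9, 10, 4, 21, 15, 20, 7, 23]), ([0, 1, 9, 13, 12, 5, 2, 10, 16, 8, 22, 7, 18, 4, 21, 19, 6, 11, 3, 20, 14, 15, 17, 23], [0, 1, 6, 18, 13, 5, 16, 11, 9, 2, 7, 17, 4, 3, 20, 21, 8, 22, 12, 15, 19, 14, 10, 23]), ([0, 1, 16, 12, 3, 5, 8, 17, 2, 6, 11, 22, 13, 18, 19, 14, 9, 10, 4, 21, 15, 20, 7, 23], [0, 1, 8, 4, 18, 5, 9, 22, 6, 16, 17, 10, 3, 12, 15, 20, 2, 7, 13, 14, 21, 19, 11, 23])]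

/-- Relations. -/
def outRels12 : List (List ℕ) := [[3, 3], [0, 2, 0, 2, 0, 2, 0, 2, 0, 2, 0, 2, 0, 2, 0, 2, 0, 2, 0, 2, 0, 2], [0, 0, 2, 0, 0, 2, 0, 0, 2, 0, 0, 2, 0, 0, 2, 0, 0, 2], [0, 1, 3, 0, 1, 3, 0, 1, 3, 0, 1, 3, 0, 1, 3, 0, 1, 3]]

/-- Transversals. -/
def outLevels12 : TokLevels := [
  [(0, []), (1, [(false, 3)]), (2, [(false, 0), (false, 3)]), (3, [(false, 3), (false, 0), (false, 3)]), (4, [(false, 0), (false, 0), (false, 3)]), (6, [(true, 0), (true, 0), (false, 3)]), (8, [(false, 1), (false, 0), (false, 3)]), (9, [(true, 2), (false, 0), (false, 3)]), (12, [(true, 0), (false, 3)]), (13, [(true, 1), (true, 0), (false, 3)]), (16, [(false, 2), (false, 0), (false, 3)]), (18, [(false, 2), (true, 0), (false, 3)])],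
  [(1, []), (2, [(false, 0)]), (3, [(false, 1), (true, 0)]), (4, [(false, 0), (false, 0)]), (6, [(true, 0), (true, 0)]), (8, [(false, 1), (false, 0)]), (9, [(true, 2), (false, 0)]), (12, [(true, 0)]), (13, [(true, 1), (true, 0)]), (16, [(false, 2), (false, 0)]), (18, [(false, 2), (true, 0)])],
  [(2, []), (3, [(true, 0), (true, 2), (true, 1), (false, 0), (false, 1)]), (4, [(true, 0), (false, 2), (false, 0), (false, 2), (false, 0)]), (6, [(false, 1), (false, 1)]), (8, [(false, 1)]), (9, [(true, 2)]), (12, [(false, 0), (false, 0), (true, 1), (true, 2), (false, 0)]), (13, [(true, 0), (true, 0), (true, 2), (true, 0), (false, 1), (false, 0)]), (16, [(false, 2)]), (18, [(true, 0), (true, 2), (true, 1), (false, 0)])],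
  [(3, []), (4, [(true, 2), (true, 0), (true, 2), (true, 0), (true, 2), (false, 0)]), (6, [(true, 1), (true, 1), (true, 0), (false, 2), (true, 1), (false, 2), (false, 0)]), (8, [(false, 0), (true, 1), (true, 2), (true, 0)]), (9, [(false, 2), (true, 0), (true, 2), (false, 0), (false, 1), (false, 0)]), (12, [(false, 2), (false, 0), (true, 2), (false, 1), (false, 0), (false, 0)]), (13, [(true, 2), (true, 0), (false, 2), (false, 0), (true, 1), (false, 0)]), (16, [(true, 0), (true, 0), (false, 2), (false, 0), (false, 0)]), (18, [(true, 0), (true, 0), (true, 2), (false, 0), (false, 0)])],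
  [(4, []), (6, [(true, 0), (true, 0), (false, 2), (false, 0), (false, 0), (true, 1), (true, 1), (false, 0), (true, 1), (true, 2), (true, 0), (false, 1)]), (8, [(false, 0), (false, 2), (false, 1), (true, 0), (true, 2), (false, 0), (false, 0), (false, 2), (false, 2), (false, 0)]), (9, [(true, 0), (true, 1), (true, 0), (false, 2), (false, 0), (true, 2), (true, 0), (false, 2), (false, 1), (true, 0), (true, 0), (false, 0), (false, 0), (false, 2), (false, 0), (false, 1), (false, 0)]), (12, [(true, 1), (true, 1), (false, 2), (false, 2)]), (13, [(true, 2), (true, 1)]), (16, [(true, 0), (true, 2), (false, 1), (true, 2), (false, 0), (false, 1), (false, 1), (true, 0), (true, 2), (true, 0), (true, 2), (false, 0), (false, 0), (true, 2), (false, 0), (false, 0), (false, 2), (false, 0)]), (18, [(true, 1), (false, 2), (false,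 1)])]]

/-- A base. -/
def outBase12 : List (Fin 24) := [0, 1, 2, 3, 4]

/-- Witnesses of the surviving cases. -/
def outWit12 : List (ℕ × ℕ × ℕ × Bool × (List ℕ × List ℕ)) := [(1, 5, 5, false, ([0, 1, 2, 3, 4, 5, 6, 7, 8, 9, 10, 11, 12, 13, 14, 15, 16, 17, 18, 19, 20, 21, 22, 23], [0, 1, 2, 3, 4, 5, 6, 7, 8, 9, 10, 11, 12, 13, 14, 15, 16, 17, 18, 19, 20, 21, 22, 23])), (2, 4, 5, true, ([0, 9, 8, 1, 2, 22, 6, 7, 12, 18, 17, 15, 13, 4, 19, 5, 3, 14, 16, 20, 10, 11, 21, 23], [0, 3, 4, 16, 13, 15, 6, 7, 2, 1, 20, 21, 8, 12, 17, 11, 18, 10, 9, 14, 19, 22, 5, 23])), (3, 6, 5, false, ([0, 1, 8, 4, 18, 5, 9, 22, 6, 16, 17, 10, 3, 12, 15, 20, 2, 7, 13, 14, 21, 19, 11, 23], [0, 1, 16, 12, 3, 5, 8, 17, 2, 6, 11, 22, 13, 18, 19, 14, 9, 10, 4, 21, 15, 20, 7, 23])), (4, 8, 5, false, ([0, 1, 16, 12, 3, 5, 8, 17, 2, 6, 11,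 22, 13, 18, 19, 14, 9, 10, 4, 21, 15, 20, 7, 23], [0, 1, 8, 4, 18, 5, 9, 22, 6, 16, 17, 10, 3, 12, 15, 20, 2, 7, 13, 14, 21, 19, 11, 23])), (5, 7, 5, false, ([0, 1, 9, 13, 12, 5, 2, 10, 16, 8, 22, 7, 18, 4, 21, 19, 6, 11, 3, 20, 14, 15, 17, 23], [0, 1, 6, 18, 13, 5, 16, 11, 9, 2, 7, 17, 4, 3, 20, 21, 8, 22, 12, 15, 19, 14, 10, 23])), (6, 0, 5, true, ([0, 9, 12, 2, 16, 22, 18, 21, 6, 3, 14, 17, 1, 13, 5, 10, 8, 7, 4, 19, 11, 20, 15, 23], [0, 12, 3, 9, 18, 14, 8, 17, 16, 1, 15, 20, 2, 13, 10, 22, 4, 11, 6, 19, 21, 7, 5, 23])), (7, 1, 5, true, ([0, 9, 6, 16, 4, 22, 3, 15, 18, 8, 7, 14, 2, 1, 10, 11, 12, 21, 13, 5, 20, 19, 17, 23], [0, 13, 12, 6, 4, 19, 2, 10, 9, 1, 14, 15, 16, 18, 11, 7, 3, 22, 8, 21, 20, 17, 5, 23])), (8, 3, 5, true, ([0, 9, 3, 13, 1, 22, 12, 14, 8, 6, 15, 21, 4, 16, 20, 19, 18, 17, 2, 11, 5,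 10, 7, 23], [0, 4, 18, 2, 12, 20, 9, 22, 8, 1, 21, 19, 6, 3, 7, 10, 13, 17, 16, 15, 14, 11, 5, 23])), (9, 9, 5, false, ([0, 1, 6, 18, 13, 5, 16, 11, 9, 2, 7, 17, 4, 3, 20, 21, 8, 22, 12, 15, 19, 14, 10, 23], [0, 1, 9, 13, 12, 5, 2, 10, 16, 8, 22, 7, 18, 4, 21, 19, 6, 11, 3, 20, 14, 15, 17, 23])), (10, 2, 5, true, ([0, 9, 18, 4, 13, 22, 8, 17, 3, 12, 21, 7, 16, 2, 11, 20, 6, 15, 1, 10, 19, 5, 14, 23], [0, 18, 13, 8, 3, 21, 16, 11, 6, 1, 19, 14, 9, 4, 22, 17, 12, 7, 2, 20, 15, 10, 5, 23]))]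

/-- An outer element. -/
def tabTau12 : List ℕ × List ℕ := ([23, 22, 11, 15, 17, 9, 19, 13, 20, 5, 16, 2, 21, 7, 18, 3, 10, 4, 14, 6, 8, 12, 1, 0], [23, 22, 11, 15, 17, 9, 19, 13, 20, 5, 16, 2, 21, 7, 18, 3, 10, 4, 14, 6, 8, 12, 1, 0])

/-- A normaliser of the element of order five. -/
def tabG11 : List ℕ × List ℕ := ([0, 1, 16, 12, 4, 23, 9, 15, 8, 2, 20, 14, 18, 3, 10, 7, 6, 19, 13, 22, 11, 17, 21, 5], [0, 1, 9, 13, 4, 23, 16, 15, 8, 6, 14, 20, 3, 18, 11, 7, 2, 21, 12, 17, 10, 22, 19, 5])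

/-- A further element. -/
def tabK11 : List ℕ × List ℕ := ([0, 1, 16, 12, 4, 23, 9, 15, 8, 2, 20, 14, 18, 3, 10, 7, 6, 19, 13, 22, 11, 17, 21, 5], [0, 1, 9, 13, 4, 23, 16, 15, 8, 6, 14, 20, 3, 18, 11, 7, 2, 21, 12, 17, 10, 22, 19, 5])

/-- The centraliser of the element of order five. -/
def cent11 : List (List ℕ × List ℕ) := [([0, 1, 2, 3, 4, 5, 6, 7, 8, 9, 10, 11, 12, 13, 14, 15, 16, 17, 18, 19, 20, 21, 22, 23], [0, 1, 2, 3, 4, 5, 6, 7, 8, 9, 10, 11, 12, 13, 14, 15, 16, 17, 18, 19, 20, 21, 22, 23]), ([0, 1, 6, 18, 13, 5, 16, 11, 9, 2, 7, 17, 4, 3, 20, 21, 8, 22, 12, 15, 19, 14, 10, 23], [0, 1, 9, 13, 12, 5, 2, 10, 16, 8, 22, 7, 18, 4, 21, 19, 6, 11, 3, 20, 14, 15, 17, 23]), ([0, 1, 8, 4, 18, 5, 9, 22, 6, 16, 17, 10, 3, 12, 15, 20, 2, 7, 13, 14, 21, 19, 11, 23], [0, 1, 16, 12, 3, 5, 8, 17, 2, 6, 11, 22, 13,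 18, 19, 14, 9, 10, 4, 21, 15, 20, 7, 23]), ([0, 1, 9, 13, 12, 5, 2, 10, 16, 8, 22, 7, 18, 4, 21, 19, 6, 11, 3, 20, 14, 15, 17, 23], [0, 1, 6, 18, 13, 5, 16, 11, 9, 2, 7, 17, 4, 3, 20, 21, 8, 22, 12, 15, 19, 14, 10, 23]), ([0, 1, 16, 12, 3, 5, 8, 17, 2, 6, 11, 22, 13, 18, 19, 14, 9, 10, 4, 21, 15, 20, 7, 23], [0, 1, 8, 4, 18, 5, 9, 22, 6, 16, 17, 10, 3, 12, 15, 20, 2, 7, 13, 14, 21, 19, 11, 23])]

/-- Relations. -/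
def outRels11 : List (List ℕ) := [[3, 2, 2, 2], [0, 3, 0, 3, 0, 3, 0, 3, 0, 3, 0, 3, 0, 3, 0, 3, 0, 3, 0, 3, 0, 3], [0, 0, 2, 0, 0, 2, 0, 0, 2, 0, 0, 2, 0, 0, 2, 0, 0, 2]]

/-- Transversals. -/
def outLevels11 : TokLevels := [
  [(1, []), (2, [(false, 0)]), (3, [(false, 1), (true, 0)]), (4, [(false, 0), (false, 0)]), (6, [(true, 0), (true, 0)]), (8, [(false, 1), (false, 0)]), (9, [(true, 2), (false, 0)]), (12, [(true, 0)]), (13, [(true, 1), (true, 0)]), (16, [(false, 2), (false, 0)]), (18, [(false, 2), (true, 0)])],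
  [(2, []), (3, [(true, 0), (true, 2), (true, 1), (false, 0), (false, 1)]), (4, [(true, 0), (false, 2), (false, 0), (false, 2), (false, 0)]), (6, [(false, 1), (false, 1)]), (8, [(false, 1)]), (9, [(true, 2)]), (12, [(false, 0), (false, 0), (true, 1), (true, 2), (false, 0)]), (13, [(true, 0), (true, 0), (true, 2), (true, 0), (false, 1), (false, 0)]), (16, [(false, 2)]), (18, [(true, 0), (true, 2), (true, 1), (false, 0)])],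
  [(3, []), (4, [(true, 2), (true, 0), (true, 2), (true, 0), (true, 2), (false, 0)]), (6, [(true, 1), (true, 1), (true, 0), (false, 2), (true, 1), (false, 2), (false, 0)]), (8, [(false, 0), (true, 1), (true, 2), (true, 0)]), (9, [(false, 2), (true, 0), (true, 2), (false, 0), (false, 1), (false, 0)]), (12, [(false, 2), (false, 0), (true, 2), (false, 1), (false, 0), (false, 0)]), (13, [(true, 2), (true, 0), (false, 2), (false, 0), (true, 1), (false, 0)]), (16, [(true, 0), (true, 0), (false, 2), (false, 0), (false, 0)]), (18, [(true, 0), (true, 0), (true, 2), (false, 0), (false, 0)])],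
  [(4, []), (6, [(true, 0), (true, 0), (false, 2), (false, 0), (false, 0), (true, 1), (true, 1), (false, 0), (true, 1), (true, 2), (true, 0), (false, 1)]), (8, [(false, 0), (false, 2), (false, 1), (true, 0), (true, 2), (false, 0), (false, 0), (false, 2), (false, 2), (false, 0)]), (9, [(true, 0), (true, 1), (true, 0), (false, 2), (false, 0), (true, 2), (true, 0), (false, 2), (false, 1), (true, 0), (true, 0), (false, 0), (false, 0), (false, 2), (false, 0), (false, 1), (false, 0)]), (12, [(true, 1), (true, 1), (false, 2), (false, 2)]), (13, [(true, 2), (true, 1)]), (16, [(true, 0), (true, 2), (false, 1), (true, 2), (false, 0), (false, 1), (false, 1), (true, 0), (true, 2), (true, 0), (true, 2), (false, 0), (false, 0), (true, 2), (false, 0), (false, 0), (false, 2), (false, 0)]), (18, [(true, 1), (false, 2), (false,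 1)])]]

/-- A base. -/
def outBase11 : List (Fin 24) := [1, 2, 3, 4]

/-- Witnesses of the surviving cases. -/
def outWit11 : List (ℕ × ℕ × ℕ × Bool × (List ℕ × List ℕ)) := [(1, 0, 0, false, ([0, 1, 2, 3, 4, 5, 6, 7, 8, 9, 10, 11, 12, 13, 14, 15, 16, 17, 18, 19, 20, 21, 22, 23], [0, 1, 2, 3, 4, 5, 6, 7, 8, 9, 10, 11, 12, 13, 14, 15, 16, 17, 18, 19, 20, 21, 22, 23])), (3, 1, 1, false, ([0, 1, 8, 4, 18, 5, 9, 22, 6, 16, 17, 10, 3, 12, 15, 20, 2, 7, 13, 14, 21, 19, 11, 23], [0, 1, 16, 12, 3, 5, 8, 17, 2, 6, 11, 22, 13, 18, 19, 14, 9, 10, 4, 21, 15, 20, 7, 23])), (4, 3, 3, false, ([0, 1, 16, 12, 3, 5, 8, 17, 2, 6, 11, 22, 13, 18, 19, 14, 9, 10, 4, 21, 15, 20, 7, 23], [0, 1, 8, 4, 18, 5, 9, 22, 6, 16, 17, 10, 3, 12, 15, 20, 2, 7, 13, 14, 21, 19, 11, 23])), (5, 2, 2, false, ([0, 1, 9, 13, 12, 5, 2, 10, 16, 8, 22,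 7, 18, 4, 21, 19, 6, 11, 3, 20, 14, 15, 17, 23], [0, 1, 6, 18, 13, 5, 16, 11, 9, 2, 7, 17, 4, 3, 20, 21, 8, 22, 12, 15, 19, 14, 10, 23])), (9, 4, 4, false, ([0, 1, 6, 18, 13, 5, 16, 11, 9, 2, 7, 17, 4, 3, 20, 21, 8, 22, 12, 15, 19, 14, 10, 23], [0, 1, 9, 13, 12, 5, 2, 10, 16, 8, 22, 7, 18, 4, 21, 19, 6, 11, 3, 20, 14, 15, 17, 23]))]

/-- The trivial element. -/
def tabTau11 : List ℕ × List ℕ := ([0, 1, 2, 3, 4, 5, 6, 7, 8, 9, 10, 11, 12, 13, 14, 15, 16, 17, 18, 19, 20, 21, 22, 23], [0, 1, 2, 3, 4, 5, 6, 7, 8, 9, 10, 11, 12, 13, 14, 15, 16, 17, 18, 19, 20, 21, 22, 23])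

end Cfsg.Agent.Golay
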