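import Cfsg.Agent.Lib.Golay.Aut
import Cfsg.Agent.Lib.Golay.OutData

/-! The outer automorphism groups of the three smaller groups of the length-24 code. -/

set_option autoImplicit false

namespace Cfsg.Agent.Golay

open Cfsg
open scoped Pointwise

/-! ### Permutations given by tables -/

/-- A pair of tables. -/
abbrev Tab := List ℕ × List ℕ

/-- The two tables are inverse to one another. -/
def TabInv (T : Tab) : Prop :=
  ∀ i : Fin 24, tabFn T.1 (tabFn T.2 i) = i ∧ tabFn T.2 (tabFn T.1 i) = i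

instance (T : Tab) : Decidable (TabInv T) := by unfold TabInv; infer_instance

/-- The permutation of a pair of tables (trivial if they are not inverse to one another). -/
def tperm (T : Tab) : Equiv.Perm GolayPt :=
  if h : TabInv T then
    { toFun := fun p => pt (tabFn T.1 (idx p))
      invFun := fun p => pt (tabFn T.2 (idx p))
      left_inv := fun p => by simp only [idx_pt, (h (idx p)).2, pt_idx]
      right_inv := fun p => by simp only [idx_pt, (h (idx p)).1, pt_idx] }
  else 1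

/-- A permutation on positions. -/
def fn (σ : Equiv.Perm GolayPt) (i : Fin 24) : Fin 24 := idx (σ (pt i))

theorem fn_mul (σ τ : Equiv.Perm GolayPt) (i : Fin 24) : fn (σ * τ) i = fn σ (fn τ i) := by
  simp [fn, pt_idx]

theorem fn_one (i : Fin 24) : fn 1 i = i := by simp [fn, idx_pt]

theorem fn_ext {σ τ : Equiv.Perm GolayPt} (h : ∀ i, fn σ i = fn τ i) : σ = τ := by
  ext1 p
  rw [← pt_idx p]
  exact idx_injective' (h (idx p))

theorem fn_inj (σ : Equiv.Perm GolayPt) : Function.Injective (fn σ) := fun x y h => by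
  have := congrArg idx (σ.injective (idx_injective' h))
  rwa [idx_pt, idx_pt] at this

theorem fn_tperm {T : Tab} (h : TabInv T) (i : Fin 24) : fn (tperm T) i = tabFn T.1 i := by
  simp [fn, tperm, h, idx_pt]

theorem fn_tperm_inv {T : Tab} (h : TabInv T) (i : Fin 24) : fn (tperm T)⁻¹ i = tabFn T.2 i := by
  apply fn_inj (tperm T)
  rw [← fn_mul, mul_inv_cancel, fn_one, fn_tperm h, (h i).1]

theorem fn_wordPerm (w : List (Fin 5)) (i : Fin 24) : fn (wordPerm w) i = ev w i := by
  simp [fn, wordPerm_apply, idx_pt]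

theorem mem_M24_of_basis {σ : Equiv.Perm GolayPt}
    (h : ∀ x ∈ basis, inC (pullMask (fn σ) x.2) = true) : σ ∈ M24 := by
  suffices hs : ∀ w ∈ golayCode, (fun p => w (σ p)) ∈ golayCode by
    have := inv_mem (mem_M24_of_forall hs)
    rwa [inv_inv] at this
  intro w hw
  have hb : ∀ x ∈ basis, (fun p => ofMask x.2 (σ p)) ∈ golayCode := by
    intro x hx
    rw [mem_golay_iff]
    have e : mask (fun p => ofMask x.2 (σ p)) = pullMask (fn σ) x.2 := by
      simp only [mask, pullMask]
      congr 1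
      funext i
      simp only [ofMask, fn]
      split_ifs with h <;> simp [h]
    rw [e]; exact h x hx
  have hd : ∀ l : List (ℕ × ℕ), (∀ x ∈ l, (fun p => ofMask x.2 (σ p)) ∈ golayCode) →
      ∀ m, (fun p => ofMask (decodeL l m) (σ p)) ∈ golayCode := by
    intro l
    induction l with
    | nil => intro _ m; simp only [decodeL, ofMask_zero]; exact Submodule.zero_mem _
    | cons x l ih =>
      intro h m
      obtain ⟨q, c⟩ := x
      simp only [decodeL, ofMask_xor]
      refine Submodule.add_mem _ ?_ (ih (fun y hy => h y (List.mem_cons_of_mem _ hy)) m)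
      split_ifs
      · exact h (q, c) List.mem_cons_self
      · simp only [ofMask_zero]; exact Submodule.zero_mem _
  have := hd basis hb (mask w)
  rwa [beq_iff_eq.mp (inC_of_mem hw), ofMask_mask] at this

/-- The elements of `M24` preserving a colouring of the positions. -/
def clsGroup (cls : Fin 24 → ℕ) : Subgroup (Equiv.Perm GolayPt) where
  carrier := {σ | σ ∈ M24 ∧ ∀ i, cls (fn σ i) = cls i}
  one_mem' := ⟨one_mem _, fun i => by rw [fn_one]⟩
  mul_mem' := fun {a b} ha hb => ⟨mul_mem ha.1 hb.1, fun i => by rw [fn_mul, ha.2, hb.2]⟩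
  inv_mem' := fun {a} ha => ⟨inv_mem ha.1, fun i => by
    rw [← ha.2 (fn a⁻¹ i), ← fn_mul, mul_inv_cancel, fn_one]⟩

/-- A table lies in a coloured group. -/
def TabMem (cls : Fin 24 → ℕ) (T : Tab) : Prop :=
  TabInv T ∧ (∀ x ∈ basis, inC (pullMask (tabFn T.1) x.2) = true) ∧ ∀ i, cls (tabFn T.1 i) = cls i

instance (cls : Fin 24 → ℕ) (T : Tab) : Decidable (TabMem cls T) := by unfold TabMem; infer_instance

theorem tperm_mem {cls : Fin 24 → ℕ} {T : Tab} (h : TabMem cls T) : tperm T ∈ clsGroup cls := by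
  have e : fn (tperm T) = tabFn T.1 := funext (fn_tperm h.1)
  exact ⟨mem_M24_of_basis (by rw [e]; exact h.2.1), fun i => by rw [fn_tperm h.1, h.2.2]⟩

/-! ### Searching the large group -/

theorem levTabs_ok : ∀ i : Fin 7, ((levTabs.getD i.val []).length = (lev i.val).length) ∧
    ∀ j : Fin (lev i.val).length, ∀ x : Fin 24,
      tabFn ((levTabs.getD i.val []).getD j.val ([], [])).1 x = ev ((lev i.val).getD j.val (0, [])).2 x := by
  decide +kernel

/-- The power of a table. -/
def tabPow (T : Tab) : ℕ → Fin 24 → Fin 24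
  | 0, i => i
  | n + 1, i => tabFn T.1 (tabPow T n i)

theorem fn_tperm_pow {T : Tab} (h : TabInv T) (n : ℕ) (i : Fin 24) :
    fn (tperm T ^ n) i = tabPow T n i := by
  induction n with
  | zero => rw [pow_zero, fn_one]; rfl
  | succ n ih => rw [pow_succ', fn_mul, ih, fn_tperm h]; rfl

/-- Depth-first search through the transversals with pruning at each base point. -/
def dfs (ok : ℕ → (Fin 24 → Fin 24) → Bool) (leaf : (Fin 24 → Fin 24) → Bool) :
    ℕ → ℕ → (Fin 24 → Fin 24) → Bool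
  | 0, _, f => leaf f
  | k + 1, i, f => (levTabs.getD i []).all fun T =>
      !ok i (fun x => f (tabFn T.1 x)) || dfs ok leaf k (i + 1) (fun x => f (tabFn T.1 x))

theorem dfs_sound (ok : ℕ → (Fin 24 → Fin 24) → Bool) (leaf : (Fin 24 → Fin 24) → Bool)
    {σ : Equiv.Perm GolayPt}
    (hok : ∀ i < 7, ∀ g : Fin 24 → Fin 24,
      (∀ j ≤ i, g (bpt j) = fn σ (bpt j)) → ok i g = true) :
    ∀ (k i : ℕ), k + i = 7 → ∀ π : Equiv.Perm GolayPt, π⁻¹ * σ ∈ chain i →
      dfs ok leaf k i (fn π) = true → leaf (fn σ) = true := by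
  intro k
  induction k with
  | zero =>
    intro i hi π hπ h
    rw [Nat.zero_add] at hi; subst hi
    rw [chain_seven, Subgroup.mem_bot] at hπ
    rw [← eq_of_inv_mul_eq_one hπ]
    exact h
  | succ k ih =>
    intro i hi π hπ h
    obtain ⟨e, he, hnext⟩ := chain_step ⟨i, by omega⟩ hπ
    obtain ⟨j, hj, rfl⟩ := List.getElem_of_mem he
    obtain ⟨hlen, htab⟩ := levTabs_ok ⟨i, by omega⟩
    simp only at hlen htab hj
    have hmem : (levTabs.getD i []).getD j ([], []) ∈ levTabs.getD i [] := by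
      rw [List.getD_eq_getElem _ _ (lt_of_lt_of_eq hj hlen.symm)]
      exact List.getElem_mem _
    rw [dfs, List.all_eq_true] at h
    have h' := h _ hmem
    have hf : (fun x => fn π (tabFn ((levTabs.getD i []).getD j ([], [])).1 x)) =
        fn (π * wordPerm ((lev i)[j]).2) := by
      funext x
      rw [fn_mul, fn_wordPerm, htab ⟨j, hj⟩, List.getD_eq_getElem _ _ hj]
    rw [hf] at h'
    have hnext' : (π * wordPerm ((lev i)[j]).2)⁻¹ * σ ∈ chain (i + 1) := by
      rw [mul_inv_rev, mul_assoc]; exact hnext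
    rw [Bool.or_eq_true] at h'
    rcases h' with h' | h'
    · refine absurd (hok i (by omega) _ fun l hl => ?_) (by simpa using h')
      have := hnext'.2 l (by omega)
      have h2 := congrArg (fun p => idx ((π * wordPerm ((lev i)[j]).2) p)) this
      simp only [← Equiv.Perm.mul_apply, mul_inv_cancel_left] at h2
      exact h2.symm
    · exact ih (i + 1) (by omega) _ hnext' h'

/-- Pruning by colours and by commutation with the element of order five. -/
def centOk (cls : Fin 24 → ℕ) (i : ℕ) (g : Fin 24 → Fin 24) : Bool :=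
  cls (g (bpt i)) == cls (bpt i) &&
    (levCons.getD i []).all fun c => tabPow tabB c.2 (g (bpt c.1)) == g (bpt i)

/-- The leaves of the centraliser search. -/
def centLeaf (cls : Fin 24 → ℕ) (cs : List Tab) (f : Fin 24 → Fin 24) : Bool :=
  !((List.finRange 24).all fun i => cls (f i) == cls i && tabFn tabB.1 (f i) == f (tabFn tabB.1 i)) ||
    cs.any fun c => (List.finRange 24).all fun i => f i == tabFn c.1 i

theorem tabB_inv : TabInv tabB := by decide +kernel

theorem levCons_ok : ∀ i : Fin 7, ∀ c ∈ levCons.getD i.val [],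
    c.1 ≤ i.val ∧ tabPow tabB c.2 (bpt c.1) = bpt i.val := by decide +kernel

theorem centralizer_five {cls : Fin 24 → ℕ} {cs : List Tab}
    (hcs : ∀ c ∈ cs, TabInv c)
    (hdfs : dfs (centOk cls) (centLeaf cls cs) 7 0 (fun i => i) = true)
    {σ : Equiv.Perm GolayPt} (hσ : σ ∈ clsGroup cls) (hc : Commute σ (tperm tabB)) :
    ∃ c ∈ cs, σ = tperm c := by
  have hok : ∀ i < 7, ∀ g : Fin 24 → Fin 24,
      (∀ j ≤ i, g (bpt j) = fn σ (bpt j)) → centOk cls i g = true := by
    intro i hi g hg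
    simp only [centOk, Bool.and_eq_true, beq_iff_eq, List.all_eq_true]
    refine ⟨by rw [hg i (le_refl i), hσ.2], fun c hcm => ?_⟩
    obtain ⟨h1, h2⟩ := levCons_ok ⟨i, hi⟩ c hcm
    simp only at h2 h1
    rw [hg c.1 h1, hg i (le_refl i), ← fn_tperm_pow tabB_inv, ← fn_mul, ← (hc.pow_right c.2).eq,
      fn_mul, fn_tperm_pow tabB_inv, h2]
  have h := dfs_sound (centOk cls) (centLeaf cls cs) (σ := σ) hok 7 0 rfl 1
    (by rw [inv_one, one_mul, chain_zero]; exact hσ.1)
    (by rw [show fn 1 = fun i => i from funext fn_one]; exact hdfs)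
  simp only [centLeaf, Bool.or_eq_true, Bool.not_eq_true', List.any_eq_true, List.all_eq_true,
    beq_iff_eq, List.mem_finRange, true_implies] at h
  rcases h with h | ⟨c, hcm, he⟩
  · exfalso
    rw [List.all_eq_false] at h
    obtain ⟨i, -, hi⟩ := h
    refine hi ?_
    simp only [Bool.and_eq_true, beq_iff_eq]
    refine ⟨hσ.2 i, ?_⟩
    rw [← fn_tperm tabB_inv, ← fn_mul, ← hc.eq, fn_mul, fn_tperm tabB_inv]
  · exact ⟨c, hcm, fn_ext fun i => by rw [he i, fn_tperm (hcs c hcm)]⟩

/-! ### Reduction of an automorphism -/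

/-- Every automorphism is, up to an inner one, a power map on `a` fixing `b`. -/
theorem aut_reduce {G : Type*} [Group G] [Finite G] (a b : G) (ha : orderOf a = 11)
    (h11 : ¬ 11 ^ 2 ∣ Nat.card G) (r e : ℤ) (hab : b * a * b⁻¹ = a ^ r)
    (he : (11 : ℤ) ∣ (r - 1) * e - 1)
    (hCa : ∀ x : G, Commute x a → x ∈ Subgroup.zpowers a) (φ : MulAut G) :
    ∃ (u : G) (k : ℕ), 1 ≤ k ∧ k < 11 ∧
      (MulAut.conj u * φ) a = a ^ k ∧ (MulAut.conj u * φ) b = b := by
  haveI : Fact (Nat.Prime 11) := ⟨by norm_num⟩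
  have hp : ∀ x : G, orderOf x = 11 →
      Nat.card (Subgroup.zpowers x) = 11 ^ (Nat.card G).factorization 11 := by
    intro x hx
    have h1 : 11 ∣ Nat.card G := hx ▸ orderOf_dvd_natCard x
    have h2 : (Nat.card G).factorization 11 = 1 := by
      have hpos : (Nat.card G).factorization 11 ≠ 0 :=
        (Nat.Prime.factorization_pos_of_dvd Fact.out Nat.card_pos.ne' h1).ne'
      by_contra hne
      exact h11 (dvd_trans (pow_dvd_pow 11 (by omega)) (Nat.ordProj_dvd _ 11))
    rw [Nat.card_zpowers, hx, h2, pow_one]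
  obtain ⟨c, hc⟩ : ∃ c : G, c * φ a * c⁻¹ ∈ Subgroup.zpowers a := by
    have hφa : orderOf (φ a) = 11 := by rw [MulEquiv.orderOf_eq φ, ha]
    obtain ⟨c, hc⟩ := MulAction.exists_smul_eq G (Sylow.ofCard _ (hp _ hφa)) (Sylow.ofCard _ (hp _ ha))
    refine ⟨c, ?_⟩
    have hc' := congrArg (fun P : Sylow 11 G => (P : Subgroup G)) hc
    simp only [Sylow.coe_subgroup_smul, Sylow.coe_ofCard] at hc'
    have := Subgroup.smul_mem_pointwise_smul (φ a) (MulAut.conj c) _ (Subgroup.mem_zpowers (φ a))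
    rw [hc'] at this
    simpa [MulAut.smul_def] using this
  set φ₁ := MulAut.conj c * φ with hφ₁
  obtain ⟨i₀, hi₀⟩ := Subgroup.mem_zpowers_iff.mp hc
  obtain ⟨k, hk11, hk⟩ : ∃ k : ℕ, k < 11 ∧ φ₁ a = a ^ k := by
    refine ⟨(i₀ % 11).toNat, by have := Int.emod_lt_of_pos i₀ (show (0 : ℤ) < 11 by norm_num); omega, ?_⟩
    rw [← zpow_natCast, Int.toNat_of_nonneg (Int.emod_nonneg _ (by norm_num))]
    show c * φ a * c⁻¹ = _
    rw [← hi₀, ← zpow_mod_orderOf a i₀, ha]; rfl
  have hk1 : k ≠ 0 := fun h0 => by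
    rw [h0, pow_zero] at hk
    have : a = 1 := φ₁.injective (by rw [hk, map_one])
    rw [this, orderOf_one] at ha; norm_num at ha
  obtain ⟨l, hl⟩ : ∃ l : ℕ, (a ^ k) ^ l = a := by
    refine exists_pow_eq_self_of_coprime ?_
    rw [ha, Nat.coprime_comm, Nat.Prime.coprime_iff_not_dvd Fact.out]
    exact fun hd => hk1 (Nat.eq_zero_of_dvd_of_lt hd hk11)
  have h1 : Commute (φ₁ b * b⁻¹) a := by
    have e1 : φ₁ b * a ^ k * φ₁ b⁻¹ = (a ^ k) ^ r := by
      rw [← hk, ← map_mul, ← map_mul, hab, map_zpow]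
    have e2 : φ₁ b * a * (φ₁ b)⁻¹ = a ^ r := by
      calc φ₁ b * a * (φ₁ b)⁻¹ = φ₁ b * (a ^ k) ^ l * (φ₁ b)⁻¹ := by rw [hl]
        _ = (φ₁ b * a ^ k * (φ₁ b)⁻¹) ^ l := conj_pow.symm
        _ = a ^ r := by
            rw [← map_inv, e1, ← zpow_natCast ((a ^ k) ^ r), ← zpow_mul, mul_comm, zpow_mul,
              zpow_natCast, hl]
    have e3 : b⁻¹ * a ^ r * b = a := by rw [← hab]; simp [mul_assoc]
    have e4 : (φ₁ b)⁻¹ * a ^ r * φ₁ b = a := by rw [← e2]; simp [mul_assoc]
    have e5 : b * a = a ^ r * b := by rw [← hab]; simp [mul_assoc]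
    have e6 : φ₁ b * a = a ^ r * φ₁ b := by rw [← e2]; simp [mul_assoc]
    have h7 : Commute (φ₁ b * b⁻¹) (a ^ r) := by
      rw [Commute, SemiconjBy]
      calc φ₁ b * b⁻¹ * a ^ r = φ₁ b * (b⁻¹ * a ^ r * b) * b⁻¹ := by simp [mul_assoc]
        _ = φ₁ b * a * b⁻¹ := by rw [e3]
        _ = a ^ r * (φ₁ b * b⁻¹) := by rw [e6, mul_assoc]
    have h8 : φ₁ b * b⁻¹ * b * a * b⁻¹ = a ^ r * (φ₁ b * b⁻¹) := by
      rw [← h7.eq, mul_assoc _ b, e5]; simp [mul_assoc]
    obtain ⟨r', hr'⟩ : ∃ r' : ℤ, (a ^ r) ^ r' = a := by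
      have hor : orderOf (a ^ r) = 11 := by
        rw [← hab, ← MulAut.conj_apply, MulEquiv.orderOf_eq, ha]
      have hz : Subgroup.zpowers (a ^ r) = Subgroup.zpowers a :=
        Subgroup.eq_of_le_of_card_ge (Subgroup.zpowers_le.mpr (zpow_mem (Subgroup.mem_zpowers a) r))
          (by rw [Nat.card_zpowers, Nat.card_zpowers, hor, ha])
      exact Subgroup.mem_zpowers_iff.mp (hz ▸ Subgroup.mem_zpowers a)
    have := h7.zpow_right r'
    rwa [hr'] at this
  obtain ⟨i, hi⟩ := Subgroup.mem_zpowers_iff.mp (hCa _ h1)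
  have hφb : φ₁ b = a ^ i * b := by rw [hi]; simp
  refine ⟨a ^ (i * e) * c, k, by omega, hk11, ?_, ?_⟩
  · rw [map_mul, mul_assoc]
    show a ^ (i * e) * φ₁ a * (a ^ (i * e))⁻¹ = _
    rw [hk, ← zpow_natCast, ← zpow_neg, ← zpow_add, ← zpow_add]; congr 1; ring
  · rw [map_mul, mul_assoc]
    show a ^ (i * e) * φ₁ b * (a ^ (i * e))⁻¹ = b
    have hcomm : b * (a ^ (i * e))⁻¹ = (a ^ (r * (i * e)))⁻¹ * b := by
      have : b * a ^ (i * e) * b⁻¹ = a ^ (r * (i * e)) := by rw [zpow_mul a r, ← hab, conj_zpow]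
      rw [← this]; simp [mul_assoc]
    rw [hφb, mul_assoc, mul_assoc, hcomm, ← mul_assoc, ← mul_assoc, ← zpow_neg, ← zpow_add, ← zpow_add]
    have : a ^ (i * e + i + -(r * (i * e))) = 1 := by
      rw [← orderOf_dvd_iff_zpow_eq_one, ha]
      exact (dvd_mul_of_dvd_right he (-i)).trans (dvd_of_eq (by ring))
    rw [this, one_mul]

/-- The automorphism of `H` induced by a normalising element. -/
def normAut (H : Subgroup (Equiv.Perm GolayPt)) (τ : Equiv.Perm GolayPt)
    (hτ : ∀ x, x ∈ H ↔ τ⁻¹ * x * τ ∈ H) : MulAut H where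
  toFun x := ⟨τ * x.1 * τ⁻¹, (hτ _).mpr (by simp [mul_assoc])⟩
  invFun x := ⟨τ⁻¹ * x.1 * τ, (hτ _).mp x.2⟩
  left_inv x := Subtype.ext (by simp [mul_assoc])
  right_inv x := Subtype.ext (by simp [mul_assoc])
  map_mul' x y := Subtype.ext (by simp [mul_assoc])

/-! ### The finite check -/

/-- The data of one group. -/
structure OutSpec where
  cls : Fin 24 → ℕ
  m₁ : ℕ
  m₂ : ℕ
  g : Tab
  g₂ : Tab
  cs : List Tab
  rels : List (List ℕ)
  wit : List (ℕ × ℕ × ℕ × Bool × Tab)
  tau : Tab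
  base : List (Fin 24)
  levels : TokLevels

namespace OutSpec

variable (d : OutSpec)

/-- The four generators as tables. -/
def gensT : List Tab := [tabA, tabB, d.g, d.g₂]

/-- The four generators. -/
def genP (j : ℕ) : Equiv.Perm GolayPt := tperm (d.gensT.getD j tabA)

/-- An image of a generator under a candidate, as a map of positions. -/
def imgFn (k : ℕ) (c c₂ : Tab) (j : ℕ) (i : Fin 24) : Fin 24 :=
  match j with
  | 0 => tabPow tabA k i
  | 1 => tabFn tabB.1 i
  | 2 => tabFn d.g.1 (tabFn c.1 i)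
  | _ => tabFn d.g₂.1 (tabFn c₂.1 i)

/-- A relation evaluated at the images. -/
def relFn (k : ℕ) (c c₂ : Tab) : List ℕ → Fin 24 → Fin 24
  | [], i => i
  | j :: t, i => d.imgFn k c c₂ j (relFn k c c₂ t i)

/-- A relation evaluated at the generators. -/
def genFn : List ℕ → Fin 24 → Fin 24
  | [], i => i
  | j :: t, i => tabFn (d.gensT.getD j tabA).1 (genFn t i)

/-- One candidate is refuted by a relation, or realised by a conjugation. -/
def caseOk (k n n₂ : ℕ) : Bool :=
  (d.rels.any fun t => (List.finRange 24).any fun i =>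
      d.relFn k (d.cs.getD n tabA) (d.cs.getD n₂ tabA) t i != i) ||
    d.wit.any fun w =>
      (w.1 == k && w.2.1 == n && w.2.2.1 == n₂) && decide (TabMem d.cls w.2.2.2.2) &&
        (List.range 4).all fun j => (List.finRange 24).all fun i =>
          (if w.2.2.2.1 then
              tabFn d.tau.1 (tabFn w.2.2.2.2.1 (tabFn (d.gensT.getD j tabA).1
                (tabFn w.2.2.2.2.2 (tabFn d.tau.2 i))))
            else tabFn w.2.2.2.2.1 (tabFn (d.gensT.getD j tabA).1 (tabFn w.2.2.2.2.2 i))) ==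
            d.imgFn k (d.cs.getD n tabA) (d.cs.getD n₂ tabA) j i

/-- Membership and normalisation checks. -/
def BasicOk : Prop :=
  (∀ T ∈ d.gensT, TabMem d.cls T) ∧ (∀ c ∈ d.cs, TabInv c) ∧ TabInv d.tau ∧
    (∀ i j : Fin 24, d.cls i = d.cls j ↔ d.cls (tabFn d.tau.1 i) = d.cls (tabFn d.tau.1 j)) ∧
    (∀ x ∈ basis, inC (pullMask (tabFn d.tau.1) x.2) = true) ∧
    (∀ i : Fin 24, tabFn d.g.1 (tabFn tabB.1 (tabFn d.g.2 i)) = tabPow tabB d.m₁ i) ∧
    (∀ i : Fin 24, tabFn d.g₂.1 (tabFn tabB.1 (tabFn d.g₂.2 i)) = tabPow tabB d.m₂ i) ∧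
    (∀ i : Fin 24, tabFn tabB.1 (tabFn tabA.1 (tabFn tabB.2 i)) = tabPow tabA 3 i) ∧
    (∀ t ∈ d.rels, ∀ i : Fin 24, d.genFn t i = i) ∧ (∀ t ∈ d.rels, ∀ j ∈ t, j < 4)

/-- The transversals are correct. -/
def LevelsOk : Prop :=
  ∀ k : Fin d.levels.length,
    ((d.levels.getD k.val []).map Prod.fst).Nodup ∧
      ∀ e ∈ d.levels.getD k.val [], evTab d.gensT e.2 (bat d.base k.val) = e.1 ∧
        ∀ j : Fin k.val, evTab d.gensT e.2 (bat d.base j.val) = bat d.base j.val

variable {d}

theorem genP_mem (hd : d.BasicOk) (j : ℕ) : d.genP j ∈ clsGroup d.cls := by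
  refine tperm_mem (hd.1 _ ?_)
  rcases Nat.lt_or_ge j d.gensT.length with h | h
  · rw [List.getD_eq_getElem _ _ h]; exact List.getElem_mem h
  · rw [List.getD_eq_default _ _ h]; exact List.mem_cons_self

theorem fn_genP (hd : d.BasicOk) (j : ℕ) (i : Fin 24) :
    fn (d.genP j) i = tabFn (d.gensT.getD j tabA).1 i := by
  refine fn_tperm ?_ i
  rcases Nat.lt_or_ge j d.gensT.length with h | h
  · rw [List.getD_eq_getElem _ _ h]; exact (hd.1 _ (List.getElem_mem h)).1
  · rw [List.getD_eq_default _ _ h]; exact (hd.1 _ List.mem_cons_self).1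

/-- The subgroup generated by the four generators. -/
def gen (d : OutSpec) : Subgroup (Equiv.Perm GolayPt) :=
  Subgroup.closure {d.genP 0, d.genP 1, d.genP 2, d.genP 3}

theorem gen_le (hd : d.BasicOk) : d.gen ≤ clsGroup d.cls := by
  refine (Subgroup.closure_le _).mpr ?_
  rintro x (rfl | rfl | rfl | rfl) <;> exact genP_mem hd _

theorem evTab_mem (hd : d.BasicOk) (t : List Tok) :
    ∃ σ ∈ d.gen, ∀ i, fn σ i = evTab d.gensT t i := by
  induction t with
  | nil => exact ⟨1, one_mem _, fun i => by rw [fn_one]; rfl⟩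
  | cons a t ih =>
    obtain ⟨σ, hσ, he⟩ := ih
    by_cases hj : a.2 < d.gensT.length
    · have hmem : d.genP a.2 ∈ d.gen := by
        have : d.gensT.length = 4 := rfl
        refine Subgroup.subset_closure ?_
        obtain h | h | h | h : a.2 = 0 ∨ a.2 = 1 ∨ a.2 = 2 ∨ a.2 = 3 := by omega
        all_goals simp [h]
      have hget : d.gensT.getD a.2 ([], []) = d.gensT.getD a.2 tabA := by
        rw [List.getD_eq_getElem _ _ hj, List.getD_eq_getElem _ _ hj]
      by_cases hb : a.1 = true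
      · refine ⟨(d.genP a.2)⁻¹ * σ, mul_mem (inv_mem hmem) hσ, fun i => ?_⟩
        rw [fn_mul, he, evTab, if_pos hj, if_pos hb, hget]
        refine fn_tperm_inv ?_ _
        rw [List.getD_eq_getElem _ _ hj]; exact (hd.1 _ (List.getElem_mem hj)).1
      · refine ⟨d.genP a.2 * σ, mul_mem hmem hσ, fun i => ?_⟩
        rw [fn_mul, he, evTab, if_pos hj, if_neg hb, hget, fn_genP hd]
    · exact ⟨σ, hσ, fun i => by rw [he, evTab, if_neg hj]⟩

theorem card_gen_ge (hd : d.BasicOk) (hl : d.LevelsOk) :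
    (d.levels.map List.length).prod ≤ Nat.card d.gen := by
  have step : ∀ k : Fin d.levels.length, (d.levels.getD k.val []).length *
      Nat.card (fixN d.gen d.base (k.val + 1)) ≤ Nat.card (fixN d.gen d.base k.val) := by
    intro k
    classical
    obtain ⟨hnd, hl⟩ := hl k
    set K := fixN d.gen d.base k.val
    set p := pt (bat d.base k.val)
    have hsub : ((((d.levels.getD k.val []).map Prod.fst).map pt).toFinset : Set GolayPt) ⊆
        MulAction.orbit K p := by
      intro q hq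
      simp only [List.coe_toFinset, List.mem_map, Set.mem_ofPred_eq] at hq
      obtain ⟨x, ⟨e, he, rfl⟩, rfl⟩ := hq
      obtain ⟨σ, hσ, hf⟩ := evTab_mem hd e.2
      obtain ⟨h1, h2⟩ := hl e he
      refine ⟨⟨σ, hσ, fun j hj => idx_injective' ?_⟩, idx_injective' ?_⟩
      · show fn σ (bat d.base j) = _
        rw [hf, idx_pt, h2 ⟨j, hj⟩]
      · show fn σ (bat d.base k.val) = _
        rw [hf, idx_pt, h1]
    have hcard : (d.levels.getD k.val []).length ≤ (MulAction.orbit K p).ncard := by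
      refine le_trans (le_of_eq ?_) (Set.ncard_le_ncard hsub (Set.toFinite _))
      rw [Set.ncard_coe_finset, List.toFinset_card_of_nodup
        (hnd.map (Function.LeftInverse.injective idx_pt)), List.length_map, List.length_map]
    have hst : (fixN d.gen d.base (k.val + 1)).subgroupOf K = MulAction.stabilizer K p := by
      ext σ
      constructor
      · exact fun h => h.2 k.val (Nat.lt_succ_self _)
      · refine fun h => ⟨σ.2.1, fun j hj => ?_⟩
        rcases Nat.lt_succ_iff_lt_or_eq.mp hj with hj | rfl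
        · exact σ.2.2 j hj
        · exact h
    rw [← Nat.card_congr (Subgroup.subgroupOfEquivOfLe (fixN_anti (Nat.le_succ k.val))).toEquiv, hst,
      ← Subgroup.index_mul_card (MulAction.stabilizer K p), MulAction.index_stabilizer]
    exact Nat.mul_le_mul_right _ hcard
  have key : ∀ n ≤ d.levels.length,
      ((d.levels.take n).map List.length).prod * Nat.card (fixN d.gen d.base n) ≤ Nat.card d.gen := by
    intro n
    induction n with
    | zero => intro _; simp [fixN_zero]
    | succ n ih =>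
      intro hn
      have h1 := step ⟨n, by omega⟩
      simp only at h1
      rw [List.getD_eq_getElem _ _ (show n < d.levels.length by omega)] at h1
      rw [List.take_succ_eq_append_getElem (show n < d.levels.length by omega), List.map_append,
        List.prod_append, List.map_singleton, List.prod_singleton, mul_assoc]
      exact le_trans (Nat.mul_le_mul_left _ h1) (ih (by omega))
  have h := key d.levels.length (le_refl _)
  rw [List.take_length] at h
  exact le_trans (Nat.le_mul_of_pos_right _ Nat.card_pos) h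

theorem gen_eq (hd : d.BasicOk) (hl : d.LevelsOk) {N : ℕ}
    (hN : Nat.card (clsGroup d.cls) = N) (hlev : (d.levels.map List.length).prod = N) :
    d.gen = clsGroup d.cls :=
  Subgroup.eq_of_le_of_card_ge (gen_le hd) (by rw [hN, ← hlev]; exact card_gen_ge hd hl)

theorem tau_normalizes (hd : d.BasicOk) (x : Equiv.Perm GolayPt) :
    x ∈ clsGroup d.cls ↔ (tperm d.tau)⁻¹ * x * tperm d.tau ∈ clsGroup d.cls := by
  obtain ⟨-, -, hti, htc, htm, -⟩ := hd
  have hM : tperm d.tau ∈ M24 :=
    mem_M24_of_basis (by rw [show fn (tperm d.tau) = tabFn d.tau.1 from funext (fn_tperm hti)]; exact htm)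
  constructor
  · rintro ⟨h1, h2⟩
    refine ⟨M24.mul_mem (M24.mul_mem (M24.inv_mem hM) h1) hM, fun i => ?_⟩
    rw [fn_mul, fn_mul, fn_tperm_inv hti, htc, fn_tperm hti, (hti _).1, h2]
  · rintro ⟨h1, h2⟩
    refine ⟨?_, fun i => ?_⟩
    · have := M24.mul_mem (M24.mul_mem hM h1) (M24.inv_mem hM)
      simpa [mul_assoc] using this
    · obtain ⟨i', rfl⟩ : ∃ i', tabFn d.tau.1 i' = i := ⟨tabFn d.tau.2 i, (hti i).1⟩
      have := h2 i'
      rw [fn_mul, fn_mul, fn_tperm_inv hti, fn_tperm hti, htc, (hti _).1] at this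
      exact this

theorem tabA_eq : tperm tabA = wordPerm hWord :=
  fn_ext fun i => by
    rw [fn_tperm (by decide +kernel), fn_wordPerm]
    exact (show ∀ i : Fin 24, tabFn tabA.1 i = ev hWord i by decide +kernel) i

theorem centralizer_a {x : clsGroup d.cls} (hx : Commute (x : Equiv.Perm GolayPt) (tperm tabA)) :
    ∃ n : ℤ, tperm tabA ^ n = x.1 := by
  rw [tabA_eq] at hx ⊢
  exact Subgroup.mem_zpowers_iff.mp (centralizer_double x.2.1 hx)

theorem aut_cases (hd : d.BasicOk) (hl : d.LevelsOk) {N : ℕ}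
    (hN : Nat.card (clsGroup d.cls) = N) (hlev : (d.levels.map List.length).prod = N)
    (h11 : ¬ 11 ^ 2 ∣ N) (hdfs : dfs (centOk d.cls) (centLeaf d.cls d.cs) 7 0 (fun i => i) = true)
    (hcases : ∀ k : Fin 11, 1 ≤ k.val → ∀ n : Fin d.cs.length, ∀ n₂ : Fin d.cs.length,
      d.caseOk k.val n.val n₂.val = true)
    (φ : MulAut (clsGroup d.cls)) :
    φ ∈ Cfsg.Inn (clsGroup d.cls) ∨
      (normAut _ (tperm d.tau) (tau_normalizes hd))⁻¹ * φ ∈ Cfsg.Inn (clsGroup d.cls) := by
  haveI : Fact (Nat.Prime 11) := ⟨by norm_num⟩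
  obtain ⟨hmem, hcs, hti, -, -, hg₁, hg₂, hab, hrels, hrl⟩ := id hd
  let P : ℕ → clsGroup d.cls := fun j => ⟨d.genP j, genP_mem hd j⟩
  have hP : ∀ j i, fn (P j).1 i = tabFn (d.gensT.getD j tabA).1 i := fn_genP hd
  have hB : ∀ i, fn (P 1).1 i = tabFn tabB.1 i := hP 1
  have hA : (P 0).1 = tperm tabA := rfl
  have hBt : (P 1).1 = tperm tabB := rfl
  have hinvA : TabInv tabA := (hmem _ List.mem_cons_self).1
  obtain ⟨u, k, hk1, hk11, hka, hkb⟩ := aut_reduce (P 0) (P 1)
    (by
      rw [← Subgroup.orderOf_coe, hA]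
      refine orderOf_eq_prime (fn_ext fun i => ?_) fun h => ?_
      · rw [fn_tperm_pow hinvA, fn_one]
        exact (show ∀ i : Fin 24, tabPow tabA 11 i = i by decide +kernel) i
      · have := congrArg (fun σ => fn σ 1) h
        simp only [fn_tperm hinvA, fn_one] at this
        exact absurd this (by decide +kernel))
    (by rw [hN]; exact h11) 3 6
    (Subtype.ext (fn_ext fun i => by
      show fn (tperm tabB * tperm tabA * (tperm tabB)⁻¹) i = fn (((P 0) ^ (3 : ℤ) : clsGroup d.cls) : Equiv.Perm GolayPt) i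
      rw [show (3 : ℤ) = ((3 : ℕ) : ℤ) from rfl, zpow_natCast, SubmonoidClass.coe_pow, hA, fn_mul, fn_mul,
        fn_tperm_inv tabB_inv, fn_tperm hinvA, fn_tperm tabB_inv, fn_tperm_pow hinvA, hab]))
    (by norm_num)
    (fun x hx => by
      obtain ⟨n, hn⟩ := centralizer_a (congrArg Subtype.val hx.eq)
      exact Subgroup.mem_zpowers_iff.mpr ⟨n, Subtype.ext (by rw [SubgroupClass.coe_zpow]; exact hn)⟩)
    φ
  set φ' := MulAut.conj u * φ with hφ'
  have hcand : ∀ (j m : ℕ), (∀ i, tabFn (d.gensT.getD j tabA).1 (tabFn tabB.1 (tabFn (d.gensT.getD j tabA).2 i)) = tabPow tabB m i) →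
      j < 4 → ∃ n : Fin d.cs.length, ∀ i, fn (φ' (P j)).1 i =
        tabFn (d.gensT.getD j tabA).1 (tabFn (d.cs.getD n.val tabA).1 i) := by
    intro j m hm hj
    have hTi : TabInv (d.gensT.getD j tabA) := by
      rw [List.getD_eq_getElem _ _ (show j < d.gensT.length from hj)]
      exact (hmem _ (List.getElem_mem _)).1
    have e1 : P j * P 1 * (P j)⁻¹ = P 1 ^ m := by
      apply Subtype.ext
      refine fn_ext fun i => ?_
      rw [SubmonoidClass.coe_pow, hBt, fn_tperm_pow tabB_inv]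
      show fn (d.genP j * tperm tabB * (d.genP j)⁻¹) i = _
      rw [fn_mul, fn_mul, show (d.genP j)⁻¹ = (tperm (d.gensT.getD j tabA))⁻¹ from rfl,
        fn_tperm_inv hTi, fn_tperm tabB_inv, fn_genP hd, hm]
    have e2 : φ' (P j) * P 1 * (φ' (P j))⁻¹ = P 1 ^ m := by
      have := congrArg φ' e1
      rwa [map_mul, map_mul, map_inv, map_pow, hkb] at this
    have hc : Commute ((P j)⁻¹ * φ' (P j)) (P 1) := by
      rw [Commute, SemiconjBy]
      calc (P j)⁻¹ * φ' (P j) * P 1 = (P j)⁻¹ * (φ' (P j) * P 1 * (φ' (P j))⁻¹) * φ' (P j) := by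
            simp [mul_assoc]
        _ = (P j)⁻¹ * (P j * P 1 * (P j)⁻¹) * φ' (P j) := by rw [e1, e2]
        _ = P 1 * ((P j)⁻¹ * φ' (P j)) := by simp [mul_assoc]
    obtain ⟨c, hcm, hce⟩ := centralizer_five hcs hdfs ((P j)⁻¹ * φ' (P j)).2
      (congrArg Subtype.val hc.eq)
    obtain ⟨n, hn, rfl⟩ := List.getElem_of_mem hcm
    refine ⟨⟨n, hn⟩, fun i => ?_⟩
    rw [List.getD_eq_getElem _ _ hn, ← fn_tperm (hcs _ hcm), ← hce, ← hP, ← fn_mul, ← Subgroup.coe_mul,
      mul_inv_cancel_left]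
  obtain ⟨n, hn⟩ := hcand 2 d.m₁ hg₁ (by norm_num)
  obtain ⟨n₂, hn₂⟩ := hcand 3 d.m₂ hg₂ (by norm_num)
  have himg : ∀ j < 4, ∀ i, fn (φ' (P j)).1 i =
      d.imgFn k (d.cs.getD n.val tabA) (d.cs.getD n₂.val tabA) j i := by
    intro j hj i
    obtain rfl | rfl | rfl | rfl : j = 0 ∨ j = 1 ∨ j = 2 ∨ j = 3 := by omega
    · rw [hka, SubmonoidClass.coe_pow, hA, fn_tperm_pow hinvA]; rfl
    · rw [hkb, hB]; rfl
    · exact hn i
    · exact hn₂ i
  have hcase := hcases ⟨k, hk11⟩ hk1 n n₂
  simp only [caseOk, Bool.or_eq_true, List.any_eq_true, Bool.and_eq_true, bne_iff_ne,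
    List.all_eq_true, beq_iff_eq, decide_eq_true_eq, List.mem_range, List.mem_finRange, true_implies,
    true_and] at hcase
  rcases hcase with ⟨t, ht, i, hti'⟩ | ⟨⟨k', n', n₂', fl, T⟩, -, ⟨-, hTm⟩, heq⟩
  · exfalso
    refine hti' ?_
    have e1 : ∀ s : List ℕ, (∀ j ∈ s, j < 4) → ∀ x, fn ((s.map P).prod : clsGroup d.cls).1 x = d.genFn s x := by
      intro s
      induction s with
      | nil => intro _ x; simp [genFn, fn_one]
      | cons j s ih =>
        intro hs x
        rw [List.map_cons, List.prod_cons, Subgroup.coe_mul, fn_mul,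
          ih (fun y hy => hs y (List.mem_cons_of_mem _ hy)), hP]; rfl
    have e2 : ∀ s : List ℕ, (∀ j ∈ s, j < 4) → ∀ x, fn (φ' (s.map P).prod).1 x =
        d.relFn k (d.cs.getD n.val tabA) (d.cs.getD n₂.val tabA) s x := by
      intro s
      induction s with
      | nil => intro _ x; simp [relFn, fn_one]
      | cons j s ih =>
        intro hs x
        rw [List.map_cons, List.prod_cons, map_mul, Subgroup.coe_mul, fn_mul,
          ih (fun y hy => hs y (List.mem_cons_of_mem _ hy)), himg j (hs j List.mem_cons_self)]; rfl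
    have hone : ((t.map P).prod : clsGroup d.cls) = 1 :=
      Subtype.ext (fn_ext fun x => by rw [e1 t (hrl t ht), hrels t ht, OneMemClass.coe_one, fn_one])
    rw [← e2 t (hrl t ht), hone, map_one, OneMemClass.coe_one, fn_one]
  · have hTi : TabInv T := hTm.1
    let tS : clsGroup d.cls := ⟨tperm T, tperm_mem hTm⟩
    have htop : ∀ ψ χ : MulAut (clsGroup d.cls), (∀ j < 4, ψ (P j) = χ (P j)) → ψ = χ := by
      intro ψ χ h
      have hdense : Subgroup.closure ({P 0, P 1, P 2, P 3} : Set (clsGroup d.cls)) = ⊤ := by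
        rw [eq_top_iff]
        rintro ⟨x, hx⟩ -
        have hx' : x ∈ d.gen := by rw [gen_eq hd hl hN hlev]; exact hx
        rw [gen, show ({d.genP 0, d.genP 1, d.genP 2, d.genP 3} : Set (Equiv.Perm GolayPt)) =
          (clsGroup d.cls).subtype '' {P 0, P 1, P 2, P 3} by simp [Set.image_insert_eq, P],
          ← MonoidHom.map_closure] at hx'
        obtain ⟨y, hy, e⟩ := hx'
        rwa [show (⟨x, hx⟩ : clsGroup d.cls) = y from Subtype.ext e.symm]
      have hEq : ψ.toMonoidHom = χ.toMonoidHom := MonoidHom.eq_of_eqOn_dense hdense (by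
        rintro x (rfl | rfl | rfl | rfl)
        exacts [h 0 (by norm_num), h 1 (by norm_num), h 2 (by norm_num), h 3 (by norm_num)])
      ext x : 1
      exact DFunLike.congr_fun hEq x
    have hin : ∀ x : clsGroup d.cls, MulAut.conj x ∈ Cfsg.Inn (clsGroup d.cls) := fun x => ⟨x, rfl⟩
    cases fl with
    | false =>
      left
      have : φ' = MulAut.conj tS := htop _ _ fun j hj => Subtype.ext (fn_ext fun i => by
        rw [himg j hj, ← heq j hj i, if_neg Bool.false_ne_true]
        show _ = fn (tperm T * d.genP j * (tperm T)⁻¹) i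
        rw [fn_mul, fn_mul, fn_tperm_inv hTi, fn_genP hd, fn_tperm hTi])
      rw [show φ = (MulAut.conj u)⁻¹ * φ' by simp [hφ'], this]
      exact mul_mem (inv_mem (hin u)) (hin tS)
    | true =>
      right
      set ψ := normAut _ (tperm d.tau) (tau_normalizes hd)
      have : φ' = ψ * MulAut.conj tS := htop _ _ fun j hj => Subtype.ext (fn_ext fun i => by
        rw [himg j hj, ← heq j hj i, if_pos rfl]
        show _ = fn (tperm d.tau * (tperm T * d.genP j * (tperm T)⁻¹) * (tperm d.tau)⁻¹) i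
        rw [fn_mul, fn_mul, fn_mul, fn_mul, fn_tperm_inv hti, fn_tperm_inv hTi, fn_genP hd, fn_tperm hTi,
          fn_tperm hti])
      have e : ψ⁻¹ * φ = ψ⁻¹ * (MulAut.conj u)⁻¹ * ψ * MulAut.conj tS := by
        rw [mul_assoc (ψ⁻¹ * (MulAut.conj u)⁻¹), ← this, hφ', mul_assoc, inv_mul_cancel_left]
      rw [e]
      refine mul_mem ?_ (hin tS)
      have := (inferInstance : (Cfsg.Inn (clsGroup d.cls)).Normal).conj_mem _ (inv_mem (hin u)) ψ⁻¹
      rwa [inv_inv] at this

end OutSpec

end Cfsg.Agent.Golay
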