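import Cfsg.Agent.Lib.Golay.Basic
import Cfsg.Agent.Lib.Steiner.Basic
import Cfsg.Prelude.Def_SporadicCombinatorics

/-! Sextets, trios and the punctured code of length 23. -/

set_option autoImplicit false

namespace Cfsg.Agent.Sextet

open Cfsg Cfsg.Agent.Golay Cfsg.Agent.Steiner Finset

theorem card_pt : Fintype.card GolayPt = 24 := by decide +kernel

theorem octads_through {t : Finset GolayPt} (ht : t.card = 4) :
    ((blocks octads).filter (t ⊆ ·)).card = 5 := by
  have h := card_sup octads_steiner t (by omega)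
  rw [ht, card_pt, show Nat.choose (8 - 4) (5 - 4) = 4 by decide,
    show Nat.choose (24 - 4) (5 - 4) = 20 by decide +kernel] at h
  omega

/-- The six tetrads determined by one of them. -/
noncomputable def tetrads (t : Finset GolayPt) : Finset (Finset GolayPt) :=
  insert t (((blocks octads).filter (t ⊆ ·)).image (· \ t))

theorem mem_tetrads {t u : Finset GolayPt} :
    u ∈ tetrads t ↔ u = t ∨ ∃ o ∈ octads, t ⊆ o ∧ o \ t = u := by
  simp only [tetrads, mem_insert, mem_image, mem_filter, mem_blocks, and_assoc]

theorem tetrads_card {t : Finset GolayPt} (ht : t.card = 4) : (tetrads t).card = 6 := by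
  rw [tetrads, card_insert_of_notMem, card_image_of_injOn, octads_through ht]
  · intro o ho o' ho' e
    beta_reduce at e
    rw [← union_sdiff_of_subset (mem_filter.mp ho).2, ← union_sdiff_of_subset (mem_filter.mp ho').2, e]
  · intro h
    obtain ⟨o, -, e⟩ := mem_image.mp h
    have h' : Disjoint (o \ t) t := sdiff_disjoint
    rw [e, disjoint_self] at h'
    rw [h'] at ht
    simp at ht

theorem tetrads_mem {t : Finset GolayPt} (ht : t.card = 4) : tetrads t ∈ sextets := by
  refine ⟨tetrads_card ht, fun u hu => ?_, fun u hu v hv huv => ?_⟩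
  · rcases mem_tetrads.mp hu with rfl | ⟨o, ho, hto, rfl⟩
    · exact ht
    · rw [card_sdiff_of_subset hto, ho.2, ht]
  · rcases mem_tetrads.mp hu with rfl | ⟨o, ho, hto, rfl⟩ <;>
      rcases mem_tetrads.mp hv with rfl | ⟨o', ho', hto', rfl⟩
    · exact absurd rfl huv
    · rwa [union_sdiff_of_subset hto']
    · rwa [union_comm, union_sdiff_of_subset hto]
    · have hne : o ≠ o' := fun e => huv (by rw [e])
      have h5 := inter_lt octads_steiner ho ho' hne
      have he : t = o ∩ o' :=
        eq_of_subset_of_card_le (subset_inter hto hto') (by omega)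
      have h4 : (o ∩ o').card = 4 := by rw [← he, ht]
      have := symmDiff_mem card_pt octads_steiner ho ho' h4
      convert this using 1
      ext x
      simp [he, mem_symmDiff]

theorem tetrads_unique {t : Finset GolayPt} {S : Finset (Finset GolayPt)} (hS : S ∈ sextets)
    (htS : t ∈ S) : S = tetrads t := by
  obtain ⟨h6, h4, hu⟩ := hS
  refine eq_of_subset_of_card_le (fun u huS => mem_tetrads.mpr ?_) (by rw [h6, tetrads_card (h4 t htS)])
  by_cases e : u = t
  · exact Or.inl e
  refine Or.inr ⟨t ∪ u, hu t htS u huS (Ne.symm e), subset_union_left, ?_⟩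
  have h8 := (hu t htS u huS (Ne.symm e)).2
  have := card_union_add_card_inter t u
  rw [h8, h4 t htS, h4 u huS] at this
  have hd : Disjoint t u := disjoint_iff_inter_eq_empty.mpr (card_eq_zero.mp (by omega))
  exact union_sdiff_cancel_left hd

theorem ncard_sextets : sextets.ncard = 1771 := by
  classical
  have h := card_eq_sum_card_fiberwise (f := tetrads) (s := powersetCard 4 (univ : Finset GolayPt))
    (t := (Set.toFinite sextets).toFinset)
    (fun t ht => by simpa using tetrads_mem (mem_powersetCard.mp ht).2)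
  rw [sum_eq_card_nsmul (b := 6), card_powersetCard, card_univ, card_pt,
    show Nat.choose 24 4 = 10626 by decide +kernel, smul_eq_mul,
    ← Set.ncard_eq_toFinset_card _ (Set.toFinite sextets)] at h
  · omega
  · intro S hS
    rw [Set.Finite.mem_toFinset] at hS
    convert hS.1 using 2
    ext t
    simp only [mem_filter, mem_powersetCard, subset_univ, true_and]
    exact ⟨fun ⟨ht, e⟩ => e ▸ mem_insert_self _ _, fun ht => ⟨hS.2.1 t ht, (tetrads_unique hS ht).symm⟩⟩

theorem compl_union_mem {o o' : Finset GolayPt} (ho : o ∈ octads) (ho' : o' ∈ octads)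
    (hd : Disjoint o o') : (o ∪ o')ᶜ ∈ octads := by
  obtain ⟨⟨v, hv, rfl⟩, h8⟩ := ho
  obtain ⟨⟨w, hw, rfl⟩, h8'⟩ := ho'
  refine ⟨⟨1 + v + w, add_mem (add_mem (Submodule.subset_span (Or.inr rfl)) hv) hw, ?_⟩, ?_⟩
  · ext p
    have := fun h => (Finset.disjoint_left.mp hd : ∀ ⦃a⦄, _ → _) (a := p) h
    simp only [support₂, mem_filter, mem_univ, true_and, mem_compl, mem_union, Pi.add_apply,
      Pi.one_apply] at this ⊢
    revert this
    generalize v p = a
    generalize w p = b
    revert a b
    decide
  · rw [card_compl, card_pt, card_union_of_disjoint hd, h8, h8']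

theorem card_octads : (blocks octads).card = 759 := by
  have h := card_blocks octads_steiner
  rw [card_pt, ncard_eq_card, show Nat.choose 8 5 = 56 by decide,
    show Nat.choose 24 5 = 42504 by decide +kernel] at h
  omega

theorem trio_third {T : Finset (Finset GolayPt)} (hT : T ∈ trios) {o o' : Finset GolayPt} (ho : o ∈ T)
    (ho' : o' ∈ T) (hne : o ≠ o') : T = {o, o', (o ∪ o')ᶜ} := by
  obtain ⟨h3, hoct, hdis⟩ := hT
  have hd := hdis o ho o' ho' hne
  obtain ⟨c, hc⟩ : ∃ c, c ∈ T \ {o, o'} := card_pos.mp (by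
    rw [card_sdiff_of_subset (by simp [insert_subset_iff, ho, ho']), card_pair hne, h3]; norm_num)
  simp only [mem_sdiff, mem_insert, mem_singleton, not_or] at hc
  have e : c = (o ∪ o')ᶜ := by
    refine eq_of_subset_of_card_le (fun x hx => ?_) ?_
    · rw [mem_compl, mem_union]
      rintro (h | h)
      · exact disjoint_left.mp (hdis c hc.1 o ho hc.2.1) hx h
      · exact disjoint_left.mp (hdis c hc.1 o' ho' hc.2.2) hx h
    · rw [card_compl, card_pt, card_union_of_disjoint hd, (hoct o ho).2, (hoct o' ho').2, (hoct c hc.1).2]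
  symm
  refine eq_of_subset_of_card_le (by simp [insert_subset_iff, ho, ho', ← e, hc.1]) ?_
  rw [h3, ← e]
  refine le_of_eq (card_eq_three.mpr ⟨o, o', c, hne, ?_, ?_, rfl⟩).symm
  exacts [Ne.symm hc.2.1, Ne.symm hc.2.2]

theorem trio_mem {o o' : Finset GolayPt} (ho : o ∈ octads) (ho' : o' ∈ octads) (hd : Disjoint o o') :
    ({o, o', (o ∪ o')ᶜ} : Finset (Finset GolayPt)) ∈ trios := by
  have hc := compl_union_mem ho ho' hd
  have d1 : Disjoint o (o ∪ o')ᶜ := disjoint_compl_right.mono_left subset_union_left
  have d2 : Disjoint o' (o ∪ o')ᶜ := disjoint_compl_right.mono_left subset_union_right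
  have ne : ∀ {a b : Finset GolayPt}, a ∈ octads → Disjoint a b → a ≠ b := fun ha hab e => by
    subst e
    have := ha.2
    rw [disjoint_self.mp hab] at this
    simp at this
  refine ⟨card_eq_three.mpr ⟨_, _, _, ne ho hd, ne ho d1, ne ho' d2, rfl⟩, ?_, ?_⟩
  · intro c hcm
    simp only [mem_insert, mem_singleton] at hcm
    rcases hcm with rfl | rfl | rfl <;> assumption
  · simp only [mem_insert, mem_singleton]
    rintro a (rfl | rfl | rfl) b (rfl | rfl | rfl) hab <;>
      first | exact absurd rfl hab | exact hd | exact hd.symm | exact d1 | exact d1.symm | exact d2 | exact d2.symm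

theorem ncard_trios : trios.ncard = 3795 := by
  classical
  set P := (blocks octads ×ˢ blocks octads).filter fun x => Disjoint x.1 x.2 with hP
  have hPc : P.card = 759 * 30 := by
    rw [hP, card_filter, sum_product, ← card_octads, ← smul_eq_mul, ← sum_const]
    refine sum_congr rfl fun o ho => ?_
    rw [← card_filter]
    rw [← card_disjoint_24 card_pt octads_steiner (mem_blocks.mp ho), ← Set.ncard_coe_finset]
    congr 1
    ext c
    simp [mem_blocks]
  have h := card_eq_sum_card_fiberwise (f := fun x => ({x.1, x.2, (x.1 ∪ x.2)ᶜ} : Finset (Finset GolayPt)))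
    (s := P) (t := (Set.toFinite trios).toFinset) (fun x hx => by
      simp only [hP, coe_filter, mem_product, mem_blocks, Set.mem_ofPred_eq] at hx
      simpa using trio_mem hx.1.1 hx.1.2 hx.2)
  rw [sum_eq_card_nsmul (b := 6), hPc, smul_eq_mul,
    ← Set.ncard_eq_toFinset_card _ (Set.toFinite trios)] at h
  · omega
  · intro T hT
    rw [Set.Finite.mem_toFinset] at hT
    have e : P.filter (fun x => ({x.1, x.2, (x.1 ∪ x.2)ᶜ} : Finset (Finset GolayPt)) = T) = T.offDiag := by
      ext ⟨a, b⟩
      simp only [hP, mem_filter, mem_product, mem_blocks, mem_offDiag]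
      constructor
      · rintro ⟨⟨⟨ha, hb⟩, hd⟩, e⟩
        refine ⟨e ▸ by simp, e ▸ by simp, fun eab => ?_⟩
        subst eab
        have := ha.2
        rw [disjoint_self.mp hd] at this
        simp at this
      · rintro ⟨ha, hb, hne⟩
        exact ⟨⟨⟨hT.2.1 a ha, hT.2.1 b hb⟩, hT.2.2 a ha b hb hne⟩, (trio_third hT ha hb hne).symm⟩
    rw [e, offDiag_card, hT.1]

/-! ### Puncturing -/

/-- Forget the extra coordinate. -/
def punct (w : GolayPt → ZMod 2) : ZMod 23 → ZMod 2 := fun x => w (some x)

theorem hammingNorm_punct (w : GolayPt → ZMod 2) :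
    hammingNorm w = (if w none ≠ 0 then 1 else 0) + hammingNorm (punct w) := by
  simp only [hammingNorm, card_filter]
  rw [Fintype.sum_option]
  rfl

theorem punctured_eq : {u : ZMod 23 → ZMod 2 | ∃ w ∈ golayCode, ∀ x : ZMod 23, u x = w (some x)} =
    punct '' (golayCode : Set (GolayPt → ZMod 2)) := by
  ext u
  exact ⟨fun ⟨w, hw, h⟩ => ⟨w, hw, (funext h).symm⟩, fun ⟨w, hw, h⟩ => ⟨w, hw, fun x => (congrFun h x).symm⟩⟩

theorem eight_le {w : GolayPt → ZMod 2} (hw : w ∈ golayCode) (h : w ≠ 0) : 8 ≤ hammingNorm w := by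
  have := List.all_eq_true.mp weights_ok _ (mask_mem_codeList hw)
  have h0 : popc (mask w) ≠ 0 := by rw [← hammingNorm_eq]; exact hammingNorm_ne_zero_iff.mpr h
  rw [hammingNorm_eq]
  simp only [List.contains_eq_mem, List.mem_cons, List.not_mem_nil, or_false, decide_eq_true_eq] at this
  omega

theorem punct_injOn : Set.InjOn punct (golayCode : Set (GolayPt → ZMod 2)) := by
  intro v hv w hw e
  by_contra hne
  have h := eight_le (sub_mem hv hw) (sub_ne_zero.mpr hne)
  rw [hammingNorm_punct] at h
  have : punct (v - w) = 0 := funext fun x => sub_eq_zero.mpr (congrFun e x)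
  rw [this, hammingNorm_zero] at h
  split_ifs at h <;> omega

/-- Weight after puncturing, on masks. -/
def pwt (m : ℕ) : ℕ := popc m - (if m.testBit 23 then 1 else 0)

theorem pwt_eq (w : GolayPt → ZMod 2) : hammingNorm (punct w) = pwt (mask w) := by
  have h := hammingNorm_punct w
  rw [hammingNorm_eq] at h
  have e : (mask w).testBit 23 = decide (w none ≠ 0) := testBit_mask w none
  rw [pwt, e]
  by_cases hn : w none = 0 <;> simp [hn] at h ⊢ <;> omega

theorem ncard_punct (k : ℕ) :
    {u : ZMod 23 → ZMod 2 | u ∈ {u : ZMod 23 → ZMod 2 | ∃ w ∈ golayCode, ∀ x : ZMod 23, u x = w (some x)} ∧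
      hammingNorm u = k}.ncard = (codeList.filter fun m => pwt m == k).length := by
  classical
  rw [punctured_eq]
  have e : {u : ZMod 23 → ZMod 2 | u ∈ punct '' (golayCode : Set (GolayPt → ZMod 2)) ∧ hammingNorm u = k} =
      (fun m => punct (ofMask m)) '' ↑(codeList.filter fun m => pwt m == k).toFinset := by
    ext u
    simp only [List.coe_toFinset, Set.mem_image, Set.mem_ofPred_eq, List.mem_filter, beq_iff_eq, SetLike.mem_coe]
    constructor
    · rintro ⟨⟨w, hw, rfl⟩, h⟩
      exact ⟨mask w, ⟨mask_mem_codeList hw, by rw [← pwt_eq, h]⟩, by rw [ofMask_mask]⟩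
    · rintro ⟨m, ⟨hm, hk⟩, rfl⟩
      obtain ⟨h1, h2⟩ := (mem_codeList_iff _).mp hm
      exact ⟨⟨ofMask m, (mem_golay_iff _).mpr (by rwa [mask_ofMask h1]), rfl⟩,
        by rw [pwt_eq, mask_ofMask h1, hk]⟩
  rw [e, Set.InjOn.ncard_image, Set.ncard_coe_finset,
    List.toFinset_card_of_nodup (codeList_nodup.filter _)]
  intro a ha b hb hab
  simp only [List.coe_toFinset, Set.mem_ofPred_eq, List.mem_filter] at ha hb
  obtain ⟨a1, a2⟩ := (mem_codeList_iff _).mp ha.1
  obtain ⟨b1, b2⟩ := (mem_codeList_iff _).mp hb.1
  have := punct_injOn ((mem_golay_iff _).mpr (by rwa [mask_ofMask a1]))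
    ((mem_golay_iff _).mpr (by rwa [mask_ofMask b1])) hab
  rw [← mask_ofMask a1, this, mask_ofMask b1]

theorem card_ball : ((univ : Finset (ZMod 23 → ZMod 2)).filter fun e => hammingNorm e ≤ 3).card = 2048 := by
  have h : ((univ : Finset (ZMod 23 → ZMod 2)).filter fun e => hammingNorm e ≤ 3).card =
      ((range 4).biUnion fun k => powersetCard k (univ : Finset (ZMod 23))).card := by
    refine card_bij' (fun e _ => support₂ e) (fun s _ => fun x => if x ∈ s then 1 else 0) ?_ ?_ ?_ ?_
    · intro e he
      simp only [mem_filter, mem_univ, true_and, mem_biUnion, mem_range, mem_powersetCard,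
        subset_univ] at he ⊢
      exact ⟨_, Nat.lt_succ_of_le he, rfl⟩
    · intro s hs
      simp only [mem_biUnion, mem_range, mem_powersetCard, subset_univ, true_and] at hs
      obtain ⟨k, hk, hs⟩ := hs
      simp [hammingNorm]
      omega
    · intro e _
      funext x
      simp only [support₂, mem_filter, mem_univ, true_and]
      generalize e x = a
      revert a
      decide
    · intro s _
      ext x
      simp [support₂]
  rw [h, card_biUnion]
  · simp only [card_powersetCard, card_univ, ZMod.card]
    decide +kernel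
  · intro i _ j _ hij
    exact pairwise_disjoint_powersetCard _ hij

theorem dist_seven {c c' : GolayPt → ZMod 2} (hc : c ∈ golayCode) (hc' : c' ∈ golayCode) (hne : c ≠ c') :
    7 ≤ hammingDist (punct c) (punct c') := by
  have h := eight_le (sub_mem hc' hc) (sub_ne_zero.mpr hne.symm)
  rw [hammingNorm_punct, show c' - c = -c + c' by abel] at h
  rw [hammingDist_eq_hammingNorm]
  have e : hammingNorm (-punct c + punct c') = hammingNorm (punct (-c + c')) := rfl
  split_ifs at h <;> omega

theorem covering (u : ZMod 23 → ZMod 2) : ∃ c ∈ golayCode, hammingDist u (punct c) ≤ 3 := by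
  classical
  let f : ↥golayCode × ↥((univ : Finset (ZMod 23 → ZMod 2)).filter fun e => hammingNorm e ≤ 3) →
      (ZMod 23 → ZMod 2) := fun x => punct x.1.1 + x.2.1
  have hinj : Function.Injective f := by
    rintro ⟨⟨c, hc⟩, e, he⟩ ⟨⟨c', hc'⟩, e', he'⟩ h
    simp only [f] at h
    simp only [mem_filter, mem_univ, true_and] at he he'
    have hcc : c = c' := by
      by_contra hne
      have h7 := dist_seven hc hc' hne
      have := hammingDist_triangle (punct c) (punct c + e) (punct c')
      have h1 : hammingDist (punct c) (punct c + e) = hammingNorm e := by simp [hammingDist, hammingNorm]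
      have h2 : hammingDist (punct c + e) (punct c') = hammingNorm e' := by
        rw [h]; simp [hammingDist, hammingNorm]
      omega
    subst hcc
    exact Prod.ext rfl (Subtype.ext (add_left_cancel h))
  have hcard : Nat.card (↥golayCode × ↥((univ : Finset (ZMod 23 → ZMod 2)).filter fun e => hammingNorm e ≤ 3)) =
      Nat.card (ZMod 23 → ZMod 2) := by
    rw [Nat.card_prod, card_golayCode, Nat.card_eq_finsetCard, card_ball, Nat.card_fun, Nat.card_zmod, Nat.card_zmod]
    decide +kernel
  obtain ⟨⟨⟨c, hc⟩, e, he⟩, h⟩ :=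
    (Function.Injective.bijective_of_nat_card_le hinj hcard.ge).2 u
  refine ⟨c, hc, ?_⟩
  simp only [mem_filter, mem_univ, true_and] at he
  rw [← h]
  simpa [f, hammingDist, hammingNorm] using he

end Cfsg.Agent.Sextet
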