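import Cfsg.Agent.Lib.Golay.ChainFive
import Cfsg.Agent.Lib.Golay.OutSmall
import Cfsg.Agent.Lib.Golay.Sextet
import Cfsg.Agent.Lib.Golay.ClassData

/-! Classes of elements of orders two and three. -/

set_option autoImplicit false

namespace Cfsg.Agent.Golay

open Cfsg
open scoped Pointwise

/-- number of fixed points -/
noncomputable def fcount (g : Equiv.Perm GolayPt) : ℕ := (Finset.univ.filter fun p => g p = p).card

theorem fcount_eq (g : Equiv.Perm GolayPt) :
    fcount g = ((List.finRange 24).filter fun i => decide (fn g i = i)).length := by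
  classical
  rw [fcount, ← List.toFinset_card_of_nodup (List.Nodup.filter _ (List.nodup_finRange 24))]
  refine Finset.card_bij (fun p _ => idx p) (fun p hp => ?_) (fun a _ b _ h => idx_injective' h)
    (fun i hi => ⟨pt i, ?_, idx_pt i⟩)
  · simp only [Finset.mem_filter, Finset.mem_univ, true_and] at hp
    simp [fn, pt_idx, hp]
  · simp only [List.mem_toFinset, List.mem_filter, decide_eq_true_eq] at hi
    simp only [Finset.mem_filter, Finset.mem_univ, true_and]
    exact idx_injective' (by rw [idx_pt]; exact hi.2)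

theorem fcount_tperm {T : Tab} (h : TabInv T) :
    fcount (tperm T) = ((List.finRange 24).filter fun i => decide (tabFn T.1 i = i)).length := by
  rw [fcount_eq, show fn (tperm T) = tabFn T.1 from funext (fn_tperm h)]

theorem fcount_conj (σ g : Equiv.Perm GolayPt) : fcount (σ * g * σ⁻¹) = fcount g := by
  classical
  refine Finset.card_bij (fun p _ => σ⁻¹ p) (fun p hp => ?_) (fun a _ b _ h => σ⁻¹.injective h)
    (fun q hq => ⟨σ q, ?_, σ.symm_apply_apply q⟩)
  · simp only [Finset.mem_filter, Finset.mem_univ, true_and] at hp ⊢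
    conv_rhs => rw [← hp]
    simp
  · simp only [Finset.mem_filter, Finset.mem_univ, true_and] at hq ⊢
    simp [hq]

theorem tab_mem {T : Tab} (h : gensFix [] [T]) : tperm T ∈ M24 :=
  (gens_mem h T List.mem_cons_self).1

theorem words48_fix : ∀ w ∈ words48, ((List.finRange 24).filter fun i => decide (ev w i = i)).length ≤ 8 ∨
    tab w = tab [] := by decide +kernel

theorem fixed_le {g : Equiv.Perm GolayPt} (hg : g ∈ M24) (hne : g ≠ 1) : fcount g ≤ 8 := by
  classical
  by_contra hlt
  obtain ⟨s, hs, hsc⟩ := Finset.exists_subset_card_eq (show 5 ≤ (Finset.univ.filter fun p => g p = p).card by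
    unfold fcount at hlt; omega)
  obtain ⟨σ, hσ, h⟩ := exists_mem_M24_map
    ((s.equivFinOfCardEq hsc).symm.toEmbedding.trans (Function.Embedding.subtype _))
  have hmem : σ⁻¹ * g * σ ∈ chain 5 := by
    refine ⟨mul_mem (mul_mem (inv_mem hσ) hg) hσ, fun i hi => ?_⟩
    have hfix : g (σ (pt (bpt i))) = σ (pt (bpt i)) := by
      rw [h ⟨i, hi⟩]
      exact (Finset.mem_filter.mp (hs ((s.equivFinOfCardEq hsc).symm ⟨i, hi⟩).2)).2
    rw [Equiv.Perm.mul_apply, Equiv.Perm.mul_apply, hfix, Equiv.Perm.coe_inv, Equiv.symm_apply_apply]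
  obtain ⟨w, hw, he⟩ := chain_five_words hmem
  have hc : fcount (wordPerm w) = fcount g := by
    rw [he]; simpa using fcount_conj σ⁻¹ g
  rcases words48_fix w hw with h8 | h1
  · rw [fcount_eq, show fn (wordPerm w) = ev w from funext (fn_wordPerm w)] at hc
    omega
  · apply hne
    have : wordPerm w = wordPerm [] := wordPerm_tab.mpr h1
    rw [he] at this
    have h2 : σ⁻¹ * g * σ = 1 := this
    have h3 := congrArg (fun x => σ * x * σ⁻¹) h2
    simpa [mul_assoc] using h3

/-- pattern of three two-cycles -/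
def pat2 : Fin 6 → Fin 6 := ![1, 0, 3, 2, 5, 4]
/-- pattern of two three-cycles -/
def pat3 : Fin 6 → Fin 6 := ![1, 2, 0, 4, 5, 3]

/-- `H` acts on the canonical six points by `P`. -/
def ActsSix (H : Tab) (b : Bool) (P : Fin 6 → Fin 6) : Prop :=
  TabInv H ∧ (∀ x ∈ basis, inC (pullMask (tabFn H.1) x.2) = true) ∧
    ∀ i : Fin 6, pt (tabFn H.1 (idx (canon b i))) = canon b (P i)

instance (H : Tab) (b : Bool) (P : Fin 6 → Fin 6) : Decidable (ActsSix H b P) := by
  unfold ActsSix; infer_instance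

/-- The candidates with a given action on six points all have a conjugator to a representative. -/
def CandsOK (H : Tab) (b : Bool) (n : ℕ) (cs : List Tab) (reps : List Tab) : Prop :=
  ∀ w ∈ words48, ev w (bpt (sixth b)) = bpt (sixth b) →
    (∀ i : Fin 24, (fun j => tabFn H.1 (ev w j))^[n] i = i) →
    ∃ c ∈ cs, ∃ R ∈ reps, ∀ i : Fin 24, tabFn c.1 (tabFn H.1 (ev w i)) = tabFn R.1 (tabFn c.1 i)

instance (H : Tab) (b : Bool) (n : ℕ) (cs reps : List Tab) : Decidable (CandsOK H b n cs reps) := by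
  unfold CandsOK; infer_instance

theorem fn_pow (g : Equiv.Perm GolayPt) (n : ℕ) (i : Fin 24) : fn (g ^ n) i = (fn g)^[n] i := by
  induction n with
  | zero => simp [fn_one]
  | succ n ih => rw [pow_succ', fn_mul, ih, Function.iterate_succ_apply']

theorem class_of_pattern {g : Equiv.Perm GolayPt} (hg : g ∈ M24) (n : ℕ) (hn : g ^ n = 1)
    (P : Fin 6 → Fin 6) (x : Fin 6 ↪ GolayPt) (hx : ∀ i, g (x i) = x (P i))
    (H : Bool → Tab) (hH : ∀ b, ActsSix (H b) b P) (cs reps : List Tab)
    (hcs : gensFix [] cs) (hreps : gensFix [] reps) (hok : ∀ b, CandsOK (H b) b n cs reps) :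
    ∃ σ ∈ M24, ∃ R ∈ reps, σ * g * σ⁻¹ = tperm R := by
  obtain ⟨b, τ, hτ, hc⟩ := exists_canon x
  set k := τ⁻¹ * g * τ with hk
  obtain ⟨hi, hb, hact⟩ := hH b
  have hHm : tperm (H b) ∈ M24 :=
    mem_M24_of_basis (by rw [show fn (tperm (H b)) = tabFn (H b).1 from funext (fn_tperm hi)]; exact hb)
  have hkc : ∀ i, k (canon b i) = canon b (P i) := by
    intro i
    rw [hk, Equiv.Perm.mul_apply, Equiv.Perm.mul_apply, hc i, hx i, Equiv.Perm.coe_inv, ← hc (P i),
      Equiv.symm_apply_apply]
  have hHc : ∀ i, tperm (H b) (canon b i) = canon b (P i) := by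
    intro i
    have := fn_tperm hi (idx (canon b i))
    rw [← hact i, ← this, fn, pt_idx, pt_idx]
  have hf : ∀ i, ((tperm (H b))⁻¹ * k) (canon b i) = canon b i := by
    intro i
    rw [Equiv.Perm.mul_apply, hkc, ← hHc, Equiv.Perm.coe_inv, Equiv.symm_apply_apply]
  have hm : (tperm (H b))⁻¹ * k ∈ chain 5 := by
    refine ⟨mul_mem (inv_mem hHm) (mul_mem (mul_mem (inv_mem hτ) hg) hτ), fun i hi' => ?_⟩
    have := hf ⟨i, by omega⟩
    simpa [canon, hi'] using this
  obtain ⟨w, hw, he⟩ := chain_five_words hm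
  have hsix : ev w (bpt (sixth b)) = bpt (sixth b) := by
    rw [fixes_pt_iff, he]
    have := hf 5
    simpa [canon] using this
  have hkw : k = tperm (H b) * wordPerm w := by rw [he, mul_inv_cancel_left]
  have hfk : fn k = fun j => tabFn (H b).1 (ev w j) := funext fun j => by
    rw [hkw, fn_mul, fn_wordPerm, fn_tperm hi]
  have hpow : ∀ i : Fin 24, (fun j => tabFn (H b).1 (ev w j))^[n] i = i := by
    intro i
    rw [← hfk, ← fn_pow]
    have : k ^ n = 1 := by
      have h1 : k = τ⁻¹ * g * (τ⁻¹)⁻¹ := by rw [inv_inv]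
      rw [h1, conj_pow, hn, mul_one, mul_inv_cancel]
    rw [this, fn_one]
  obtain ⟨c, hcm, R, hR, heq⟩ := hok b w hw hsix hpow
  obtain ⟨⟨hci, -⟩, -⟩ := hcs c hcm
  obtain ⟨⟨hRi, -⟩, -⟩ := hreps R hR
  refine ⟨tperm c * τ⁻¹, mul_mem (gens_mem hcs c hcm).1 (inv_mem hτ), R, hR, ?_⟩
  have hck : tperm c * k = tperm R * tperm c := fn_ext fun i => by
    clear_value k
    rw [fn_mul (tperm c) k, fn_mul (tperm R) (tperm c), fn_tperm hci, fn_tperm hci, fn_tperm hRi, hfk]
    exact heq i
  rw [mul_inv_rev, inv_inv]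
  calc tperm c * τ⁻¹ * g * (τ * (tperm c)⁻¹) = tperm c * k * (tperm c)⁻¹ := by
        rw [hk]; simp [mul_assoc]
    _ = tperm R := by rw [hck, mul_inv_cancel_right]

theorem six_F_two : ActsSix six2F false pat2 := by decide +kernel
theorem six_T_two : ActsSix six2T true pat2 := by decide +kernel
theorem six_F_three : ActsSix six3F false pat3 := by decide +kernel
theorem six_T_three : ActsSix six3T true pat3 := by decide +kernel
theorem conjs2_mem : gensFix [] conjs2 := by decide +kernel
theorem conjs3_mem : gensFix [] conjs3 := by decide +kernel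
theorem reps2_mem : gensFix [] [invA, invB] := by decide +kernel
theorem reps3_mem : gensFix [] [triA, triB] := by decide +kernel
theorem cands_F_two : CandsOK six2F false 2 conjs2 [invA, invB] := by decide +kernel
theorem cands_T_two : CandsOK six2T true 2 conjs2 [invA, invB] := by decide +kernel
theorem cands_F_three : CandsOK six3F false 3 conjs3 [triA, triB] := by decide +kernel
theorem cands_T_three : CandsOK six3T true 3 conjs3 [triA, triB] := by decide +kernel

theorem reps_fcount : fcount (tperm invA) = 8 ∧ fcount (tperm invB) = 0 ∧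
    fcount (tperm triA) = 6 ∧ fcount (tperm triB) = 0 := by
  obtain ⟨⟨h1, -⟩, -⟩ := reps2_mem invA (by simp)
  obtain ⟨⟨h2, -⟩, -⟩ := reps2_mem invB (by simp)
  obtain ⟨⟨h3, -⟩, -⟩ := reps3_mem triA (by simp)
  obtain ⟨⟨h4, -⟩, -⟩ := reps3_mem triB (by simp)
  rw [fcount_tperm h1, fcount_tperm h2, fcount_tperm h3, fcount_tperm h4]
  decide +kernel

/-- a moved point away from a given small set -/
theorem exists_moved_pt {g : Equiv.Perm GolayPt} (hg : g ∈ M24) (hne : g ≠ 1) (s : Finset GolayPt)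
    (hs : s.card ≤ 15) : ∃ a, a ∉ s ∧ g a ≠ a := by
  classical
  by_contra h
  push Not at h
  have h1 := fixed_le hg hne
  have h2 : sᶜ.card ≤ fcount g := Finset.card_le_card fun p hp => by
    simp only [Finset.mem_filter, Finset.mem_univ, true_and]
    exact h p (Finset.mem_compl.mp hp)
  rw [Finset.card_compl, Sextet.card_pt] at h2
  omega

theorem class_two {g : Equiv.Perm GolayPt} (hg : g ∈ M24) (hne : g ≠ 1) (h2 : g ^ 2 = 1) :
    ∃ σ ∈ M24, σ * g * σ⁻¹ = tperm invA ∨ σ * g * σ⁻¹ = tperm invB := by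
  classical
  have hgg : ∀ p, g (g p) = p := fun p => by
    have := congrArg (fun f => f p) h2; simpa [pow_two] using this
  obtain ⟨a, -, ha⟩ := exists_moved_pt hg hne ∅ (by simp)
  obtain ⟨c, hc1, hc⟩ := exists_moved_pt hg hne {a, g a} (Finset.card_le_two.trans (by norm_num))
  obtain ⟨e, he1, he⟩ := exists_moved_pt hg hne {a, g a, c, g c} (Finset.card_le_four.trans (by norm_num))
  simp only [Finset.mem_insert, Finset.mem_singleton, not_or] at hc1 he1
  let x : Fin 6 → GolayPt := ![a, g a, c, g c, e, g e]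
  have hinj : Function.Injective x := by
    have n1 : g c ≠ a := fun h => hc1.2 (by rw [← h, hgg])
    have n2 : g c ≠ g a := fun h => hc1.1 (g.injective h)
    have n3 : g e ≠ a := fun h => he1.2.1 (by rw [← h, hgg])
    have n4 : g e ≠ g a := fun h => he1.1 (g.injective h)
    have n5 : g e ≠ c := fun h => he1.2.2.2 (by rw [← h, hgg])
    have n6 : g e ≠ g c := fun h => he1.2.2.1 (g.injective h)
    intro i j
    fin_cases i <;> fin_cases j <;>
      simp [x, ha, hc, he, Ne.symm ha, Ne.symm hc, Ne.symm he, hc1.1, hc1.2, he1.1, he1.2.1,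
        he1.2.2.1, he1.2.2.2, Ne.symm hc1.1, Ne.symm hc1.2, Ne.symm he1.1, Ne.symm he1.2.1,
        Ne.symm he1.2.2.1, Ne.symm he1.2.2.2, n1, n2, n3, n4, n5, n6, Ne.symm n1, Ne.symm n2,
        Ne.symm n3, Ne.symm n4, Ne.symm n5, Ne.symm n6]
  obtain ⟨σ, hσ, R, hR, he'⟩ := class_of_pattern hg 2 h2 pat2 ⟨x, hinj⟩
    (fun i => by fin_cases i <;> simp [x, pat2, hgg])
    (fun b => if b then six2T else six2F) (fun b => by cases b; exacts [six_F_two, six_T_two])
    conjs2 [invA, invB] conjs2_mem reps2_mem (fun b => by cases b; exacts [cands_F_two, cands_T_two])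
  refine ⟨σ, hσ, ?_⟩
  simp only [List.mem_cons, List.not_mem_nil, or_false] at hR
  rcases hR with rfl | rfl <;> simp [he']

theorem class_three {g : Equiv.Perm GolayPt} (hg : g ∈ M24) (hne : g ≠ 1) (h3 : g ^ 3 = 1) :
    ∃ σ ∈ M24, σ * g * σ⁻¹ = tperm triA ∨ σ * g * σ⁻¹ = tperm triB := by
  classical
  have hggg : ∀ p, g (g (g p)) = p := fun p => by
    have := congrArg (fun f => f p) h3; simpa [pow_succ] using this
  obtain ⟨a, -, ha⟩ := exists_moved_pt hg hne ∅ (by simp)
  obtain ⟨c, hc1, hc⟩ := exists_moved_pt hg hne {a, g a, g (g a)} (Finset.card_le_three.trans (by norm_num))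
  simp only [Finset.mem_insert, Finset.mem_singleton, not_or] at hc1
  have a2 : g (g a) ≠ a := fun h => ha (by conv_rhs => rw [← hggg a, h])
  have c2 : g (g c) ≠ c := fun h => hc (by conv_rhs => rw [← hggg c, h])
  have a1 : g (g a) ≠ g a := fun h => ha (g.injective h)
  have c1 : g (g c) ≠ g c := fun h => hc (g.injective h)
  let x : Fin 6 → GolayPt := ![a, g a, g (g a), c, g c, g (g c)]
  have hinj : Function.Injective x := by
    have n1 : g c ≠ a := fun h => hc1.2.2 (by rw [← h, hggg])
    have n2 : g c ≠ g a := fun h => hc1.1 (g.injective h)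
    have n3 : g c ≠ g (g a) := fun h => hc1.2.1 (g.injective h)
    have n4 : g (g c) ≠ a := fun h => hc1.2.1 (by rw [← h, hggg])
    have n5 : g (g c) ≠ g a := fun h => hc1.2.2 (by rw [← h, hggg])
    have n6 : g (g c) ≠ g (g a) := fun h => hc1.1 (g.injective (g.injective h))
    intro i j
    fin_cases i <;> fin_cases j <;>
      simp [x, ha, hc, a1, a2, c1, c2, Ne.symm ha, Ne.symm hc, Ne.symm a1, Ne.symm a2, Ne.symm c1,
        Ne.symm c2, hc1.1, hc1.2.1, hc1.2.2, Ne.symm hc1.1, Ne.symm hc1.2.1, Ne.symm hc1.2.2,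
        n1, n2, n3, n4, n5, n6, Ne.symm n1, Ne.symm n2, Ne.symm n3, Ne.symm n4, Ne.symm n5, Ne.symm n6]
  obtain ⟨σ, hσ, R, hR, he'⟩ := class_of_pattern hg 3 h3 pat3 ⟨x, hinj⟩
    (fun i => by fin_cases i <;> simp [x, pat3, hggg])
    (fun b => if b then six3T else six3F) (fun b => by cases b; exacts [six_F_three, six_T_three])
    conjs3 [triA, triB] conjs3_mem reps3_mem (fun b => by cases b; exacts [cands_F_three, cands_T_three])
  refine ⟨σ, hσ, ?_⟩
  simp only [List.mem_cons, List.not_mem_nil, or_false] at hR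
  rcases hR with rfl | rfl <;> simp [he']

end Cfsg.Agent.Golay
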