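import Cfsg.Prelude.Def_Sporadic_a

/-!
The length-24 binary code of squares modulo 23, computed on bit masks.
Point `some x` has bit `x.val`, the extra point has bit 23.
-/

set_option autoImplicit false

namespace Cfsg.Agent.Golay

open Cfsg

/-- Bit position of a point. -/
def idx : GolayPt → Fin 24
  | none => ⟨23, by decide⟩
  | some x => ⟨x.val, Nat.lt_of_lt_of_le x.val_lt (by decide)⟩

/-- Point at a bit position. -/
def pt (i : Fin 24) : GolayPt := if i.val = 23 then none else some (i.val : ZMod 23)

theorem pt_idx : ∀ p : GolayPt, pt (idx p) = p := by decide +kernel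

theorem idx_pt : ∀ i : Fin 24, idx (pt i) = i := by decide +kernel

/-- The points and the bit positions. -/
def ptEquiv : GolayPt ≃ Fin 24 := ⟨idx, pt, pt_idx, idx_pt⟩

/-- The word of a mask. -/
def ofMask (m : ℕ) (p : GolayPt) : ZMod 2 := if m.testBit (idx p).val then 1 else 0

/-- The mask of a word. -/
def mask (w : GolayPt → ZMod 2) : ℕ := Nat.ofBits fun i : Fin 24 => decide (w (pt i) ≠ 0)

/-- The points of a mask. -/
def supp (m : ℕ) : Finset GolayPt := Finset.univ.filter fun p => m.testBit (idx p).val

/-- The mask of a set of points. -/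
def maskF (s : Finset GolayPt) : ℕ := Nat.ofBits fun i : Fin 24 => decide (pt i ∈ s)

/-- A basis in reduced form: pairs of a pivot position and a mask. -/
def basis : List (ℕ × ℕ) := [(0, 13062145), (1, 4845570), (2, 13938692), (3, 7221256), (4, 10170384), (9, 8077824), (10, 11654144), (5, 11952160), (6, 15515712), (7, 2019456), (8, 4038912), (11, 14919680)]

/-- The generators of `golayCode` as masks. -/
def genMasks : List ℕ := [340831, 681662, 1363324, 2726648, 5453296, 2517985, 5035970, 1683333, 3366666, 6733332, 5078057, 1767507, 3535014, 7070028, 5751449, 3114291, 6228582, 4068557, 8137114, 7885621, 7382635, 6376663, 4364719, 16777215]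

/-- Which generators sum to each basis word. -/
def basisFrom : List (List ℕ) := [[340831, 2726648, 2517985, 1683333, 6733332, 5078057, 16777215], [2726648, 5453296, 3366666], [340831, 2726648, 5453296, 1683333, 5078057, 16777215], [2726648, 5453296, 2517985, 5035970, 3366666, 5078057], [681662, 2726648, 5453296, 2517985, 1683333, 6733332, 5078057, 16777215], [340831, 1363324, 2517985, 5035970], [340831, 681662, 2517985, 5035970, 6733332, 5078057, 16777215], [340831, 681662, 1363324, 5453296, 1683333, 3366666, 6733332, 5078057, 16777215], [340831, 1363324, 2726648, 5035970, 1683333, 3366666, 5078057, 16777215], [5453296, 5035970, 1683333, 3366666, 6733332, 5078057], [340831, 681662, 5035970, 3366666, 5078057], [340831, 1363324, 2517985, 6733332, 5078057, 16777215]]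

/-- The combination of the pairs selected by the bits of `m`. -/
def decodeL : List (ℕ × ℕ) → ℕ → ℕ
  | [], _ => 0
  | (p, b) :: l, m => (if m.testBit p then b else 0) ^^^ decodeL l m

/-- Code membership on masks. -/
def inC (m : ℕ) : Bool := decodeL basis m == m

/-- All combinations of the masks in a list. -/
def combos : List (ℕ × ℕ) → List ℕ
  | [] => [0]
  | (_, b) :: l => combos l ++ (combos l).map (b ^^^ ·)

/-- All words of the code as masks. -/
def codeList : List ℕ := combos basis

/-- Number of points in a mask. -/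
def popc (m : ℕ) : ℕ := (List.range 24).countP fun i => m.testBit i

theorem testBit_mask (w : GolayPt → ZMod 2) (p : GolayPt) :
    (mask w).testBit (idx p).val = decide (w p ≠ 0) := by
  rw [mask, Nat.testBit_ofBits_lt _ _ (idx p).isLt]
  simp [pt_idx]

theorem testBit_mask_ge (w : GolayPt → ZMod 2) (i : ℕ) (h : 24 ≤ i) :
    (mask w).testBit i = false := Nat.testBit_ofBits_ge _ _ h

theorem ofMask_mask (w : GolayPt → ZMod 2) : ofMask (mask w) = w := by
  funext p
  rw [ofMask, testBit_mask]
  generalize w p = x
  revert x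
  decide

theorem ofMask_xor (a b : ℕ) : ofMask (a ^^^ b) = ofMask a + ofMask b := by
  funext p
  simp only [ofMask, Nat.testBit_xor, Pi.add_apply]
  cases a.testBit (idx p).val <;> cases b.testBit (idx p).val <;> decide

theorem ofMask_zero : ofMask 0 = 0 := by funext p; simp [ofMask]

theorem mask_zero : mask 0 = 0 := by
  apply Nat.eq_of_testBit_eq
  intro i
  rw [Nat.zero_testBit]
  by_cases h : i < 24
  · rw [mask, Nat.testBit_ofBits_lt _ _ h]; simp
  · exact testBit_mask_ge _ _ (not_lt.mp h)

theorem mask_add (v w : GolayPt → ZMod 2) : mask (v + w) = mask v ^^^ mask w := by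
  apply Nat.eq_of_testBit_eq
  intro i
  rw [Nat.testBit_xor]
  by_cases h : i < 24
  · simp only [mask]
    rw [Nat.testBit_ofBits_lt _ _ h, Nat.testBit_ofBits_lt _ _ h, Nat.testBit_ofBits_lt _ _ h]
    simp only [Pi.add_apply]
    have key : ∀ x y : ZMod 2, decide (x + y ≠ 0) = (decide (x ≠ 0) ^^ decide (y ≠ 0)) := by decide
    exact key _ _
  · simp only [testBit_mask_ge _ _ (not_lt.mp h)]; rfl

theorem decodeL_xor (l : List (ℕ × ℕ)) (a b : ℕ) :
    decodeL l (a ^^^ b) = decodeL l a ^^^ decodeL l b := by
  induction l with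
  | nil => simp [decodeL]
  | cons x l ih =>
    obtain ⟨p, c⟩ := x
    simp only [decodeL, Nat.testBit_xor, ih]
    cases a.testBit p <;> cases b.testBit p <;>
      simp [Nat.xor_assoc, Nat.xor_left_comm, Nat.xor_comm]

theorem inC_xor {a b : ℕ} (ha : inC a) (hb : inC b) : inC (a ^^^ b) := by
  simp only [inC, beq_iff_eq] at *
  rw [decodeL_xor, ha, hb]

theorem decodeL_mem_combos (l : List (ℕ × ℕ)) (m : ℕ) : decodeL l m ∈ combos l := by
  induction l with
  | nil => simp [decodeL, combos]
  | cons x l ih =>
    obtain ⟨p, c⟩ := x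
    simp only [decodeL, combos, List.mem_append, List.mem_map]
    by_cases h : m.testBit p
    · simp only [h, if_true]; exact Or.inr ⟨_, ih, rfl⟩
    · simp only [h, Bool.false_eq_true, if_false, Nat.zero_xor]; exact Or.inl ih

theorem qrWord_ofMask : ∀ t : ZMod 23, qrWord t = ofMask (genMasks.getD t.val 0) := by
  decide +kernel

theorem mask_qrWord : ∀ t : ZMod 23, inC (mask (qrWord t)) = true := by decide +kernel

theorem one_ofMask : (1 : GolayPt → ZMod 2) = ofMask 16777215 := by decide +kernel

theorem mask_one : inC (mask (1 : GolayPt → ZMod 2)) = true := by decide +kernel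

theorem inC_of_mem {w : GolayPt → ZMod 2} (h : w ∈ golayCode) : inC (mask w) := by
  induction h using Submodule.span_induction with
  | mem x hx =>
    rcases hx with ⟨t, rfl⟩ | hx
    · exact mask_qrWord t
    · rw [Set.mem_singleton_iff] at hx; subst hx; exact mask_one
  | zero => rw [mask_zero]; decide +kernel
  | add x y _ _ hx hy => rw [mask_add]; exact inC_xor hx hy
  | smul c x _ hx =>
    rcases (show ∀ z : ZMod 2, z = 0 ∨ z = 1 by decide) c with rfl | rfl
    · rw [zero_smul, mask_zero]; decide +kernel
    · rwa [one_smul]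

theorem ofMask_gen {g : ℕ} (hg : g ∈ genMasks) : ofMask g ∈ golayCode := by
  have key : ∀ g ∈ genMasks, g = 16777215 ∨ ∃ t : ZMod 23, g = genMasks.getD t.val 0 := by
    decide +kernel
  rcases key g hg with rfl | ⟨t, rfl⟩
  · rw [← one_ofMask]; exact Submodule.subset_span (Or.inr rfl)
  · rw [← qrWord_ofMask]; exact Submodule.subset_span (Or.inl ⟨t, rfl⟩)

theorem ofMask_foldr (l : List ℕ) (h : ∀ g ∈ l, ofMask g ∈ golayCode) :
    ofMask (l.foldr (· ^^^ ·) 0) ∈ golayCode := by
  induction l with
  | nil => rw [List.foldr_nil, ofMask_zero]; exact Submodule.zero_mem _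
  | cons x l ih =>
    rw [List.foldr_cons, ofMask_xor]
    exact Submodule.add_mem _ (h x List.mem_cons_self) (ih fun g hg => h g (List.mem_cons_of_mem _ hg))

theorem ofMask_basis {x : ℕ × ℕ} (hx : x ∈ basis) : ofMask x.2 ∈ golayCode := by
  have key : ∀ x ∈ basis, ∃ l ∈ basisFrom, x.2 = l.foldr (· ^^^ ·) 0 := by decide +kernel
  have key2 : ∀ l ∈ basisFrom, ∀ g ∈ l, g ∈ genMasks := by decide +kernel
  obtain ⟨l, hl, e⟩ := key x hx
  rw [e]
  exact ofMask_foldr l fun g hg => ofMask_gen (key2 l hl g hg)

theorem ofMask_decodeL (l : List (ℕ × ℕ)) (h : ∀ x ∈ l, ofMask x.2 ∈ golayCode) (m : ℕ) :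
    ofMask (decodeL l m) ∈ golayCode := by
  induction l with
  | nil => rw [decodeL, ofMask_zero]; exact Submodule.zero_mem _
  | cons x l ih =>
    obtain ⟨p, c⟩ := x
    rw [decodeL, ofMask_xor]
    refine Submodule.add_mem _ ?_ (ih fun y hy => h y (List.mem_cons_of_mem _ hy))
    split_ifs
    · exact h (p, c) List.mem_cons_self
    · rw [ofMask_zero]; exact Submodule.zero_mem _

theorem mem_golay_iff (w : GolayPt → ZMod 2) : w ∈ golayCode ↔ inC (mask w) = true := by
  refine ⟨inC_of_mem, fun h => ?_⟩
  rw [inC, beq_iff_eq] at h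
  rw [← ofMask_mask w, ← h]
  exact ofMask_decodeL basis (fun x hx => ofMask_basis hx) _

theorem mask_mem_codeList {w : GolayPt → ZMod 2} (h : w ∈ golayCode) : mask w ∈ codeList := by
  have h := inC_of_mem h
  rw [inC, beq_iff_eq] at h
  rw [← h]
  exact decodeL_mem_combos _ _

theorem codeList_facts : codeList.all (fun m => inC m && decide (m < 2 ^ 24)) = true := by
  decide +kernel

theorem mask_ofMask {m : ℕ} (hm : m < 2 ^ 24) : mask (ofMask m) = m := by
  apply Nat.eq_of_testBit_eq
  intro i
  by_cases h : i < 24
  · rw [mask, Nat.testBit_ofBits_lt _ _ h]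
    simp only [ofMask, idx_pt]
    cases m.testBit i <;> simp
  · rw [testBit_mask_ge _ _ (not_lt.mp h)]
    exact (Nat.testBit_lt_two_pow (lt_of_lt_of_le hm (Nat.pow_le_pow_right (by norm_num) (not_lt.mp h)))).symm

theorem mem_codeList_iff (m : ℕ) : m ∈ codeList ↔ m < 2 ^ 24 ∧ inC m = true := by
  constructor
  · intro h
    have := List.all_eq_true.mp codeList_facts m h
    simp only [Bool.and_eq_true, decide_eq_true_eq] at this
    exact ⟨this.2, this.1⟩
  · rintro ⟨h1, h2⟩
    rw [← mask_ofMask h1]
    refine mask_mem_codeList ((mem_golay_iff _).mpr ?_)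
    rw [mask_ofMask h1]; exact h2

theorem support₂_ofMask (m : ℕ) : support₂ (ofMask m) = supp m := by
  ext p
  simp only [support₂, supp, ofMask, Finset.mem_filter, Finset.mem_univ, true_and]
  by_cases h : m.testBit (idx p).val = true <;> simp [h]

theorem mem_supports_iff (s : Finset GolayPt) :
    s ∈ supports (golayCode : Set (GolayPt → ZMod 2)) ↔ inC (maskF s) = true := by
  constructor
  · rintro ⟨w, hw, rfl⟩
    have : maskF (support₂ w) = mask w := by
      simp only [maskF, mask, support₂, Finset.mem_filter, Finset.mem_univ, true_and]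
    rw [this]; exact inC_of_mem hw
  · intro h
    refine ⟨fun p => if p ∈ s then 1 else 0, ?_, ?_⟩
    · refine (mem_golay_iff _).mpr ?_
      have : mask (fun p => if p ∈ s then 1 else 0) = maskF s := by
        simp only [maskF, mask]
        congr 1
        funext i
        by_cases hp : pt i ∈ s <;> simp [hp]
      rw [this]; exact h
    · ext p
      by_cases hp : p ∈ s <;> simp [support₂, hp]

end Cfsg.Agent.Golay
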