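import Cfsg.Agent.Lib.Golay.Families

/-! Orbit certificates for a stabiliser on families. -/

set_option autoImplicit false
set_option maxRecDepth 100000

namespace Cfsg.Agent.Golay

/-- A fixed family. -/
def famDp : List ℕ := [8334384, 8442831]

/-- Generators of a stabiliser. -/
def gensFamDp : List Tab := [([1, 6, 14, 8, 20, 18, 3, 2, 9, 15, 4, 5, 0, 19, 23, 12, 11, 17, 10, 13, 21, 16, 22, 7], [12, 0, 7, 6, 10, 11, 1, 23, 3, 8, 18, 16, 15, 19, 2, 9, 21, 17, 5, 13, 4, 20, 22, 14]), ([22, 4, 5, 18, 6, 7, 20, 19, 21, 17, 3, 9, 11, 23, 10, 13, 15, 0, 2, 1, 14, 8, 12, 16], [17, 19, 18, 10, 1, 2, 4, 5, 21, 11, 14, 12, 22, 15, 20, 16, 23, 9, 3, 7, 6, 8, 0, 13])]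

end Cfsg.Agent.Golay
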