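import Cfsg.Agent.Lib.Golay.Tok

/-!
The point stabilisers and the weight-12 stabiliser in the length-24 automorphism group:
orders, transitivity and simplicity.
-/

set_option autoImplicit false

namespace Cfsg.Agent.Golay

open Cfsg
open scoped Pointwise

/-- A table of transversals given by tokens is correct. -/
def LevOK (gens : List (List (Fin 5))) (L : TokLevels) (bs : List (Fin 24)) (start : ℕ) : Prop :=
  ∀ k : Fin L.length, ∀ e ∈ L.getD k.val [], ev (tokWord gens e.2) (bat bs (start + k.val)) = e.1 ∧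
    ∀ j : Fin (start + k.val), ev (tokWord gens e.2) (bat bs j.val) = bat bs j.val

/-- The generators have order dividing `p` and fix the first `start` base points. -/
def GensOK (gens : List (List (Fin 5))) (bs : List (Fin 24)) (start p : ℕ) : Prop :=
  ∀ g ∈ gens, (∀ i : Fin 24, ev (List.replicate p g).flatten i = i) ∧
    ∀ j : Fin start, ev g (bat bs j.val) = bat bs j.val

theorem fixN_le_prime_closure {H : Subgroup (Equiv.Perm GolayPt)} {bs : List (Fin 24)}
    {gens : List (List (Fin 5))} {L : TokLevels} {start p N : ℕ} (hN : start + L.length = N)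
    (hg : GensOK gens bs start p) (hgH : ∀ g ∈ gens, wordPerm g ∈ H) (hbot : fixN H bs N = ⊥)
    (hL : LevOK gens L bs start)
    (hcov : ∀ k : Fin L.length, ∀ σ ∈ fixN H bs (start + k.val),
      idx (σ (pt (bat bs (start + k.val)))) ∈ (L.getD k.val []).map Prod.fst) :
    fixN H bs start ≤ Subgroup.closure {x | x ∈ fixN H bs start ∧ x ^ p = 1} := by
  set K := Subgroup.closure {x | x ∈ fixN H bs start ∧ x ^ p = 1}
  have hK : K ≤ fixN H bs start := (Subgroup.closure_le _).mpr fun x hx => hx.1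
  have hgK : ∀ g ∈ gens, wordPerm g ∈ K := fun g hgm =>
    Subgroup.subset_closure ⟨fixN_word (hgH g hgm) (hg g hgm).2,
      by rw [← wordPerm_pow, wordPerm_eq_one (hg g hgm).1]⟩
  refine fixN_le K hbot ?_ (N - start) start (le_refl _) (by omega)
  intro i hi1 hi2 σ hσ
  obtain ⟨k, rfl⟩ : ∃ k, i = start + k := ⟨i - start, by omega⟩
  obtain ⟨e, he, hx⟩ := List.mem_map.mp (hcov ⟨k, by omega⟩ σ hσ)
  obtain ⟨h1, h2⟩ := hL ⟨k, by omega⟩ e he
  refine ⟨wordPerm (tokWord gens e.2), ⟨(hK (tokWord_mem hgK _)).1, fun j hj => ?_⟩,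
    tokWord_mem hgK _, ?_⟩
  · rw [wordPerm_apply, h2 ⟨j, hj⟩]
  · rw [wordPerm_apply, h1, hx, pt_idx]

/-- Transversals covering an invariant set give multiple transitivity on it. -/
theorem exists_tuple {H : Subgroup (Equiv.Perm GolayPt)} {bs : List (Fin 24)} {N : ℕ}
    (s : Finset GolayPt) (hinv : ∀ σ ∈ H, ∀ a ∈ s, σ a ∈ s)
    (hcov : ∀ i < N, ∀ p ∈ s, (∀ j < i, p ≠ pt (bat bs j)) →
      ∃ g ∈ fixN H bs i, g (pt (bat bs i)) = p)
    (x : Fin N ↪ GolayPt) (hx : ∀ i, x i ∈ s) : ∃ g ∈ H, ∀ i : Fin N, g (pt (bat bs i.val)) = x i := by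
  suffices h : ∀ n, n ≤ N → ∃ g ∈ H, ∀ i : Fin N, i.val < n → g (pt (bat bs i.val)) = x i by
    obtain ⟨g, hg, h⟩ := h N (le_refl N)
    exact ⟨g, hg, fun i => h i i.isLt⟩
  intro n
  induction n with
  | zero => exact fun _ => ⟨1, one_mem H, fun i hi => absurd hi (Nat.not_lt_zero _)⟩
  | succ n ih =>
    intro hn
    obtain ⟨g, hg, h⟩ := ih (by omega)
    obtain ⟨t, ht, e⟩ := hcov n (by omega) (g.symm (x ⟨n, by omega⟩))
      (hinv _ (inv_mem hg) _ (hx _)) (by
        intro j hj heq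
        have := h ⟨j, by omega⟩ hj
        rw [show pt (bat bs j) = g.symm (x ⟨n, by omega⟩) from heq.symm, Equiv.apply_symm_apply] at this
        have := congrArg Fin.val (x.injective this)
        simp only at this
        omega)
    refine ⟨g * t, mul_mem hg ht.1, fun i hi => ?_⟩
    rw [Equiv.Perm.mul_apply]
    rcases Nat.lt_succ_iff_lt_or_eq.mp hi with hi | hi
    · rw [ht.2 i.val hi, h i hi]
    · have hn' : n < N := by omega
      obtain rfl : i = ⟨n, hn'⟩ := Fin.ext hi
      simp only at e ⊢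
      rw [e, Equiv.apply_symm_apply]

theorem map_stabilizer {G : Type*} [Group G] {X : Type*} [MulAction G X] (M : Subgroup G) (x : X) :
    (MulAction.stabilizer M x).map M.subtype = M ⊓ MulAction.stabilizer G x := by
  ext g
  simp only [Subgroup.mem_map, Subgroup.mem_inf, MulAction.mem_stabilizer_iff]
  exact ⟨fun ⟨a, ha, e⟩ => e ▸ ⟨a.2, ha⟩, fun ⟨hg, h⟩ => ⟨⟨g, hg⟩, h, rfl⟩⟩

theorem conj_smul_iff {G : Type*} [Group G] {X : Type*} [MulAction G X] (σ g : G) (y : X) :
    (σ⁻¹ * g * σ) • y = y ↔ g • σ • y = σ • y := by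
  rw [mul_smul, mul_smul, inv_smul_eq_iff]

/-! ### The point and two-point stabilisers -/

theorem eq_none_iff : ∀ p : GolayPt, p = pt (bpt 0) ↔ p = none := by decide +kernel

theorem gens23_ok : GensOK gens23 baseL 1 23 := by unfold GensOK; decide +kernel

theorem levels23_ok : LevOK gens23 levels23 baseL 1 := by unfold LevOK; decide +kernel

theorem levels23_fst : ∀ k : Fin levels23.length,
    (levels23.getD k.val []).map Prod.fst = (lev (1 + k.val)).map Prod.fst := by decide +kernel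

theorem chain1_gen : chain 1 ≤ Subgroup.closure {x | x ∈ chain 1 ∧ x ^ 23 = 1} :=
  fixN_le_prime_closure (H := M24) (bs := baseL) (N := 7) (by decide +kernel) gens23_ok
    (fun g _ => wordPerm_mem g) chain_seven levels23_ok fun k σ hσ => by
      rw [levels23_fst k]
      exact base_orbit_mem ⟨1 + k.val, by
        have : levels23.length = 6 := by decide +kernel
        have := k.isLt
        omega⟩ hσ

theorem gens22_ok : GensOK gens22 baseL 2 11 := by unfold GensOK; decide +kernel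

theorem levels22_ok : LevOK gens22 levels22 baseL 2 := by unfold LevOK; decide +kernel

theorem levels22_fst : ∀ k : Fin levels22.length,
    (levels22.getD k.val []).map Prod.fst = (lev (2 + k.val)).map Prod.fst := by decide +kernel

theorem chain2_gen : chain 2 ≤ Subgroup.closure {x | x ∈ chain 2 ∧ x ^ 11 = 1} :=
  fixN_le_prime_closure (H := M24) (bs := baseL) (N := 7) (by decide +kernel) gens22_ok
    (fun g _ => wordPerm_mem g) chain_seven levels22_ok fun k σ hσ => by
      rw [levels22_fst k]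
      exact base_orbit_mem ⟨2 + k.val, by
        have : levels22.length = 5 := by decide +kernel
        have := k.isLt
        omega⟩ hσ

theorem chain_cov {i : ℕ} (hi : i < 5) (p : GolayPt) (hp : ∀ j < i, p ≠ pt (bpt j)) :
    ∃ g ∈ chain i, g (pt (bpt i)) = p := by
  obtain ⟨e, he, hx⟩ := List.mem_map.mp (lev_small ⟨i, hi⟩ (idx p) fun j hj =>
    hp j.val j.isLt (by apply_fun pt at hj; rwa [pt_idx] at hj))
  obtain ⟨hw, hb⟩ := wordPerm_mem_chain ⟨i, by omega⟩ he
  exact ⟨_, hw, by simp only at hb; rw [hb, hx, pt_idx]⟩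

/-- The points other than the first base point. -/
def pts23 : Finset GolayPt := Finset.univ.erase (pt (bpt 0))

/-- The points other than the first two base points. -/
def pts22 : Finset GolayPt := pts23.erase (pt (bpt 1))

theorem chain1_twoTrans : TwoTrans (chain 1) pts23 := by
  refine twoTrans_of_base (b₀ := pt (bpt 1)) (b₁ := pt (bpt 2)) ?_ ?_ ?_
  · intro g hg a ha
    simp only [pts23, Finset.mem_erase, Finset.mem_univ, and_true] at ha ⊢
    intro e
    exact ha (g.injective (e.trans (hg.2 0 Nat.one_pos).symm))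
  · intro a ha
    simp only [pts23, Finset.mem_erase, Finset.mem_univ, and_true] at ha
    exact chain_cov (by norm_num) a fun j hj => by
      obtain rfl : j = 0 := by omega
      exact ha
  · intro b hb hne
    simp only [pts23, Finset.mem_erase, Finset.mem_univ, and_true] at hb
    obtain ⟨g, hg, e⟩ := chain_cov (i := 2) (by norm_num) b fun j hj => by
      obtain rfl | rfl : j = 0 ∨ j = 1 := by omega
      · exact hb
      · exact hne
    exact ⟨g, ⟨hg.1, fun i hi => hg.2 i (by omega)⟩, hg.2 1 (by norm_num), e⟩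

theorem chain2_twoTrans : TwoTrans (chain 2) pts22 := by
  refine twoTrans_of_base (b₀ := pt (bpt 2)) (b₁ := pt (bpt 3)) ?_ ?_ ?_
  · intro g hg a ha
    simp only [pts22, pts23, Finset.mem_erase, Finset.mem_univ, and_true] at ha ⊢
    exact ⟨fun e => ha.1 (g.injective (e.trans (hg.2 1 (by norm_num)).symm)),
      fun e => ha.2 (g.injective (e.trans (hg.2 0 (by norm_num)).symm))⟩
  · intro a ha
    simp only [pts22, pts23, Finset.mem_erase, Finset.mem_univ, and_true] at ha
    exact chain_cov (by norm_num) a fun j hj => by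
      obtain rfl | rfl : j = 0 ∨ j = 1 := by omega
      · exact ha.2
      · exact ha.1
  · intro b hb hne
    simp only [pts22, pts23, Finset.mem_erase, Finset.mem_univ, and_true] at hb
    obtain ⟨g, hg, e⟩ := chain_cov (i := 3) (by norm_num) b fun j hj => by
      obtain rfl | rfl | rfl : j = 0 ∨ j = 1 ∨ j = 2 := by omega
      · exact hb.2
      · exact hb.1
      · exact hne
    exact ⟨g, ⟨hg.1, fun i hi => hg.2 i (by omega)⟩, hg.2 2 (by norm_num), e⟩

theorem chain1_simple : IsSimpleGroup (chain 1) := by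
  haveI : Nontrivial (chain 1) :=
    Finite.one_lt_card_iff_nontrivial.mp (by rw [card_chain.2.1]; norm_num)
  haveI : Fact (Nat.Prime 23) := ⟨by norm_num⟩
  refine isSimple_of_prime_generated chain1_twoTrans ?_ 23 (by decide +kernel)
    (by rw [card_chain.2.1]; norm_num) chain1_gen
  intro g hg h
  ext1 p
  by_cases hp : p = pt (bpt 0)
  · subst hp; exact hg.2 0 Nat.one_pos
  · exact h p (by simp [pts23, hp])

theorem chain2_simple : IsSimpleGroup (chain 2) := by
  haveI : Nontrivial (chain 2) :=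
    Finite.one_lt_card_iff_nontrivial.mp (by rw [card_chain.2.2]; norm_num)
  haveI : Fact (Nat.Prime 11) := ⟨by norm_num⟩
  refine isSimple_of_prime_generated chain2_twoTrans ?_ 11 (by decide +kernel)
    (by rw [card_chain.2.2]; norm_num) chain2_gen
  intro g hg h
  ext1 p
  by_cases hp : p = pt (bpt 0)
  · subst hp; exact hg.2 0 (by norm_num)
  by_cases hq : p = pt (bpt 1)
  · subst hq; exact hg.2 1 (by norm_num)
  · exact h p (by simp [pts22, pts23, hp, hq])

theorem simple_stab (p : GolayPt) : IsSimpleGroup (MulAction.stabilizer M24 p) := by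
  haveI := chain1_simple
  obtain ⟨σ, hσ, h⟩ := chain_cov (i := 0) (by norm_num) p fun j hj => absurd hj (Nat.not_lt_zero j)
  refine MulEquiv.isSimpleGroup
    ((subEquiv _ _ (map_stabilizer M24 p)).trans (conjSub σ _ (chain 1) fun g => ?_))
  constructor
  · rintro ⟨hg, hp⟩
    refine ⟨mul_mem (mul_mem (inv_mem hσ.1) hg) hσ.1, fun i hi => ?_⟩
    obtain rfl : i = 0 := by omega
    exact (conj_smul_iff σ g (pt (bpt 0))).mpr (by rw [Equiv.Perm.smul_def, Equiv.Perm.smul_def, h]; exact hp)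
  · rintro ⟨hg, hp⟩
    refine ⟨?_, ?_⟩
    · have := mul_mem (mul_mem hσ.1 hg) (inv_mem hσ.1)
      simpa [mul_assoc] using this
    · have := (conj_smul_iff σ g (pt (bpt 0))).mp (hp 0 Nat.one_pos)
      rwa [Equiv.Perm.smul_def σ, h] at this

theorem simple_stab_two (p q : GolayPt) (hpq : p ≠ q) :
    IsSimpleGroup ↥(MulAction.stabilizer M24 p ⊓ MulAction.stabilizer M24 q) := by
  haveI := chain2_simple
  obtain ⟨σ, hσ, h⟩ := exists_tuple (H := M24) (bs := baseL) (N := 2) Finset.univ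
    (fun _ _ _ _ => Finset.mem_univ _) (fun i hi p _ hp => chain_cov (by omega) p hp)
    ⟨![p, q], by
      intro i j; fin_cases i <;> fin_cases j <;> simp [hpq, Ne.symm hpq]⟩ (fun _ => Finset.mem_univ _)
  have h0 : σ (pt (bpt 0)) = p := h 0
  have h1 : σ (pt (bpt 1)) = q := h 1
  have hmap : (MulAction.stabilizer M24 p ⊓ MulAction.stabilizer M24 q).map M24.subtype =
      M24 ⊓ (MulAction.stabilizer (Equiv.Perm GolayPt) p ⊓ MulAction.stabilizer (Equiv.Perm GolayPt) q) := by
    rw [Subgroup.map_inf _ _ _ Subtype.val_injective, map_stabilizer, map_stabilizer, ← inf_inf_distrib_left]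
  refine MulEquiv.isSimpleGroup ((subEquiv _ _ hmap).trans (conjSub σ _ (chain 2) fun g => ?_))
  constructor
  · rintro ⟨hg, hp, hq⟩
    refine ⟨mul_mem (mul_mem (inv_mem hσ) hg) hσ, fun i hi => ?_⟩
    obtain rfl | rfl : i = 0 ∨ i = 1 := by omega
    · exact (conj_smul_iff σ g (pt (bpt 0))).mpr (by rw [Equiv.Perm.smul_def, Equiv.Perm.smul_def, h0]; exact hp)
    · exact (conj_smul_iff σ g (pt (bpt 1))).mpr (by rw [Equiv.Perm.smul_def, Equiv.Perm.smul_def, h1]; exact hq)
  · rintro ⟨hg, hp⟩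
    refine ⟨?_, ?_, ?_⟩
    · have := mul_mem (mul_mem hσ hg) (inv_mem hσ)
      simpa [mul_assoc] using this
    · have := (conj_smul_iff σ g (pt (bpt 0))).mp (hp 0 (by norm_num))
      rwa [Equiv.Perm.smul_def σ, h0] at this
    · have := (conj_smul_iff σ g (pt (bpt 1))).mp (hp 1 (by norm_num))
      rwa [Equiv.Perm.smul_def σ, h1] at this

theorem M24_simple : IsSimpleGroup M24 := by
  haveI := simple_stab (pt (bpt 0))
  have hc : Nat.card M24 = 244823040 := by rw [← chain_zero]; exact card_chain.1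
  haveI : Nontrivial M24 := Finite.one_lt_card_iff_nontrivial.mp (by rw [hc]; norm_num)
  refine isSimple_of_stabilizer_simple (s := Finset.univ) (a := pt (bpt 0)) ?_ ?_ (Finset.mem_univ _)
    ⟨2, 3, Nat.prime_two, Nat.prime_three, by norm_num, by decide +kernel, by decide +kernel⟩
  · refine twoTrans_of_base (b₀ := pt (bpt 0)) (b₁ := pt (bpt 1))
      (fun _ _ _ _ => Finset.mem_univ _) ?_ ?_
    · intro a _
      obtain ⟨g, hg, e⟩ := chain_cov (i := 0) (by norm_num) a fun j hj => absurd hj (Nat.not_lt_zero j)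
      exact ⟨g, hg.1, e⟩
    · intro b _ hne
      obtain ⟨g, hg, e⟩ := chain_cov (i := 1) (by norm_num) b fun j hj => by
        obtain rfl : j = 0 := by omega
        exact hne
      exact ⟨g, hg.1, hg.2 0 Nat.one_pos, e⟩
  · intro g _ h
    ext1 p
    exact h p (Finset.mem_univ p)

/-! ### The weight-12 stabiliser -/

/-- The standard weight-12 set. -/
def D0 : Finset GolayPt := supp dMask

theorem D0_dodecad : D0 ∈ dodecads := by
  rw [mem_dodecads]; decide +kernel

/-- The stabiliser of the standard weight-12 set. -/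
def stabD : Subgroup (Equiv.Perm GolayPt) := M24 ⊓ MulAction.stabilizer (Equiv.Perm GolayPt) D0

theorem stabD_mem_iff {σ : Equiv.Perm GolayPt} :
    σ ∈ stabD ↔ σ ∈ M24 ∧ ∀ p, p ∈ D0 ↔ σ p ∈ D0 := by
  refine and_congr Iff.rfl ?_
  change σ • D0 = D0 ↔ _
  constructor
  · intro h p
    conv_rhs => rw [← h, ← Equiv.Perm.smul_def, Finset.smul_mem_smul_finset_iff]
  · intro h
    ext q
    obtain ⟨p, rfl⟩ := σ.surjective q
    rw [← Equiv.Perm.smul_def, Finset.smul_mem_smul_finset_iff]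
    exact h p

theorem wordPerm_stabD {w : List (Fin 5)}
    (h : ∀ i : Fin 24, dMask.testBit (ev w i).val = dMask.testBit i.val) : wordPerm w ∈ stabD := by
  refine stabD_mem_iff.mpr ⟨wordPerm_mem w, fun p => ?_⟩
  rw [← pt_idx p, wordPerm_apply]
  simp [D0, mem_supp, idx_pt, h]

theorem chain5_pres : ∀ e ∈ lev 5, ∀ f ∈ lev 6,
    (∀ i : Fin 24, dMask.testBit (ev (e.2 ++ f.2) i).val = dMask.testBit i.val) →
      ∀ i : Fin 24, ev (e.2 ++ f.2) i = i := by decide +kernel

theorem stabD_five : fixN stabD baseL 5 = ⊥ := by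
  rw [eq_bot_iff]
  intro σ hσ
  have h5 : σ ∈ chain 5 := ⟨hσ.1.1, hσ.2⟩
  obtain ⟨e, he, h6⟩ := chain_step ⟨5, by norm_num⟩ h5
  obtain ⟨f, hf, h7⟩ := chain_step ⟨6, by norm_num⟩ h6
  rw [show (6 : ℕ) + 1 = 7 from rfl, chain_seven, Subgroup.mem_bot] at h7
  have hσw : σ = wordPerm (e.2 ++ f.2) := by
    rw [wordPerm_append]
    have := eq_of_inv_mul_eq_one h7
    rw [this, mul_inv_cancel_left]
  rw [Subgroup.mem_bot, hσw]
  refine wordPerm_eq_one (chain5_pres e he f hf fun i => ?_)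
  have := (stabD_mem_iff.mp hσ.1).2 (pt i)
  rw [hσw, wordPerm_apply] at this
  simp only [D0, mem_supp, idx_pt] at this
  exact Bool.eq_iff_iff.mpr this.symm

theorem levels12_ok : ∀ k : Fin 5, ∀ e ∈ levels12.getD k.val [], ev e.2 (bat baseL k.val) = e.1 ∧
    (∀ j : Fin k.val, ev e.2 (bat baseL j.val) = bat baseL j.val) ∧
    ∀ i : Fin 24, dMask.testBit (ev e.2 i).val = dMask.testBit i.val := by decide +kernel

theorem levels12_cov : ∀ k : Fin 5, ∀ x : Fin 24, dMask.testBit x.val = true →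
    (∀ j : Fin k.val, x ≠ bat baseL j.val) → x ∈ (levels12.getD k.val []).map Prod.fst := by
  decide +kernel

theorem base_mem_D0 : ∀ k : Fin 5, pt (bat baseL k.val) ∈ D0 := by decide +kernel

theorem bat_inj : ∀ i j : Fin 5, bat baseL i.val = bat baseL j.val → i = j := by decide +kernel

theorem stabD_cov {i : ℕ} (hi : i < 5) (p : GolayPt) (hpD : p ∈ D0)
    (hp : ∀ j < i, p ≠ pt (bat baseL j)) : ∃ g ∈ fixN stabD baseL i, g (pt (bat baseL i)) = p := by
  obtain ⟨e, he, hx⟩ := List.mem_map.mp (levels12_cov ⟨i, hi⟩ (idx p) (mem_supp.mp hpD) fun j hj =>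
    hp j.val j.isLt (by apply_fun pt at hj; rwa [pt_idx] at hj))
  obtain ⟨h1, h2, h3⟩ := levels12_ok ⟨i, hi⟩ e he
  exact ⟨wordPerm e.2, fixN_word (wordPerm_stabD h3) h2,
    by simp only at h1; rw [wordPerm_apply, h1, hx, pt_idx]⟩

theorem stabD_orbit {i : ℕ} (hi : i < 5) {σ : Equiv.Perm GolayPt} (hσ : σ ∈ fixN stabD baseL i) :
    σ (pt (bat baseL i)) ∈ D0 ∧ ∀ j < i, σ (pt (bat baseL i)) ≠ pt (bat baseL j) := by
  refine ⟨((stabD_mem_iff.mp hσ.1).2 _).mp (base_mem_D0 ⟨i, hi⟩), fun j hj he => ?_⟩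
  rw [← hσ.2 j hj] at he
  have h := congrArg idx (σ.injective he)
  rw [idx_pt, idx_pt] at h
  have := congrArg Fin.val (bat_inj ⟨i, hi⟩ ⟨j, by omega⟩ h)
  simp only at this
  omega

theorem card_stabD_step (i : Fin 5) :
    Nat.card (fixN stabD baseL i.val) = (12 - i.val) * Nat.card (fixN stabD baseL (i.val + 1)) := by
  have key : ∀ i : Fin 5,
      (D0.filter fun p => ∀ j : Fin i.val, p ≠ pt (bat baseL j.val)).card = 12 - i.val := by
    decide +kernel
  rw [← key i]
  refine card_fixN_step _ (fun σ hσ => ?_) (fun p hp => ?_)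
  · obtain ⟨h1, h2⟩ := stabD_orbit i.isLt hσ
    exact Finset.mem_filter.mpr ⟨h1, fun j => h2 j.val j.isLt⟩
  · obtain ⟨h1, h2⟩ := Finset.mem_filter.mp hp
    exact stabD_cov i.isLt p h1 fun j hj => h2 ⟨j, hj⟩

theorem card_stabD : Nat.card stabD = 95040 ∧ Nat.card (fixN stabD baseL 1) = 7920 := by
  have h5 : Nat.card (fixN stabD baseL 5) = 1 := by rw [stabD_five]; exact Subgroup.card_bot
  have h4 := card_stabD_step ⟨4, by norm_num⟩
  have h3 := card_stabD_step ⟨3, by norm_num⟩
  have h2 := card_stabD_step ⟨2, by norm_num⟩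
  have h1 := card_stabD_step ⟨1, by norm_num⟩
  have h0 := card_stabD_step ⟨0, by norm_num⟩
  simp only [Nat.zero_add, Nat.reduceAdd, Nat.reduceSub] at h0 h1 h2 h3 h4
  rw [fixN_zero] at h0
  constructor
  · rw [h0, h1, h2, h3, h4, h5]
  · rw [h1, h2, h3, h4, h5]

theorem gens11_ok : GensOK gens11 baseL 1 11 := by unfold GensOK; decide +kernel

theorem levels11_ok : LevOK gens11 levels11 baseL 1 := by unfold LevOK; decide +kernel

theorem gens11_pres : ∀ g ∈ gens11, ∀ i : Fin 24, dMask.testBit (ev g i).val = dMask.testBit i.val := by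
  decide +kernel

theorem levels11_cov : ∀ k : Fin levels11.length, ∀ x : Fin 24, dMask.testBit x.val = true →
    (∀ j : Fin (1 + k.val), x ≠ bat baseL j.val) → x ∈ (levels11.getD k.val []).map Prod.fst := by
  decide +kernel

theorem stabD1_gen : fixN stabD baseL 1 ≤
    Subgroup.closure {x | x ∈ fixN stabD baseL 1 ∧ x ^ 11 = 1} :=
  fixN_le_prime_closure (N := 5) (by decide +kernel) gens11_ok
    (fun g hg => wordPerm_stabD (gens11_pres g hg)) stabD_five levels11_ok fun k σ hσ => by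
      obtain ⟨h1, h2⟩ := stabD_orbit (i := 1 + k.val) (by
        have : levels11.length = 4 := by decide +kernel
        have := k.isLt
        omega) hσ
      refine levels11_cov k _ (mem_supp.mp h1) fun j hj => h2 j.val j.isLt ?_
      apply_fun pt at hj
      rwa [pt_idx] at hj

/-- The standard weight-12 set without its first base point. -/
def D11 : Finset GolayPt := D0.erase (pt (bat baseL 0))

theorem stabD1_twoTrans : TwoTrans (fixN stabD baseL 1) D11 := by
  refine twoTrans_of_base (b₀ := pt (bat baseL 1)) (b₁ := pt (bat baseL 2)) ?_ ?_ ?_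
  · intro g hg a ha
    simp only [D11, Finset.mem_erase] at ha ⊢
    exact ⟨fun e => ha.1 (g.injective (e.trans (hg.2 0 Nat.one_pos).symm)),
      ((stabD_mem_iff.mp hg.1).2 a).mp ha.2⟩
  · intro a ha
    simp only [D11, Finset.mem_erase] at ha
    exact stabD_cov (by norm_num) a ha.2 fun j hj => by
      obtain rfl : j = 0 := by omega
      exact ha.1
  · intro b hb hne
    simp only [D11, Finset.mem_erase] at hb
    obtain ⟨g, hg, e⟩ := stabD_cov (i := 2) (by norm_num) b hb.2 fun j hj => by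
      obtain rfl | rfl : j = 0 ∨ j = 1 := by omega
      · exact hb.1
      · exact hne
    exact ⟨g, fixN_anti (by norm_num) hg, hg.2 1 (by norm_num), e⟩

theorem stabD_faithful {g : Equiv.Perm GolayPt} (hg : g ∈ stabD) (h : ∀ p ∈ D0, g p = p) : g = 1 := by
  have : g ∈ fixN stabD baseL 5 := ⟨hg, fun i hi => h _ (base_mem_D0 ⟨i, hi⟩)⟩
  rwa [stabD_five, Subgroup.mem_bot] at this

theorem stabD1_simple : IsSimpleGroup (fixN stabD baseL 1) := by
  haveI : Nontrivial (fixN stabD baseL 1) :=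
    Finite.one_lt_card_iff_nontrivial.mp (by rw [card_stabD.2]; norm_num)
  haveI : Fact (Nat.Prime 11) := ⟨by norm_num⟩
  refine isSimple_of_prime_generated stabD1_twoTrans ?_ 11 (by decide +kernel)
    (by rw [card_stabD.2]; norm_num) stabD1_gen
  intro g hg h
  refine stabD_faithful hg.1 fun p hp => ?_
  by_cases e : p = pt (bat baseL 0)
  · subst e; exact hg.2 0 Nat.one_pos
  · exact h p (Finset.mem_erase.mpr ⟨e, hp⟩)

theorem stabD_simple : IsSimpleGroup stabD := by
  haveI := stabD1_simple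
  haveI : IsSimpleGroup (MulAction.stabilizer stabD (pt (bat baseL 0))) :=
    MulEquiv.isSimpleGroup (subEquiv _ (fixN stabD baseL 1) (by
      rw [map_stabilizer]
      ext σ
      exact ⟨fun h => ⟨h.1, fun i hi => by obtain rfl : i = 0 := (by omega); exact h.2⟩,
        fun h => ⟨h.1, h.2 0 Nat.one_pos⟩⟩))
  haveI : Nontrivial stabD :=
    Finite.one_lt_card_iff_nontrivial.mp (by rw [card_stabD.1]; norm_num)
  refine isSimple_of_stabilizer_simple (s := D0) (a := pt (bat baseL 0)) ?_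
    (fun g hg h => stabD_faithful hg h) (base_mem_D0 0)
    ⟨2, 3, Nat.prime_two, Nat.prime_three, by norm_num, by decide +kernel, by decide +kernel⟩
  refine twoTrans_of_base (b₀ := pt (bat baseL 0)) (b₁ := pt (bat baseL 1))
    (fun g hg a ha => ((stabD_mem_iff.mp hg).2 a).mp ha) ?_ ?_
  · intro a ha
    obtain ⟨g, hg, e⟩ := stabD_cov (i := 0) (by norm_num) a ha fun j hj => absurd hj (Nat.not_lt_zero j)
    exact ⟨g, hg.1, e⟩
  · intro b hb hne
    obtain ⟨g, hg, e⟩ := stabD_cov (i := 1) (by norm_num) b hb fun j hj => by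
      obtain rfl : j = 0 := by omega
      exact hne
    exact ⟨g, hg.1, hg.2 0 Nat.one_pos, e⟩

theorem dodecad_transitive {d : Finset GolayPt} (hd : d ∈ dodecads) : ∃ σ ∈ M24, σ • D0 = d := by
  have hsub : MulAction.orbit M24 D0 ⊆ dodecads := by
    rintro _ ⟨g, rfl⟩
    exact smul_mem_weight g.2 D0_dodecad
  have hc : Nat.card M24 = 244823040 := by rw [← chain_zero]; exact card_chain.1
  have hst : Nat.card (MulAction.stabilizer M24 D0) = 95040 := by
    rw [← card_stabD.1]
    exact Nat.card_congr (subEquiv _ _ (map_stabilizer M24 D0)).toEquiv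
  have h := Subgroup.index_mul_card (MulAction.stabilizer M24 D0)
  rw [MulAction.index_stabilizer, hst, hc] at h
  have hn : dodecads.ncard = 2576 := by
    rw [show dodecads = wordsOfWeight (golayCode : Set (GolayPt → ZMod 2)) 12 from rfl,
      ncard_wordsOfWeight]
    decide +kernel
  have heq := Set.eq_of_subset_of_ncard_le hsub (by rw [hn]; omega) (Set.toFinite _)
  rw [← heq] at hd
  obtain ⟨g, hg⟩ := hd
  exact ⟨g.1, g.2, hg⟩

theorem conj_stabD {σ : Equiv.Perm GolayPt} (hσ : σ ∈ M24) (g : Equiv.Perm GolayPt) :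
    g ∈ M24 ∧ g • σ • D0 = σ • D0 ↔ σ⁻¹ * g * σ ∈ stabD := by
  constructor
  · rintro ⟨hg, h⟩
    exact ⟨M24.mul_mem (M24.mul_mem (M24.inv_mem hσ) hg) hσ, (conj_smul_iff σ g D0).mpr h⟩
  · rintro ⟨hg, h⟩
    refine ⟨?_, (conj_smul_iff σ g D0).mp h⟩
    have := mul_mem (mul_mem hσ hg) (inv_mem hσ)
    simpa [mul_assoc] using this

/-- The stabiliser of a weight-12 set is a conjugate of the standard one. -/
noncomputable def stabDEquiv {d : Finset GolayPt} {σ : Equiv.Perm GolayPt} (hσ : σ ∈ M24)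
    (h : σ • D0 = d) : MulAction.stabilizer M24 d ≃* stabD :=
  (subEquiv _ _ (map_stabilizer M24 d)).trans (conjSub σ _ stabD fun g => by
    subst h; exact conj_stabD hσ g)

theorem exists_dodecad_point {d : Finset GolayPt} (hd : d ∈ dodecads) {p : GolayPt} (hp : p ∈ d) :
    ∃ σ ∈ M24, σ • D0 = d ∧ σ (pt (bat baseL 0)) = p := by
  obtain ⟨σ, hσ, rfl⟩ := dodecad_transitive hd
  obtain ⟨g, hg, e⟩ := stabD_cov (i := 0) (by norm_num) (σ.symm p)
    (by rw [← Equiv.Perm.coe_inv, ← Equiv.Perm.smul_def]; exact Finset.inv_smul_mem_iff.mpr hp)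
    fun j hj => absurd hj (Nat.not_lt_zero j)
  exact ⟨σ * g, mul_mem hσ hg.1.1, by rw [mul_smul, show g • D0 = D0 from hg.1.2],
    by rw [Equiv.Perm.mul_apply, e, Equiv.apply_symm_apply]⟩

/-- The stabiliser of a weight-12 set and a point on it is a conjugate of the standard one. -/
noncomputable def stabD1Equiv {d : Finset GolayPt} {p : GolayPt} {σ : Equiv.Perm GolayPt}
    (hσ : σ ∈ M24) (h : σ • D0 = d) (h' : σ (pt (bat baseL 0)) = p) :
    ↥(MulAction.stabilizer M24 d ⊓ MulAction.stabilizer M24 p) ≃* fixN stabD baseL 1 :=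
  (subEquiv _ (M24 ⊓ MulAction.stabilizer (Equiv.Perm GolayPt) d ⊓
      (M24 ⊓ MulAction.stabilizer (Equiv.Perm GolayPt) p))
    (by rw [Subgroup.map_inf _ _ _ Subtype.val_injective, map_stabilizer, map_stabilizer])).trans
    (conjSub σ _ _ fun g => by
      subst h; subst h'
      constructor
      · rintro ⟨hg, -, hgp⟩
        refine ⟨(conj_stabD hσ g).mp hg, fun i hi => ?_⟩
        obtain rfl : i = 0 := by omega
        exact (conj_smul_iff σ g (pt (bat baseL 0))).mpr hgp
      · rintro ⟨hg, hp⟩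
        exact ⟨(conj_stabD hσ g).mpr hg, ((conj_stabD hσ g).mpr hg).1,
          (conj_smul_iff σ g (pt (bat baseL 0))).mp (hp 0 Nat.one_pos)⟩)

theorem sharply_five (d : Finset GolayPt) (hd : d ∈ dodecads) (x y : Fin 5 ↪ GolayPt)
    (hx : ∀ i, x i ∈ d) (hy : ∀ i, y i ∈ d) :
    ∃! g : MulAction.stabilizer M24 d, ∀ i, ((g : M24) : Equiv.Perm GolayPt) (x i) = y i := by
  obtain ⟨σ, hσ, rfl⟩ := dodecad_transitive hd
  have key : ∀ z : Fin 5 ↪ GolayPt, (∀ i, z i ∈ σ • D0) →
      ∃ τ ∈ stabD, ∀ i : Fin 5, σ (τ (pt (bat baseL i.val))) = z i := by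
    intro z hz
    obtain ⟨τ, hτ, h⟩ := exists_tuple (H := stabD) (bs := baseL) (N := 5) D0
      (fun g hg a ha => ((stabD_mem_iff.mp hg).2 a).mp ha) (fun i hi p hp h => stabD_cov hi p hp h)
      (z.trans (σ⁻¹ : Equiv.Perm GolayPt).toEmbedding) (fun i => Finset.inv_smul_mem_iff.mpr (hz i))
    exact ⟨τ, hτ, fun i => by
      rw [h i]
      simp only [Function.Embedding.trans_apply, Equiv.coe_toEmbedding, Equiv.Perm.coe_inv,
        Equiv.apply_symm_apply]⟩
  obtain ⟨a, ha, hax⟩ := key x hx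
  obtain ⟨b, hb, hby⟩ := key y hy
  obtain ⟨g, hg, hgeq⟩ : ∃ g : Equiv.Perm GolayPt, (g ∈ M24 ∧ g • σ • D0 = σ • D0) ∧
      ∀ i, g (x i) = y i := by
    refine ⟨σ * (b * a⁻¹) * σ⁻¹, (conj_stabD hσ _).mpr ?_, fun i => ?_⟩
    · simpa [mul_assoc] using mul_mem hb (inv_mem ha)
    · simp [← hax i, ← hby i]
  refine ⟨⟨⟨g, hg.1⟩, hg.2⟩, hgeq, fun k hk => ?_⟩
  have hk' : (k : M24).1 ∈ M24 ∧ (k : M24).1 • σ • D0 = σ • D0 := ⟨(k : M24).2, k.2⟩
  have h1 := mul_mem (inv_mem ((conj_stabD hσ g).mp hg)) ((conj_stabD hσ _).mp hk')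
  have h2 : a⁻¹ * ((σ⁻¹ * g * σ)⁻¹ * (σ⁻¹ * (k : M24).1 * σ)) * a ∈ fixN stabD baseL 5 := by
    refine ⟨mul_mem (mul_mem (inv_mem ha) h1) ha, fun i hi => ?_⟩
    have e1 : (k : M24).1 (x ⟨i, hi⟩) = g (x ⟨i, hi⟩) := (hk ⟨i, hi⟩).trans (hgeq ⟨i, hi⟩).symm
    have e2 := hax ⟨i, hi⟩
    simp only at e2
    simp [e2, e1, Equiv.symm_apply_eq]
  rw [stabD_five, Subgroup.mem_bot] at h2
  apply Subtype.ext; apply Subtype.ext
  show (k : M24).1 = g
  have h3 : (σ⁻¹ * g * σ)⁻¹ * (σ⁻¹ * (k : M24).1 * σ) = 1 := by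
    have := congrArg (fun t => a * t * a⁻¹) h2
    simpa [mul_assoc] using this
  have h4 := (eq_of_inv_mul_eq_one h3)
  simpa using h4.symm

theorem levelsCo_ok : LevOK gens11 levelsCo coBase 0 := by unfold LevOK; decide +kernel

theorem levelsCo_cov : ∀ k : Fin 3, ∀ x : Fin 24, dMask.testBit x.val = false →
    (∀ j : Fin k.val, x ≠ bat coBase j.val) → x ∈ (levelsCo.getD k.val []).map Prod.fst := by
  decide +kernel

theorem three_on_complement (d : Finset GolayPt) (hd : d ∈ dodecads) (p : GolayPt) (hp : p ∈ d)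
    (x y : Fin 3 ↪ GolayPt) (hx : ∀ i, x i ∉ d) (hy : ∀ i, y i ∉ d) :
    ∃ g ∈ MulAction.stabilizer M24 d ⊓ MulAction.stabilizer M24 p,
      ∀ i, (g : Equiv.Perm GolayPt) (x i) = y i := by
  obtain ⟨σ, hσ, rfl, rfl⟩ := exists_dodecad_point hd hp
  have hlen : levelsCo.length = 3 := by decide +kernel
  have hw : ∀ t : List Tok, wordPerm (tokWord gens11 t) ∈ fixN stabD baseL 1 := tokWord_mem fun g hg =>
    fixN_word (wordPerm_stabD (gens11_pres g hg)) (gens11_ok g hg).2
  have key : ∀ z : Fin 3 ↪ GolayPt, (∀ i, z i ∉ σ • D0) →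
      ∃ τ ∈ fixN stabD baseL 1, ∀ i : Fin 3, σ (τ (pt (bat coBase i.val))) = z i := by
    intro z hz
    obtain ⟨τ, hτ, h⟩ := exists_tuple (H := fixN stabD baseL 1) (bs := coBase) (N := 3) D0ᶜ
      (fun g hg a ha => by
        rw [Finset.mem_compl] at ha ⊢
        exact fun e => ha (((stabD_mem_iff.mp hg.1).2 a).mpr e))
      (fun i hi q hq h => by
        rw [Finset.mem_compl, D0, mem_supp, Bool.not_eq_true] at hq
        obtain ⟨e, he, hxe⟩ := List.mem_map.mp (levelsCo_cov ⟨i, hi⟩ (idx q) hq fun j hj =>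
          h j.val j.isLt (by apply_fun pt at hj; rwa [pt_idx] at hj))
        obtain ⟨h1, h2⟩ := levelsCo_ok ⟨i, by omega⟩ e he
        simp only [Nat.zero_add] at h1
        refine ⟨wordPerm (tokWord gens11 e.2), fixN_word (hw _) fun j => ?_, ?_⟩
        · exact h2 ⟨j.val, by simp⟩
        · rw [wordPerm_apply, h1, hxe, pt_idx])
      (z.trans (σ⁻¹ : Equiv.Perm GolayPt).toEmbedding)
      (fun i => by
        rw [Finset.mem_compl]
        exact fun e => hz i (Finset.inv_smul_mem_iff.mp e))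
    exact ⟨τ, hτ, fun i => by
      rw [h i]
      simp only [Function.Embedding.trans_apply, Equiv.coe_toEmbedding, Equiv.Perm.coe_inv,
        Equiv.apply_symm_apply]⟩
  obtain ⟨a, ha, hax⟩ := key x hx
  obtain ⟨b, hb, hby⟩ := key y hy
  have hba := mul_mem hb (inv_mem ha)
  obtain ⟨hM, hD⟩ := (conj_stabD hσ (σ * (b * a⁻¹) * σ⁻¹)).mpr (by simpa [mul_assoc] using hba.1)
  refine ⟨⟨σ * (b * a⁻¹) * σ⁻¹, hM⟩, ⟨hD, ?_⟩, fun i => ?_⟩
  · show (σ * (b * a⁻¹) * σ⁻¹) (σ (pt (bat baseL 0))) = σ (pt (bat baseL 0))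
    have h0 := hba.2 0 Nat.one_pos
    simp [Equiv.Perm.mul_apply] at h0 ⊢
    exact h0
  · simp [← hax i, ← hby i]

end Cfsg.Agent.Golay
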