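import Cfsg.Agent.Lib.Golay.OrbData
import Cfsg.Agent.Lib.Golay.Mathieu
import Cfsg.Agent.Lib.Steiner.Basic

/-! Suborbits on octads, dodecads, pairs and triads. -/

set_option autoImplicit false

namespace Cfsg.Agent.Golay

open Cfsg
open scoped Pointwise

/-- Weight test inside the code. -/
def codeW (n m : ℕ) : Bool := inC m && popc m == n

theorem maskF_mem_wt (n : ℕ) (s : Finset GolayPt) :
    s ∈ wordsOfWeight (golayCode : Set (GolayPt → ZMod 2)) n ↔ codeW n (maskF s) = true := by
  simp [wordsOfWeight, codeW, mem_supports_iff, card_eq_popc]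

theorem supp_mem_wt {n m : ℕ} (hm : m < 2 ^ 24) (h : codeW n m = true) :
    supp m ∈ wordsOfWeight (golayCode : Set (GolayPt → ZMod 2)) n :=
  (maskF_mem_wt n _).mpr (by rw [maskF_supp hm]; exact h)

/-- Weight-`n` words meeting the set `f` in `j` positions. -/
def meetP (n f j m : ℕ) : Bool := codeW n m && popc (f &&& m) == j

theorem meet_set (n j : ℕ) {f : ℕ} (hf : f < 2 ^ 24) (s : Finset GolayPt) :
    (s ∈ wordsOfWeight (golayCode : Set (GolayPt → ZMod 2)) n ∧ (supp f ∩ s).card = j) ↔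
      meetP n f j (maskF s) = true := by
  simp [meetP, maskF_mem_wt, popc_inter, maskF_supp hf]

theorem ncard_meet (n j f k : ℕ) (hf : f < 2 ^ 24)
    (h : (distinctB 24 ((wtList n).filter fun m => popc (f &&& m) == j) &&
      decide (((wtList n).filter fun m => popc (f &&& m) == j).length = k)) = true) :
    {s : Finset GolayPt | s ∈ wordsOfWeight (golayCode : Set (GolayPt → ZMod 2)) n ∧
      (supp f ∩ s).card = j}.ncard = k :=
  ncard_filter_masks (fun _ hm => wtList_lt hm) h fun s => by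
    show _ ∧ _ ↔ _
    rw [mem_wordsOfWeight, popc_inter, maskF_supp hf, beq_iff_eq]

theorem ncard_meet_any (n j : ℕ) {f : ℕ} {k : ℕ} {o : Finset GolayPt} {σ : Equiv.Perm GolayPt}
    (hσ : σ ∈ M24) (he : σ • supp f = o)
    (hk : {s : Finset GolayPt | s ∈ wordsOfWeight (golayCode : Set (GolayPt → ZMod 2)) n ∧
      (supp f ∩ s).card = j}.ncard = k) :
    {s : Finset GolayPt | s ∈ wordsOfWeight (golayCode : Set (GolayPt → ZMod 2)) n ∧
      (o ∩ s).card = j}.ncard = k := by
  rw [← hk, ncard_transport σ, ← he]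
  simp only [smul_weight_iff hσ, card_smul_inter]

theorem octad_eq_of_meet {a b : Finset GolayPt} {n : ℕ} (ha : a.card = n) (hb : b.card = n)
    (h : (a ∩ b).card = n) : a = b := by
  have h1 : a ∩ b = a := Finset.eq_of_subset_of_card_le Finset.inter_subset_left (by omega)
  have h2 : a ∩ b = b := Finset.eq_of_subset_of_card_le Finset.inter_subset_right (by omega)
  exact h1.symm.trans h2

/-- Transport of a suborbit statement. -/
theorem trans_meet (n : ℕ) {f : ℕ} {j k : ℕ} {gens : List Tab} {c : Orb} {o : Finset GolayPt}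
    {σ : Equiv.Perm GolayPt} (hσ : σ ∈ M24) (he : σ • supp f = o) (hf : f < 2 ^ 24)
    (hg : gensFix [f] gens) (hv : c.valid gens (meetP n f j) k = true)
    (hk : {s : Finset GolayPt | s ∈ wordsOfWeight (golayCode : Set (GolayPt → ZMod 2)) n ∧
      (supp f ∩ s).card = j}.ncard = k)
    {a b : Finset GolayPt} (ha : a ∈ wordsOfWeight (golayCode : Set (GolayPt → ZMod 2)) n)
    (hb : b ∈ wordsOfWeight (golayCode : Set (GolayPt → ZMod 2)) n)
    (ha' : (o ∩ a).card = j) (hb' : (o ∩ b).card = j) :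
    ∃ g : Equiv.Perm GolayPt, g ∈ M24 ∧ g • o = o ∧ g • a = b := by
  have conv : ∀ x : Finset GolayPt, x ∈ wordsOfWeight (golayCode : Set (GolayPt → ZMod 2)) n →
      (o ∩ x).card = j → σ⁻¹ • x ∈ {s : Finset GolayPt |
        s ∈ wordsOfWeight (golayCode : Set (GolayPt → ZMod 2)) n ∧ (supp f ∩ s).card = j} :=
    fun x hx hxj => ⟨(smul_weight_iff (inv_mem hσ) n x).mpr hx, by
      rw [← card_smul_inter σ, he, smul_inv_smul]; exact hxj⟩
  obtain ⟨τ, ⟨hτM, hτf⟩, hτ⟩ := Orb.trans hg hv
    (fun m hm hp => (meet_set n j hf _).mpr (by rw [maskF_supp hm]; exact hp)) hk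
    (conv a ha ha') (conv b hb hb')
  refine ⟨σ * τ * σ⁻¹, mul_mem (mul_mem hσ hτM) (inv_mem hσ), ?_, ?_⟩
  · rw [← he]; exact conj_fix (hτf f List.mem_cons_self)
  · rw [mul_smul, mul_smul, hτ, smul_inv_smul]

/-! ### Octads -/

theorem baseOct_lt : baseOct < 2 ^ 24 := by decide +kernel

theorem baseOct_mem : supp baseOct ∈ octads := supp_mem_wt baseOct_lt (by decide +kernel)

theorem gens_octO_ok : gensFix [baseOct] gens_octO := by decide +kernel

theorem orb_octO_ok : (orb_octO_4.valid gens_octO (meetP 8 baseOct 4) 280 &&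
    orb_octO_2.valid gens_octO (meetP 8 baseOct 2) 448 &&
    orb_octO_0.valid gens_octO (meetP 8 baseOct 0) 30) = true := by decide +kernel

theorem count_octO : (List.all [(4, 280), (2, 448), (0, 30)] fun e =>
    distinctB 24 ((wtList 8).filter fun m => popc (baseOct &&& m) == e.1) &&
      decide (((wtList 8).filter fun m => popc (baseOct &&& m) == e.1).length = e.2)) = true := by
  decide +kernel

theorem octad_meet (o : Finset GolayPt) (ho : o ∈ octads) :
    ∀ e ∈ [(4, 280), (2, 448), (0, 30)],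
      {s : Finset GolayPt | s ∈ octads ∧ (o ∩ s).card = e.1}.ncard = e.2 := by
  intro e he
  obtain ⟨σ, hσ, h⟩ := octad_transitive baseOct_mem ho
  exact ncard_meet_any 8 e.1 hσ h (ncard_meet 8 e.1 baseOct e.2 baseOct_lt (List.all_eq_true.mp count_octO e he))

theorem octad_suborbit {o a b : Finset GolayPt} (ho : o ∈ octads) (ha : a ∈ octads) (hb : b ∈ octads)
    (h : (o ∩ a).card = (o ∩ b).card) : ∃ g : Equiv.Perm GolayPt, g ∈ M24 ∧ g • o = o ∧ g • a = b := by
  by_cases hoa : o = a
  · refine ⟨1, one_mem _, one_smul _ _, ?_⟩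
    rw [one_smul]
    have hob : o = b := octad_eq_of_meet ho.2 hb.2 (by rw [← h, ← hoa, Finset.inter_self, ho.2])
    exact hoa.symm.trans hob
  obtain ⟨σ, hσ, he⟩ := octad_transitive baseOct_mem ho
  have hv := orb_octO_ok
  simp only [Bool.and_eq_true] at hv
  have hc := octad_meet (supp baseOct) baseOct_mem
  rcases Steiner.inter_24 (by decide) octads_steiner ho ha hoa with e | e | e
  · exact trans_meet 8 hσ he baseOct_lt gens_octO_ok hv.2 (hc (0, 30) (by simp)) ha hb e (h ▸ e)
  · exact trans_meet 8 hσ he baseOct_lt gens_octO_ok hv.1.2 (hc (2, 448) (by simp)) ha hb e (h ▸ e)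
  · exact trans_meet 8 hσ he baseOct_lt gens_octO_ok hv.1.1 (hc (4, 280) (by simp)) ha hb e (h ▸ e)

/-! ### Dodecads -/

theorem dMask_lt : dMask < 2 ^ 24 := by decide +kernel

theorem gens_dodD_ok : gensFix [dMask] gens_dodD := by decide +kernel

theorem orb_dodD_ok : (orb_dodD_4.valid gens_dodD (meetP 12 dMask 4) 495 &&
    orb_dodD_6.valid gens_dodD (meetP 12 dMask 6) 1584 &&
    orb_dodD_8.valid gens_dodD (meetP 12 dMask 8) 495 &&
    orb_dodD_0.valid gens_dodD (meetP 12 dMask 0) 1) = true := by decide +kernel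

theorem count_dodD : (List.all [(4, 495), (6, 1584), (8, 495), (0, 1), (12, 1)] fun e =>
    distinctB 24 ((wtList 12).filter fun m => popc (dMask &&& m) == e.1) &&
      decide (((wtList 12).filter fun m => popc (dMask &&& m) == e.1).length = e.2)) = true := by
  decide +kernel

theorem dodD_only : ((wtList 12).all fun m => [0, 4, 6, 8, 12].contains (popc (dMask &&& m))) = true := by
  decide +kernel

theorem dodecad_meet (d : Finset GolayPt) (hd : d ∈ dodecads) :
    ∀ e ∈ [(4, 495), (6, 1584), (8, 495), (0, 1), (12, 1)],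
      {s : Finset GolayPt | s ∈ dodecads ∧ (d ∩ s).card = e.1}.ncard = e.2 := by
  intro e he
  obtain ⟨σ, hσ, h⟩ := dodecad_transitive hd
  exact ncard_meet_any 12 e.1 hσ h (ncard_meet 12 e.1 dMask e.2 dMask_lt (List.all_eq_true.mp count_dodD e he))

theorem dodecad_inter {d a : Finset GolayPt} (hd : d ∈ dodecads) (ha : a ∈ dodecads) (hne : a ≠ d) :
    (d ∩ a).card = 0 ∨ (d ∩ a).card = 4 ∨ (d ∩ a).card = 6 ∨ (d ∩ a).card = 8 := by
  obtain ⟨σ, hσ, he⟩ := dodecad_transitive hd
  have hm := List.all_eq_true.mp dodD_only _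
    ((mem_dodecads _).mp (smul_mem_weight (inv_mem hσ) ha))
  have e : (d ∩ a).card = popc (dMask &&& maskF (σ⁻¹ • a)) := by
    rw [← he, ← card_smul_inter σ⁻¹, inv_smul_smul, popc_inter, show D0 = supp dMask from rfl,
      maskF_supp dMask_lt]
  rw [← e] at hm
  simp only [List.contains_eq_mem, List.mem_cons, List.not_mem_nil, or_false, decide_eq_true_eq] at hm
  rcases hm with h | h | h | h | h
  · exact Or.inl h
  · exact Or.inr (Or.inl h)
  · exact Or.inr (Or.inr (Or.inl h))
  · exact Or.inr (Or.inr (Or.inr h))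
  · exact absurd (octad_eq_of_meet hd.2 ha.2 h).symm hne

theorem dodecad_suborbit {d a b : Finset GolayPt} (hd : d ∈ dodecads) (ha : a ∈ dodecads)
    (hb : b ∈ dodecads) (h : (d ∩ a).card = (d ∩ b).card) :
    ∃ g : Equiv.Perm GolayPt, g ∈ M24 ∧ g • d = d ∧ g • a = b := by
  by_cases hda : a = d
  · refine ⟨1, one_mem _, one_smul _ _, ?_⟩
    rw [one_smul, hda]
    exact octad_eq_of_meet hd.2 hb.2 (by rw [← h, hda, Finset.inter_self, hd.2])
  obtain ⟨σ, hσ, he⟩ := dodecad_transitive hd
  have hv := orb_dodD_ok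
  simp only [Bool.and_eq_true] at hv
  have hc := dodecad_meet D0 D0_dodecad
  rcases dodecad_inter hd ha hda with e | e | e | e
  · exact trans_meet 12 hσ he dMask_lt gens_dodD_ok hv.2 (hc (0, 1) (by simp)) ha hb e (h ▸ e)
  · exact trans_meet 12 hσ he dMask_lt gens_dodD_ok hv.1.1.1 (hc (4, 495) (by simp)) ha hb e (h ▸ e)
  · exact trans_meet 12 hσ he dMask_lt gens_dodD_ok hv.1.1.2 (hc (6, 1584) (by simp)) ha hb e (h ▸ e)
  · exact trans_meet 12 hσ he dMask_lt gens_dodD_ok hv.1.2 (hc (8, 495) (by simp)) ha hb e (h ▸ e)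

end Cfsg.Agent.Golay
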