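import Cfsg.Agent.Lib.Golay.Families
import Cfsg.Agent.Lib.Golay.OrbStd

/-! Sextets, trios and octads as certified families. -/

set_option autoImplicit false

namespace Cfsg.Agent.Golay

open Cfsg Cfsg.Agent.Sextet
open scoped Pointwise

/-- A sextet on masks. -/
def sxB (L : List ℕ) : Bool :=
  okFam L && decide (L.length = 6) && (L.all fun a => popc a == 4) &&
    L.all fun a => L.all fun b => a == b || (inC (a ||| b) && popc (a ||| b) == 8)

/-- A trio on masks. -/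
def trB (L : List ℕ) : Bool :=
  okFam L && decide (L.length = 3) && (L.all fun a => codeW 8 a) &&
    L.all fun a => L.all fun b => a == b || (a &&& b) == 0

theorem card_fam {L : List ℕ} (h : okFam L = true) : (fam L).card = L.length := by
  rw [fam, List.toFinset_card_of_nodup (map_supp_nodup h), List.length_map]

theorem mem_fam {L : List ℕ} {x : Finset GolayPt} : x ∈ fam L ↔ ∃ m ∈ L, supp m = x := by
  simp [fam]

theorem sextet_of_check {L : List ℕ} (h : sxB L = true) : fam L ∈ sextets := by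
  simp only [sxB, Bool.and_eq_true, decide_eq_true_eq, List.all_eq_true, beq_iff_eq,
    Bool.or_eq_true] at h
  obtain ⟨⟨⟨hok, hlen⟩, h4⟩, hu⟩ := h
  refine ⟨by rw [card_fam hok, hlen], fun t ht => ?_, fun t ht t' ht' hne => ?_⟩
  · obtain ⟨m, hm, rfl⟩ := mem_fam.mp ht
    rw [← popc_eq, h4 m hm]
  · obtain ⟨m, hm, rfl⟩ := mem_fam.mp ht
    obtain ⟨m', hm', rfl⟩ := mem_fam.mp ht'
    rcases hu m hm m' hm' with e | e
    · exact absurd (by rw [e]) hne
    · have hlt : m ||| m' < 2 ^ 24 :=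
        Nat.or_lt_two_pow ((okFam_iff.mp hok).2 m hm) ((okFam_iff.mp hok).2 m' hm')
      have hU : supp m ∪ supp m' = supp (m ||| m') := by
        rw [← supp_maskF (supp m ∪ supp m'), maskF_union, maskF_supp ((okFam_iff.mp hok).2 m hm),
          maskF_supp ((okFam_iff.mp hok).2 m' hm')]
      rw [hU]
      exact supp_mem_wt hlt (by simp [codeW, e.1, e.2])

theorem trio_of_check {L : List ℕ} (h : trB L = true) : fam L ∈ trios := by
  simp only [trB, Bool.and_eq_true, decide_eq_true_eq, List.all_eq_true, beq_iff_eq,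
    Bool.or_eq_true] at h
  obtain ⟨⟨⟨hok, hlen⟩, h8⟩, hu⟩ := h
  refine ⟨by rw [card_fam hok, hlen], fun o ho => ?_, fun o ho o' ho' hne => ?_⟩
  · obtain ⟨m, hm, rfl⟩ := mem_fam.mp ho
    exact supp_mem_wt ((okFam_iff.mp hok).2 m hm) (h8 m hm)
  · obtain ⟨m, hm, rfl⟩ := mem_fam.mp ho
    obtain ⟨m', hm', rfl⟩ := mem_fam.mp ho'
    rcases hu m hm m' hm' with e | e
    · exact absurd (by rw [e]) hne
    · rw [disjoint_iff_mask, maskF_supp ((okFam_iff.mp hok).2 m hm),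
        maskF_supp ((okFam_iff.mp hok).2 m' hm'), e]

theorem smul_sextet {g : Equiv.Perm GolayPt} (hg : g ∈ M24) {S : Finset (Finset GolayPt)}
    (hS : S ∈ sextets) : g • S ∈ sextets := by
  obtain ⟨h6, h4, hu⟩ := hS
  refine ⟨by rw [Finset.card_smul_finset, h6], fun t ht => ?_, fun t ht t' ht' hne => ?_⟩
  · obtain ⟨u, hu', rfl⟩ := Finset.mem_smul_finset.mp ht
    rw [Finset.card_smul_finset, h4 u hu']
  · obtain ⟨u, hu1, rfl⟩ := Finset.mem_smul_finset.mp ht
    obtain ⟨v, hv1, rfl⟩ := Finset.mem_smul_finset.mp ht'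
    rw [← Finset.smul_finset_union]
    exact smul_mem_weight hg (hu u hu1 v hv1 fun e => hne (by rw [e]))

theorem smul_trio {g : Equiv.Perm GolayPt} (hg : g ∈ M24) {T : Finset (Finset GolayPt)}
    (hT : T ∈ trios) : g • T ∈ trios := by
  obtain ⟨h3, ho, hd⟩ := hT
  refine ⟨by rw [Finset.card_smul_finset, h3], fun t ht => ?_, fun t ht t' ht' hne => ?_⟩
  · obtain ⟨u, hu', rfl⟩ := Finset.mem_smul_finset.mp ht
    exact smul_mem_weight hg (ho u hu')
  · obtain ⟨u, hu1, rfl⟩ := Finset.mem_smul_finset.mp ht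
    obtain ⟨v, hv1, rfl⟩ := Finset.mem_smul_finset.mp ht'
    have h := hd u hu1 v hv1 fun e => hne (by rw [e])
    rw [Finset.disjoint_iff_inter_eq_empty] at h ⊢
    rw [← Finset.smul_finset_inter, h, Finset.smul_finset_empty]

theorem hinv_sextets : ∀ g ∈ M24, ∀ y ∈ sextets, g • y ∈ sextets := fun _ hg _ hy => smul_sextet hg hy

theorem hinv_trios : ∀ g ∈ M24, ∀ y ∈ trios, g • y ∈ trios := fun _ hg _ hy => smul_trio hg hy

/-- The octads as families with one member. -/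
def octSingles : Set (Finset (Finset GolayPt)) := (fun o => {o}) '' octads

theorem hinv_octSingles : ∀ g ∈ M24, ∀ y ∈ octSingles, g • y ∈ octSingles := by
  rintro g hg _ ⟨o, ho, rfl⟩
  exact ⟨g • o, smul_mem_weight hg ho, (Finset.smul_finset_singleton _).symm⟩

theorem ncard_octSingles : octSingles.ncard = 759 := by
  rw [octSingles, Set.ncard_image_of_injective _ Finset.singleton_injective,
    Steiner.ncard_eq_card, Sextet.card_octads]

theorem octSingle_of_check {m : ℕ} (h : (codeW 8 m && decide (m < 2 ^ 24)) = true) :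
    fam [m] ∈ octSingles := by
  simp only [Bool.and_eq_true, decide_eq_true_eq] at h
  exact ⟨supp m, supp_mem_wt h.2 h.1, by simp [fam]⟩

theorem fam_single (m : ℕ) : fam [m] = {supp m} := by simp [fam]

theorem stab_single {x : Finset GolayPt} :
    MulAction.stabilizer M24 ({x} : Finset (Finset GolayPt)) = MulAction.stabilizer M24 x := by
  ext g
  simp only [MulAction.mem_stabilizer_iff, Finset.smul_finset_singleton, Finset.singleton_inj]

theorem orbit_single (K : Subgroup M24) (x : Finset GolayPt) :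
    MulAction.orbit K ({x} : Finset (Finset GolayPt)) = (fun o => {o}) '' MulAction.orbit K x := by
  ext y
  constructor
  · rintro ⟨g, rfl⟩
    exact ⟨g • x, ⟨g, rfl⟩, (Finset.smul_finset_singleton _).symm⟩
  · rintro ⟨_, ⟨g, rfl⟩, rfl⟩
    exact ⟨g, Finset.smul_finset_singleton _⟩

theorem exists_map_sextet {L : List ℕ} (hL : sxB L = true) {m : ℕ} (hm : m ∈ L)
    (hf : supp m = (Finset.univ : Finset (Fin 4)).image fun i => pt (bpt i.val))
    {S : Finset (Finset GolayPt)} (hS : S ∈ sextets) : ∃ σ ∈ M24, σ • fam L = S := by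
  obtain ⟨t, ht⟩ := Finset.card_pos.mp (show 0 < S.card by rw [hS.1]; norm_num)
  obtain ⟨σ, hσ, e⟩ := exists_map_set t (by norm_num) (hS.2.1 t ht) m hf
  refine ⟨σ, hσ, ?_⟩
  rw [tetrads_unique hS ht]
  refine tetrads_unique (smul_sextet hσ (sextet_of_check hL)) ?_
  rw [← e]
  exact Finset.smul_mem_smul_finset (mem_fam.mpr ⟨m, hm, rfl⟩)

theorem exists_map_trio {L : List ℕ} (hL : trB L = true) {T : Finset (Finset GolayPt)}
    (hT : T ∈ trios) : ∃ σ ∈ M24, σ • fam L = T := by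
  have h0 := trio_of_check hL
  obtain ⟨a, ha, b, hb, hab⟩ := Finset.one_lt_card.mp (show 1 < (fam L).card by rw [h0.1]; norm_num)
  obtain ⟨o, ho, o', ho', hoo⟩ := Finset.one_lt_card.mp (show 1 < T.card by rw [hT.1]; norm_num)
  obtain ⟨σ₁, hσ₁, e1⟩ := octad_transitive (h0.2.1 a ha) (hT.2.1 o ho)
  have hd : (a ∩ b).card = (a ∩ σ₁⁻¹ • o').card := by
    rw [← card_smul_inter σ₁ a (σ₁⁻¹ • o'), smul_inv_smul, e1,
      Finset.disjoint_iff_inter_eq_empty.mp (hT.2.2 o ho o' ho' hoo),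
      Finset.disjoint_iff_inter_eq_empty.mp (h0.2.2 a ha b hb hab)]
  obtain ⟨g, hg, hga, hgb⟩ := octad_suborbit (h0.2.1 a ha) (h0.2.1 b hb)
    (smul_mem_weight (inv_mem hσ₁) (hT.2.1 o' ho')) hd
  refine ⟨σ₁ * g, mul_mem hσ₁ hg, ?_⟩
  have h1 : (σ₁ * g) • a = o := by rw [mul_smul, hga, e1]
  have h2 : (σ₁ * g) • b = o' := by rw [mul_smul, hgb, smul_inv_smul]
  have hm := smul_trio (mul_mem hσ₁ hg) h0
  rw [trio_third hm (h1 ▸ Finset.smul_mem_smul_finset ha) (h2 ▸ Finset.smul_mem_smul_finset hb) hoo,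
    ← trio_third hT ho ho' hoo]

theorem orbit_sextets {S : Finset (Finset GolayPt)} (hS : S ∈ sextets) {L : List ℕ}
    (hL : sxB L = true) {m : ℕ} (hm : m ∈ L)
    (hf : supp m = (Finset.univ : Finset (Fin 4)).image fun i => pt (bpt i.val)) :
    MulAction.orbit M24 S = sextets := by
  ext y
  refine ⟨fun ⟨g, hg⟩ => hg ▸ smul_sextet g.2 hS, fun hy => ?_⟩
  obtain ⟨σ, hσ, rfl⟩ := exists_map_sextet hL hm hf hS
  obtain ⟨τ, hτ, rfl⟩ := exists_map_sextet hL hm hf hy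
  exact exists_M24 (g := τ * σ⁻¹) (mul_mem hτ (inv_mem hσ)) (by rw [mul_smul, inv_smul_smul])

theorem orbit_trios {T : Finset (Finset GolayPt)} (hT : T ∈ trios) {L : List ℕ} (hL : trB L = true) :
    MulAction.orbit M24 T = trios := by
  ext y
  refine ⟨fun ⟨g, hg⟩ => hg ▸ smul_trio g.2 hT, fun hy => ?_⟩
  obtain ⟨σ, hσ, rfl⟩ := exists_map_trio hL hT
  obtain ⟨τ, hτ, rfl⟩ := exists_map_trio hL hy
  exact exists_M24 (g := τ * σ⁻¹) (mul_mem hτ (inv_mem hσ)) (by rw [mul_smul, inv_smul_smul])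

/-- Orbits given by a list of representatives. -/
def OrbitsList {G Y : Type*} [Group G] [MulAction G Y] (H : Subgroup G) (𝒳 : Set Y)
    (l : List (Y × ℕ)) : Prop :=
  (∀ e ∈ l, e.1 ∈ 𝒳 ∧ (MulAction.orbit H e.1).ncard = e.2) ∧
    𝒳 = {y | ∃ e ∈ l, y ∈ MulAction.orbit H e.1}

theorem orbitsList_of {F : List ℕ} {gens : List Tab} {cs : List FOrb} {sizes : List ℕ}
    (hok : famCheck F gens cs sizes = true) {B : List ℕ → Bool}
    {𝒳 : Set (Finset (Finset GolayPt))} (hinv : ∀ g ∈ M24, ∀ y ∈ 𝒳, g • y ∈ 𝒳)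
    (hB : ∀ L, B L = true → fam L ∈ 𝒳) (hroot : (cs.all fun c => B c.root) = true)
    (hcard : 𝒳.ncard = sizes.sum) {σ : Equiv.Perm GolayPt} (hσ : σ ∈ M24)
    {H : Subgroup M24} (hH : MulAction.stabilizer M24 (σ • fam F) = H) :
    OrbitsList H 𝒳 (cs.map fun c => (σ • fam c.root, c.members.length)) := by
  subst hH
  obtain ⟨hA, hB'⟩ := fam_orbits hok hinv (fun c hc => hB _ (List.all_eq_true.mp hroot c hc)) hcard hσ
  refine ⟨fun e he => ?_, Set.ext fun y => ⟨fun hy => ?_, ?_⟩⟩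
  · obtain ⟨c, hc, rfl⟩ := List.mem_map.mp he
    exact ⟨(hA c hc).1, (hA c hc).2.1⟩
  · obtain ⟨c, hc, h⟩ := hB' y hy
    exact ⟨_, List.mem_map.mpr ⟨c, hc, rfl⟩, h⟩
  · rintro ⟨e, he, hy⟩
    obtain ⟨c, hc, rfl⟩ := List.mem_map.mp he
    rw [(hA c hc).2.2] at hy
    exact hy.1

theorem orbitsList_singles {H : Subgroup M24} {l : List (Finset (Finset GolayPt) × ℕ)}
    (h : OrbitsList H octSingles l) :
    ∃ l' : List (Finset GolayPt × ℕ), l'.map Prod.snd = l.map Prod.snd ∧ OrbitsList H octads l' := by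
  classical
  have hs : ∀ e ∈ l, ∃ o : Finset GolayPt, e.1 = {o} := fun e he => by
    obtain ⟨o, -, ho⟩ := (h.1 e he).1
    exact ⟨o, ho.symm⟩
  let pick : Finset (Finset GolayPt) × ℕ → Finset GolayPt × ℕ := fun e =>
    (if h' : ∃ o : Finset GolayPt, e.1 = {o} then h'.choose else ∅, e.2)
  have hp : ∀ e ∈ l, e.1 = {(pick e).1} ∧ (pick e).2 = e.2 := fun e he =>
    ⟨by simp only [pick, dif_pos (hs e he)]; exact (hs e he).choose_spec, rfl⟩
  refine ⟨l.map pick, by simp [pick, List.map_map, Function.comp_def], fun e' he' => ?_,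
    Set.ext fun y => ⟨fun hy => ?_, ?_⟩⟩
  · obtain ⟨e, he, rfl⟩ := List.mem_map.mp he'
    obtain ⟨h1, h2⟩ := hp e he
    have h3 := h.1 e he
    rw [h1, orbit_single, Set.ncard_image_of_injective _ Finset.singleton_injective] at h3
    obtain ⟨o, ho, heq⟩ := h3.1
    exact ⟨by rw [← Finset.singleton_injective heq]; exact ho, h2 ▸ h3.2⟩
  · obtain ⟨e, he, hy'⟩ := (Set.ext_iff.mp h.2 {y}).mp ⟨y, hy, rfl⟩
    rw [(hp e he).1, orbit_single] at hy'
    obtain ⟨z, hz, hzy⟩ := hy'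
    exact ⟨_, List.mem_map.mpr ⟨e, he, rfl⟩, Finset.singleton_injective hzy ▸ hz⟩
  · rintro ⟨e', he', hy⟩
    obtain ⟨e, he, rfl⟩ := List.mem_map.mp he'
    obtain ⟨o, ho, heq⟩ := (Set.ext_iff.mp h.2 {y}).mpr
      ⟨e, he, by rw [(hp e he).1, orbit_single]; exact ⟨y, hy, rfl⟩⟩
    exact Finset.singleton_injective heq ▸ ho

theorem orbitsList_three {G Y : Type*} [Group G] [MulAction G Y] {H : Subgroup G} {𝒳 : Set Y}
    {a b c : ℕ} {l : List (Y × ℕ)} (hl : l.map Prod.snd = [a, b, c]) (h : OrbitsList H 𝒳 l) :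
    ∃ X₁ ∈ 𝒳, ∃ X₂ ∈ 𝒳, ∃ X₃ ∈ 𝒳, (MulAction.orbit H X₁).ncard = a ∧
      (MulAction.orbit H X₂).ncard = b ∧ (MulAction.orbit H X₃).ncard = c ∧
      𝒳 = MulAction.orbit H X₁ ∪ MulAction.orbit H X₂ ∪ MulAction.orbit H X₃ := by
  match l, hl with
  | [u, v, w], hl =>
    simp only [List.map_cons, List.map_nil, List.cons.injEq, and_true] at hl
    obtain ⟨rfl, rfl, rfl⟩ := hl
    obtain ⟨h1, h2⟩ := h
    simp only [List.forall_mem_cons] at h1
    refine ⟨_, h1.1.1, _, h1.2.1.1, _, h1.2.2.1.1, h1.1.2, h1.2.1.2, h1.2.2.1.2, ?_⟩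
    rw [h2]
    ext y
    simp [or_assoc]

theorem orbitsList_four {G Y : Type*} [Group G] [MulAction G Y] {H : Subgroup G} {𝒳 : Set Y}
    {a b c d : ℕ} {l : List (Y × ℕ)} (hl : l.map Prod.snd = [a, b, c, d]) (h : OrbitsList H 𝒳 l) :
    ∃ X₁ ∈ 𝒳, ∃ X₂ ∈ 𝒳, ∃ X₃ ∈ 𝒳, ∃ X₄ ∈ 𝒳, (MulAction.orbit H X₁).ncard = a ∧
      (MulAction.orbit H X₂).ncard = b ∧ (MulAction.orbit H X₃).ncard = c ∧
      (MulAction.orbit H X₄).ncard = d ∧
      𝒳 = MulAction.orbit H X₁ ∪ MulAction.orbit H X₂ ∪ MulAction.orbit H X₃ ∪ MulAction.orbit H X₄ := by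
  match l, hl with
  | [u, v, w, z], hl =>
    simp only [List.map_cons, List.map_nil, List.cons.injEq, and_true] at hl
    obtain ⟨rfl, rfl, rfl, rfl⟩ := hl
    obtain ⟨h1, h2⟩ := h
    simp only [List.forall_mem_cons] at h1
    refine ⟨_, h1.1.1, _, h1.2.1.1, _, h1.2.2.1.1, _, h1.2.2.2.1.1, h1.1.2, h1.2.1.2, h1.2.2.1.2,
      h1.2.2.2.1.2, ?_⟩
    rw [h2]
    ext y
    simp [or_assoc]

theorem orbit_self {G Y : Type*} [Group G] [MulAction G Y] (x : Y) :
    MulAction.orbit (MulAction.stabilizer G x) x = {x} := by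
  ext y
  exact ⟨fun ⟨g, hg⟩ => hg ▸ g.2, fun h => h ▸ MulAction.mem_orbit_self _⟩

end Cfsg.Agent.Golay
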