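import Cfsg.Agent.Lib.Golay.Families

/-! Orbit certificates for a stabiliser on families. -/

set_option autoImplicit false
set_option maxRecDepth 100000

namespace Cfsg.Agent.Golay

/-- A fixed family. -/
def famOct : List ℕ := [8536111]

/-- Generators of a stabiliser. -/
def gensFamOct : List Tab := [([3, 23, 5, 0, 20, 2, 12, 21, 19, 18, 7, 13, 10, 8, 14, 15, 6, 1, 11, 9, 22, 16, 4, 17], [3, 17, 5, 0, 22, 2, 16, 10, 13, 19, 12, 18, 6, 11, 14, 15, 21, 23, 9, 8, 4, 7, 20, 1]), ([5, 23, 14, 1, 10, 0, 12, 11, 4, 15, 20, 18, 8, 21, 17, 6, 19, 3, 22, 13, 7, 16, 9, 2], [5, 3, 23, 17, 8, 0, 15, 20, 12, 22, 4, 7, 6, 19, 2, 9, 21, 14, 11, 16, 10, 13, 18, 1])]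

end Cfsg.Agent.Golay
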