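import Cfsg.Agent.Lib.Golay.Families

/-! Orbit certificates for a stabiliser on families. -/

set_option autoImplicit false
set_option maxRecDepth 100000

namespace Cfsg.Agent.Golay

/-- A fixed family. -/
def famSx : List ℕ := [147496, 268544, 1082880, 2621632, 4268048, 8388615]

/-- Generators of a stabiliser. -/
def gensFamSx : List Tab := [([0, 2, 23, 8, 7, 12, 20, 10, 4, 5, 14, 13, 16, 6, 18, 3, 21, 11, 22, 9, 17, 15, 19, 1], [0, 23, 1, 15, 8, 9, 13, 4, 3, 19, 7, 17, 5, 11, 10, 21, 12, 20, 14, 22, 6, 16, 18, 2]), ([9, 10, 15, 0, 14, 23, 11, 18, 22, 6, 19, 13, 16, 5, 1, 7, 3, 2, 4, 8, 21, 12, 17, 20], [3, 14, 17, 16, 18, 13, 9, 15, 19, 0, 1, 6, 21, 11, 4, 2, 12, 22, 7, 10, 23, 20, 8, 5])]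

end Cfsg.Agent.Golay
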