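import Cfsg.Agent.Lib.Golay.FamSxS0
import Cfsg.Agent.Lib.Golay.FamSxS1

/-! Orbit certificates for a stabiliser on families. -/

set_option autoImplicit false
set_option maxRecDepth 100000

namespace Cfsg.Agent.Golay

theorem famSxS_ok : famCheck famSx gensFamSx [famSxS_0, famSxS_1, famSxS_2, famSxS_3] [1, 90, 240, 1440] = true := by
  refine famCheck_intro (by decide +kernel) ?_
  simp only [List.forall_mem_cons, List.not_mem_nil, false_imp_iff, implies_true, and_true]
  exact ⟨famSxS_0_ok, famSxS_1_ok, famSxS_2_ok, famSxS_3_ok⟩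

end Cfsg.Agent.Golay
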