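import Cfsg.Agent.Lib.Golay.Families

/-! Orbit certificates for a stabiliser on families. -/

set_option autoImplicit false
set_option maxRecDepth 100000

namespace Cfsg.Agent.Golay

/-- A fixed family. -/
def famT3 : List ℕ := [8388611]

/-- Generators of a stabiliser. -/
def gensFamT3 : List Tab := [([0, 23, 3, 17, 11, 5, 15, 21, 13, 16, 18, 10, 6, 19, 2, 9, 20, 14, 8, 22, 7, 12, 4, 1], [0, 23, 14, 2, 22, 5, 12, 20, 18, 15, 11, 4, 21, 8, 17, 6, 9, 3, 10, 13, 16, 7, 19, 1]), ([23, 0, 6, 16, 21, 14, 3, 10, 18, 12, 9, 20, 22, 7, 11, 4, 19, 15, 5, 8, 17, 13, 2, 1], [1, 23, 22, 6, 15, 18, 2, 13, 19, 10, 7, 14, 9, 21, 5, 17, 3, 20, 8, 16, 11, 4, 12, 0])]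

end Cfsg.Agent.Golay
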