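import Cfsg.Agent.Lib.Golay.Families

/-! Orbit certificates for a stabiliser on families. -/

set_option autoImplicit false
set_option maxRecDepth 100000

namespace Cfsg.Agent.Golay

/-- A fixed family. -/
def famTr : List ℕ := [337856, 7903248, 8536111]

/-- Generators of a stabiliser. -/
def gensFamTr : List Tab := [([16, 6, 8, 7, 19, 10, 0, 2, 23, 1, 17, 22, 20, 5, 18, 15, 3, 9, 14, 21, 4, 11, 12, 13], [6, 9, 7, 16, 20, 13, 1, 3, 2, 17, 5, 21, 22, 23, 18, 15, 0, 10, 14, 4, 12, 19, 11, 8]), ([4, 21, 19, 20, 1, 11, 16, 18, 9, 10, 6, 2, 17, 8, 15, 3, 13, 22, 7, 5, 23, 14, 0, 12], [22, 4, 11, 15, 0, 19, 10, 18, 13, 8, 9, 5, 23, 16, 21, 14, 6, 12, 7, 2, 3, 1, 17, 20])]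

end Cfsg.Agent.Golay
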