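import Cfsg.Agent.Lib.Golay.FamTrO0

/-! Orbit certificates for a stabiliser on families. -/

set_option autoImplicit false
set_option maxRecDepth 100000

namespace Cfsg.Agent.Golay

theorem famTrO_ok : famCheck famTr gensFamTr [famTrO_0, famTrO_1, famTrO_2] [3, 84, 672] = true := by
  refine famCheck_intro (by decide +kernel) ?_
  simp only [List.forall_mem_cons, List.not_mem_nil, false_imp_iff, implies_true, and_true]
  exact ⟨famTrO_0_ok, famTrO_1_ok, famTrO_2_ok⟩

end Cfsg.Agent.Golay
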