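import Cfsg.Agent.Lib.Golay.FamTrS0
import Cfsg.Agent.Lib.Golay.FamTrS1

/-! Orbit certificates for a stabiliser on families. -/

set_option autoImplicit false
set_option maxRecDepth 100000

namespace Cfsg.Agent.Golay

theorem famTrS_ok : famCheck famTr gensFamTr [famTrS_0, famTrS_1, famTrS_2, famTrS_3] [7, 84, 336, 1344] = true := by
  refine famCheck_intro (by decide +kernel) ?_
  simp only [List.forall_mem_cons, List.not_mem_nil, false_imp_iff, implies_true, and_true]
  exact ⟨famTrS_0_ok, famTrS_1_ok, famTrS_2_ok, famTrS_3_ok⟩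

end Cfsg.Agent.Golay
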