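import Cfsg.Agent.Lib.Golay.OrbMore
import Cfsg.Agent.Lib.Golay.Sextet

/-! Certified orbits of stabilisers on families of point sets (sextets, trios, single sets). -/

set_option autoImplicit false

namespace Cfsg.Agent.Golay

open Cfsg
open scoped Pointwise

/-- Increasing insertion sort of masks. -/
def sortM (L : List ℕ) : List ℕ := L.insertionSort (· ≤ ·)

/-- The family of position sets of a list of masks. -/
def fam (L : List ℕ) : Finset (Finset GolayPt) := (L.map supp).toFinset

/-- The image of a mask under the list of images of the positions. -/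
noncomputable def imgL (l : List ℕ) : ℕ → ℕ :=
  List.rec (motive := fun _ => ℕ → ℕ) (fun _ => 0)
    (fun a _ ih m => Nat.lor (bif Nat.beq (Nat.land m 1) 1 then Nat.pow 2 a else 0)
      (ih (Nat.shiftRight m 1))) l

theorem imgL_nil (m : ℕ) : imgL [] m = 0 := rfl

theorem imgL_cons (a : ℕ) (l : List ℕ) (m : ℕ) :
    imgL (a :: l) m = (bif m % 2 == 1 then 2 ^ a else 0) ||| imgL l (m / 2) := by
  have e1 : Nat.beq (Nat.land m 1) 1 = (m % 2 == 1) := by
    rw [show Nat.land m 1 = m &&& 1 from rfl, Nat.and_one_is_mod, Bool.eq_iff_iff, Nat.beq_eq, beq_iff_eq]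
  have e2 : Nat.shiftRight m 1 = m / 2 := Nat.shiftRight_one m
  show Nat.lor (bif Nat.beq (Nat.land m 1) 1 then Nat.pow 2 a else 0) (imgL l (Nat.shiftRight m 1)) = _
  rw [e1, e2]
  rfl

/-- The image of a list of masks under a table, sorted. -/
noncomputable def imgF (T : Tab) (L : List ℕ) : List ℕ := sortM (L.map (imgL T.1))

theorem testBit_imgL (j : ℕ) : ∀ (l : List ℕ) (m : ℕ),
    (imgL l m).testBit j = true ↔ ∃ i < l.length, m.testBit i = true ∧ l.getD i 0 = j := by
  intro l
  induction l with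
  | nil => simp [imgL_nil]
  | cons a l ih =>
    intro m
    rw [imgL_cons, Nat.testBit_or, Bool.or_eq_true, ih]
    constructor
    · rintro (h | ⟨i, hi, h1, h2⟩)
      · refine ⟨0, Nat.succ_pos _, ?_⟩
        cases hm : m % 2 == 1 with
        | false => rw [hm] at h; simp at h
        | true =>
          rw [hm] at h
          simp only [cond_true, Nat.testBit_two_pow, decide_eq_true_eq] at h
          exact ⟨by rw [Nat.testBit_zero]; simpa using hm, h⟩
      · exact ⟨i + 1, Nat.succ_lt_succ hi, by rwa [Nat.testBit_add_one], h2⟩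
    · rintro ⟨i, hi, h1, h2⟩
      cases i with
      | zero =>
        left
        rw [Nat.testBit_zero, decide_eq_true_eq] at h1
        simp only [List.getD_cons_zero] at h2
        simp [h1, h2]
      | succ i =>
        right
        exact ⟨i, Nat.lt_of_succ_lt_succ hi, by rwa [Nat.testBit_add_one] at h1, h2⟩

/-- The list of images has one small entry for each position. -/
def tabSmall (T : Tab) : Bool := T.1.length == 24 && T.1.all fun a => decide (a < 24)

theorem imgL_eq {T : Tab} (h : TabInv T) (hs : tabSmall T = true) (m : ℕ) :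
    imgL T.1 m = imgM T m := by
  simp only [tabSmall, Bool.and_eq_true, beq_iff_eq, List.all_eq_true, decide_eq_true_eq] at hs
  have hget : ∀ i : Fin 24, (tabFn T.1 i).val = T.1.getD i.val 0 := fun i => by
    have hi : i.val < T.1.length := by rw [hs.1]; exact i.isLt
    have := hs.2 _ (List.getElem_mem hi)
    rw [← List.getD_eq_getElem _ 0 hi] at this
    simp only [tabFn, Fin.ofNat_eq_cast, Fin.val_natCast]
    exact Nat.mod_eq_of_lt this
  apply Nat.eq_of_testBit_eq
  intro j
  rw [Bool.eq_iff_iff, testBit_imgL, hs.1]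
  by_cases hj : j < 24
  · rw [imgM, pullMask, Nat.testBit_ofBits_lt _ _ hj]
    constructor
    · rintro ⟨i, hi, h1, h2⟩
      have : tabFn T.1 ⟨i, hi⟩ = ⟨j, hj⟩ := Fin.ext ((hget _).trans h2)
      rwa [← this, (h _).2]
    · intro h1
      refine ⟨(tabFn T.2 ⟨j, hj⟩).val, Fin.isLt _, h1, ?_⟩
      rw [← hget, (h _).1]
  · rw [imgM, pullMask, Nat.testBit_ofBits_ge _ _ (not_lt.mp hj)]
    refine ⟨?_, fun h1 => absurd h1 Bool.false_ne_true⟩
    rintro ⟨i, hi, -, h2⟩
    exact absurd (h2 ▸ (hget ⟨i, hi⟩).symm ▸ Fin.isLt _) hj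

/-- The sorted sizes of the mutual intersections. -/
def invM (F X : List ℕ) : List ℕ := sortM ((F ×ˢ X).map fun p => popc (p.1 &&& p.2))

/-- Sizes of the mutual intersections of two families. -/
def famInv (F X : Finset (Finset GolayPt)) : Multiset ℕ :=
  (F ×ˢ X).val.map fun p => (p.1 ∩ p.2).card

/-- Strictly increasing masks of positions. -/
def okFam (L : List ℕ) : Bool := decide (L.Pairwise (· < ·)) && L.all fun m => decide (m < 2 ^ 24)

/-- A number telling families apart. -/
def famCode (L : List ℕ) : ℕ := L.getLastD 0 * 2 ^ 24 + L.headD 0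

theorem smul_fam {σ : Equiv.Perm GolayPt} (L : List ℕ) (f : ℕ → ℕ)
    (h : ∀ m, σ • supp m = supp (f m)) : σ • fam L = fam (L.map f) := by
  ext x
  simp only [fam, Finset.mem_smul_finset, List.mem_toFinset, List.mem_map, List.map_map,
    Function.comp_apply]
  constructor
  · rintro ⟨y, ⟨m, hm, rfl⟩, rfl⟩
    exact ⟨m, hm, (h m).symm⟩
  · rintro ⟨m, hm, rfl⟩
    exact ⟨supp m, ⟨m, hm, rfl⟩, h m⟩

theorem fam_sortM (L : List ℕ) : fam (sortM L) = fam L :=
  List.toFinset_eq_of_perm _ _ ((List.perm_insertionSort _ L).map _)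

theorem smul_fam_tab {T : Tab} (h : TabInv T) (hs : tabSmall T = true) (L : List ℕ) :
    tperm T • fam L = fam (imgF T L) := by
  rw [imgF, fam_sortM]
  exact smul_fam L _ fun m => by rw [imgL_eq h hs]; exact supp_imgM h m

theorem okFam_iff {L : List ℕ} : okFam L = true ↔ L.Pairwise (· < ·) ∧ ∀ m ∈ L, m < 2 ^ 24 := by
  simp [okFam]

theorem map_supp_nodup {L : List ℕ} (h : okFam L = true) : (L.map supp).Nodup := by
  obtain ⟨h1, h2⟩ := okFam_iff.mp h
  refine List.Nodup.map_on (fun x hx y hy e => ?_) (h1.imp fun {a b} => ne_of_lt)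
  rw [← maskF_supp (h2 x hx), e, maskF_supp (h2 y hy)]

theorem fam_inj {L L' : List ℕ} (h : okFam L = true) (h' : okFam L' = true)
    (e : fam L = fam L') : L = L' := by
  obtain ⟨h1, h2⟩ := okFam_iff.mp h
  obtain ⟨h1', h2'⟩ := okFam_iff.mp h'
  have hp : (L.map supp).Perm (L'.map supp) :=
    List.perm_of_nodup_nodup_toFinset_eq (map_supp_nodup h) (map_supp_nodup h') e
  have hp' : L.Perm L' := by
    have hid : ∀ K : List ℕ, (∀ m ∈ K, m < 2 ^ 24) → (K.map supp).map maskF = K := fun K hK => by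
      rw [List.map_map]
      refine (List.map_congr_left fun m hm => ?_).trans (List.map_id K)
      exact maskF_supp (hK m hm)
    have := hp.map maskF
    rwa [hid L h2, hid L' h2'] at this
  exact List.Perm.eq_of_pairwise' h1 h1' hp'

theorem famInv_fam {F X : List ℕ} (hF : okFam F = true) (hX : okFam X = true) :
    famInv (fam F) (fam X) = ↑(invM F X) := by
  have e : (fam F ×ˢ fam X).val = ↑((F ×ˢ X).map fun p => (supp p.1, supp p.2)) := by
    rw [Finset.product_val, fam, fam, List.toFinset_val, List.toFinset_val,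
      (map_supp_nodup hF).dedup, (map_supp_nodup hX).dedup, Multiset.coe_product]
    congr 1
    induction F with
    | nil => rfl
    | cons a F ih =>
      simp only [List.map_cons, List.product_cons, List.map_append, List.map_map]
      rw [ih (okFam_iff.mpr ⟨(okFam_iff.mp hF).1.tail, fun m hm => (okFam_iff.mp hF).2 m (List.mem_cons_of_mem _ hm)⟩)]
      rfl
  rw [famInv, e, Multiset.map_coe, List.map_map]
  refine Multiset.coe_eq_coe.mpr (List.Perm.trans (List.Perm.of_eq ?_) (List.perm_insertionSort _ _).symm)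
  refine List.map_congr_left fun p hp => ?_
  obtain ⟨h1, h2⟩ := List.mem_product.mp hp
  simp only [Function.comp_apply]
  rw [popc_inter, maskF_supp ((okFam_iff.mp hF).2 _ h1), maskF_supp ((okFam_iff.mp hX).2 _ h2)]

theorem famInv_smul (σ : Equiv.Perm GolayPt) (F X : Finset (Finset GolayPt)) :
    famInv (σ • F) (σ • X) = famInv F X := by
  have hi : Function.Injective fun a : Finset GolayPt => σ • a := MulAction.injective σ
  have e : (σ • F) ×ˢ (σ • X) = (F ×ˢ X).map
      ((⟨_, hi⟩ : Finset GolayPt ↪ Finset GolayPt).prodMap ⟨_, hi⟩) := by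
    ext ⟨a, b⟩
    simp only [Finset.mem_product, Finset.mem_smul_finset, Finset.mem_map,
      Function.Embedding.coe_prodMap, Function.Embedding.coeFn_mk, Prod.map_apply, Prod.mk.injEq,
      Prod.exists]
    constructor
    · rintro ⟨⟨x, hx, e⟩, ⟨y, hy, e'⟩⟩
      exact ⟨x, y, ⟨hx, hy⟩, e, e'⟩
    · rintro ⟨x, y, ⟨hx, hy⟩, e, e'⟩
      exact ⟨⟨x, hx, e⟩, ⟨y, hy, e'⟩⟩
  rw [famInv, e, Finset.map_val, Multiset.map_map]
  exact Multiset.map_congr rfl fun p _ => card_smul_inter σ p.1 p.2

/-- An orbit certificate on families. -/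
structure FOrb where
  root : List ℕ
  ops : List (ℕ × ℕ × List ℕ)

/-- The members of a certificate. -/
def FOrb.members (c : FOrb) : List (List ℕ) := reached c.root c.ops

/-- Distinctness of numbers, decided bit by bit. -/
noncomputable def distinctR : ℕ → List ℕ → Bool :=
  fun n => Nat.rec (motive := fun _ => List ℕ → Bool) (fun l => Nat.ble l.length 1)
    (fun k ih l => Nat.ble l.length 1 ||
      (ih (l.filter fun x => Nat.beq (Nat.land (Nat.shiftRight x k) 1) 1) &&
        ih (l.filter fun x => !Nat.beq (Nat.land (Nat.shiftRight x k) 1) 1))) n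

theorem distinctR_eq : ∀ (k : ℕ) (l : List ℕ), distinctR k l = distinctB k l := by
  have hb : ∀ n, Nat.ble n 1 = decide (n ≤ 1) := fun n => by
    rw [Bool.eq_iff_iff, Nat.ble_eq, decide_eq_true_eq]
  have ht : ∀ x k, Nat.beq (Nat.land (Nat.shiftRight x k) 1) 1 = x.testBit k := fun x k => by
    rw [Bool.eq_iff_iff, Nat.testBit, show Nat.land (Nat.shiftRight x k) 1 = (x >>> k) &&& 1 from rfl,
      Nat.beq_eq, Nat.and_comm 1, Nat.and_one_is_mod, bne_iff_ne]
    omega
  intro k
  induction k with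
  | zero => intro l; exact hb _
  | succ k ih =>
    intro l
    show (Nat.ble l.length 1 || (distinctR k _ && distinctR k _)) = _
    simp only [distinctB, ih, hb, ht]

/-- One certificate is valid. -/
noncomputable def certOK (gens : List Tab) (c : FOrb) : Bool :=
  walk imgF gens c.root [c.root] c.ops && okFam c.root && distinctR 48 (c.members.map famCode)

theorem okFam_imgF {T : Tab} (h : TabInv T) (hs : tabSmall T = true) {L : List ℕ}
    (hL : okFam L = true) : okFam (imgF T L) = true := by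
  obtain ⟨h1, h2⟩ := okFam_iff.mp hL
  have hlt : ∀ m ∈ imgF T L, m < 2 ^ 24 := by
    intro m hm
    rw [imgF, sortM, (List.perm_insertionSort _ _).mem_iff, List.mem_map] at hm
    obtain ⟨x, -, rfl⟩ := hm
    rw [imgL_eq h hs]; exact imgM_lt _ _
  refine okFam_iff.mpr ⟨?_, hlt⟩
  have hnd : (imgF T L).Nodup := by
    rw [imgF, sortM, (List.perm_insertionSort _ _).nodup_iff]
    refine List.Nodup.map_on (fun x hx y hy e => ?_) (h1.imp fun {a b} => ne_of_lt)
    rw [imgL_eq h hs, imgL_eq h hs] at e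
    have := congrArg supp e
    rw [← supp_imgM h, ← supp_imgM h] at this
    have := congrArg maskF (MulAction.injective (tperm T) this)
    rwa [maskF_supp (h2 x hx), maskF_supp (h2 y hy)] at this
  exact ((List.pairwise_insertionSort (· ≤ ·) _).and hnd).imp fun {a b} hab => lt_of_le_of_ne hab.1 hab.2

theorem members_ok {gens : List Tab} (hg : ∀ T ∈ gens, TabInv T ∧ tabSmall T = true) {c : FOrb}
    (h : certOK gens c = true) : (∀ L ∈ c.members, okFam L = true) ∧
      walk imgF gens c.root [c.root] c.ops = true ∧ (c.members.map famCode).Nodup := by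
  simp only [certOK, Bool.and_eq_true] at h
  obtain ⟨⟨hw, hr⟩, hd⟩ := h
  refine ⟨?_, hw, distinctB_sound 48 _ ((distinctR_eq _ _).symm.trans hd)⟩
  have key : ∀ (ops : List (ℕ × ℕ × List ℕ)) (stk : List (List ℕ)), (∀ L ∈ stk, okFam L = true) →
      walk imgF gens c.root stk ops = true → ∀ L ∈ ops.map (fun e => e.2.2), okFam L = true := by
    intro ops
    induction ops with
    | nil => intro _ _ _ L hL; simp at hL
    | cons e ops ih =>
      obtain ⟨d, k, z⟩ := e
      intro stk hstk h
      simp only [walk, Bool.and_eq_true, decide_eq_true_eq] at h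
      obtain ⟨⟨hk, hz⟩, hrest⟩ := h
      obtain ⟨hi, hs⟩ := hg (gens.getD k ([], []))
        (by rw [List.getD_eq_getElem _ _ hk]; exact List.getElem_mem _)
      have hzok : okFam z = true := by
        rw [← hz]
        refine okFam_imgF hi hs ?_
        cases hl : stk.drop d with
        | nil => exact hr
        | cons a l => exact hstk a (List.mem_of_mem_drop (by rw [hl]; exact List.mem_cons_self))
      intro L hL
      rw [List.map_cons, List.mem_cons] at hL
      rcases hL with rfl | hL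
      · exact hzok
      · exact ih (z :: stk.drop d) (fun x hx => (List.mem_cons.mp hx).elim (fun e => e ▸ hzok)
          fun hx => hstk x (List.mem_of_mem_drop hx)) hrest L hL
  intro L hL
  rcases List.mem_cons.mp hL with rfl | hL
  · exact hr
  · exact key c.ops [c.root] (fun x hx => by rw [List.mem_singleton.mp hx]; exact hr) hw L hL

/-- The certificates are valid for the stabiliser of `F`, have the stated sizes, and their
roots are told apart by their intersections with `F`. -/
noncomputable def famCheck (F : List ℕ) (gens : List Tab) (cs : List FOrb) (sizes : List ℕ) : Bool :=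
  okFam F && decide (∀ T ∈ gens, (TabInv T ∧ ∀ x ∈ basis, inC (pullMask (tabFn T.1) x.2) = true) ∧
      tabSmall T = true ∧ imgF T F = F) &&
    (cs.all (certOK gens)) &&
    (cs.map fun c => c.members.length) == sizes &&
    decide ((cs.map fun c => invM F c.root).Nodup)

/-- The cheap part of the check. -/
noncomputable def famBase (F : List ℕ) (gens : List Tab) (cs : List FOrb) (sizes : List ℕ) : Bool :=
  okFam F && decide (∀ T ∈ gens, (TabInv T ∧ ∀ x ∈ basis, inC (pullMask (tabFn T.1) x.2) = true) ∧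
      tabSmall T = true ∧ imgF T F = F) &&
    (cs.map fun c => c.members.length) == sizes &&
    decide ((cs.map fun c => invM F c.root).Nodup)

theorem famCheck_intro {F : List ℕ} {gens : List Tab} {cs : List FOrb} {sizes : List ℕ}
    (h : famBase F gens cs sizes = true) (h' : ∀ c ∈ cs, certOK gens c = true) :
    famCheck F gens cs sizes = true := by
  simp only [famBase, famCheck, Bool.and_eq_true, List.all_eq_true] at h ⊢
  exact ⟨⟨⟨h.1.1, h'⟩, h.1.2⟩, h.2⟩

/-- Stabilised classes of families: what a valid list of certificates gives. -/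
theorem fam_orbits {F : List ℕ} {gens : List Tab} {cs : List FOrb} {sizes : List ℕ}
    (hok : famCheck F gens cs sizes = true) {𝒳 : Set (Finset (Finset GolayPt))}
    (hinv : ∀ g ∈ M24, ∀ y ∈ 𝒳, g • y ∈ 𝒳) (hroot : ∀ c ∈ cs, fam c.root ∈ 𝒳)
    (hcard : 𝒳.ncard = sizes.sum) {σ : Equiv.Perm GolayPt} (hσ : σ ∈ M24) :
    (∀ c ∈ cs, σ • fam c.root ∈ 𝒳 ∧
      (MulAction.orbit ↥(MulAction.stabilizer M24 (σ • fam F)) (σ • fam c.root)).ncard = c.members.length ∧
      MulAction.orbit ↥(MulAction.stabilizer M24 (σ • fam F)) (σ • fam c.root) =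
        {y | y ∈ 𝒳 ∧ famInv (σ • fam F) y = ↑(invM F c.root)}) ∧
    (∀ y ∈ 𝒳, ∃ c ∈ cs, y ∈ MulAction.orbit ↥(MulAction.stabilizer M24 (σ • fam F)) (σ • fam c.root)) := by
  classical
  simp only [famCheck, Bool.and_eq_true, decide_eq_true_eq, List.all_eq_true, beq_iff_eq] at hok
  obtain ⟨⟨⟨⟨hF, hg⟩, hcs'⟩, hlen⟩, hnd⟩ := hok
  have hcs : ∀ c ∈ cs, (walk imgF gens c.root [c.root] c.ops = true ∧ ∀ L ∈ c.members, okFam L = true) ∧
      (c.members.map famCode).Nodup := fun c hc =>
    have h := members_ok (fun T hT => ⟨(hg T hT).1.1, (hg T hT).2.1⟩) (hcs' c hc)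
    ⟨⟨h.2.1, h.1⟩, h.2.2⟩
  let K := M24 ⊓ MulAction.stabilizer (Equiv.Perm GolayPt) (fam F)
  have hreach : ∀ c ∈ cs, ∀ L ∈ c.members, ∃ τ ∈ M24, τ • fam F = fam F ∧ τ • fam c.root = fam L := by
    intro c hc L hL
    obtain ⟨τ, hτ, h⟩ := reached_sound (img := imgF) fam (K := K) (fun T hT => by
      obtain ⟨⟨hi, hb⟩, hs, hf⟩ := hg T hT
      refine ⟨tperm T, ⟨mem_M24_of_basis
        (by rw [show fn (tperm T) = tabFn T.1 from funext (fn_tperm hi)]; exact hb), ?_⟩, smul_fam_tab hi hs⟩
      show tperm T • fam F = fam F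
      rw [smul_fam_tab hi hs, hf]) (hcs c hc).1.1 L hL
    exact ⟨τ, hτ.1, hτ.2, h⟩
  have hmem : ∀ c ∈ cs, ∀ L ∈ c.members, fam L ∈ 𝒳 ∧ famInv (fam F) (fam L) = ↑(invM F c.root) := by
    intro c hc L hL
    obtain ⟨τ, hτ, h1, h2⟩ := hreach c hc L hL
    refine ⟨h2 ▸ hinv τ hτ _ (hroot c hc), ?_⟩
    have := famInv_smul τ (fam F) (fam c.root)
    rw [h1, h2] at this
    rw [this, famInv_fam hF ((hcs c hc).1.2 c.root List.mem_cons_self)]
  let M : FOrb → Finset (Finset (Finset GolayPt)) := fun c => (c.members.map fam).toFinset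
  have hMcard : ∀ c ∈ cs, (M c).card = c.members.length := by
    intro c hc
    rw [List.toFinset_card_of_nodup, List.length_map]
    refine List.Nodup.map_on (fun x hx y hy e =>
      fam_inj ((hcs c hc).1.2 x hx) ((hcs c hc).1.2 y hy) e) ?_
    exact List.Nodup.of_map _ (hcs c hc).2
  have hsep : ∀ c ∈ cs, ∀ d ∈ cs, (↑(invM F c.root) : Multiset ℕ) = ↑(invM F d.root) → c = d := by
    intro c hc d hd e
    exact List.inj_on_of_nodup_map hnd hc hd (List.Perm.eq_of_pairwise'
      (List.pairwise_insertionSort _ _) (List.pairwise_insertionSort _ _) (Multiset.coe_eq_coe.mp e))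
  have hnd' : cs.Nodup := List.Nodup.of_map _ hnd
  have hsum : (cs.toFinset.biUnion M).card = sizes.sum := by
    rw [Finset.card_biUnion, ← hlen, List.sum_toFinset _ hnd']
    · exact congrArg List.sum (List.map_congr_left fun c hc => hMcard c hc)
    · intro c hc d hd hne
      rw [Finset.mem_coe, List.mem_toFinset] at hc hd
      refine Finset.disjoint_left.mpr fun y hy hy' => hne (hsep c hc d hd ?_)
      simp only [M, List.mem_toFinset, List.mem_map] at hy hy'
      obtain ⟨L, hL, rfl⟩ := hy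
      obtain ⟨L', hL', e⟩ := hy'
      rw [← (hmem c hc L hL).2, ← (hmem d hd L' hL').2, e]
  have hall : 𝒳 = ↑(cs.toFinset.biUnion M) := by
    symm
    refine Set.eq_of_subset_of_ncard_le ?_ (by rw [Set.ncard_coe_finset, hsum, hcard]) (Set.toFinite _)
    intro y hy
    simp only [Finset.coe_biUnion, Set.mem_iUnion, List.coe_toFinset, Set.mem_ofPred_eq, M,
      Finset.mem_coe, List.mem_toFinset, List.mem_map] at hy
    obtain ⟨c, hc, L, hL, rfl⟩ := hy
    exact (hmem c hc L hL).1
  have hcover : ∀ y ∈ 𝒳, ∃ c ∈ cs, ∃ L ∈ c.members, fam L = y := by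
    intro y hy
    rw [hall] at hy
    simpa [M] using hy
  have hmove : ∀ c ∈ cs, ∀ L ∈ c.members,
      σ • fam L ∈ MulAction.orbit ↥(MulAction.stabilizer M24 (σ • fam F)) (σ • fam c.root) := by
    intro c hc L hL
    obtain ⟨τ, hτ, h1, h2⟩ := hreach c hc L hL
    refine ⟨⟨⟨σ * τ * σ⁻¹, mul_mem (mul_mem hσ hτ) (inv_mem hσ)⟩, conj_fix h1⟩, conj_fix h2⟩
  have horb : ∀ c ∈ cs,
      MulAction.orbit ↥(MulAction.stabilizer M24 (σ • fam F)) (σ • fam c.root) =
        {y | y ∈ 𝒳 ∧ famInv (σ • fam F) y = ↑(invM F c.root)} ∧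
      {y | y ∈ 𝒳 ∧ famInv (σ • fam F) y = ↑(invM F c.root)} = (fun y => σ • y) '' ↑(M c) := by
    intro c hc
    have hE : {y | y ∈ 𝒳 ∧ famInv (σ • fam F) y = ↑(invM F c.root)} = (fun y => σ • y) '' ↑(M c) := by
      ext y
      constructor
      · rintro ⟨hy, hi⟩
        obtain ⟨d, hd, L, hL, e⟩ := hcover (σ⁻¹ • y) (hinv _ (inv_mem hσ) y hy)
        have he : σ • fam L = y := by rw [e, smul_inv_smul]
        rw [← he, famInv_smul, (hmem d hd L hL).2] at hi
        obtain rfl := hsep d hd c hc hi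
        exact ⟨fam L, by simp [M]; exact ⟨L, hL, rfl⟩, he⟩
      · rintro ⟨z, hz, rfl⟩
        simp only [M, List.coe_toFinset, List.mem_map, Set.mem_ofPred_eq] at hz
        obtain ⟨L, hL, rfl⟩ := hz
        exact ⟨hinv σ hσ _ (hmem c hc L hL).1, by rw [famInv_smul, (hmem c hc L hL).2]⟩
    refine ⟨Set.Subset.antisymm ?_ ?_, hE⟩
    · rintro y ⟨g, rfl⟩
      refine ⟨hinv _ g.1.2 _ (hinv σ hσ _ (hroot c hc)), ?_⟩
      have hgF : (g.1 : Equiv.Perm GolayPt) • σ • fam F = σ • fam F := g.2
      show famInv _ ((g.1 : Equiv.Perm GolayPt) • σ • fam c.root) = _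
      refine ((congrArg (fun Z => famInv Z ((g.1 : Equiv.Perm GolayPt) • σ • fam c.root)) hgF).symm.trans ?_)
      rw [famInv_smul, famInv_smul]
      exact (hmem c hc c.root List.mem_cons_self).2
    · rw [hE]
      rintro y ⟨z, hz, rfl⟩
      simp only [M, List.coe_toFinset, List.mem_map, Set.mem_ofPred_eq] at hz
      obtain ⟨L, hL, rfl⟩ := hz
      exact hmove c hc L hL
  refine ⟨fun c hc => ⟨hinv σ hσ _ (hroot c hc), ?_, (horb c hc).1⟩, fun y hy => ?_⟩
  · rw [(horb c hc).1, (horb c hc).2, Set.ncard_image_of_injective _ (MulAction.injective σ),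
      Set.ncard_coe_finset, hMcard c hc]
  · obtain ⟨d, hd, L, hL, e⟩ := hcover (σ⁻¹ • y) (hinv _ (inv_mem hσ) y hy)
    exact ⟨d, hd, by rw [← smul_inv_smul σ y, ← e]; exact hmove d hd L hL⟩

/-- Certificates whose first one is the fixed family alone give maximality of the stabiliser. -/
theorem fam_coatom {F : List ℕ} {gens : List Tab} {cs : List FOrb} {c₀ : FOrb} {sizes : List ℕ}
    (hok : famCheck F gens (c₀ :: cs) (1 :: sizes) = true) (h0 : c₀.root = F)
    {𝒳 : Set (Finset (Finset GolayPt))} (hinv : ∀ g ∈ M24, ∀ y ∈ 𝒳, g • y ∈ 𝒳)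
    (hroot : ∀ c ∈ c₀ :: cs, fam c.root ∈ 𝒳) (hcard : 𝒳.ncard = (1 :: sizes).sum)
    {σ : Equiv.Perm GolayPt} (hσ : σ ∈ M24) (htrans : MulAction.orbit M24 (σ • fam F) = 𝒳)
    (hpos : 0 < cs.length ∧ sizes.all (0 < ·) = true)
    (hnum : ∀ S : Finset (Fin cs.length), (1 + ∑ i ∈ S, sizes.getD i.val 0) ∣
      (1 + ∑ i : Fin cs.length, sizes.getD i.val 0) → S = ∅ ∨ S = Finset.univ) :
    IsCoatom (MulAction.stabilizer M24 (σ • fam F)) := by
  classical
  obtain ⟨hA, hB⟩ := fam_orbits hok hinv hroot hcard hσ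
  have hok' := hok
  simp only [famCheck, Bool.and_eq_true, decide_eq_true_eq, beq_iff_eq, List.map_cons,
    List.cons.injEq] at hok'
  obtain ⟨⟨⟨⟨hF, -⟩, -⟩, hl0, hlen⟩, hnd⟩ := hok'
  have hlen' : cs.length = sizes.length := by rw [← hlen, List.length_map]
  set x := σ • fam F with hx
  have hxo : ∀ y, y ∈ MulAction.orbit ↥(MulAction.stabilizer M24 x) (σ • fam c₀.root) → y = x := by
    rintro y ⟨g, rfl⟩
    rw [h0]
    exact g.2
  have hex : ∀ y : Finset (Finset GolayPt), ∃ i : Fin cs.length, y ∈ 𝒳 → y ≠ x →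
      y ∈ MulAction.orbit ↥(MulAction.stabilizer M24 x) (σ • fam (cs[i.val]).root) := by
    intro y
    by_cases h : y ∈ 𝒳 ∧ y ≠ x
    · obtain ⟨c, hc, hy⟩ := hB y h.1
      rcases List.mem_cons.mp hc with rfl | hc
      · exact absurd (hxo y hy) h.2
      · obtain ⟨i, hi, rfl⟩ := List.getElem_of_mem hc
        exact ⟨⟨i, hi⟩, fun _ _ => hy⟩
    · exact ⟨⟨0, hpos.1⟩, fun h1 h2 => absurd ⟨h1, h2⟩ h⟩
  choose cls hcls using hex
  have huniq : ∀ (y : Finset (Finset GolayPt)) (i : Fin cs.length), y ≠ x →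
      y ∈ MulAction.orbit ↥(MulAction.stabilizer M24 x) (σ • fam (cs[i.val]).root) → cls y = i := by
    intro y i hne hy
    have hi := hA (cs[i.val]) (List.mem_cons_of_mem _ (List.getElem_mem _))
    have hy' := hy
    rw [hi.2.2] at hy'
    have hj := hcls y hy'.1 hne
    rw [(hA (cs[(cls y).val]) (List.mem_cons_of_mem _ (List.getElem_mem _))).2.2] at hj
    have he : (↑(invM F (cs[(cls y).val]).root) : Multiset ℕ) = ↑(invM F (cs[i.val]).root) :=
      hj.2.symm.trans hy'.2
    have he' := List.Perm.eq_of_pairwise' (List.pairwise_insertionSort _ _)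
      (List.pairwise_insertionSort _ _) (Multiset.coe_eq_coe.mp he)
    have hnd1 := (List.nodup_cons.mp hnd).2
    refine Fin.ext ((hnd1.getElem_inj_iff (i := (cls y).val) (j := i.val)
      (hi := by simp) (hj := by simp)).mp ?_)
    simp only [List.getElem_map]
    exact he'
  refine coatom_of_classes x cls (fun i => sizes.getD i.val 0) hpos.1 (fun i => ?_) (fun i => ?_) ?_ hnum
  · rw [List.getD_eq_getElem _ _ (by omega)]
    exact of_decide_eq_true (List.all_eq_true.mp hpos.2 _ (List.getElem_mem _))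
  · have hi := hA (cs[i.val]) (List.mem_cons_of_mem _ (List.getElem_mem _))
    have hne : ∀ y ∈ MulAction.orbit ↥(MulAction.stabilizer M24 x) (σ • fam (cs[i.val]).root), y ≠ x := by
      intro y hy e
      subst e
      rw [hi.2.2] at hy
      have h00 := (hA c₀ List.mem_cons_self).2.2
      have : x ∈ MulAction.orbit ↥(MulAction.stabilizer M24 x) (σ • fam c₀.root) :=
        ⟨1, by simp [h0, hx]⟩
      rw [h00] at this
      have he' := List.Perm.eq_of_pairwise' (List.pairwise_insertionSort _ _)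
        (List.pairwise_insertionSort _ _) (Multiset.coe_eq_coe.mp (this.2.symm.trans hy.2))
      exact (List.nodup_cons.mp hnd).1 (List.mem_map.mpr ⟨cs[i.val], List.getElem_mem _, he'.symm⟩)
    rw [htrans, List.getD_eq_getElem _ _ (by omega)]
    rw [show sizes[i.val]'(by omega) = (cs[i.val]).members.length by simp [← hlen], ← hi.2.1]
    congr 1
    ext y
    refine ⟨fun ⟨h1, h2, h3⟩ => h3 ▸ hcls y h1 h2, fun hy => ?_⟩
    exact ⟨by rw [hi.2.2] at hy; exact hy.1, hne y hy, huniq y i (hne y hy) hy⟩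
  · intro a ha b hb hax hbx hab
    rw [htrans] at ha hb
    have h1 := hcls a ha hax
    have h2 := hcls b hb hbx
    rw [← hab] at h2
    obtain ⟨g, hga⟩ := h1
    obtain ⟨g', hgb⟩ := h2
    refine ⟨(g' : M24) * (g : M24)⁻¹, mul_mem g'.2 (inv_mem g.2), ?_⟩
    rw [mul_smul, show (g : M24)⁻¹ • a = σ • fam (cs[(cls a).val]).root by
      rw [inv_smul_eq_iff]; exact hga.symm]
    exact hgb

end Cfsg.Agent.Golay
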