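import Cfsg.Agent.Lib.Golay.Classes

/-! Octads, dodecads, trios and sextets left invariant by elements of orders two and three. -/

set_option autoImplicit false

namespace Cfsg.Agent.Golay

open Cfsg
open scoped Pointwise

theorem fixset_conj (σ g : Equiv.Perm GolayPt) :
    (Finset.univ.filter fun p => (σ * g * σ⁻¹) p = p) = σ • (Finset.univ.filter fun p => g p = p) := by
  ext p
  rw [← Finset.inv_smul_mem_iff, Finset.mem_filter, Finset.mem_filter, Equiv.Perm.smul_def,
    Equiv.Perm.mul_apply, Equiv.Perm.mul_apply]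
  simp only [Finset.mem_univ, true_and]
  exact σ.apply_eq_iff_eq_symm_apply.trans Iff.rfl

theorem fpf_iff_fcount (g : Equiv.Perm GolayPt) : (∀ p, g p ≠ p) ↔ fcount g = 0 := by
  simp [fcount, Finset.filter_eq_empty_iff]

theorem class_two_of_fcount {g : Equiv.Perm GolayPt} (hg : g ∈ M24) (h2 : orderOf g = 2) :
    (fcount g = 8 ∧ ∃ σ ∈ M24, σ * g * σ⁻¹ = tperm invA) ∨
      (fcount g = 0 ∧ ∃ σ ∈ M24, σ * g * σ⁻¹ = tperm invB) := by
  obtain ⟨σ, hσ, h | h⟩ := class_two hg (fun h => by rw [h, orderOf_one] at h2; omega)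
    (h2 ▸ pow_orderOf_eq_one g)
  · exact Or.inl ⟨by rw [← fcount_conj σ g, h, reps_fcount.1], σ, hσ, h⟩
  · exact Or.inr ⟨by rw [← fcount_conj σ g, h, reps_fcount.2.1], σ, hσ, h⟩

theorem class_three_of_fcount {g : Equiv.Perm GolayPt} (hg : g ∈ M24) (h3 : orderOf g = 3) :
    (fcount g = 6 ∧ ∃ σ ∈ M24, σ * g * σ⁻¹ = tperm triA) ∨
      (fcount g = 0 ∧ ∃ σ ∈ M24, σ * g * σ⁻¹ = tperm triB) := by
  obtain ⟨σ, hσ, h | h⟩ := class_three hg (fun h => by rw [h, orderOf_one] at h3; omega)
    (h3 ▸ pow_orderOf_eq_one g)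
  · exact Or.inl ⟨by rw [← fcount_conj σ g, h, reps_fcount.2.2.1], σ, hσ, h⟩
  · exact Or.inr ⟨by rw [← fcount_conj σ g, h, reps_fcount.2.2.2], σ, hσ, h⟩

theorem invA_order : tperm invA ∈ M24 ∧ orderOf (tperm invA) = 2 := by
  obtain ⟨⟨hi, -⟩, -⟩ := reps2_mem invA (by simp)
  refine ⟨(gens_mem reps2_mem invA (by simp)).1, orderOf_eq_prime (fn_ext fun i => ?_) (fun h => ?_)⟩
  · rw [fn_pow, fn_one, show fn (tperm invA) = tabFn invA.1 from funext (fn_tperm hi)]
    revert i; decide +kernel
  · have := congrArg (fun g => fn g 0) h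
    simp only [fn_tperm hi, fn_one] at this
    revert this; decide +kernel

theorem invB_order : tperm invB ∈ M24 ∧ orderOf (tperm invB) = 2 := by
  obtain ⟨⟨hi, -⟩, -⟩ := reps2_mem invB (by simp)
  refine ⟨(gens_mem reps2_mem invB (by simp)).1, orderOf_eq_prime (fn_ext fun i => ?_) (fun h => ?_)⟩
  · rw [fn_pow, fn_one, show fn (tperm invB) = tabFn invB.1 from funext (fn_tperm hi)]
    revert i; decide +kernel
  · have := congrArg (fun g => fn g 0) h
    simp only [fn_tperm hi, fn_one] at this
    revert this; decide +kernel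

theorem triA_order : tperm triA ∈ M24 ∧ orderOf (tperm triA) = 3 := by
  obtain ⟨⟨hi, -⟩, -⟩ := reps3_mem triA (by simp)
  refine ⟨(gens_mem reps3_mem triA (by simp)).1, orderOf_eq_prime (fn_ext fun i => ?_) (fun h => ?_)⟩
  · rw [fn_pow, fn_one, show fn (tperm triA) = tabFn triA.1 from funext (fn_tperm hi)]
    revert i; decide +kernel
  · have := congrArg (fun g => fn g 0) h
    simp only [fn_tperm hi, fn_one] at this
    revert this; decide +kernel

theorem triB_order : tperm triB ∈ M24 ∧ orderOf (tperm triB) = 3 := by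
  obtain ⟨⟨hi, -⟩, -⟩ := reps3_mem triB (by simp)
  refine ⟨(gens_mem reps3_mem triB (by simp)).1, orderOf_eq_prime (fn_ext fun i => ?_) (fun h => ?_)⟩
  · rw [fn_pow, fn_one, show fn (tperm triB) = tabFn triB.1 from funext (fn_tperm hi)]
    revert i; decide +kernel
  · have := congrArg (fun g => fn g 0) h
    simp only [fn_tperm hi, fn_one] at this
    revert this; decide +kernel

/-! ### Families of position sets -/

/-- linear check that keys increase strictly -/
def incrB {α : Type*} (k : α → ℕ) : List α → Bool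
  | a :: b :: l => decide (k a < k b) && incrB k (b :: l)
  | _ => true

theorem incrB_sound {α : Type*} (k : α → ℕ) : ∀ l : List α, incrB k l = true → l.Pairwise (fun a b => k a < k b)
  | [], _ => List.Pairwise.nil
  | [a], _ => by simp
  | a :: b :: l, h => by
    simp only [incrB, Bool.and_eq_true, decide_eq_true_eq] at h
    have ih := incrB_sound k (b :: l) h.2
    refine List.pairwise_cons.mpr ⟨fun x hx => ?_, ih⟩
    rcases List.mem_cons.mp hx with rfl | hx
    · exact h.1
    · exact h.1.trans ((List.pairwise_cons.mp ih).1 x hx)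

/-- a combined key -/
def famKey (l : List ℕ) : ℕ := l.foldl (fun a m => a * 16777216 + m) 0

/-- the family of a list of masks -/
def toFam (l : List ℕ) : Finset (Finset GolayPt) := (l.map supp).toFinset

/-- a well-formed family list -/
def famOK (l : List ℕ) : Bool := l.all (fun m => decide (m < 2 ^ 24)) && incrB id l

/-- every entry satisfies a check and the entries are distinct -/
def famsOK (P : List ℕ → Bool) (F : List (List ℕ)) : Bool := F.all (fun l => famOK l && P l) && incrB famKey F

theorem toFam_mem {l : List ℕ} {s : Finset GolayPt} : s ∈ toFam l ↔ ∃ m ∈ l, supp m = s := by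
  simp [toFam]

theorem famOK_card {l : List ℕ} (h : famOK l = true) : (toFam l).card = l.length := by
  simp only [famOK, Bool.and_eq_true, List.all_eq_true, decide_eq_true_eq] at h
  rw [toFam, List.toFinset_card_of_nodup, List.length_map]
  refine List.Nodup.map_on (fun x hx y hy e => ?_) ((incrB_sound _ _ h.2).imp (fun {a b} (hab : id a < id b) => ne_of_lt hab))
  rw [← maskF_supp (h.1 x hx), e, maskF_supp (h.1 y hy)]

theorem toFam_inj {l l' : List ℕ} (h : famOK l = true) (h' : famOK l' = true) (e : toFam l = toFam l') :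
    l = l' := by
  simp only [famOK, Bool.and_eq_true, List.all_eq_true, decide_eq_true_eq] at h h'
  have key : ∀ {a b : List ℕ}, (∀ x ∈ a, x < 2 ^ 24) → (∀ x ∈ b, x < 2 ^ 24) → toFam a = toFam b →
      ∀ x ∈ a, x ∈ b := by
    intro a b ha hb e x hx
    obtain ⟨y, hy, hxy⟩ := toFam_mem.mp (e ▸ toFam_mem.mpr ⟨x, hx, rfl⟩ : supp x ∈ toFam b)
    rwa [← maskF_supp (ha x hx), ← hxy, maskF_supp (hb y hy)]
  exact (incrB_sound _ _ h.2).eq_of_mem_iff (incrB_sound _ _ h'.2)
    fun {x} => ⟨key h.1 h'.1 e x, key h'.1 h.1 e.symm x⟩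

/-- invariance of a list under a table -/
def famFixed (T : Tab) (l : List ℕ) : Bool := l.all fun m => l.contains (imgM T m)

theorem famFixed_iff {T : Tab} (hT : TabInv T) {l : List ℕ} (h : famOK l = true) :
    famFixed T l = true ↔ tperm T • toFam l = toFam l := by
  have hl : ∀ m ∈ l, m < 2 ^ 24 := by
    simp only [famOK, Bool.and_eq_true, List.all_eq_true, decide_eq_true_eq] at h
    exact h.1
  simp only [famFixed, List.all_eq_true, List.contains_eq_mem, decide_eq_true_eq]
  constructor
  · intro hi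
    refine Finset.eq_of_subset_of_card_le (fun s hs => ?_) (by rw [Finset.card_smul_finset])
    obtain ⟨t, ht, rfl⟩ := Finset.mem_smul_finset.mp hs
    obtain ⟨m, hm, rfl⟩ := toFam_mem.mp ht
    exact toFam_mem.mpr ⟨_, hi m hm, (supp_imgM hT m).symm⟩
  · intro he m hm
    obtain ⟨m', hm', e⟩ := toFam_mem.mp (he ▸ Finset.smul_mem_smul_finset (toFam_mem.mpr ⟨m, hm, rfl⟩) :
      tperm T • supp m ∈ toFam l)
    rw [supp_imgM hT] at e
    rwa [← maskF_supp (imgM_lt T m), ← e, maskF_supp (hl m' hm')]

theorem fams_eq {F : List (List ℕ)} {P : List ℕ → Bool} (hF : famsOK P F = true)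
    {S : Set (Finset (Finset GolayPt))} (hS : ∀ l ∈ F, famOK l = true → P l = true → toFam l ∈ S)
    {n : ℕ} (hn : S.ncard = n) (hlen : F.length = n) : S = ↑(F.map toFam).toFinset := by
  simp only [famsOK, Bool.and_eq_true, List.all_eq_true] at hF
  have hnd : (F.map toFam).Nodup := List.Nodup.map_on (fun x hx y hy e => toFam_inj (hF.1 x hx).1 (hF.1 y hy).1 e)
    ((incrB_sound _ _ hF.2).imp fun {a b} hab e => by rw [e] at hab; exact lt_irrefl _ hab)
  symm
  refine Set.eq_of_subset_of_ncard_le (fun s hs => ?_) ?_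
  · simp only [List.coe_toFinset, List.mem_map, Set.mem_ofPred_eq] at hs
    obtain ⟨l, hl, rfl⟩ := hs
    exact hS l hl (hF.1 l hl).1 (hF.1 l hl).2
  · rw [Set.ncard_coe_finset, List.toFinset_card_of_nodup hnd, List.length_map, hn, hlen]

theorem ncard_inv_fams {F : List (List ℕ)} {P : List ℕ → Bool} (hF : famsOK P F = true)
    {S : Set (Finset (Finset GolayPt))} (hS : S = ↑(F.map toFam).toFinset) {T : Tab} (hT : TabInv T)
    {n : ℕ} (hn : (F.filter (famFixed T)).length = n) :
    {x : Finset (Finset GolayPt) | x ∈ S ∧ tperm T • x = x}.ncard = n := by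
  simp only [famsOK, Bool.and_eq_true, List.all_eq_true] at hF
  have e : {x : Finset (Finset GolayPt) | x ∈ S ∧ tperm T • x = x} = ↑((F.filter (famFixed T)).map toFam).toFinset := by
    ext x
    simp only [hS, List.coe_toFinset, List.mem_map, List.mem_filter, Set.mem_ofPred_eq]
    constructor
    · rintro ⟨⟨l, hl, rfl⟩, hx⟩
      exact ⟨l, ⟨hl, (famFixed_iff hT (hF.1 l hl).1).mpr hx⟩, rfl⟩
    · rintro ⟨l, ⟨hl, hi⟩, rfl⟩
      exact ⟨⟨l, hl, rfl⟩, (famFixed_iff hT (hF.1 l hl).1).mp hi⟩
  rw [e, Set.ncard_coe_finset, List.toFinset_card_of_nodup, List.length_map, hn]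
  exact List.Nodup.map_on (fun x hx y hy e => toFam_inj (hF.1 x (List.mem_filter.mp hx).1).1
    (hF.1 y (List.mem_filter.mp hy).1).1 e)
    (((incrB_sound _ _ hF.2).imp fun {a b} hab e => by rw [e] at hab; exact lt_irrefl _ hab).filter _)

/-- check for a trio -/
def trioB (l : List ℕ) : Bool :=
  decide (l.length = 3) && l.all fun a => decide (popc a = 8) && inC a && l.all fun b => a == b || a &&& b == 0

/-- check for a sextet: a tetrad and five more making octads with it -/
def sextetB : List ℕ → Bool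
  | [] => false
  | t :: us => decide (us.length = 5) && decide (popc t = 4) &&
      us.all fun u => t &&& u == 0 && (inC (t ||| u) && decide (popc (t ||| u) = 8))

theorem trioList_ok : famsOK trioB trioList = true := by decide +kernel

theorem sextetList_ok : famsOK sextetB sextetList = true := by decide +kernel

theorem trioList_length : trioList.length = 3795 := by decide +kernel

theorem sextetList_length : sextetList.length = 1771 := by decide +kernel

theorem octad_of_mask {m : ℕ} (hm : m < 2 ^ 24) (hc : inC m = true) (hp : popc m = 8) : supp m ∈ octads := by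
  rw [mem_octads, maskF_supp hm, wtList, List.mem_filter, mem_codeList_iff]
  exact ⟨⟨hm, hc⟩, by simp [hp]⟩

theorem trios_eq : trios = ↑(trioList.map toFam).toFinset := by
  refine fams_eq trioList_ok (fun l _ hl hP => ?_) Sextet.ncard_trios trioList_length
  have hlt : ∀ m ∈ l, m < 2 ^ 24 := by
    simp only [famOK, Bool.and_eq_true, List.all_eq_true, decide_eq_true_eq] at hl
    exact hl.1
  simp only [trioB, Bool.and_eq_true, List.all_eq_true, decide_eq_true_eq, Bool.or_eq_true, beq_iff_eq] at hP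
  refine ⟨by rw [famOK_card hl, hP.1], fun o ho => ?_, fun o ho o' ho' hne => ?_⟩
  · obtain ⟨m, hm, rfl⟩ := toFam_mem.mp ho
    exact octad_of_mask (hlt m hm) (hP.2 m hm).1.2 (hP.2 m hm).1.1
  · obtain ⟨m, hm, rfl⟩ := toFam_mem.mp ho
    obtain ⟨m', hm', rfl⟩ := toFam_mem.mp ho'
    rcases (hP.2 m hm).2 m' hm' with h | h
    · exact absurd (by rw [h]) hne
    · rw [disjoint_iff_mask, maskF_supp (hlt m hm), maskF_supp (hlt m' hm'), h]

theorem sextets_eq : sextets = ↑(sextetList.map toFam).toFinset := by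
  refine fams_eq sextetList_ok (fun l _ hl hP => ?_) Sextet.ncard_sextets sextetList_length
  match l, hP with
  | t :: us, hP =>
    have hcard := famOK_card hl
    simp only [famOK, Bool.and_eq_true, List.all_eq_true, decide_eq_true_eq] at hl
    simp only [sextetB, Bool.and_eq_true, List.all_eq_true, decide_eq_true_eq, beq_iff_eq] at hP
    have ht : (supp t).card = 4 := by rw [← popc_eq, hP.1.2]
    have hsub : toFam (t :: us) ⊆ Sextet.tetrads (supp t) := by
      intro s hs
      obtain ⟨u, hu, rfl⟩ := toFam_mem.mp hs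
      rw [Sextet.mem_tetrads]
      rcases List.mem_cons.mp hu with rfl | hu'
      · exact Or.inl rfl
      · right
        obtain ⟨hd, hc, h8⟩ := hP.2 u hu'
        have hl' : maskF (supp t ∪ supp u) = t ||| u := by
          rw [maskF_union, maskF_supp (hl.1 t List.mem_cons_self), maskF_supp (hl.1 u hu)]
        have hdis : Disjoint (supp t) (supp u) := by
          rw [disjoint_iff_mask, maskF_supp (hl.1 t List.mem_cons_self), maskF_supp (hl.1 u hu), hd]
        refine ⟨supp t ∪ supp u, ?_, Finset.subset_union_left, Finset.union_sdiff_cancel_left hdis⟩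
        rw [← supp_maskF (supp t ∪ supp u), hl']
        exact octad_of_mask (hl' ▸ maskF_lt _) hc h8
    rw [Finset.eq_of_subset_of_card_le hsub (by rw [Sextet.tetrads_card ht, hcard, List.length_cons, hP.1.1])]
    exact Sextet.tetrads_mem ht

theorem smul_trios {σ : Equiv.Perm GolayPt} (hσ : σ ∈ M24) {T : Finset (Finset GolayPt)} (hT : T ∈ trios) :
    σ • T ∈ trios := by
  obtain ⟨h3, ho, hd⟩ := hT
  refine ⟨by rw [Finset.card_smul_finset, h3], fun o h => ?_, fun o h o' h' hne => ?_⟩
  · obtain ⟨a, ha, rfl⟩ := Finset.mem_smul_finset.mp h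
    exact smul_mem_weight hσ (ho a ha)
  · obtain ⟨a, ha, rfl⟩ := Finset.mem_smul_finset.mp h
    obtain ⟨b, hb, rfl⟩ := Finset.mem_smul_finset.mp h'
    rw [Finset.disjoint_iff_inter_eq_empty, ← Finset.smul_finset_inter,
      Finset.disjoint_iff_inter_eq_empty.mp (hd a ha b hb fun e => hne (by rw [e])), Finset.smul_finset_empty]

theorem smul_sextets {σ : Equiv.Perm GolayPt} (hσ : σ ∈ M24) {S : Finset (Finset GolayPt)} (hS : S ∈ sextets) :
    σ • S ∈ sextets := by
  obtain ⟨h6, h4, hu⟩ := hS
  refine ⟨by rw [Finset.card_smul_finset, h6], fun o h => ?_, fun o h o' h' hne => ?_⟩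
  · obtain ⟨a, ha, rfl⟩ := Finset.mem_smul_finset.mp h
    rw [Finset.card_smul_finset, h4 a ha]
  · obtain ⟨a, ha, rfl⟩ := Finset.mem_smul_finset.mp h
    obtain ⟨b, hb, rfl⟩ := Finset.mem_smul_finset.mp h'
    rw [← Finset.smul_finset_union]
    exact smul_mem_weight hσ (hu a ha b hb fun e => hne (by rw [e]))

theorem ncard_inv_transport {X : Type*} [MulAction (Equiv.Perm GolayPt) X] {S : Set X}
    (hS : ∀ σ ∈ M24, ∀ x ∈ S, σ • x ∈ S) {σ g r : Equiv.Perm GolayPt} (hσ : σ ∈ M24) (h : σ * g * σ⁻¹ = r) :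
    {x : X | x ∈ S ∧ g • x = x}.ncard = {x : X | x ∈ S ∧ r • x = x}.ncard := by
  rw [← Set.ncard_image_of_injective {x : X | x ∈ S ∧ g • x = x} (MulAction.injective σ)]
  congr 1
  ext y
  constructor
  · rintro ⟨x, ⟨hx, hgx⟩, rfl⟩
    exact ⟨hS σ hσ x hx, h ▸ conj_fix hgx⟩
  · rintro ⟨hy, hry⟩
    refine ⟨σ⁻¹ • y, ⟨hS _ (inv_mem hσ) y hy, ?_⟩, smul_inv_smul σ y⟩
    have := conj_fix (σ := σ⁻¹) hry
    rwa [← h, show σ⁻¹ * (σ * g * σ⁻¹) * σ⁻¹⁻¹ = g by group] at this

theorem ncard_inv_masks {T : Tab} (hT : TabInv T) (k n : ℕ)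
    (h : (distinctB 24 ((wtList k).filter fun m => imgM T m == m) &&
      decide (((wtList k).filter fun m => imgM T m == m).length = n)) = true) :
    {o : Finset GolayPt | o ∈ wordsOfWeight (golayCode : Set (GolayPt → ZMod 2)) k ∧ tperm T • o = o}.ncard = n := by
  refine ncard_filter_masks (fun m hm => wtList_lt hm) h fun s => ?_
  simp only [Set.mem_ofPred_eq, beq_iff_eq, mem_wordsOfWeight]
  refine and_congr_right fun _ => ?_
  conv_lhs => rw [← supp_maskF s, supp_imgM hT]
  exact ⟨fun e => by rw [← maskF_supp (imgM_lt T (maskF s)), e, maskF_supp (maskF_lt s)],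
    fun e => by rw [e]⟩

theorem ncard_inv_trios {T : Tab} (hT : TabInv T) {n : ℕ} (hn : (trioList.filter (famFixed T)).length = n) :
    {x : Finset (Finset GolayPt) | x ∈ trios ∧ tperm T • x = x}.ncard = n :=
  ncard_inv_fams trioList_ok trios_eq hT hn

theorem ncard_inv_sextets {T : Tab} (hT : TabInv T) {n : ℕ} (hn : (sextetList.filter (famFixed T)).length = n) :
    {x : Finset (Finset GolayPt) | x ∈ sextets ∧ tperm T • x = x}.ncard = n :=
  ncard_inv_fams sextetList_ok sextets_eq hT hn

end Cfsg.Agent.Golay
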