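import Cfsg.Agent.Lib.Golay.Sextet
import Cfsg.Agent.Lib.Golay.Mathieu

/-! Subspaces invariant under `M24`. -/

set_option autoImplicit false

namespace Cfsg.Agent.Golay

open Cfsg
open scoped Pointwise

/-- the indicator of a set of positions -/
def ind (s : Finset GolayPt) : GolayPt → ZMod 2 := fun p => if p ∈ s then 1 else 0

/-- The all-one word. -/
def allOne : GolayPt → ZMod 2 := fun _ => 1

/-- invariance of a subspace under `M24` -/
def Inv (W : Submodule (ZMod 2) (GolayPt → ZMod 2)) : Prop :=
  ∀ σ ∈ M24, ∀ w ∈ W, (fun p => w (σ.symm p)) ∈ W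

theorem zmod_two (a : ZMod 2) : a = 0 ∨ a = 1 := by revert a; decide

theorem eq_ind (w : GolayPt → ZMod 2) : w = ind (support₂ w) := by
  funext p
  rcases zmod_two (w p) with h | h <;> simp [ind, support₂, h]

theorem norm_ind (s : Finset GolayPt) : hammingNorm (ind s) = s.card := by
  rw [hammingNorm]; congr 1; ext p; simp [ind]

theorem sum_ind (s : Finset GolayPt) : ∑ p, ind s p = (s.card : ZMod 2) := by
  simp [ind]

theorem ind_smul (σ : Equiv.Perm GolayPt) (s : Finset GolayPt) :
    (fun p => ind s (σ.symm p)) = ind (σ • s) := by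
  funext p
  have : p ∈ σ • s ↔ σ.symm p ∈ s := by
    rw [← Finset.inv_smul_mem_iff]; rfl
  simp [ind, this]

theorem add_self' (v : GolayPt → ZMod 2) : v + v = 0 := by
  funext p; rcases zmod_two (v p) with h | h <;> simp [h]; rfl

theorem weight_cases {w : GolayPt → ZMod 2} (hw : w ∈ golayCode) :
    hammingNorm w ∈ [0, 8, 12, 16, 24] := by
  have := List.all_eq_true.mp weights_ok _ (mask_mem_codeList hw)
  rw [← hammingNorm_eq] at this
  simpa using this

theorem allOne_mem : allOne ∈ golayCode := Submodule.subset_span (Or.inr rfl)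

theorem norm_add_one (w : GolayPt → ZMod 2) : hammingNorm (w + allOne) = 24 - hammingNorm w := by
  have h : (Finset.univ.filter fun p => (w + allOne) p ≠ 0) = (Finset.univ.filter fun p => w p ≠ 0)ᶜ := by
    ext p
    have key : ∀ a : ZMod 2, a + 1 ≠ 0 ↔ ¬a ≠ 0 := by decide
    rw [Finset.mem_filter, Finset.mem_compl, Finset.mem_filter]
    simpa [allOne] using key (w p)
  rw [hammingNorm, h, Finset.card_compl, Sextet.card_pt]; rfl

theorem ind_octad_mem {o : Finset GolayPt} (ho : o ∈ octads) : ind o ∈ golayCode := by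
  obtain ⟨⟨w, hw, rfl⟩, -⟩ := ho
  rw [← eq_ind]; exact hw

theorem octad_of_word {w : GolayPt → ZMod 2} (hw : w ∈ golayCode) (h : hammingNorm w = 8) :
    support₂ w ∈ octads := ⟨⟨w, hw, rfl⟩, by rw [← norm_ind, ← eq_ind, h]⟩

theorem dodecad_of_word {w : GolayPt → ZMod 2} (hw : w ∈ golayCode) (h : hammingNorm w = 12) :
    support₂ w ∈ dodecads := ⟨⟨w, hw, rfl⟩, by rw [← norm_ind, ← eq_ind, h]⟩

/-- An octad mask as a sum of octads spanning the basis. -/
theorem basis_octads : ∀ x ∈ basis, ∃ a ∈ 0 :: octList, inC (x.2 ^^^ a) = true ∧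
    [0, 8].contains (popc (x.2 ^^^ a)) = true ∧ x.2 ^^^ a < 2 ^ 24 := by
  decide +kernel

theorem code_le_of_octads {W : Submodule (ZMod 2) (GolayPt → ZMod 2)}
    (h : ∀ o ∈ octads, ind o ∈ W) : golayCode ≤ W := by
  have hm : ∀ m, m < 2 ^ 24 → inC m = true → (popc m = 0 ∨ popc m = 8) → ofMask m ∈ W := by
    intro m hm hc hp
    have hcode : ofMask m ∈ golayCode := by rw [mem_golay_iff, mask_ofMask hm]; exact hc
    have hn : hammingNorm (ofMask m) = popc m := by rw [hammingNorm_eq, mask_ofMask hm]
    rcases hp with h0 | h8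
    · rw [h0, hammingNorm_eq_zero] at hn; rw [hn]; exact W.zero_mem
    · rw [eq_ind (ofMask m)]; exact h _ (octad_of_word hcode (hn.trans h8))
  intro w hw
  have hb : ∀ x ∈ basis, ofMask x.2 ∈ W := by
    intro x hx
    obtain ⟨a, ha, h1, h2, h3⟩ := basis_octads x hx
    have e : ofMask x.2 = ofMask (x.2 ^^^ a) + ofMask a := by
      rw [ofMask_xor, add_assoc, add_self', add_zero]
    rw [e]
    refine W.add_mem (hm _ h3 h1 (by simpa using h2)) ?_
    rcases List.mem_cons.mp ha with rfl | ha
    · rw [ofMask_zero]; exact W.zero_mem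
    · rw [octList_eq] at ha
      refine hm a (wtList_lt ha) (wtList_inC ha) (Or.inr ?_)
      rw [← octList_eq, octList] at ha
      simpa using (List.mem_filter.mp ha).2
  have key : ∀ (l : List (ℕ × ℕ)), (∀ x ∈ l, ofMask x.2 ∈ W) → ∀ m, ofMask (decodeL l m) ∈ W := by
    intro l
    induction l with
    | nil => intro _ m; rw [decodeL, ofMask_zero]; exact W.zero_mem
    | cons x l ih =>
      intro hl m
      obtain ⟨p, b⟩ := x
      rw [decodeL, ofMask_xor]
      refine W.add_mem ?_ (ih (fun y hy => hl y (List.mem_cons_of_mem _ hy)) m)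
      split_ifs
      · exact hl (p, b) List.mem_cons_self
      · rw [ofMask_zero]; exact W.zero_mem
  have := key basis hb (mask w)
  rwa [show decodeL basis (mask w) = mask w from by simpa [inC] using (mem_golay_iff w).mp hw,
    ofMask_mask] at this

/-- two dodecads with sum an octad -/
theorem dMask_pair : ∃ m ∈ wtList 12, popc (dMask ^^^ m) = 8 ∧ inC (dMask ^^^ m) = true := by
  decide +kernel

theorem code_le_of_word {W : Submodule (ZMod 2) (GolayPt → ZMod 2)} (hW : Inv W)
    (h1 : allOne ∈ W) {w : GolayPt → ZMod 2} (hw : w ∈ W) (hc : w ∈ golayCode) (h0 : w ≠ 0)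
    (hne : w ≠ allOne) : golayCode ≤ W := by
  have hoct : ∀ u ∈ W, u ∈ golayCode → hammingNorm u = 8 → golayCode ≤ W := by
    intro u hu huc h8
    refine code_le_of_octads fun o ho => ?_
    obtain ⟨σ, hσ, rfl⟩ := octad_transitive (octad_of_word huc h8) ho
    rw [← ind_smul, ← eq_ind]
    exact hW σ hσ u hu
  have hn := weight_cases hc
  simp only [List.mem_cons, List.not_mem_nil, or_false] at hn
  rcases hn with h | h | h | h | h
  · exact absurd (hammingNorm_eq_zero.mp h) h0
  · exact hoct w hw hc h
  · obtain ⟨σ, hσ, hd⟩ := dodecad_transitive (dodecad_of_word hc h)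
    have hD : ind D0 ∈ W := by
      have := hW σ⁻¹ (inv_mem hσ) w hw
      rw [eq_ind w, ← hd, ind_smul, inv_smul_smul] at this
      exact this
    obtain ⟨m, hm, h8, hmC⟩ := dMask_pair
    have hmd : supp m ∈ dodecads := by
      rw [mem_dodecads, maskF_supp (wtList_lt hm)]; exact hm
    obtain ⟨τ, hτ, hτm⟩ := dodecad_transitive hmd
    have hm' : ind (supp m) ∈ W := by rw [← hτm, ← ind_smul]; exact hW τ hτ _ hD
    have hof : ∀ k, k < 2 ^ 24 → ind (supp k) = ofMask k := fun k _ => by
      rw [← support₂_ofMask, ← eq_ind]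
    have hd24 : dMask < 2 ^ 24 := by decide +kernel
    have hlt : dMask ^^^ m < 2 ^ 24 := Nat.xor_lt_two_pow hd24 (wtList_lt hm)
    refine hoct (ofMask (dMask ^^^ m)) ?_ ?_ ?_
    · rw [ofMask_xor, ← hof dMask hd24, ← hof m (wtList_lt hm)]
      exact W.add_mem hD hm'
    · rw [mem_golay_iff, mask_ofMask hlt]; exact hmC
    · rw [hammingNorm_eq, mask_ofMask hlt, h8]
  · refine hoct (w + allOne) (W.add_mem hw h1) (golayCode.add_mem hc allOne_mem) ?_
    rw [norm_add_one, h]
  · exfalso; apply hne
    have := norm_add_one w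
    rw [h, Nat.sub_self, hammingNorm_eq_zero] at this
    calc w = w + allOne + allOne := by rw [add_assoc, add_self', add_zero]
      _ = allOne := by rw [this, zero_add]

theorem oct_pair : ∃ m ∈ wtList 8, popc (baseOct ^^^ m) = 8 ∧ inC (baseOct ^^^ m) = true := by
  decide +kernel

theorem code_le_of_sup_one {W : Submodule (ZMod 2) (GolayPt → ZMod 2)} (hW : Inv W)
    (h : golayCode ≤ W ⊔ Submodule.span (ZMod 2) {allOne}) : golayCode ≤ W := by
  have hor : ∀ o ∈ octads, ind o ∈ W ∨ ind o + allOne ∈ W := by
    intro o ho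
    obtain ⟨a, ha, b, hb, hab⟩ := Submodule.mem_sup.mp (h (ind_octad_mem ho))
    obtain ⟨r, rfl⟩ := Submodule.mem_span_singleton.mp hb
    rcases zmod_two r with rfl | rfl
    · left; rw [zero_smul, add_zero] at hab; rwa [← hab]
    · right; rw [one_smul] at hab; rw [← hab, add_assoc, add_self', add_zero]; exact ha
  refine code_le_of_octads fun o ho => ?_
  by_cases hex : ∃ s ∈ octads, ind s ∈ W
  · obtain ⟨s, hs, hsW⟩ := hex
    obtain ⟨σ, hσ, rfl⟩ := octad_transitive hs ho
    rw [← ind_smul]; exact hW σ hσ _ hsW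
  · exfalso
    push Not at hex
    obtain ⟨m, hm, h8, hmC⟩ := oct_pair
    have hb : baseOct < 2 ^ 24 := by decide +kernel
    have hlt : baseOct ^^^ m < 2 ^ 24 := Nat.xor_lt_two_pow hb (wtList_lt hm)
    have hof : ∀ k, ind (supp k) = ofMask k := fun k => by rw [← support₂_ofMask, ← eq_ind]
    have o1 : supp baseOct ∈ octads := ((base5_unique _).mpr rfl).1
    have o2 : supp m ∈ octads := by rw [mem_octads, maskF_supp (wtList_lt hm)]; exact hm
    have o3 : supp (baseOct ^^^ m) ∈ octads := by
      rw [← support₂_ofMask]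
      refine octad_of_word ?_ ?_
      · rw [mem_golay_iff, mask_ofMask hlt]; exact hmC
      · rw [hammingNorm_eq, mask_ofMask hlt, h8]
    have := W.add_mem ((hor _ o1).resolve_left (hex _ o1)) ((hor _ o2).resolve_left (hex _ o2))
    rw [add_add_add_comm, add_self', add_zero, hof, hof, ← ofMask_xor, ← hof] at this
    exact hex _ o3 this

theorem exists_small (w : GolayPt → ZMod 2) : ∃ c ∈ golayCode, hammingNorm (w + c) ≤ 4 := by
  obtain ⟨c, hc, h⟩ := Sextet.covering (Sextet.punct w)
  refine ⟨c, hc, ?_⟩
  rw [Sextet.hammingNorm_punct]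
  have : hammingNorm (Sextet.punct (w + c)) = hammingDist (Sextet.punct w) (Sextet.punct c) := by
    rw [hammingDist_eq_hammingNorm]
    congr 1; funext x
    simp [Sextet.punct, ZMod.neg_eq_self_mod_two]
  split_ifs <;> omega

theorem allOne_inv (σ : Equiv.Perm GolayPt) : (fun p => allOne (σ.symm p)) = allOne := rfl

theorem code_inv : Inv golayCode := fun σ hσ _ hw => forall_of_mem_M24 (inv_mem hσ) hw

theorem exists_map_finset (s t : Finset GolayPt) (h : s.card = t.card) (h5 : s.card ≤ 5) :
    ∃ σ ∈ M24, σ • s = t := by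
  classical
  haveI := five_transitive
  haveI := MulAction.isMultiplyPretransitive_of_le (G := M24) (α := GolayPt) (n := 5) h5 (by rw [Nat.card_eq_fintype_card, Sextet.card_pt]; omega)
  let x : Fin s.card ↪ GolayPt := s.equivFin.symm.toEmbedding.trans (Function.Embedding.subtype _)
  let y : Fin s.card ↪ GolayPt :=
    ((t.equivFinOfCardEq h.symm).symm.toEmbedding.trans (Function.Embedding.subtype _))
  obtain ⟨g, hg⟩ := MulAction.exists_smul_eq M24 x y
  refine ⟨g, g.2, Finset.eq_of_subset_of_card_le (fun p hp => ?_) (by rw [Finset.card_smul_finset, h])⟩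
  obtain ⟨q, hq, rfl⟩ := Finset.mem_smul_finset.mp hp
  have := DFunLike.congr_fun hg (s.equivFin ⟨q, hq⟩)
  simp only [x, y, Function.Embedding.smul_apply, Function.Embedding.trans_apply, Equiv.coe_toEmbedding,
    Function.Embedding.subtype_apply, Equiv.symm_apply_apply] at this
  have e : (g : Equiv.Perm GolayPt) • q = ((t.equivFinOfCardEq h.symm).symm (s.equivFin ⟨q, hq⟩)).1 := this
  rw [e]
  exact (_ : t).2

theorem pair_mem {W : Submodule (ZMod 2) (GolayPt → ZMod 2)} (hW : Inv W)
    {s : Finset GolayPt} (hs : s.card = 2) (h : ind s ∈ W) (t : Finset GolayPt) (ht : t.card = 2) :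
    ind t ∈ W := by
  obtain ⟨σ, hσ, rfl⟩ := exists_map_finset s t (hs.trans ht.symm) (by omega)
  rw [← ind_smul]; exact hW σ hσ _ h

theorem even_le_of_pairs {W : Submodule (ZMod 2) (GolayPt → ZMod 2)}
    (h : ∀ t : Finset GolayPt, t.card = 2 → ind t ∈ W) :
    ∀ w : GolayPt → ZMod 2, ∑ p, w p = 0 → w ∈ W := by
  suffices ∀ n, ∀ s : Finset GolayPt, s.card = 2 * n → ind s ∈ W by
    intro w hw
    rw [eq_ind w, sum_ind, ZMod.natCast_eq_zero_iff] at hw
    obtain ⟨n, hn⟩ := hw
    rw [eq_ind w]; exact this n _ hn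
  intro n
  induction n with
  | zero => intro s hs; simp only [Nat.mul_zero, Finset.card_eq_zero] at hs; subst hs
            rw [show ind ∅ = 0 from funext fun p => by simp [ind]]; exact W.zero_mem
  | succ n ih =>
    intro s hs
    obtain ⟨t, hts, htc⟩ := Finset.exists_subset_card_eq (show 2 ≤ s.card by omega)
    have : ind s = ind t + ind (s \ t) := by
      funext p
      by_cases hp : p ∈ t
      · simp [ind, hp, hts hp]
      · simp [ind, hp]
    rw [this]
    refine W.add_mem (h t htc) (ih _ ?_)
    rw [Finset.card_sdiff_of_subset hts]; omega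

/-- An invariant subspace with an even word outside the code reaches every pair modulo the code. -/
theorem pairs_mod_code {W : Submodule (ZMod 2) (GolayPt → ZMod 2)} (hW : Inv W)
    {w : GolayPt → ZMod 2} (hw : w ∈ W) (he : ∑ p, w p = 0) (hc : w ∉ golayCode) :
    ∀ t : Finset GolayPt, t.card = 2 → ind t ∈ W ⊔ golayCode := by
  have hWC : Inv (W ⊔ golayCode) := by
    intro σ hσ v hv
    obtain ⟨a, ha, b, hb, rfl⟩ := Submodule.mem_sup.mp hv
    exact Submodule.mem_sup.mpr ⟨_, hW σ hσ a ha, _, code_inv σ hσ b hb, rfl⟩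
  obtain ⟨c, hcC, hle⟩ := exists_small w
  have hmem : ind (support₂ (w + c)) ∈ W ⊔ golayCode := by
    rw [← eq_ind]
    exact add_mem (Submodule.mem_sup_left hw) (Submodule.mem_sup_right hcC)
  have hev : ((support₂ (w + c)).card : ZMod 2) = 0 := by
    rw [← sum_ind, ← eq_ind]
    simp only [Pi.add_apply, Finset.sum_add_distrib, he, zero_add]
    rw [eq_ind c, sum_ind, ← norm_ind, ← eq_ind]
    have := weight_cases hcC
    simp only [List.mem_cons, List.not_mem_nil, or_false] at this
    rcases this with h | h | h | h | h <;> rw [h] <;> decide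
  rw [ZMod.natCast_eq_zero_iff] at hev
  rw [eq_ind (w + c), norm_ind] at hle
  set s := support₂ (w + c) with hs
  have hs0 : s.card ≠ 0 := by
    intro h0
    rw [Finset.card_eq_zero] at h0
    apply hc
    have h1 : w + c = 0 := by rw [eq_ind (w + c), ← hs, h0]; funext p; simp [ind]
    have : w = c := by
      calc w = w + c + c := by rw [add_assoc, add_self', add_zero]
        _ = c := by rw [h1, zero_add]
    rw [this]; exact hcC
  obtain ⟨k, hk⟩ := hev
  rcases (show k = 1 ∨ k = 2 by omega) with rfl | rfl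
  · exact pair_mem hWC (by omega) hmem
  · obtain ⟨a, ha⟩ : s.Nonempty := Finset.card_pos.mp (by omega)
    obtain ⟨b, hb⟩ : (sᶜ).Nonempty := Finset.card_pos.mp (by rw [Finset.card_compl, Sextet.card_pt]; omega)
    have hb' : b ∉ s := Finset.mem_compl.mp hb
    have hab : a ≠ b := fun h => hb' (h ▸ ha)
    have hs'c : (insert b (s.erase a)).card = 4 := by
      rw [Finset.card_insert_of_notMem (fun h => hb' (Finset.mem_of_mem_erase h)),
        Finset.card_erase_of_mem ha]
      omega
    obtain ⟨σ, hσ, he'⟩ := exists_map_finset s (insert b (s.erase a)) (by omega) (by omega)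
    have hadd := add_mem hmem (hWC σ hσ _ hmem)
    rw [ind_smul, he'] at hadd
    have : ind s + ind (insert b (s.erase a)) = ind {a, b} := by
      funext p
      by_cases h1 : p = a
      · subst h1; simp [ind, ha, hab]
      by_cases h2 : p = b
      · subst h2; simp [ind, hb', Ne.symm hab]
      by_cases h3 : p ∈ s <;> simp [ind, h1, h2, h3, show (1 : ZMod 2) + 1 = 0 from rfl]
    rw [this] at hadd
    exact pair_mem hWC (Finset.card_pair hab) hadd

/-- An invariant subspace reaching all pairs modulo the code but not containing the code. -/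
theorem code_le_of_pairs {W : Submodule (ZMod 2) (GolayPt → ZMod 2)} (hW : Inv W)
    (h : ∀ t : Finset GolayPt, t.card = 2 → ind t ∈ W ⊔ golayCode) : golayCode ≤ W := by
  classical
  by_contra hnot
  have hsmall : ∀ u ∈ W, u ∈ golayCode → u = 0 ∨ u = allOne := by
    intro u hu huc
    by_contra hh
    simp only [not_or] at hh
    by_cases h1 : allOne ∈ W
    · exact hnot (code_le_of_word hW h1 hu huc hh.1 hh.2)
    ·
      -- the other case is handled through the span with the all-one word
      have hW1 : Inv (W ⊔ Submodule.span (ZMod 2) {allOne}) := by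
        intro σ hσ v hv
        obtain ⟨a, ha, b, hb, rfl⟩ := Submodule.mem_sup.mp hv
        refine Submodule.mem_sup.mpr ⟨_, hW σ hσ a ha, b, hb, ?_⟩
        obtain ⟨r, rfl⟩ := Submodule.mem_span_singleton.mp hb
        rfl
      exact hnot (code_le_of_sup_one hW (code_le_of_word hW1 (Submodule.mem_sup_right (Submodule.subset_span rfl))
        (Submodule.mem_sup_left hu) huc hh.1 hh.2))
  let p₀ : GolayPt := pt (bpt 0)
  let q₀ : GolayPt := pt (bpt 1)
  have hpq : p₀ ≠ q₀ := by decide +kernel
  obtain ⟨v, hv, c, hc, hvc⟩ := Submodule.mem_sup.mp (h {p₀, q₀} (Finset.card_pair hpq))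
  have hfix : ∀ σ ∈ chain 2, ∀ r, c (σ.symm r) = c r := by
    intro σ hσ
    have e : (fun r => ind {p₀, q₀} (σ.symm r)) = ind {p₀, q₀} := by
      rw [ind_smul]
      congr 1
      rw [Finset.smul_finset_insert, Finset.smul_finset_singleton, Equiv.Perm.smul_def,
        Equiv.Perm.smul_def, hσ.2 0 (by omega), hσ.2 1 (by omega)]
    have hd : ∀ r, v (σ.symm r) - v r = c r - c (σ.symm r) := by
      intro r
      have h1 := congrFun hvc r
      have h2 := congrFun hvc (σ.symm r)
      have h3 := congrFun e r
      simp only [Pi.add_apply] at h1 h2 h3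
      linear_combination h2 - h1 + h3
    have hmemW : (fun r => v (σ.symm r) - v r) ∈ W := W.sub_mem (hW σ hσ.1 v hv) hv
    have hmemC : (fun r => v (σ.symm r) - v r) ∈ golayCode := by
      rw [funext hd]; exact golayCode.sub_mem hc (code_inv σ hσ.1 c hc)
    intro r
    have hp : σ.symm p₀ = p₀ := by rw [Equiv.symm_apply_eq]; exact (hσ.2 0 (by omega)).symm
    rcases hsmall _ hmemW hmemC with h' | h'
    · have := congrFun h' r
      simp only [Pi.zero_apply] at this
      linear_combination hd r - this
    · exfalso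
      have := congrFun h' p₀
      simp [hp, allOne] at this
  have hconst : ∀ r s : GolayPt, r ≠ p₀ → r ≠ q₀ → s ≠ p₀ → s ≠ q₀ → c r = c s := by
    have key : ∀ r, r ≠ p₀ → r ≠ q₀ → c r = c (pt (bpt 2)) := by
      intro r h1 h2
      obtain ⟨g, hg, hgr⟩ := chain_cov (i := 2) (by omega) r (by
        intro j hj
        interval_cases j <;> assumption)
      have := hfix g hg r
      rw [show g.symm r = pt (bpt 2) by rw [Equiv.symm_apply_eq, hgr]] at this
      exact this.symm
    intro r s a b c' d'
    rw [key r a b, key s c' d']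
  have hc' : c = 0 ∨ c = allOne := by
    by_contra hh
    simp only [not_or] at hh
    have h8 : 8 ≤ hammingNorm c := Sextet.eight_le hc hh.1
    have h8' : 8 ≤ hammingNorm (c + allOne) := Sextet.eight_le (golayCode.add_mem hc allOne_mem)
      (fun e => hh.2 (by
        calc c = c + allOne + allOne := by rw [add_assoc, add_self', add_zero]
          _ = allOne := by rw [e, zero_add]))
    rw [norm_add_one] at h8'
    rcases zmod_two (c (pt (bpt 2))) with hz | hz
    · have : hammingNorm c ≤ ({p₀, q₀} : Finset GolayPt).card := Finset.card_le_card fun r hr => by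
        simp only [Finset.mem_filter, Finset.mem_univ, true_and] at hr
        by_contra hn
        simp only [Finset.mem_insert, Finset.mem_singleton, not_or] at hn
        exact hr ((hconst r _ hn.1 hn.2 (by decide +kernel) (by decide +kernel)).trans hz)
      rw [Finset.card_pair hpq] at this; omega
    · have : ({p₀, q₀} : Finset GolayPt)ᶜ.card ≤ hammingNorm c := Finset.card_le_card fun r hr => by
        simp only [Finset.mem_compl, Finset.mem_insert, Finset.mem_singleton, not_or] at hr
        simp [hconst r _ hr.1 hr.2 (by decide +kernel : pt (bpt 2) ≠ p₀) (by decide +kernel : pt (bpt 2) ≠ q₀), hz]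
      rw [Finset.card_compl, Finset.card_pair hpq, Sextet.card_pt] at this; omega
  -- so every pair, up to the all-one word, lies in `W`
  have hpairs : ∀ t : Finset GolayPt, t.card = 2 → ind t ∈ W ∨ ind t + allOne ∈ W := by
    intro t ht
    obtain ⟨σ, hσ, rfl⟩ := exists_map_finset {p₀, q₀} t (by rw [Finset.card_pair hpq, ht]) (by rw [Finset.card_pair hpq]; omega)
    have hvv : v = ind {p₀, q₀} + c := by rw [← hvc, add_assoc, add_self', add_zero]
    rw [← ind_smul]
    rcases hc' with rfl | rfl
    · left; rw [add_zero] at hvv; exact hW σ hσ _ (hvv ▸ hv)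
    · right; exact hW σ hσ _ (hvv ▸ hv)
  apply hnot
  refine fun u hu => even_le_of_pairs (fun t ht => ?_) u ?_
  · obtain ⟨a, b, hab, rfl⟩ := Finset.card_eq_two.mp ht
    obtain ⟨d, hd⟩ : ({a, b} : Finset GolayPt)ᶜ.Nonempty := Finset.card_pos.mp (by
      rw [Finset.card_compl, Finset.card_pair hab, Sextet.card_pt]; omega)
    simp only [Finset.mem_compl, Finset.mem_insert, Finset.mem_singleton, not_or] at hd
    have e : ind {a, b} = ind {a, d} + ind {d, b} := by
      funext p
      by_cases h1 : p = a
      · subst h1; simp [ind, hab, Ne.symm hd.1]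
      by_cases h2 : p = b
      · subst h2; simp [ind, Ne.symm hab, Ne.symm hd.2]
      by_cases h3 : p = d <;> simp [ind, h1, h2, h3, Ne.symm hd.1, Ne.symm hd.2, hd.1, hd.2, show (1 : ZMod 2) + 1 = 0 from rfl]
    by_cases hex : ∃ s : Finset GolayPt, s.card = 2 ∧ ind s ∈ W
    · obtain ⟨s, hs, hsW⟩ := hex
      exact pair_mem hW hs hsW _ ht
    · push Not at hex
      rw [e]
      have h1 := (hpairs _ (Finset.card_pair (Ne.symm hd.1))).resolve_left (hex _ (Finset.card_pair (Ne.symm hd.1)))
      have h2 := (hpairs _ (Finset.card_pair hd.2)).resolve_left (hex _ (Finset.card_pair hd.2))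
      have := W.add_mem h1 h2
      rwa [add_add_add_comm, add_self', add_zero] at this
  · rw [eq_ind u, sum_ind, ← norm_ind, ← eq_ind]
    have := weight_cases hu
    simp only [List.mem_cons, List.not_mem_nil, or_false] at this
    rcases this with h | h | h | h | h <;> rw [h] <;> decide

end Cfsg.Agent.Golay
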