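import Cfsg.Agent.Lib.Golay.Transvection
import Cfsg.Agent.Lib.Solv.LargePair
import Cfsg.Agent.Lib.Solv.LargeSimple
import Cfsg.Agent.Lib.Solv.Basic
import Cfsg.Agent.S5422
import Cfsg.Agent.S5424

/-! The large extraspecial subgroup of the centraliser of an octad involution of `M24`. -/

set_option autoImplicit false

namespace Cfsg.Agent.Golay.Transvec

open Cfsg Cfsg.Agent.Golay
open scoped Pointwise

/-- The standard transvection. -/
abbrev sT : Matrix.SpecialLinearGroup (Fin 5) (ZMod 2) := Cfsg.Agent.Solv.TransvectionLarge.tz 3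

theorem sT_coe : (sT : Matrix (Fin 5) (Fin 5) (ZMod 2)) = Matrix.transvection 0 1 1 :=
  Cfsg.Agent.Solv.TransvectionLarge.tz_coe

/-- The non-trivial elements fixing an octad pointwise. -/
abbrev octInv : Set M24 :=
  {g | ∃ o ∈ octads, g ≠ 1 ∧ ∀ x ∈ o, (g : Equiv.Perm GolayPt) x = x}

theorem card_C : Nat.card C = 21504 ∧ Nonempty (C ≃* Subgroup.centralizer ({sT} : Set (Matrix.SpecialLinearGroup (Fin 5) (ZMod 2)))) := by
  let f : C →* ↥(Subgroup.centralizer ({sT} : Set (Matrix.SpecialLinearGroup (Fin 5) (ZMod 2)))) :=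
    rho.codRestrict _ fun g => by
      rw [Subgroup.mem_centralizer_singleton_iff, ← rho_z sT_coe, ← map_mul, ← map_mul]
      congr 1
      exact Subtype.ext (Subgroup.mem_centralizer_singleton_iff.mp g.2)
  have hinj : Function.Injective f := fun a b e => rho_injective (congrArg Subtype.val e)
  exact ⟨le_antisymm ((Nat.card_le_card_of_injective f hinj).trans (card_centralizer_le sT_coe)) card_C_ge,
    ⟨MulEquiv.ofBijective f
    (hinj.bijective_of_nat_card_le ((card_centralizer_le sT_coe).trans card_C_ge))⟩⟩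

theorem conj_z {y : M24} (hy : y ∈ octInv) : ∃ g : M24, g * z * g⁻¹ = y := by
  classical
  have hsub : MulAction.orbit (ConjAct M24) z ⊆ octInv := by
    rintro _ ⟨c, rfl⟩
    set h := ConjAct.ofConjAct c
    refine ⟨(h : Equiv.Perm GolayPt) • supp baseOct, smul_mem_weight h.2 baseOct_octad, ?_, fun x hx => ?_⟩
    · show c • z ≠ 1
      intro e
      have : z = 1 := by rw [← inv_smul_smul c z, e, smul_one]
      have h2 := z_order
      rw [this, orderOf_one] at h2
      omega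
    · obtain ⟨q, hq, rfl⟩ := Finset.mem_smul_finset.mp hx
      show ((h : Equiv.Perm GolayPt) * (z : Equiv.Perm GolayPt) * (h : Equiv.Perm GolayPt)⁻¹)
        ((h : Equiv.Perm GolayPt) q) = _
      rw [Equiv.Perm.mul_apply, Equiv.Perm.mul_apply, Equiv.Perm.coe_inv, Equiv.symm_apply_apply,
        (z_fix q).mpr hq]
      rfl
  have hU : octInv.ncard ≤ 759 * 15 := by
    let F : Finset GolayPt → Finset M24 := fun o =>
      (Finset.univ.filter fun g : M24 => ∀ x ∈ o, (g : Equiv.Perm GolayPt) x = x).erase 1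
    have hF : ∀ o ∈ octads, (F o).card = 15 := fun o ho => by
      rw [Finset.card_erase_of_mem (by simp)]
      have h16 := card_fix_octad ho
      rw [← Nat.card_congr (Equiv.subtypeSubtypeEquivSubtypeInter (fun g => g ∈ M24)
        fun g => ∀ x ∈ o, g x = x), Nat.card_eq_fintype_card, Fintype.card_subtype] at h16
      omega
    have e : octInv = ↑((Set.toFinite octads).toFinset.biUnion F) := by
      ext g
      simp [F, octInv]
      constructor <;> rintro ⟨o, a, b, c⟩ <;> exact ⟨o, by assumption, by assumption, by assumption⟩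
    rw [e, Set.ncard_coe_finset]
    refine (Finset.card_biUnion_le_card_mul _ _ 15 fun o ho => (hF o ((Set.Finite.mem_toFinset _).mp ho)).le).trans ?_
    rw [← Set.ncard_eq_toFinset_card _ (Set.toFinite octads), ncard_octads]
  have h := card_eq_orbit_mul (G := ConjAct M24) z
  have hc : Nat.card (MulAction.stabilizer (ConjAct M24) z) = Nat.card C :=
    Nat.card_congr (ConjAct.ofConjAct.toEquiv.subtypeEquiv fun c => by
      rw [MulAction.mem_stabilizer_iff, ConjAct.smul_def, Subgroup.mem_centralizer_singleton_iff,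
        mul_inv_eq_iff_eq_mul]
      rfl)
  rw [hc, Nat.card_congr ConjAct.ofConjAct.toEquiv, card_M24, card_C.1] at h
  have hge : octInv.ncard ≤ (MulAction.orbit (ConjAct M24) z).ncard := by omega
  rw [← Set.eq_of_subset_of_ncard_le hsub hge (Set.toFinite _)] at hy
  obtain ⟨c, hc'⟩ := hy
  exact ⟨ConjAct.ofConjAct c, by rw [← hc', ← ConjAct.smul_def]⟩

theorem fix_octad_comm {o : Finset GolayPt} (ho : o ∈ octads) {a b : Equiv.Perm GolayPt} (ha : a ∈ M24)
    (hfa : ∀ x ∈ o, a x = x) (hb : b ∈ M24) (hfb : ∀ x ∈ o, b x = x) : a * b = b * a := by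
  obtain ⟨σ, hσ, rfl⟩ := octad_transitive baseOct_octad ho
  have hsq : ∀ g ∈ M24, (∀ x ∈ σ • supp baseOct, g x = x) → g * g = 1 := by
    intro g hg hfix
    have h := card_fix_baseOct.2 (σ⁻¹ * g * σ) (mul_mem (mul_mem (inv_mem hσ) hg) hσ) fun x hx => by
      simp [hfix (σ x) (Finset.smul_mem_smul_finset hx)]
    calc g * g = σ * ((σ⁻¹ * g * σ) * (σ⁻¹ * g * σ)) * σ⁻¹ := by group
      _ = 1 := by rw [h]; group
  have hab := hsq (a * b) (mul_mem ha hb) fun x hx => by rw [Equiv.Perm.mul_apply, hfb x hx, hfa x hx]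
  have h1 : a⁻¹ = a := inv_eq_of_mul_eq_one_right (hsq a ha hfa)
  have h2 : b⁻¹ = b := inv_eq_of_mul_eq_one_right (hsq b hb hfb)
  have h3 : (a * b)⁻¹ = a * b := inv_eq_of_mul_eq_one_right hab
  rw [← h3, mul_inv_rev, h1, h2]

theorem large_of_octad_involution (y : M24) (hy : orderOf y = 2)
    (hfix : (Finset.univ.filter fun p : GolayPt => (y : Equiv.Perm GolayPt) p = p) ∈ octads)
    (Q : Subgroup M24)
    (hQ : Q = (pCore 2 ↥(Subgroup.centralizer ({y} : Set M24))).map (Subgroup.centralizer ({y} : Set M24)).subtype) :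
    IsExtraspecial 2 ↥Q ∧ Nat.card ↥Q = 2 ^ 7 ∧
    (∃ E : Subgroup M24, E ≤ Q ∧ IsElementaryAbelian 2 E ∧ Nat.card ↥E = 2 ^ 4) ∧ IsLargeExtraspecial Q ∧
    ∃ K : Subgroup M24, K ≤ Subgroup.centralizer ({y} : Set M24) ∧ Q ⊓ K = ⊥ ∧
      Q ⊔ K = Subgroup.centralizer ({y} : Set M24) ∧ Nonempty (↥K ≃* Matrix.SpecialLinearGroup (Fin 3) (ZMod 2)) := by
  classical
  set o := Finset.univ.filter fun p : GolayPt => (y : Equiv.Perm GolayPt) p = p with ho
  have hy1 : y ≠ 1 := fun e => by rw [e, orderOf_one] at hy; omega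
  have hmo : ∀ p, p ∈ o ↔ (y : Equiv.Perm GolayPt) p = p := by simp [ho]
  obtain ⟨g, hg⟩ := conj_z (y := y) ⟨o, hfix, hy1, fun x hx => (hmo x).mp hx⟩
  set Cy := Subgroup.centralizer ({y} : Set M24)
  obtain ⟨e0⟩ := card_C.2
  let ec : C ≃* Cy :=
    { (MulAut.conj g).toEquiv.subtypeEquiv (fun a => by
        show a ∈ C ↔ g * a * g⁻¹ ∈ Cy
        rw [Subgroup.mem_centralizer_singleton_iff, Subgroup.mem_centralizer_singleton_iff, ← hg]
        constructor
        · intro h; calc g * a * g⁻¹ * (g * z * g⁻¹) = g * (a * z) * g⁻¹ := by group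
            _ = g * (z * a) * g⁻¹ := by rw [h]
            _ = _ := by group
        · intro h
          have h2 : g * (a * z) * g⁻¹ = g * (z * a) * g⁻¹ := by
            calc _ = g * a * g⁻¹ * (g * z * g⁻¹) := by group
              _ = g * z * g⁻¹ * (g * a * g⁻¹) := h
              _ = _ := by group
          simpa using h2) with
      map_mul' := fun a b => Subtype.ext (map_mul (MulAut.conj g) (a : M24) b) }
  let φ := ec.symm.trans e0
  set Cs := Subgroup.centralizer ({sT} : Set (Matrix.SpecialLinearGroup (Fin 5) (ZMod 2)))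
  set P := pCore 2 ↥Cy
  set Ps := pCore 2 ↥Cs
  obtain ⟨sEx, sCard, ⟨Es, sEQ, sEA, sEc⟩, sLarge, ⟨Ks, sKC, sQK, sQKt, ⟨eK⟩⟩⟩ :=
    Cfsg.Agent.S5424.result 3 (by norm_num) sT sT_coe (Ps.map Cs.subtype) rfl
  have hP : P.map (φ : Cy →* Cs) = Ps := Cfsg.Agent.Solv.pCore_map_equiv 2 φ
  let eQ : ↥Q ≃* ↥(Ps.map Cs.subtype) :=
    (MulEquiv.subgroupCongr hQ).trans ((P.equivMapOfInjective Cy.subtype Cy.subtype_injective).symm.trans
      ((φ.subgroupMap P).trans ((MulEquiv.subgroupCongr hP).trans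
        (Ps.equivMapOfInjective Cs.subtype Cs.subtype_injective))))
  have qEx : IsExtraspecial 2 ↥Q := Cfsg.Agent.Solv.LargeSimple.isExtraspecial_congr eQ.symm sEx
  have qCard : Nat.card ↥Q = 2 ^ 7 := (Nat.card_congr eQ.toEquiv).trans sCard
  have hQC : Q ≤ Cy := hQ ▸ Subgroup.map_subtype_le _
  have hQmem : ∀ x : Cy, (x : M24) ∈ Q ↔ φ x ∈ Ps := fun x => by
    rw [hQ, ← hP]
    exact (Subgroup.mem_map_iff_mem Cy.subtype_injective).trans
      (Subgroup.mem_map_iff_mem (f := (φ : Cy →* Cs)) φ.injective).symm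
  have hQmem' : ∀ x : Cy, (x : M24) ∈ Q ↔ x ∈ P := fun x => by
    rw [hQ]; exact Subgroup.mem_map_iff_mem Cy.subtype_injective
  -- pulling subgroups back
  let pull : Subgroup (Matrix.SpecialLinearGroup (Fin 5) (ZMod 2)) → Subgroup M24 := fun A =>
    ((A.subgroupOf Cs).comap (φ : Cy →* Cs)).map Cy.subtype
  have hpull : ∀ A, ∀ x : Cy, (x : M24) ∈ pull A ↔ (φ x : Matrix.SpecialLinearGroup (Fin 5) (ZMod 2)) ∈ A :=
    fun A x => ⟨fun h => by obtain ⟨w, hw, e⟩ := Subgroup.mem_map.mp h; rwa [← Subtype.ext e],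
      fun h => Subgroup.mem_map.mpr ⟨x, h, rfl⟩⟩
  have epull : ∀ A, A ≤ Cs → Nonempty (↥(pull A) ≃* ↥A) := fun A hA =>
    ⟨(Subgroup.equivMapOfInjective _ Cy.subtype Cy.subtype_injective).symm.trans
      ((φ.subgroupMap _).trans ((MulEquiv.subgroupCongr
        (Subgroup.map_comap_eq_self_of_surjective φ.surjective _)).trans
          (Subgroup.subgroupOfEquivOfLe hA)))⟩
  refine ⟨qEx, qCard, ⟨pull Es, ?_, ?_, ?_⟩, ?_, pull Ks, Subgroup.map_subtype_le _, ?_, ?_, ?_⟩
  · intro x hx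
    have hxC : x ∈ Cy := Subgroup.map_subtype_le _ hx
    rw [hQmem ⟨x, hxC⟩]
    exact (Subgroup.mem_map_iff_mem Cs.subtype_injective).mp (sEQ ((hpull Es ⟨x, hxC⟩).mp hx))
  · obtain ⟨e⟩ := epull Es (sEQ.trans (Subgroup.map_subtype_le _))
    haveI := sEA.1
    refine ⟨⟨⟨fun a b => e.injective ?_⟩⟩, fun a ha => ?_⟩
    · rw [map_mul, map_mul]; exact mul_comm' _ _
    · have h : e ⟨a, ha⟩ ^ 2 = 1 := Subtype.ext (sEA.2 _ (e ⟨a, ha⟩).2)
      rw [← map_pow] at h
      exact congrArg Subtype.val ((map_eq_one_iff e e.injective).mp h)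
  · obtain ⟨e⟩ := epull Es (sEQ.trans (Subgroup.map_subtype_le _))
    exact (Nat.card_congr e.toEquiv).trans sEc
  · -- the fixing subgroup of the octad
    let N : Subgroup Cy :=
      { carrier := {c | ∀ x ∈ o, ((c : M24) : Equiv.Perm GolayPt) x = x}
        one_mem' := fun x _ => rfl
        mul_mem' := fun {a b} ha hb x hx => by
          show ((a : M24) : Equiv.Perm GolayPt) (((b : M24) : Equiv.Perm GolayPt) x) = x
          rw [hb x hx, ha x hx]
        inv_mem' := fun {a} ha x hx => by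
          show ((a : M24) : Equiv.Perm GolayPt)⁻¹ x = x
          rw [Equiv.Perm.inv_eq_iff_eq]; exact (ha x hx).symm }
    have hcomm : ∀ (c : Cy) p, ((c : M24) : Equiv.Perm GolayPt) ((y : Equiv.Perm GolayPt) p) =
        (y : Equiv.Perm GolayPt) (((c : M24) : Equiv.Perm GolayPt) p) := fun c p =>
      congrArg (fun h : M24 => (h : Equiv.Perm GolayPt) p) (Subgroup.mem_centralizer_singleton_iff.mp c.2)
    haveI hNn : N.Normal := ⟨fun n hn c x hx => by
      show ((c : M24) : Equiv.Perm GolayPt) (((n : M24) : Equiv.Perm GolayPt)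
        (((c : M24) : Equiv.Perm GolayPt)⁻¹ x)) = x
      have hq : ((c : M24) : Equiv.Perm GolayPt)⁻¹ x ∈ o := by
        rw [hmo]
        apply ((c : M24) : Equiv.Perm GolayPt).injective
        rw [hcomm]
        simpa using (hmo x).mp hx
      rw [hn _ hq]; simp⟩
    -- everything fixing the octad commutes with the involution
    have h16 := card_fix_octad hfix
    have hab : ∀ a : M24, (∀ x ∈ o, (a : Equiv.Perm GolayPt) x = x) → a ∈ Cy := fun a ha => by
      rw [Subgroup.mem_centralizer_singleton_iff]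
      exact Subtype.ext (fix_octad_comm hfix a.2 ha y.2 fun x hx => (hmo x).mp hx)
    have hN16 : Nat.card N = 16 := by
      rw [← h16]
      exact Nat.card_congr ⟨fun c => ⟨(c.1 : M24), (c.1 : M24).2, c.2⟩,
        fun a => ⟨⟨⟨a.1, a.2.1⟩, hab _ a.2.2⟩, a.2.2⟩, fun c => rfl, fun a => rfl⟩
    have hNP : N ≤ P := Cfsg.Agent.Solv.le_pCore (IsPGroup.of_card (n := 4) (by rw [hN16]; norm_num))
    have hyC : y ∈ Cy := Subgroup.mem_centralizer_singleton_iff.mpr rfl
    have hyQ : y ∈ Q := hQ ▸ Subgroup.mem_map.mpr ⟨⟨y, hyC⟩, hNP (fun x hx => (hmo x).mp hx), rfl⟩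
    have hyZ : ∀ q ∈ Q, q * y = y * q := fun q hq => Subgroup.mem_centralizer_singleton_iff.mp (hQC hq)
    have hZ : (Subgroup.center ↥Q).map Q.subtype = Subgroup.zpowers y := by
      symm
      refine Subgroup.eq_of_le_of_card_ge (Subgroup.zpowers_le.mpr ⟨⟨y, hyQ⟩,
        Subgroup.mem_center_iff.mpr fun q => Subtype.ext (hyZ q.1 q.2), rfl⟩) ?_
      rw [Subgroup.card_map_of_injective Q.subtype_injective, qEx.2, Nat.card_zpowers, hy]
    have hL2 : Subgroup.centralizer (Q : Set M24) = (Subgroup.center ↥Q).map Q.subtype := by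
      apply le_antisymm
      · intro x hx
        have hxC : x ∈ Cy := Subgroup.mem_centralizer_singleton_iff.mpr (hx y hyQ).symm
        have h1 : (φ ⟨x, hxC⟩ : Matrix.SpecialLinearGroup (Fin 5) (ZMod 2)) ∈
            Subgroup.centralizer ((Ps.map Cs.subtype : Subgroup _) : Set (Matrix.SpecialLinearGroup (Fin 5) (ZMod 2))) := by
          rintro _ ⟨q, hq, rfl⟩
          obtain ⟨q', rfl⟩ := φ.surjective q
          have h := hx _ ((hQmem q').mpr hq)
          exact congrArg Subtype.val (show φ q' * φ ⟨x, hxC⟩ = φ ⟨x, hxC⟩ * φ q' by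
            rw [← map_mul, ← map_mul]; exact congrArg φ (Subtype.ext h))
        rw [sLarge.2.1] at h1
        have hxQ : x ∈ Q := (hQmem ⟨x, hxC⟩).mpr
          ((Subgroup.mem_map_iff_mem Cs.subtype_injective).mp (Subgroup.map_subtype_le _ h1))
        exact ⟨⟨x, hxQ⟩, Subgroup.mem_center_iff.mpr fun q => Subtype.ext (hx q.1 q.2), rfl⟩
      · rintro _ ⟨c, hc, rfl⟩ q hq
        exact congrArg Subtype.val (Subgroup.mem_center_iff.mp hc ⟨q, hq⟩)
    have hL3 : Subgroup.centralizer (((Subgroup.center ↥Q).map Q.subtype : Subgroup M24) : Set M24) ≤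
        Subgroup.normalizer (Q : Set M24) := by
      rw [hZ]
      intro x hx
      have hxC : x ∈ Cy := Subgroup.mem_centralizer_singleton_iff.mpr (hx y (Subgroup.mem_zpowers y)).symm
      rw [Subgroup.mem_normalizer_iff]
      intro q
      constructor
      · intro hq
        exact (hQmem' (⟨x, hxC⟩ * ⟨q, hQC hq⟩ * ⟨x, hxC⟩⁻¹)).mpr
          ((inferInstance : P.Normal).conj_mem _ ((hQmem' ⟨q, hQC hq⟩).mp hq) _)
      · intro hq
        have hm := (hQmem' (⟨x, hxC⟩⁻¹ * ⟨_, hQC hq⟩ * (⟨x, hxC⟩⁻¹)⁻¹)).mpr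
          ((inferInstance : P.Normal).conj_mem _ ((hQmem' ⟨_, hQC hq⟩).mp hq) _)
        simpa [mul_assoc] using hm
    obtain ⟨t, htN, ht1, hty⟩ : ∃ t : Cy, t ∈ N ∧ (t : M24) ≠ 1 ∧ (t : M24) ≠ y := by
      by_contra hcon
      push Not at hcon
      have hle : (Finset.univ.filter fun c : Cy => c ∈ N).card ≤ ({1, ⟨y, hyC⟩} : Finset Cy).card :=
        Finset.card_le_card fun c hc => by
          simp only [Finset.mem_filter, Finset.mem_univ, true_and] at hc
          simp only [Finset.mem_insert, Finset.mem_singleton]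
          by_cases h : (c : M24) = 1
          · exact Or.inl (Subtype.ext h)
          · exact Or.inr (Subtype.ext (hcon c hc h))
      have h2 : ({1, ⟨y, hyC⟩} : Finset Cy).card ≤ 2 := Finset.card_le_two
      rw [Nat.card_eq_fintype_card, Fintype.card_subtype] at hN16
      omega
    obtain ⟨g', hg'⟩ := conj_z (y := (t : M24)) ⟨o, hfix, ht1, htN⟩
    have hh : g' * g⁻¹ * y * (g' * g⁻¹)⁻¹ = t := by rw [← hg, ← hg']; group
    refine (Cfsg.Agent.S5422.result Q qEx hL2 hL3 3 (by norm_num) (by rw [qCard]) (g' * g⁻¹) ?_ ?_).2.2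
    · rw [hZ]
      intro hn
      have hm := (Subgroup.mem_normalizer_iff.mp hn y).mp (Subgroup.mem_zpowers y)
      rw [hh] at hm
      obtain ⟨k, hk⟩ := Subgroup.mem_zpowers_iff.mp hm
      rw [← zpow_mod_orderOf, hy] at hk
      have h01 : k % (2 : ℕ) = 0 ∨ k % (2 : ℕ) = 1 := by omega
      rcases h01 with h | h <;> rw [h] at hk
      · exact ht1 (by simpa using hk.symm)
      · exact hty (by simpa using hk.symm)
    · rw [hZ, MonoidHom.map_zpowers, Subgroup.zpowers_le]
      show g' * g⁻¹ * y * (g' * g⁻¹)⁻¹ ∈ Q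
      rw [hh, hQ]
      exact Subgroup.mem_map.mpr ⟨t, hNP htN, rfl⟩
  · rw [Subgroup.eq_bot_iff_forall]
    intro x hx
    obtain ⟨hxQ, hxK⟩ := Subgroup.mem_inf.mp hx
    have hxC : x ∈ Cy := hQC hxQ
    have h : (φ ⟨x, hxC⟩ : Matrix.SpecialLinearGroup (Fin 5) (ZMod 2)) ∈ Ps.map Cs.subtype ⊓ Ks :=
      ⟨Subgroup.mem_map.mpr ⟨_, (hQmem ⟨x, hxC⟩).mp hxQ, rfl⟩, (hpull Ks ⟨x, hxC⟩).mp hxK⟩
    rw [sQK, Subgroup.mem_bot] at h
    exact congrArg Subtype.val ((map_eq_one_iff φ φ.injective).mp (Subtype.ext h))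
  · refine le_antisymm (sup_le hQC (Subgroup.map_subtype_le _)) fun x hx => ?_
    have h : ((φ ⟨x, hx⟩ : Cs) : Matrix.SpecialLinearGroup (Fin 5) (ZMod 2)) ∈ (Ps ⊔ Ks.subgroupOf Cs).map Cs.subtype := by
      rw [Subgroup.map_sup, Subgroup.map_subgroupOf_eq_of_le sKC, sQKt]
      exact (φ ⟨x, hx⟩).2
    have h2 : (⟨x, hx⟩ : Cy) ∈ P ⊔ (Ks.subgroupOf Cs).comap (φ : Cy →* Cs) := by
      rw [← Subgroup.mem_map_iff_mem (f := (φ : Cy →* Cs)) φ.injective, Subgroup.map_sup, hP,
        Subgroup.map_comap_eq_self_of_surjective φ.surjective]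
      exact (Subgroup.mem_map_iff_mem Cs.subtype_injective).mp h
    rw [hQ, ← Subgroup.map_sup]
    exact Subgroup.mem_map.mpr ⟨_, h2, rfl⟩
  · obtain ⟨e⟩ := epull Ks sKC
    exact ⟨e.trans eK⟩

end Cfsg.Agent.Golay.Transvec
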