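import Cfsg.Agent.Lib.Golay.OutSmall

/-! Certified orbits of subgroups given by tables on sets of positions. -/

set_option autoImplicit false

namespace Cfsg.Agent.Golay

open Cfsg
open scoped Pointwise

/-- The image of a mask under a table. -/
def imgM (T : Tab) (m : ℕ) : ℕ := pullMask (tabFn T.2) m

theorem supp_pullMask {σ : Equiv.Perm GolayPt} {f : Fin 24 → Fin 24}
    (h : ∀ i, fn σ⁻¹ i = f i) (m : ℕ) : σ • supp m = supp (pullMask f m) := by
  ext p
  rw [← Finset.inv_smul_mem_iff, mem_supp, mem_supp, pullMask,
    Nat.testBit_ofBits_lt _ _ (idx p).isLt, Fin.eta, ← h]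
  simp [fn, pt_idx]

theorem supp_imgM {T : Tab} (h : TabInv T) (m : ℕ) : tperm T • supp m = supp (imgM T m) :=
  supp_pullMask (fn_tperm_inv h) m

theorem imgM_lt (T : Tab) (m : ℕ) : imgM T m < 2 ^ 24 := Nat.ofBits_lt_two_pow _

/-- Validity of a depth-first description of an orbit: each entry drops part of the stack and
applies a table to the new top. -/
def walk {α : Type*} [DecidableEq α] (img : Tab → α → α) (gens : List Tab) (root : α) :
    List α → List (ℕ × ℕ × α) → Bool
  | _, [] => true
  | stk, (d, k, y) :: ops =>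
      decide (k < gens.length) && decide (img (gens.getD k ([], [])) ((stk.drop d).headD root) = y) &&
        walk img gens root (y :: stk.drop d) ops

/-- The points reached by a description. -/
def reached {α : Type*} (root : α) (ops : List (ℕ × ℕ × α)) : List α := root :: ops.map fun e => e.2.2

theorem walk_sound {α X : Type*} [DecidableEq α] [MulAction (Equiv.Perm GolayPt) X]
    {img : Tab → α → α} {gens : List Tab} {root : α} (interp : α → X)
    {K : Subgroup (Equiv.Perm GolayPt)}
    (hg : ∀ T ∈ gens, ∃ σ ∈ K, ∀ x, σ • interp x = interp (img T x)) :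
    ∀ (ops : List (ℕ × ℕ × α)) (stk : List α),
      (∀ x ∈ stk, ∃ σ ∈ K, σ • interp root = interp x) → walk img gens root stk ops = true →
        ∀ y ∈ ops.map (fun e => e.2.2), ∃ σ ∈ K, σ • interp root = interp y := by
  intro ops
  induction ops with
  | nil => intro _ _ _ y hy; simp at hy
  | cons e ops ih =>
    obtain ⟨d, k, z⟩ := e
    intro stk hstk h
    simp only [walk, Bool.and_eq_true, decide_eq_true_eq] at h
    obtain ⟨⟨hk, hz⟩, hrest⟩ := h
    have hdrop : ∀ x ∈ stk.drop d, ∃ σ ∈ K, σ • interp root = interp x :=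
      fun x hx => hstk x (List.mem_of_mem_drop hx)
    have htop : ∃ σ ∈ K, σ • interp root = interp ((stk.drop d).headD root) := by
      cases hl : stk.drop d with
      | nil => exact ⟨1, one_mem _, by simp⟩
      | cons a l => exact hdrop a (by rw [hl]; exact List.mem_cons_self)
    have hzK : ∃ σ ∈ K, σ • interp root = interp z := by
      obtain ⟨σ, hσ, e⟩ := htop
      obtain ⟨τ, hτ, e'⟩ := hg (gens.getD k ([], []))
        (by rw [List.getD_eq_getElem _ _ hk]; exact List.getElem_mem _)
      exact ⟨τ * σ, mul_mem hτ hσ, by rw [mul_smul, e, e', hz]⟩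
    intro y hy
    rw [List.map_cons, List.mem_cons] at hy
    rcases hy with rfl | hy
    · exact hzK
    · exact ih (z :: stk.drop d)
        (fun x hx => (List.mem_cons.mp hx).elim (fun e => e ▸ hzK) (hdrop x)) hrest y hy

theorem reached_sound {α X : Type*} [DecidableEq α] [MulAction (Equiv.Perm GolayPt) X]
    {img : Tab → α → α} {gens : List Tab} {root : α} (interp : α → X)
    {K : Subgroup (Equiv.Perm GolayPt)}
    (hg : ∀ T ∈ gens, ∃ σ ∈ K, ∀ x, σ • interp x = interp (img T x))
    {ops : List (ℕ × ℕ × α)} (h : walk img gens root [root] ops = true) :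
    ∀ y ∈ reached root ops, ∃ σ ∈ K, σ • interp root = interp y := by
  intro y hy
  rcases List.mem_cons.mp hy with rfl | hy
  · exact ⟨1, one_mem _, one_smul _ _⟩
  · exact walk_sound interp hg ops [root]
      (fun x hx => ⟨1, one_mem _, by rw [List.mem_singleton.mp hx, one_smul]⟩) h y hy

/-- Distinctness, decided bit by bit. -/
def distinctB : ℕ → List ℕ → Bool
  | 0, l => decide (l.length ≤ 1)
  | k + 1, l => decide (l.length ≤ 1) ||
      (distinctB k (l.filter fun x => x.testBit k) && distinctB k (l.filter fun x => !x.testBit k))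

theorem nodup_of_length_le_one {α : Type*} {l : List α} (h : l.length ≤ 1) : l.Nodup := by
  match l with
  | [] => exact List.nodup_nil
  | [a] => exact List.nodup_singleton a
  | _ :: _ :: _ => simp at h

theorem distinctB_sound : ∀ (k : ℕ) (l : List ℕ), distinctB k l = true → l.Nodup := by
  intro k
  induction k with
  | zero => exact fun l h => nodup_of_length_le_one (of_decide_eq_true h)
  | succ k ih =>
    intro l h
    simp only [distinctB, Bool.or_eq_true, decide_eq_true_eq, Bool.and_eq_true] at h
    rcases h with h | ⟨h1, h2⟩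
    · exact nodup_of_length_le_one h
    · rw [List.nodup_iff_count_le_one]
      intro a
      by_cases ha : a.testBit k = true
      · rw [← List.count_filter (p := fun x : ℕ => x.testBit k) ha]
        exact List.nodup_iff_count_le_one.mp (ih _ h1) a
      · rw [← List.count_filter (p := fun x : ℕ => !x.testBit k) (by simpa using ha)]
        exact List.nodup_iff_count_le_one.mp (ih _ h2) a

/-- The elements of `M24` fixing given position sets. -/
def fixGrp (fix : List ℕ) : Subgroup (Equiv.Perm GolayPt) where
  carrier := {σ | σ ∈ M24 ∧ ∀ f ∈ fix, σ • supp f = supp f}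
  one_mem' := ⟨one_mem _, fun f _ => one_smul _ _⟩
  mul_mem' := fun {a b} ha hb => ⟨mul_mem ha.1 hb.1, fun f hf => by rw [mul_smul, hb.2 f hf, ha.2 f hf]⟩
  inv_mem' := fun {a} ha => ⟨inv_mem ha.1, fun f hf => by rw [inv_smul_eq_iff]; exact (ha.2 f hf).symm⟩

/-- The tables are mutually inverse, lie in `M24`, and fix the given sets. -/
def gensFix (fix : List ℕ) (gens : List Tab) : Prop :=
  ∀ T ∈ gens, (TabInv T ∧ ∀ x ∈ basis, inC (pullMask (tabFn T.1) x.2) = true) ∧
    ∀ f ∈ fix, imgM T f = f

instance (fix : List ℕ) (gens : List Tab) : Decidable (gensFix fix gens) := by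
  unfold gensFix; infer_instance

theorem gens_mem {fix : List ℕ} {gens : List Tab} (h : gensFix fix gens) :
    ∀ T ∈ gens, tperm T ∈ fixGrp fix := fun T hT => by
  obtain ⟨⟨hi, hb⟩, hf⟩ := h T hT
  refine ⟨mem_M24_of_basis (by rw [show fn (tperm T) = tabFn T.1 from funext (fn_tperm hi)]; exact hb),
    fun f hf' => ?_⟩
  rw [supp_imgM hi, hf f hf']

/-- An orbit certificate on position sets. -/
structure Orb where
  root : ℕ
  ops : List (ℕ × ℕ × ℕ)

namespace Orb

/-- The members of the certificate. -/
def members (o : Orb) : List ℕ := reached o.root o.ops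

/-- The certificate is valid for the predicate `P` and has `n` members. -/
def valid (o : Orb) (gens : List Tab) (P : ℕ → Bool) (n : ℕ) : Bool :=
  walk imgM gens o.root [o.root] o.ops && decide (o.root < 2 ^ 24) && o.members.all P &&
    distinctB 24 o.members && decide (o.members.length = n)

theorem member_lt (o : Orb) {gens : List Tab} (h : walk imgM gens o.root [o.root] o.ops = true)
    (h0 : o.root < 2 ^ 24) : ∀ y ∈ o.members, y < 2 ^ 24 := by
  have key : ∀ (ops : List (ℕ × ℕ × ℕ)) (stk : List ℕ), walk imgM gens o.root stk ops = true →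
      ∀ y ∈ ops.map (fun e => e.2.2), y < 2 ^ 24 := by
    intro ops
    induction ops with
    | nil => intro _ _ y hy; simp at hy
    | cons e ops ih =>
      obtain ⟨d, k, z⟩ := e
      intro stk hw y hy
      simp only [walk, Bool.and_eq_true, decide_eq_true_eq] at hw
      rw [List.map_cons, List.mem_cons] at hy
      rcases hy with rfl | hy
      · exact hw.1.2 ▸ imgM_lt _ _
      · exact ih _ hw.2 y hy
  intro y hy
  rcases List.mem_cons.mp hy with rfl | hy
  · exact h0
  · exact key _ _ h y hy

/-- If `n` is the number of sets satisfying the condition, the certified orbit is all of them. -/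
theorem trans {o : Orb} {fix : List ℕ} {gens : List Tab} {P : ℕ → Bool} {n : ℕ}
    (hg : gensFix fix gens) (hv : o.valid gens P n = true) {S : Set (Finset GolayPt)}
    (hP : ∀ m, m < 2 ^ 24 → P m = true → supp m ∈ S) (hn : S.ncard = n)
    {a b : Finset GolayPt} (ha : a ∈ S) (hb : b ∈ S) : ∃ σ ∈ fixGrp fix, σ • a = b := by
  simp only [valid, Bool.and_eq_true, decide_eq_true_eq, List.all_eq_true] at hv
  obtain ⟨⟨⟨⟨hw, h0⟩, hall⟩, hd⟩, hlen⟩ := hv
  have hlt := member_lt o hw h0
  have hnd : (o.members.map supp).Nodup :=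
    List.Nodup.map_on (fun x hx y hy e => by rw [← maskF_supp (hlt x hx), e, maskF_supp (hlt y hy)])
      (distinctB_sound _ _ hd)
  have heq : (↑(o.members.map supp).toFinset : Set (Finset GolayPt)) = S := by
    refine Set.eq_of_subset_of_ncard_le ?_ ?_ (Set.toFinite _)
    · intro s hs
      simp only [List.coe_toFinset, List.mem_map, Set.mem_ofPred_eq] at hs
      obtain ⟨m, hm, rfl⟩ := hs
      exact hP m (hlt m hm) (hall m hm)
    · rw [Set.ncard_coe_finset, List.toFinset_card_of_nodup hnd, List.length_map, hlen, hn]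
  have key : ∀ s ∈ S, ∃ σ ∈ fixGrp fix, σ • supp o.root = s := by
    intro s hs
    rw [← heq] at hs
    simp only [List.coe_toFinset, List.mem_map, Set.mem_ofPred_eq] at hs
    obtain ⟨m, hm, rfl⟩ := hs
    exact reached_sound supp (fun T hT => ⟨tperm T, gens_mem hg T hT, supp_imgM (hg T hT).1.1⟩) hw m hm
  obtain ⟨σ, hσ, rfl⟩ := key a ha
  obtain ⟨τ, hτ, rfl⟩ := key b hb
  exact ⟨τ * σ⁻¹, mul_mem hτ (inv_mem hσ), by rw [mul_smul, inv_smul_smul]⟩

end Orb

/-! ### Counting -/

theorem ncard_filter_masks {L : List ℕ} (hlt : ∀ m ∈ L, m < 2 ^ 24) {P : ℕ → Bool} {n : ℕ}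
    (h : (distinctB 24 (L.filter P) && decide ((L.filter P).length = n)) = true)
    {S : Set (Finset GolayPt)} (hS : ∀ s, s ∈ S ↔ maskF s ∈ L ∧ P (maskF s) = true) :
    S.ncard = n := by
  simp only [Bool.and_eq_true, decide_eq_true_eq] at h
  have e : S = ↑((L.filter P).map supp).toFinset := by
    ext s
    simp only [hS, List.coe_toFinset, List.mem_map, List.mem_filter, Set.mem_ofPred_eq]
    exact ⟨fun hs => ⟨_, hs, supp_maskF s⟩, fun ⟨m, hm, e⟩ => by rw [← e, maskF_supp (hlt m hm.1)]; exact hm⟩
  rw [e, Set.ncard_coe_finset, List.toFinset_card_of_nodup, List.length_map, h.2]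
  exact List.Nodup.map_on (fun x hx y hy e => by
    rw [← maskF_supp (hlt x (List.mem_filter.mp hx).1), e, maskF_supp (hlt y (List.mem_filter.mp hy).1)])
    (distinctB_sound _ _ h.1)

/-- All masks of weight `k` in the first `n` positions. -/
def genK : ℕ → ℕ → List ℕ
  | _, 0 => [0]
  | 0, _ + 1 => []
  | n + 1, k + 1 => genK n (k + 1) ++ (genK n k).map (2 ^ n ||| ·)

theorem genK_complete : ∀ (n k m : ℕ), m < 2 ^ n →
    (List.range n).countP (fun i => m.testBit i) = k → m ∈ genK n k := by
  intro n
  induction n with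
  | zero =>
    intro k m hm hk
    simp only [List.range_zero, List.countP_nil] at hk
    subst hk
    simp only [pow_zero, Nat.lt_one_iff] at hm
    simp [genK, hm]
  | succ n ih =>
    intro k m hm hk
    rw [List.range_succ, List.countP_append] at hk
    simp only [List.countP_cons, List.countP_nil, zero_add] at hk
    match k with
    | 0 =>
      have : m = 0 := Nat.eq_of_testBit_eq fun i => by
        rw [Nat.zero_testBit]
        by_cases hi : i < n + 1
        · by_contra hc
          simp only [Bool.not_eq_false] at hc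
          rcases Nat.lt_succ_iff_lt_or_eq.mp hi with hi | rfl
          · have : 0 < (List.range n).countP (fun i => m.testBit i) :=
              List.countP_pos_iff.mpr ⟨i, List.mem_range.mpr hi, hc⟩
            omega
          · simp [hc] at hk
        · exact Nat.testBit_lt_two_pow (lt_of_lt_of_le hm (Nat.pow_le_pow_right (by norm_num) (not_lt.mp hi)))
      simp [genK, this]
    | k + 1 =>
      rw [genK, List.mem_append, List.mem_map]
      by_cases hn : m.testBit n = true
      · right
        refine ⟨m % 2 ^ n, ih k _ (Nat.mod_lt _ (Nat.two_pow_pos n)) ?_, ?_⟩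
        · simp only [hn, if_true] at hk
          rw [show k = (List.range n).countP (fun i => m.testBit i) by omega]
          refine List.countP_congr fun i hi => ?_
          simp [Nat.testBit_mod_two_pow, List.mem_range.mp hi]
        · refine Nat.eq_of_testBit_eq fun i => ?_
          rw [Nat.testBit_or, Nat.testBit_two_pow, Nat.testBit_mod_two_pow]
          rcases lt_trichotomy i n with h | h | h
          · simp [h, h.ne']
          · subst h; simp [hn]
          · simp [not_lt.mpr h.le, h.ne]
            rw [Nat.testBit_lt_two_pow (lt_of_lt_of_le hm (Nat.pow_le_pow_right (by norm_num) h))]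
      · left
        refine ih (k + 1) m ?_ (by simpa [hn] using hk)
        refine Nat.lt_pow_two_of_testBit _ fun i hi => ?_
        rcases eq_or_lt_of_le hi with rfl | h
        · simpa using hn
        · exact Nat.testBit_lt_two_pow (lt_of_lt_of_le hm (Nat.pow_le_pow_right (by norm_num) h))

theorem maskF_mem_genK {s : Finset GolayPt} {k : ℕ} (hs : s.card = k) : maskF s ∈ genK 24 k :=
  genK_complete 24 k _ (maskF_lt s) (by rw [← hs, card_eq_popc]; rfl)

theorem popc_inter (a b : Finset GolayPt) : (a ∩ b).card = popc (maskF a &&& maskF b) := by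
  rw [popc_eq]
  congr 1
  ext p
  simp [mem_supp, testBit_maskF, Nat.testBit_and]

theorem subset_iff_mask (a b : Finset GolayPt) : a ⊆ b ↔ maskF a &&& maskF b = maskF a := by
  constructor
  · intro h
    apply Nat.eq_of_testBit_eq
    intro i
    rw [Nat.testBit_and]
    by_cases hi : i < 24
    · have := testBit_maskF a (pt ⟨i, hi⟩)
      have hb := testBit_maskF b (pt ⟨i, hi⟩)
      rw [idx_pt] at this hb
      simp only at this hb
      rw [this, hb]
      by_cases hp : pt ⟨i, hi⟩ ∈ a <;> simp [hp]
      exact h hp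
    · rw [Nat.testBit_lt_two_pow (lt_of_lt_of_le (maskF_lt a) (Nat.pow_le_pow_right (by norm_num) (not_lt.mp hi)))]
      rfl
  · intro h p hp
    have := congrArg (fun m => m.testBit (idx p).val) h
    simpa [testBit_maskF, Nat.testBit_and, hp] using this

theorem maskF_union (a b : Finset GolayPt) : maskF (a ∪ b) = maskF a ||| maskF b := by
  apply Nat.eq_of_testBit_eq
  intro i
  rw [Nat.testBit_or]
  by_cases hi : i < 24
  · have hc := testBit_maskF (a ∪ b) (pt ⟨i, hi⟩)
    have ha := testBit_maskF a (pt ⟨i, hi⟩)
    have hb := testBit_maskF b (pt ⟨i, hi⟩)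
    rw [idx_pt] at hc ha hb
    simp only at hc ha hb
    rw [hc, ha, hb]
    simp
  · have hlt : ∀ s : Finset GolayPt, (maskF s).testBit i = false := fun s =>
      Nat.testBit_lt_two_pow (lt_of_lt_of_le (maskF_lt s) (Nat.pow_le_pow_right (by norm_num) (not_lt.mp hi)))
    rw [hlt, hlt, hlt]; rfl

theorem maskF_empty : maskF ∅ = 0 := by decide +kernel

theorem disjoint_iff_mask (a b : Finset GolayPt) : Disjoint a b ↔ maskF a &&& maskF b = 0 := by
  rw [Finset.disjoint_iff_inter_eq_empty]
  constructor
  · intro h
    have := popc_inter a b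
    apply Nat.eq_of_testBit_eq
    intro i
    rw [Nat.testBit_and, Nat.zero_testBit]
    by_cases hi : i < 24
    · have ha := testBit_maskF a (pt ⟨i, hi⟩)
      have hb := testBit_maskF b (pt ⟨i, hi⟩)
      rw [idx_pt] at ha hb
      simp only at ha hb
      rw [ha, hb]
      by_cases hp : pt ⟨i, hi⟩ ∈ a <;> simp [hp]
      exact fun hq => Finset.notMem_empty _ (h ▸ Finset.mem_inter.mpr ⟨hp, hq⟩)
    · rw [Nat.testBit_lt_two_pow (lt_of_lt_of_le (maskF_lt a) (Nat.pow_le_pow_right (by norm_num) (not_lt.mp hi)))]
      rfl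
  · intro h
    ext p
    have := congrArg (fun m => m.testBit (idx p).val) h
    simpa [testBit_maskF, Nat.testBit_and] using this

/-! ### Transport -/

theorem ncard_transport (σ : Equiv.Perm GolayPt) (P : Finset GolayPt → Prop) :
    {s : Finset GolayPt | P s}.ncard = {s : Finset GolayPt | P (σ • s)}.ncard := by
  rw [← Set.ncard_image_of_injective {s : Finset GolayPt | P (σ • s)} (MulAction.injective σ)]
  congr 1
  ext s
  exact ⟨fun h => ⟨σ⁻¹ • s, by simpa using h, smul_inv_smul σ s⟩, fun ⟨x, hx, e⟩ => e ▸ hx⟩

theorem smul_weight_iff {σ : Equiv.Perm GolayPt} (hσ : σ ∈ M24) (n : ℕ) (s : Finset GolayPt) :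
    σ • s ∈ wordsOfWeight (golayCode : Set (GolayPt → ZMod 2)) n ↔
      s ∈ wordsOfWeight (golayCode : Set (GolayPt → ZMod 2)) n :=
  ⟨fun h => by simpa using smul_mem_weight (inv_mem hσ) h, smul_mem_weight hσ⟩

theorem card_smul_inter (σ : Equiv.Perm GolayPt) (a b : Finset GolayPt) :
    (σ • a ∩ σ • b).card = (a ∩ b).card := by
  rw [← Finset.smul_finset_inter, Finset.card_smul_finset]

theorem conj_fix {σ τ : Equiv.Perm GolayPt} {X : Type*} [MulAction (Equiv.Perm GolayPt) X] {a b : X}
    (h : τ • a = b) : (σ * τ * σ⁻¹) • σ • a = σ • b := by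
  rw [mul_smul, mul_smul, inv_smul_smul, h]

end Cfsg.Agent.Golay
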