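import Cfsg.Agent.Lib.Golay.MathieuSmall
import Cfsg.Agent.Lib.Golay.MathieuFaithful
import Cfsg.Agent.Lib.Golay.Orbit
import Cfsg.Agent.Lib.Classical.SL2

/-!
The stabiliser of a weight-12 word, a point of it and a point outside it, compared with the
projective special linear group of the plane over the field with eleven elements.
-/

set_option autoImplicit false
set_option maxRecDepth 100000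

namespace Cfsg.Agent.Golay.Linear11

open Cfsg Cfsg.Agent.Golay Cfsg.Agent.Golay.Small Cfsg.Agent.Golay.Faithful
open scoped Pointwise LinearAlgebra.Projectivization MatrixGroups

instance : Fact (Nat.Prime 11) := ⟨by norm_num⟩

/-- The image of the translation. -/
def tabS : Tab := ([15, 14, 1, 7, 4, 19, 9, 12, 0, 8, 21, 16, 6, 17, 3, 2, 22, 10, 11, 18, 13, 5, 20, 23], [8, 2, 15, 14, 4, 21, 12, 3, 9, 6, 17, 18, 7, 20, 1, 0, 11, 13, 19, 5, 22, 10, 16, 23])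

/-- The image of the inversion. -/
def tabJ : Tab := ([6, 12, 15, 14, 4, 13, 0, 7, 8, 9, 21, 20, 1, 5, 3, 2, 16, 17, 19, 18, 11, 10, 22, 23], [6, 12, 15, 14, 4, 13, 0, 7, 8, 9, 21, 20, 1, 5, 3, 2, 16, 17, 19, 18, 11, 10, 22, 23])

/-- A block of pairs. -/
def pairs0 : List (List (Fin 24) × List (Fin 12) × ℕ × ℕ × ℕ × ℕ) := [
  ([0, 1, 2, 3, 4, 5, 6, 7, 8, 9, 10, 11, 12, 13, 14, 15, 16, 17, 18, 19, 20, 21, 22, 23], [0, 1, 2, 3, 4, 5, 6, 7, 8, 9, 10, 11], 0, 0, 1, 2),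
  ([15, 14, 1, 7, 4, 19, 9, 12, 0, 8, 21, 16, 6, 17, 3, 2, 22, 10, 11, 18, 13, 5, 20, 23], [1, 2, 3, 4, 5, 6, 7, 8, 9, 10, 0, 11], 0, 0, 3, 4),
  ([6, 12, 15, 14, 4, 13, 0, 7, 8, 9, 21, 20, 1, 5, 3, 2, 16, 17, 19, 18, 11, 10, 22, 23], [11, 10, 5, 7, 8, 2, 9, 3, 4, 6, 1, 0], 0, 1, 5, 0),
  ([2, 3, 14, 12, 4, 18, 8, 6, 15, 0, 5, 22, 9, 10, 7, 1, 20, 21, 16, 11, 17, 19, 13, 23], [2, 3, 4, 5, 6, 7, 8, 9, 10, 0, 1, 11], 1, 0, 6, 7),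
  ([2, 3, 12, 7, 4, 18, 9, 1, 6, 8, 10, 16, 0, 17, 14, 15, 22, 21, 20, 19, 5, 13, 11, 23], [10, 5, 7, 8, 2, 9, 3, 4, 6, 1, 11, 0], 1, 1, 8, 1),
  ([9, 6, 2, 3, 4, 17, 15, 12, 0, 8, 5, 13, 14, 19, 7, 1, 22, 10, 18, 11, 16, 21, 20, 23], [11, 0, 6, 8, 9, 3, 10, 4, 5, 7, 2, 1], 2, 0, 9, 10),
  ([1, 7, 3, 6, 4, 11, 0, 9, 2, 15, 19, 20, 8, 21, 12, 14, 13, 5, 22, 16, 10, 18, 17, 23], [3, 4, 5, 6, 7, 8, 9, 10, 0, 1, 2, 11], 3, 0, 11, 12),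
  ([15, 14, 3, 1, 4, 19, 8, 0, 2, 6, 13, 22, 9, 21, 7, 12, 11, 10, 16, 20, 17, 18, 5, 23], [5, 7, 8, 2, 9, 3, 4, 6, 1, 11, 10, 0], 3, 1, 13, 3),
  ([1, 7, 6, 12, 4, 11, 8, 14, 9, 0, 21, 22, 15, 10, 3, 2, 20, 5, 13, 18, 19, 17, 16, 23], [0, 6, 8, 9, 3, 10, 4, 5, 7, 2, 11, 1], 4, 0, 14, 15),
  ([8, 9, 1, 7, 4, 10, 2, 6, 15, 0, 19, 17, 3, 18, 12, 14, 20, 21, 11, 16, 22, 5, 13, 23], [11, 1, 7, 9, 10, 4, 0, 5, 6, 8, 3, 2], 5, 0, 16, 17),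
  ([9, 0, 15, 14, 4, 17, 2, 1, 6, 8, 13, 5, 3, 18, 7, 12, 22, 21, 19, 20, 16, 10, 11, 23], [0, 11, 9, 4, 6, 7, 1, 8, 2, 3, 5, 10], 5, 1, 18, 5),
  ([14, 12, 7, 9, 4, 16, 15, 8, 1, 2, 18, 13, 0, 5, 6, 3, 17, 19, 20, 22, 21, 11, 10, 23], [4, 5, 6, 7, 8, 9, 10, 0, 1, 2, 3, 11], 6, 0, 19, 20),
  ([12, 7, 14, 0, 4, 20, 6, 9, 15, 2, 18, 11, 8, 10, 1, 3, 5, 13, 22, 16, 21, 19, 17, 23], [7, 8, 2, 9, 3, 4, 6, 1, 11, 10, 5, 0], 6, 1, 21, 6),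
  ([2, 3, 7, 14, 4, 18, 0, 15, 1, 9, 17, 20, 8, 5, 12, 6, 16, 21, 22, 13, 10, 11, 19, 23], [6, 8, 9, 3, 10, 4, 5, 7, 2, 11, 0, 1], 7, 0, 22, 23),
  ([14, 12, 9, 6, 4, 16, 0, 3, 8, 15, 5, 20, 2, 21, 7, 1, 13, 19, 17, 11, 18, 10, 22, 23], [1, 7, 9, 10, 4, 0, 5, 6, 8, 3, 11, 2], 8, 0, 24, 25),
  ([12, 7, 0, 1, 4, 20, 8, 3, 9, 6, 10, 22, 2, 21, 14, 15, 11, 13, 5, 19, 18, 17, 16, 23], [11, 9, 4, 6, 7, 1, 8, 2, 3, 5, 0, 10], 8, 1, 2, 8),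
  ([0, 8, 14, 12, 4, 21, 1, 9, 2, 15, 18, 10, 7, 11, 6, 3, 13, 5, 16, 22, 20, 19, 17, 23], [11, 2, 8, 10, 0, 5, 1, 6, 7, 9, 4, 3], 9, 0, 26, 27),
  ([8, 9, 12, 7, 4, 21, 15, 0, 2, 6, 18, 17, 14, 19, 1, 3, 11, 10, 20, 16, 22, 13, 5, 23], [0, 10, 3, 6, 1, 8, 11, 2, 9, 4, 7, 5], 9, 1, 28, 9),
  ([8, 15, 2, 3, 4, 10, 1, 14, 9, 0, 17, 19, 7, 11, 12, 6, 20, 5, 18, 13, 22, 21, 16, 23], [1, 11, 10, 5, 7, 8, 2, 9, 3, 4, 6, 0], 10, 0, 29, 30),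
  ([3, 6, 12, 8, 4, 22, 2, 0, 14, 1, 11, 17, 15, 19, 9, 7, 10, 18, 13, 20, 5, 16, 21, 23], [5, 6, 7, 8, 9, 10, 0, 1, 2, 3, 4, 11], 11, 0, 31, 32),
  ([3, 1, 7, 9, 4, 16, 2, 8, 12, 15, 19, 5, 6, 13, 0, 14, 17, 18, 11, 22, 10, 20, 21, 23], [8, 2, 9, 3, 4, 6, 1, 11, 10, 5, 7, 0], 11, 1, 33, 11),
  ([6, 12, 3, 15, 4, 13, 9, 8, 2, 1, 11, 16, 0, 21, 14, 7, 19, 17, 20, 22, 5, 18, 10, 23], [8, 9, 3, 10, 4, 5, 7, 2, 11, 0, 6, 1], 12, 0, 34, 35),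
  ([1, 7, 12, 3, 4, 11, 15, 2, 14, 8, 10, 13, 0, 19, 6, 9, 22, 5, 20, 17, 21, 16, 18, 23], [7, 9, 10, 4, 0, 5, 6, 8, 3, 11, 1, 2], 13, 0, 36, 37),
  ([15, 14, 7, 3, 4, 19, 6, 2, 12, 9, 17, 11, 8, 13, 1, 0, 16, 10, 22, 5, 21, 20, 18, 23], [9, 4, 6, 7, 1, 8, 2, 3, 5, 0, 11, 10], 13, 1, 4, 13),
  ([3, 6, 8, 9, 4, 22, 15, 7, 0, 2, 19, 13, 1, 5, 12, 14, 17, 18, 10, 16, 11, 21, 20, 23], [2, 8, 10, 0, 5, 1, 6, 7, 9, 4, 11, 3], 14, 0, 38, 39),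
  ([3, 1, 9, 0, 4, 16, 6, 14, 8, 2, 13, 11, 15, 10, 7, 12, 5, 18, 17, 20, 19, 21, 22, 23], [10, 3, 6, 1, 8, 11, 2, 9, 4, 7, 0, 5], 14, 1, 40, 14),
  ([15, 0, 3, 6, 4, 5, 14, 8, 1, 2, 11, 21, 12, 16, 9, 7, 17, 19, 22, 20, 13, 18, 10, 23], [11, 3, 9, 0, 1, 6, 2, 7, 8, 10, 5, 4], 16, 0, 41, 42),
  ([6, 8, 3, 1, 4, 10, 12, 9, 15, 2, 19, 21, 7, 20, 0, 14, 5, 13, 16, 22, 11, 18, 17, 23], [0, 5, 4, 1, 11, 2, 10, 9, 3, 6, 8, 7], 16, 1, 43, 16),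
  ([0, 8, 6, 12, 4, 5, 2, 15, 1, 9, 11, 10, 3, 18, 14, 7, 16, 21, 13, 22, 20, 17, 19, 23], [1, 0, 4, 7, 2, 9, 11, 3, 10, 5, 8, 6], 17, 0, 44, 45),
  ([0, 2, 1, 7, 4, 21, 14, 3, 8, 15, 10, 18, 12, 16, 6, 9, 13, 19, 11, 17, 20, 5, 22, 23], [2, 11, 0, 6, 8, 9, 3, 10, 4, 5, 7, 1], 18, 0, 46, 47),
  ([8, 2, 15, 14, 4, 21, 12, 3, 9, 6, 17, 18, 7, 20, 1, 0, 11, 13, 19, 5, 22, 10, 16, 23], [10, 0, 1, 2, 3, 4, 5, 6, 7, 8, 9, 11], 18, 1, 0, 18),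
  ([7, 9, 6, 0, 4, 20, 1, 15, 3, 14, 16, 10, 2, 18, 8, 12, 21, 11, 17, 13, 19, 22, 5, 23], [6, 7, 8, 9, 10, 0, 1, 2, 3, 4, 5, 11], 19, 0, 48, 49),
  ([14, 0, 1, 8, 4, 22, 15, 6, 3, 12, 20, 17, 2, 18, 9, 7, 21, 19, 5, 11, 13, 16, 10, 23], [2, 9, 3, 4, 6, 1, 11, 10, 5, 7, 8, 0], 19, 1, 50, 19),
  ([7, 14, 12, 8, 4, 22, 1, 0, 6, 2, 18, 19, 9, 17, 15, 3, 10, 11, 16, 20, 21, 13, 5, 23], [9, 3, 10, 4, 5, 7, 2, 11, 0, 6, 8, 1], 20, 0, 51, 52),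
  ([9, 6, 7, 2, 4, 17, 8, 0, 1, 14, 16, 22, 15, 5, 3, 12, 18, 10, 13, 20, 19, 11, 21, 23], [9, 10, 4, 0, 5, 6, 8, 3, 11, 1, 7, 2], 21, 0, 53, 54),
  ([0, 1, 14, 2, 4, 5, 9, 8, 15, 12, 20, 16, 6, 10, 3, 7, 18, 17, 11, 22, 13, 19, 21, 23], [4, 6, 7, 1, 8, 2, 3, 5, 0, 11, 9, 10], 21, 1, 7, 21),
  ([14, 12, 6, 7, 4, 16, 2, 1, 3, 0, 21, 17, 15, 18, 9, 8, 20, 19, 13, 10, 5, 22, 11, 23], [8, 10, 0, 5, 1, 6, 7, 9, 4, 11, 2, 3], 22, 0, 55, 56),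
  ([12, 7, 1, 14, 4, 20, 2, 15, 3, 8, 21, 5, 6, 18, 0, 9, 22, 13, 11, 17, 10, 16, 19, 23], [3, 6, 1, 8, 11, 2, 9, 4, 7, 0, 10, 5], 22, 1, 57, 22),
  ([7, 9, 0, 8, 4, 20, 2, 12, 15, 1, 18, 17, 14, 19, 6, 3, 10, 11, 21, 22, 16, 5, 13, 23], [3, 9, 0, 1, 6, 2, 7, 8, 10, 5, 11, 4], 24, 0, 58, 59),
  ([14, 0, 8, 9, 4, 22, 2, 7, 6, 15, 18, 5, 12, 13, 1, 3, 17, 19, 21, 16, 20, 10, 11, 23], [5, 4, 1, 11, 2, 10, 9, 3, 6, 8, 0, 7], 24, 1, 60, 24),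
  ([7, 14, 8, 15, 4, 22, 9, 3, 0, 1, 17, 16, 2, 21, 12, 6, 19, 11, 10, 13, 18, 5, 20, 23], [0, 4, 7, 2, 9, 11, 3, 10, 5, 8, 1, 6], 25, 0, 61, 62),
  ([2, 15, 7, 9, 4, 19, 3, 0, 14, 1, 16, 5, 6, 22, 8, 12, 10, 18, 20, 13, 17, 11, 21, 23], [11, 4, 10, 1, 2, 7, 3, 8, 9, 0, 6, 5], 26, 0, 63, 64),
  ([2, 6, 14, 0, 4, 13, 3, 8, 12, 15, 20, 10, 1, 16, 9, 7, 17, 18, 22, 11, 5, 19, 21, 23], [0, 7, 6, 11, 10, 9, 5, 3, 4, 1, 2, 8], 26, 1, 65, 26),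
  ([9, 0, 7, 14, 4, 21, 6, 8, 2, 1, 18, 5, 12, 13, 15, 3, 19, 17, 22, 20, 16, 11, 10, 23], [1, 6, 5, 2, 11, 3, 0, 10, 4, 7, 9, 8], 27, 0, 66, 67),
  ([15, 0, 9, 6, 4, 19, 1, 2, 14, 8, 16, 21, 7, 11, 3, 12, 22, 5, 17, 20, 13, 10, 18, 23], [2, 1, 5, 8, 3, 10, 11, 4, 0, 6, 9, 7], 28, 0, 68, 69),
  ([6, 8, 0, 1, 4, 13, 15, 2, 12, 9, 20, 21, 14, 19, 3, 7, 16, 10, 5, 22, 11, 17, 18, 23], [10, 11, 8, 3, 5, 6, 0, 7, 1, 2, 4, 9], 28, 1, 10, 28),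
  ([15, 1, 14, 12, 4, 5, 3, 7, 0, 2, 21, 11, 6, 22, 9, 8, 17, 18, 16, 10, 13, 19, 20, 23], [3, 11, 1, 7, 9, 10, 4, 0, 5, 6, 8, 2], 29, 0, 70, 71),
  ([6, 15, 12, 7, 4, 10, 3, 14, 8, 2, 21, 19, 1, 16, 0, 9, 5, 18, 20, 17, 11, 13, 22, 23], [5, 0, 11, 9, 4, 6, 7, 1, 8, 2, 3, 10], 29, 1, 72, 29),
  ([12, 8, 9, 15, 4, 13, 14, 2, 7, 3, 22, 21, 1, 11, 0, 6, 5, 16, 10, 17, 18, 20, 19, 23], [7, 8, 9, 10, 0, 1, 2, 3, 4, 5, 6, 11], 31, 0, 73, 74),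
  ([7, 9, 0, 6, 4, 11, 12, 2, 14, 3, 16, 21, 15, 19, 8, 1, 10, 20, 17, 5, 18, 22, 13, 23], [9, 3, 4, 6, 1, 11, 10, 5, 7, 8, 2, 0], 31, 1, 75, 31),
  ([3, 15, 14, 0, 4, 20, 2, 9, 7, 6, 13, 10, 1, 11, 8, 12, 5, 18, 19, 16, 17, 22, 21, 23], [3, 10, 4, 5, 7, 2, 11, 0, 6, 8, 9, 1], 32, 0, 76, 77),
  ([12, 3, 6, 0, 4, 20, 14, 15, 9, 1, 11, 18, 8, 10, 2, 7, 21, 16, 22, 13, 5, 17, 19, 23], [10, 4, 0, 5, 6, 8, 3, 11, 1, 7, 9, 2], 33, 0, 78, 79),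
  ([7, 3, 1, 8, 4, 22, 12, 6, 0, 15, 19, 18, 9, 17, 2, 14, 21, 20, 16, 11, 10, 5, 13, 23], [6, 7, 1, 8, 2, 3, 5, 0, 11, 9, 4, 10], 33, 1, 12, 33),
  ([8, 9, 12, 1, 4, 10, 0, 15, 14, 3, 22, 20, 2, 19, 7, 6, 11, 21, 17, 13, 18, 16, 5, 23], [10, 0, 5, 1, 6, 7, 9, 4, 11, 2, 8, 3], 34, 0, 80, 81),
  ([9, 0, 7, 15, 4, 17, 8, 6, 12, 3, 16, 22, 2, 13, 14, 1, 19, 21, 5, 11, 18, 20, 10, 23], [6, 1, 8, 11, 2, 9, 4, 7, 0, 10, 3, 5], 34, 1, 82, 34),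
  ([3, 6, 9, 12, 4, 22, 1, 14, 7, 15, 5, 10, 2, 11, 8, 0, 13, 18, 17, 21, 19, 20, 16, 23], [9, 0, 1, 6, 2, 7, 8, 10, 5, 11, 3, 4], 36, 0, 83, 84),
  ([3, 1, 0, 7, 4, 16, 15, 12, 14, 6, 10, 17, 2, 19, 9, 8, 11, 18, 5, 21, 13, 22, 20, 23], [4, 1, 11, 2, 10, 9, 3, 6, 8, 0, 5, 7], 36, 1, 85, 36),
  ([6, 12, 14, 3, 4, 13, 1, 2, 7, 0, 5, 19, 9, 11, 15, 8, 20, 17, 16, 10, 21, 22, 18, 23], [4, 7, 2, 9, 11, 3, 10, 5, 8, 1, 0, 6], 37, 0, 86, 87),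
  ([12, 8, 15, 0, 4, 13, 1, 6, 2, 14, 11, 10, 3, 18, 9, 7, 21, 16, 5, 20, 22, 19, 17, 23], [4, 10, 1, 2, 7, 3, 8, 9, 0, 6, 11, 5], 38, 0, 88, 89),
  ([7, 9, 6, 8, 4, 11, 15, 1, 2, 12, 19, 17, 3, 18, 0, 14, 21, 20, 10, 22, 16, 13, 5, 23], [7, 6, 11, 10, 9, 5, 3, 4, 1, 2, 0, 8], 38, 1, 90, 38)]

/-- A block of pairs. -/
def pairs1 : List (List (Fin 24) × List (Fin 12) × ℕ × ℕ × ℕ × ℕ) := [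
  ([3, 15, 0, 8, 4, 20, 1, 12, 9, 2, 11, 19, 6, 17, 14, 7, 10, 18, 5, 22, 13, 21, 16, 23], [6, 5, 2, 11, 3, 0, 10, 4, 7, 9, 1, 8], 39, 0, 91, 92),
  ([12, 3, 0, 2, 4, 20, 8, 7, 15, 14, 10, 22, 1, 5, 6, 9, 18, 16, 21, 17, 11, 19, 13, 23], [1, 5, 8, 3, 10, 11, 4, 0, 6, 9, 2, 7], 40, 0, 93, 94),
  ([7, 3, 8, 2, 4, 22, 9, 14, 6, 12, 17, 16, 15, 10, 1, 0, 18, 20, 21, 5, 19, 13, 11, 23], [11, 8, 3, 5, 6, 0, 7, 1, 2, 4, 10, 9], 40, 1, 15, 40),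
  ([1, 2, 12, 8, 4, 18, 7, 15, 3, 14, 22, 19, 9, 20, 0, 6, 21, 11, 13, 17, 10, 16, 5, 23], [11, 5, 0, 2, 3, 8, 4, 9, 10, 1, 7, 6], 41, 0, 95, 96),
  ([15, 2, 7, 9, 4, 18, 14, 6, 3, 12, 16, 13, 0, 22, 8, 1, 21, 19, 11, 5, 17, 20, 10, 23], [0, 8, 1, 10, 5, 3, 7, 4, 6, 11, 9, 2], 41, 1, 97, 41),
  ([1, 9, 3, 15, 4, 17, 7, 0, 6, 2, 13, 21, 14, 22, 8, 12, 10, 11, 20, 16, 19, 18, 5, 23], [1, 8, 7, 11, 0, 10, 6, 4, 5, 2, 3, 9], 42, 0, 98, 99),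
  ([8, 15, 12, 3, 4, 5, 9, 0, 1, 14, 11, 19, 6, 17, 2, 7, 18, 10, 20, 13, 22, 16, 21, 23], [2, 7, 6, 3, 11, 4, 1, 0, 5, 8, 10, 9], 43, 0, 100, 101),
  ([9, 6, 7, 3, 4, 10, 0, 8, 15, 12, 19, 13, 1, 5, 2, 14, 18, 17, 22, 11, 16, 20, 21, 23], [10, 9, 2, 5, 0, 7, 11, 1, 8, 3, 6, 4], 43, 1, 17, 43),
  ([2, 15, 8, 9, 4, 18, 14, 1, 3, 0, 22, 5, 12, 16, 7, 6, 20, 19, 10, 13, 17, 21, 11, 23], [3, 2, 6, 9, 4, 0, 11, 5, 1, 7, 10, 8], 44, 0, 102, 103),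
  ([2, 6, 9, 0, 4, 18, 12, 15, 3, 8, 16, 10, 7, 20, 14, 1, 22, 13, 17, 11, 5, 21, 19, 23], [5, 10, 2, 4, 7, 1, 0, 8, 11, 9, 6, 3], 44, 1, 104, 44),
  ([2, 14, 3, 6, 4, 19, 7, 12, 15, 1, 5, 16, 9, 20, 8, 0, 10, 11, 22, 21, 17, 18, 13, 23], [4, 11, 2, 8, 10, 0, 5, 1, 6, 7, 9, 3], 46, 0, 105, 106),
  ([2, 12, 3, 1, 4, 13, 14, 7, 6, 15, 10, 20, 0, 22, 9, 8, 17, 19, 16, 21, 5, 18, 11, 23], [7, 0, 10, 3, 6, 1, 8, 11, 2, 9, 4, 5], 46, 1, 107, 46),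
  ([9, 2, 6, 12, 4, 21, 7, 3, 0, 1, 5, 18, 14, 22, 15, 8, 19, 11, 13, 10, 16, 17, 20, 23], [6, 1, 11, 10, 5, 7, 8, 2, 9, 3, 4, 0], 47, 0, 108, 109),
  ([6, 0, 8, 2, 4, 17, 3, 1, 12, 7, 20, 5, 14, 16, 15, 9, 19, 22, 21, 10, 11, 13, 18, 23], [8, 9, 10, 0, 1, 2, 3, 4, 5, 6, 7, 11], 48, 0, 109, 110),
  ([1, 8, 9, 2, 4, 5, 3, 15, 7, 14, 22, 10, 12, 20, 6, 0, 13, 16, 21, 17, 19, 11, 18, 23], [3, 4, 6, 1, 11, 10, 5, 7, 8, 2, 9, 0], 48, 1, 111, 48),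
  ([12, 8, 15, 9, 4, 16, 6, 1, 3, 7, 22, 5, 2, 18, 0, 14, 21, 13, 10, 19, 11, 20, 17, 23], [10, 4, 5, 7, 2, 11, 0, 6, 8, 9, 3, 1], 49, 0, 112, 113),
  ([7, 2, 3, 15, 4, 13, 1, 8, 12, 9, 17, 21, 14, 16, 0, 6, 19, 11, 18, 22, 10, 20, 5, 23], [4, 0, 5, 6, 8, 3, 11, 1, 7, 9, 10, 2], 50, 0, 114, 115),
  ([14, 2, 3, 6, 4, 11, 15, 9, 7, 0, 5, 21, 12, 20, 8, 1, 13, 19, 18, 16, 17, 22, 10, 23], [7, 1, 8, 2, 3, 5, 0, 11, 9, 4, 6, 10], 50, 1, 20, 50),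
  ([6, 7, 9, 15, 4, 13, 3, 2, 8, 14, 16, 11, 0, 21, 1, 12, 5, 22, 20, 17, 19, 10, 18, 23], [0, 5, 1, 6, 7, 9, 4, 11, 2, 8, 10, 3], 51, 0, 116, 117),
  ([1, 14, 0, 6, 4, 11, 3, 2, 9, 12, 20, 19, 8, 21, 15, 7, 10, 16, 22, 5, 13, 17, 18, 23], [1, 8, 11, 2, 9, 4, 7, 0, 10, 3, 6, 5], 51, 1, 118, 51),
  ([0, 8, 6, 14, 4, 21, 15, 2, 3, 7, 20, 13, 1, 18, 12, 9, 16, 5, 10, 17, 11, 22, 19, 23], [0, 1, 6, 2, 7, 8, 10, 5, 11, 3, 9, 4], 53, 0, 119, 120),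
  ([8, 9, 1, 12, 4, 21, 6, 2, 3, 14, 22, 11, 15, 18, 7, 0, 20, 10, 17, 5, 19, 16, 13, 23], [1, 11, 2, 10, 9, 3, 6, 8, 0, 5, 4, 7], 53, 1, 121, 53),
  ([8, 15, 12, 2, 4, 10, 0, 9, 6, 7, 22, 20, 1, 17, 3, 14, 18, 5, 19, 16, 11, 13, 21, 23], [7, 2, 9, 11, 3, 10, 5, 8, 1, 0, 4, 6], 54, 0, 122, 123),
  ([7, 9, 8, 6, 4, 20, 14, 3, 12, 2, 19, 21, 1, 16, 0, 15, 17, 11, 10, 5, 18, 13, 22, 23], [10, 1, 2, 7, 3, 8, 9, 0, 6, 11, 4, 5], 55, 0, 124, 125),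
  ([14, 0, 9, 1, 4, 22, 12, 3, 7, 2, 13, 21, 15, 20, 8, 6, 5, 19, 17, 10, 18, 11, 16, 23], [6, 11, 10, 9, 5, 3, 4, 1, 2, 0, 7, 8], 55, 1, 126, 55),
  ([7, 14, 15, 12, 4, 22, 2, 6, 3, 9, 21, 10, 1, 18, 8, 0, 16, 11, 19, 5, 17, 20, 13, 23], [5, 2, 11, 3, 0, 10, 4, 7, 9, 1, 6, 8], 56, 0, 127, 128),
  ([9, 6, 3, 7, 4, 17, 14, 1, 12, 15, 19, 18, 8, 16, 2, 0, 13, 10, 22, 21, 5, 20, 11, 23], [5, 8, 3, 10, 11, 4, 0, 6, 9, 2, 1, 7], 57, 0, 129, 130),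
  ([0, 1, 3, 14, 4, 5, 12, 15, 7, 6, 13, 18, 9, 20, 2, 8, 11, 17, 16, 21, 10, 22, 19, 23], [8, 3, 5, 6, 0, 7, 1, 2, 4, 10, 11, 9], 57, 1, 23, 57),
  ([6, 0, 2, 15, 4, 17, 14, 9, 1, 3, 16, 21, 7, 11, 8, 12, 5, 22, 19, 13, 20, 18, 10, 23], [5, 0, 2, 3, 8, 4, 9, 10, 1, 7, 11, 6], 58, 0, 131, 132),
  ([1, 8, 2, 6, 4, 5, 12, 0, 15, 3, 20, 21, 14, 19, 9, 7, 10, 16, 13, 11, 22, 18, 17, 23], [8, 1, 10, 5, 3, 7, 4, 6, 11, 9, 0, 2], 58, 1, 133, 58),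
  ([12, 8, 9, 0, 4, 16, 2, 14, 1, 6, 18, 10, 7, 11, 15, 3, 5, 13, 21, 20, 22, 17, 19, 23], [8, 7, 11, 0, 10, 6, 4, 5, 2, 3, 1, 9], 59, 0, 134, 135),
  ([7, 2, 15, 0, 4, 13, 14, 6, 8, 1, 16, 18, 9, 10, 3, 12, 21, 11, 19, 20, 17, 5, 22, 23], [7, 6, 3, 11, 4, 1, 0, 5, 8, 10, 2, 9], 60, 0, 136, 137),
  ([14, 2, 6, 8, 4, 11, 12, 1, 9, 15, 20, 18, 0, 17, 3, 7, 21, 19, 13, 22, 5, 10, 16, 23], [9, 2, 5, 0, 7, 11, 1, 8, 3, 6, 10, 4], 60, 1, 25, 60),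
  ([6, 7, 15, 1, 4, 13, 0, 12, 2, 3, 21, 20, 14, 19, 9, 8, 11, 22, 5, 10, 16, 18, 17, 23], [2, 6, 9, 4, 0, 11, 5, 1, 7, 10, 3, 8], 61, 0, 138, 139),
  ([1, 14, 6, 15, 4, 11, 8, 7, 2, 3, 21, 22, 12, 13, 0, 9, 19, 16, 10, 17, 20, 18, 5, 23], [10, 2, 4, 7, 1, 0, 8, 11, 9, 6, 5, 3], 61, 1, 140, 61),
  ([14, 1, 6, 0, 4, 11, 12, 2, 7, 3, 20, 18, 8, 13, 15, 9, 5, 16, 17, 10, 21, 22, 19, 23], [11, 6, 1, 3, 4, 9, 5, 10, 0, 2, 8, 7], 63, 0, 141, 142),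
  ([12, 15, 1, 8, 4, 19, 7, 2, 14, 3, 22, 18, 9, 11, 6, 0, 10, 20, 5, 17, 21, 16, 13, 23], [0, 2, 11, 5, 7, 4, 8, 6, 1, 10, 3, 9], 63, 1, 143, 63),
  ([2, 1, 12, 8, 4, 11, 3, 9, 7, 6, 22, 17, 15, 20, 0, 14, 5, 18, 16, 19, 10, 13, 21, 23], [1, 9, 2, 0, 6, 4, 8, 5, 7, 11, 10, 3], 64, 0, 144, 145),
  ([14, 8, 7, 2, 4, 10, 12, 15, 9, 1, 17, 5, 3, 20, 0, 6, 21, 16, 13, 22, 18, 11, 19, 23], [2, 9, 8, 11, 1, 0, 7, 5, 6, 3, 4, 10], 65, 0, 146, 147),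
  ([12, 9, 14, 2, 4, 17, 7, 6, 0, 15, 5, 10, 3, 22, 8, 1, 21, 20, 11, 16, 18, 19, 13, 23], [10, 4, 3, 0, 11, 1, 9, 8, 2, 5, 7, 6], 65, 1, 27, 65),
  ([0, 2, 6, 7, 4, 19, 8, 15, 14, 3, 16, 18, 9, 10, 1, 12, 11, 21, 13, 17, 20, 22, 5, 23], [3, 8, 7, 4, 11, 5, 2, 1, 6, 9, 0, 10], 66, 0, 148, 149),
  ([8, 2, 1, 14, 4, 13, 9, 6, 12, 3, 20, 18, 0, 17, 15, 7, 19, 21, 11, 5, 22, 16, 10, 23], [5, 3, 9, 7, 0, 8, 10, 11, 2, 4, 1, 6], 66, 1, 150, 66),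
  ([1, 2, 0, 8, 4, 11, 3, 14, 7, 15, 20, 19, 6, 22, 12, 9, 13, 18, 21, 17, 10, 5, 16, 23], [4, 3, 7, 10, 5, 1, 11, 6, 2, 8, 0, 9], 68, 0, 151, 152),
  ([15, 2, 8, 9, 4, 19, 3, 12, 14, 6, 22, 13, 1, 16, 7, 0, 11, 18, 21, 5, 17, 10, 20, 23], [7, 5, 9, 6, 8, 11, 0, 2, 10, 3, 1, 4], 68, 1, 153, 68),
  ([1, 9, 8, 15, 4, 11, 6, 2, 7, 0, 22, 21, 12, 13, 3, 14, 20, 17, 10, 16, 19, 5, 18, 23], [6, 0, 3, 5, 8, 2, 1, 9, 11, 10, 7, 4], 69, 0, 154, 155),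
  ([1, 3, 7, 9, 4, 18, 12, 6, 2, 14, 19, 22, 8, 13, 0, 15, 21, 16, 20, 5, 10, 11, 17, 23], [5, 11, 3, 9, 0, 1, 6, 2, 7, 8, 10, 4], 70, 0, 156, 157),
  ([15, 3, 14, 0, 4, 18, 7, 1, 2, 12, 13, 16, 9, 11, 8, 6, 21, 20, 22, 10, 17, 19, 5, 23], [8, 0, 5, 4, 1, 11, 2, 10, 9, 3, 6, 7], 70, 1, 158, 70),
  ([1, 6, 7, 14, 4, 17, 3, 12, 9, 2, 21, 13, 15, 20, 8, 0, 10, 18, 22, 5, 19, 11, 16, 23], [8, 1, 0, 4, 7, 2, 9, 11, 3, 10, 5, 6], 71, 0, 159, 160),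
  ([8, 1, 9, 6, 4, 5, 12, 7, 15, 14, 19, 11, 3, 20, 2, 0, 18, 16, 17, 21, 22, 10, 13, 23], [7, 2, 11, 0, 6, 8, 9, 3, 10, 4, 5, 1], 72, 0, 161, 162),
  ([9, 15, 0, 1, 4, 10, 7, 14, 6, 12, 13, 19, 3, 22, 2, 8, 18, 20, 5, 21, 16, 17, 11, 23], [9, 10, 0, 1, 2, 3, 4, 5, 6, 7, 8, 11], 72, 1, 30, 72),
  ([0, 6, 8, 15, 4, 17, 14, 12, 1, 7, 11, 13, 3, 16, 2, 9, 18, 22, 10, 21, 20, 5, 19, 23], [4, 6, 1, 11, 10, 5, 7, 8, 2, 9, 3, 0], 73, 1, 163, 73),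
  ([14, 0, 8, 1, 4, 19, 7, 2, 12, 3, 20, 21, 6, 13, 9, 15, 17, 22, 5, 10, 18, 16, 11, 23], [4, 5, 7, 2, 11, 0, 6, 8, 9, 3, 10, 1], 74, 0, 164, 165),
  ([6, 0, 2, 8, 4, 22, 9, 14, 7, 12, 20, 19, 1, 11, 15, 3, 5, 17, 21, 18, 16, 13, 10, 23], [0, 5, 6, 8, 3, 11, 1, 7, 9, 10, 4, 2], 75, 0, 166, 167),
  ([1, 8, 2, 9, 4, 16, 0, 12, 14, 7, 22, 13, 15, 19, 6, 3, 10, 5, 21, 18, 20, 11, 17, 23], [1, 8, 2, 3, 5, 0, 11, 9, 4, 6, 7, 10], 75, 1, 32, 75),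
  ([12, 1, 7, 2, 4, 17, 14, 0, 6, 8, 10, 5, 3, 22, 15, 9, 18, 16, 11, 20, 21, 13, 19, 23], [5, 1, 6, 7, 9, 4, 11, 2, 8, 10, 0, 3], 76, 0, 168, 169),
  ([7, 15, 14, 2, 4, 5, 12, 8, 1, 9, 17, 10, 3, 16, 6, 0, 18, 20, 19, 22, 21, 11, 13, 23], [8, 11, 2, 9, 4, 7, 0, 10, 3, 6, 1, 5], 76, 1, 170, 76),
  ([9, 12, 8, 2, 4, 17, 7, 1, 0, 3, 22, 16, 15, 5, 14, 6, 19, 20, 13, 10, 18, 21, 11, 23], [1, 6, 2, 7, 8, 10, 5, 11, 3, 9, 0, 4], 78, 0, 171, 172),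
  ([0, 7, 9, 2, 4, 5, 14, 15, 8, 3, 16, 20, 6, 10, 12, 1, 13, 22, 11, 17, 18, 21, 19, 23], [11, 2, 10, 9, 3, 6, 8, 0, 5, 4, 1, 7], 78, 1, 173, 78),
  ([14, 3, 15, 9, 4, 16, 7, 1, 8, 6, 13, 18, 0, 5, 2, 12, 21, 22, 20, 19, 17, 10, 11, 23], [2, 9, 11, 3, 10, 5, 8, 1, 0, 4, 7, 6], 79, 0, 174, 175),
  ([15, 0, 9, 3, 4, 5, 2, 1, 7, 12, 13, 17, 14, 11, 6, 8, 22, 19, 21, 10, 16, 20, 18, 23], [1, 2, 7, 3, 8, 9, 0, 6, 11, 4, 10, 5], 80, 0, 176, 177)]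

/-- A block of pairs. -/
def pairs2 : List (List (Fin 24) × List (Fin 12) × ℕ × ℕ × ℕ × ℕ) := [
  ([6, 8, 0, 3, 4, 10, 2, 15, 14, 7, 11, 5, 12, 19, 1, 9, 16, 13, 21, 17, 20, 22, 18, 23], [11, 10, 9, 5, 3, 4, 1, 2, 0, 7, 6, 8], 80, 1, 178, 80),
  ([0, 8, 14, 6, 4, 5, 9, 1, 7, 3, 20, 16, 2, 11, 12, 15, 13, 21, 10, 19, 18, 22, 17, 23], [2, 11, 3, 0, 10, 4, 7, 9, 1, 6, 5, 8], 81, 0, 179, 180),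
  ([0, 2, 6, 1, 4, 21, 15, 8, 9, 12, 20, 13, 14, 10, 7, 3, 11, 19, 18, 22, 16, 17, 5, 23], [8, 3, 10, 11, 4, 0, 6, 9, 2, 1, 5, 7], 82, 0, 181, 182),
  ([8, 2, 1, 15, 4, 21, 6, 9, 0, 7, 22, 11, 12, 17, 14, 3, 19, 13, 18, 16, 20, 5, 10, 23], [3, 5, 6, 0, 7, 1, 2, 4, 10, 11, 8, 9], 82, 1, 35, 82),
  ([12, 8, 0, 9, 4, 13, 3, 7, 6, 1, 18, 5, 14, 22, 15, 2, 10, 16, 21, 19, 11, 17, 20, 23], [0, 2, 3, 8, 4, 9, 10, 1, 7, 11, 5, 6], 83, 0, 183, 184),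
  ([7, 9, 8, 0, 4, 11, 3, 14, 1, 15, 18, 10, 12, 16, 6, 2, 17, 20, 21, 13, 19, 5, 22, 23], [1, 10, 5, 3, 7, 4, 6, 11, 9, 0, 8, 2], 83, 1, 185, 83),
  ([3, 15, 8, 14, 4, 20, 6, 7, 12, 1, 17, 5, 2, 13, 0, 9, 19, 18, 10, 21, 11, 16, 22, 23], [7, 11, 0, 10, 6, 4, 5, 2, 3, 1, 8, 9], 84, 0, 186, 187),
  ([12, 3, 2, 6, 4, 20, 1, 9, 7, 8, 5, 21, 14, 11, 0, 15, 22, 16, 18, 19, 10, 13, 17, 23], [6, 3, 11, 4, 1, 0, 5, 8, 10, 2, 7, 9], 85, 0, 188, 189),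
  ([7, 3, 2, 1, 4, 22, 15, 0, 14, 9, 10, 21, 12, 19, 8, 6, 16, 20, 18, 13, 17, 11, 5, 23], [2, 5, 0, 7, 11, 1, 8, 3, 6, 10, 9, 4], 85, 1, 37, 85),
  ([8, 9, 7, 12, 4, 10, 3, 14, 6, 2, 18, 11, 0, 22, 1, 15, 17, 21, 20, 5, 19, 13, 16, 23], [6, 9, 4, 0, 11, 5, 1, 7, 10, 3, 2, 8], 86, 0, 190, 191),
  ([9, 0, 14, 7, 4, 17, 3, 12, 1, 2, 18, 19, 8, 16, 15, 6, 5, 21, 22, 10, 13, 11, 20, 23], [2, 4, 7, 1, 0, 8, 11, 9, 6, 5, 10, 3], 86, 1, 192, 86),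
  ([9, 15, 1, 2, 4, 10, 3, 8, 14, 7, 22, 5, 12, 16, 0, 6, 19, 20, 18, 17, 13, 11, 21, 23], [6, 1, 3, 4, 9, 5, 10, 0, 2, 8, 11, 7], 88, 0, 193, 194),
  ([0, 6, 15, 2, 4, 17, 3, 9, 12, 14, 16, 10, 7, 20, 8, 1, 13, 22, 18, 5, 11, 19, 21, 23], [2, 11, 5, 7, 4, 8, 6, 1, 10, 3, 0, 9], 88, 1, 195, 88),
  ([14, 0, 1, 9, 4, 19, 6, 15, 2, 7, 13, 5, 3, 18, 8, 12, 21, 22, 17, 16, 20, 11, 10, 23], [9, 2, 0, 6, 4, 8, 5, 7, 11, 10, 1, 3], 89, 0, 196, 197),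
  ([6, 0, 8, 15, 4, 22, 1, 3, 14, 9, 11, 21, 12, 16, 2, 7, 19, 17, 5, 13, 20, 10, 18, 23], [9, 8, 11, 1, 0, 7, 5, 6, 3, 4, 2, 10], 90, 0, 198, 199),
  ([1, 8, 9, 6, 4, 16, 15, 3, 12, 0, 19, 21, 7, 20, 2, 14, 13, 5, 10, 11, 22, 17, 18, 23], [4, 3, 0, 11, 1, 9, 8, 2, 5, 7, 10, 6], 90, 1, 39, 90),
  ([12, 1, 2, 15, 4, 17, 3, 9, 0, 14, 22, 11, 8, 21, 7, 6, 5, 16, 18, 13, 10, 19, 20, 23], [8, 7, 4, 11, 5, 2, 1, 6, 9, 0, 3, 10], 91, 0, 200, 201),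
  ([7, 15, 2, 6, 4, 5, 3, 0, 8, 12, 16, 19, 9, 21, 14, 1, 10, 20, 18, 11, 17, 13, 22, 23], [3, 9, 7, 0, 8, 10, 11, 2, 4, 1, 5, 6], 91, 1, 202, 91),
  ([9, 12, 2, 14, 4, 17, 15, 6, 1, 7, 5, 13, 3, 18, 8, 0, 16, 20, 19, 21, 22, 11, 10, 23], [3, 7, 10, 5, 1, 11, 6, 2, 8, 0, 4, 9], 93, 0, 203, 204),
  ([0, 7, 2, 12, 4, 5, 6, 1, 15, 14, 10, 11, 3, 18, 9, 8, 20, 22, 13, 21, 16, 19, 17, 23], [5, 9, 6, 8, 11, 0, 2, 10, 3, 1, 7, 4], 93, 1, 205, 93),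
  ([14, 3, 9, 2, 4, 16, 0, 12, 1, 7, 5, 20, 6, 17, 15, 8, 18, 22, 21, 10, 13, 11, 19, 23], [0, 3, 5, 8, 2, 1, 9, 11, 10, 7, 6, 4], 94, 0, 206, 141),
  ([3, 14, 9, 15, 4, 16, 6, 1, 12, 7, 13, 11, 0, 17, 2, 8, 19, 22, 10, 21, 5, 20, 18, 23], [11, 7, 2, 4, 5, 10, 6, 0, 1, 3, 9, 8], 95, 0, 62, 140),
  ([3, 12, 0, 6, 4, 20, 1, 15, 7, 14, 11, 19, 8, 5, 2, 9, 13, 16, 17, 21, 10, 22, 18, 23], [0, 9, 10, 7, 8, 6, 2, 1, 11, 5, 4, 3], 95, 1, 207, 95),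
  ([6, 2, 14, 0, 4, 18, 12, 1, 3, 7, 20, 11, 8, 16, 9, 15, 21, 13, 19, 10, 5, 22, 17, 23], [1, 3, 11, 6, 8, 5, 9, 7, 2, 0, 4, 10], 96, 0, 208, 209),
  ([1, 14, 6, 0, 4, 16, 7, 8, 12, 9, 20, 10, 2, 13, 15, 3, 19, 11, 22, 18, 21, 17, 5, 23], [2, 10, 3, 1, 7, 5, 9, 6, 8, 11, 0, 4], 97, 0, 210, 211),
  ([15, 12, 1, 8, 4, 20, 14, 9, 7, 0, 22, 17, 2, 11, 6, 3, 13, 19, 16, 18, 21, 5, 10, 23], [10, 6, 5, 11, 9, 8, 4, 2, 3, 0, 1, 7], 97, 1, 42, 97),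
  ([3, 0, 12, 1, 4, 21, 6, 2, 8, 14, 10, 19, 7, 13, 15, 9, 5, 22, 17, 20, 11, 16, 18, 23], [3, 10, 9, 11, 2, 1, 8, 6, 7, 4, 5, 0], 98, 0, 212, 213),
  ([3, 8, 7, 15, 4, 21, 1, 2, 9, 12, 17, 13, 14, 11, 6, 0, 10, 16, 5, 22, 19, 20, 18, 23], [5, 6, 4, 0, 10, 11, 3, 2, 9, 7, 8, 1], 98, 1, 214, 98),
  ([15, 1, 9, 12, 4, 18, 0, 2, 3, 7, 22, 11, 8, 21, 14, 6, 16, 5, 17, 10, 13, 20, 19, 23], [4, 9, 8, 5, 11, 6, 3, 2, 7, 10, 1, 0], 100, 0, 215, 216),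
  ([6, 15, 0, 7, 4, 18, 8, 2, 3, 14, 16, 19, 9, 21, 12, 1, 20, 10, 5, 17, 11, 22, 13, 23], [7, 4, 3, 8, 0, 2, 5, 10, 9, 6, 11, 1], 100, 1, 217, 100),
  ([0, 1, 14, 3, 4, 17, 8, 9, 6, 7, 13, 11, 15, 10, 2, 12, 18, 5, 16, 19, 20, 22, 21, 23], [6, 4, 10, 8, 1, 9, 0, 11, 3, 5, 2, 7], 101, 0, 218, 219),
  ([14, 1, 15, 0, 4, 16, 7, 3, 12, 2, 13, 18, 9, 20, 6, 8, 17, 11, 5, 10, 21, 19, 22, 23], [5, 4, 8, 0, 6, 2, 11, 7, 3, 9, 1, 10], 102, 0, 220, 221),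
  ([12, 15, 6, 8, 4, 20, 14, 3, 7, 2, 11, 18, 0, 22, 1, 9, 5, 19, 10, 17, 21, 13, 16, 23], [8, 7, 3, 1, 2, 10, 0, 9, 5, 4, 11, 6], 102, 1, 222, 102),
  ([2, 1, 0, 8, 4, 18, 7, 6, 3, 9, 20, 17, 14, 22, 12, 15, 16, 11, 5, 19, 10, 21, 13, 23], [8, 6, 10, 7, 9, 11, 1, 3, 0, 4, 2, 5], 103, 0, 189, 223),
  ([14, 8, 0, 2, 4, 16, 9, 1, 12, 15, 20, 5, 6, 17, 7, 3, 13, 10, 21, 22, 18, 19, 11, 23], [7, 1, 4, 6, 9, 3, 2, 10, 11, 0, 8, 5], 104, 0, 224, 225),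
  ([12, 9, 8, 2, 4, 20, 0, 15, 7, 6, 22, 10, 1, 5, 14, 3, 11, 17, 21, 16, 18, 13, 19, 23], [9, 11, 7, 2, 4, 5, 10, 6, 0, 1, 3, 8], 104, 1, 45, 104),
  ([14, 7, 12, 8, 4, 11, 6, 9, 1, 3, 18, 20, 0, 17, 15, 2, 5, 22, 13, 19, 21, 16, 10, 23], [6, 11, 4, 10, 1, 2, 7, 3, 8, 9, 0, 5], 105, 0, 226, 227),
  ([12, 14, 7, 9, 4, 19, 1, 0, 15, 3, 18, 22, 8, 5, 6, 2, 10, 16, 11, 13, 21, 20, 17, 23], [2, 0, 7, 6, 11, 10, 9, 5, 3, 4, 1, 8], 105, 1, 228, 105),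
  ([2, 7, 3, 15, 4, 11, 12, 14, 1, 6, 17, 22, 8, 16, 0, 9, 5, 13, 20, 21, 10, 18, 19, 23], [9, 1, 6, 5, 2, 11, 3, 0, 10, 4, 7, 8], 106, 0, 229, 230),
  ([14, 9, 12, 3, 4, 10, 7, 6, 8, 1, 5, 17, 2, 13, 0, 15, 21, 11, 20, 19, 18, 16, 22, 23], [9, 2, 1, 5, 8, 3, 10, 11, 4, 0, 6, 7], 107, 0, 231, 232),
  ([12, 0, 7, 3, 4, 17, 14, 1, 9, 15, 10, 5, 2, 11, 8, 6, 21, 19, 22, 13, 18, 20, 16, 23], [4, 10, 11, 8, 3, 5, 6, 0, 7, 1, 2, 9], 107, 1, 47, 107),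
  ([0, 14, 8, 9, 4, 19, 6, 12, 2, 3, 18, 16, 7, 13, 1, 15, 11, 22, 10, 5, 20, 21, 17, 23], [8, 3, 11, 1, 7, 9, 10, 4, 0, 5, 6, 2], 108, 0, 233, 234),
  ([8, 12, 9, 0, 4, 13, 1, 7, 2, 3, 18, 20, 14, 11, 15, 6, 19, 16, 17, 10, 22, 21, 5, 23], [3, 5, 0, 11, 9, 4, 6, 7, 1, 8, 2, 10], 108, 1, 110, 108),
  ([15, 9, 0, 2, 4, 10, 3, 6, 14, 12, 16, 17, 7, 22, 1, 8, 11, 20, 21, 5, 13, 19, 18, 23], [5, 7, 2, 11, 0, 6, 8, 9, 3, 10, 4, 1], 110, 0, 235, 236),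
  ([3, 15, 0, 14, 4, 18, 12, 1, 6, 7, 13, 5, 9, 17, 8, 2, 10, 20, 19, 21, 11, 22, 16, 23], [5, 6, 8, 3, 11, 1, 7, 9, 10, 4, 0, 2], 111, 0, 237, 238),
  ([3, 6, 8, 12, 4, 18, 7, 15, 1, 14, 11, 10, 0, 5, 9, 2, 17, 22, 13, 21, 19, 16, 20, 23], [8, 2, 3, 5, 0, 11, 9, 4, 6, 7, 1, 10], 111, 1, 49, 111),
  ([9, 15, 1, 0, 4, 20, 8, 3, 12, 6, 13, 18, 14, 16, 2, 7, 19, 10, 5, 11, 22, 17, 21, 23], [1, 6, 7, 9, 4, 11, 2, 8, 10, 0, 5, 3], 112, 0, 239, 240),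
  ([0, 6, 15, 8, 4, 22, 9, 3, 7, 1, 11, 18, 12, 20, 2, 14, 13, 17, 10, 19, 16, 5, 21, 23], [11, 2, 9, 4, 7, 0, 10, 3, 6, 1, 8, 5], 112, 1, 241, 112),
  ([6, 14, 12, 1, 4, 10, 3, 15, 9, 0, 21, 19, 7, 20, 2, 8, 11, 22, 16, 13, 5, 17, 18, 23], [6, 2, 7, 8, 10, 5, 11, 3, 9, 0, 1, 4], 114, 0, 242, 243),
  ([1, 12, 7, 15, 4, 17, 3, 6, 0, 8, 21, 13, 14, 22, 2, 9, 19, 16, 20, 11, 10, 5, 18, 23], [2, 10, 9, 3, 6, 8, 0, 5, 4, 1, 11, 7], 114, 1, 244, 114),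
  ([12, 2, 3, 1, 4, 19, 6, 0, 14, 8, 10, 21, 7, 22, 9, 15, 11, 13, 18, 20, 5, 16, 17, 23], [9, 11, 3, 10, 5, 8, 1, 0, 4, 7, 2, 6], 115, 0, 245, 246),
  ([8, 6, 0, 1, 4, 10, 12, 14, 15, 7, 20, 22, 2, 19, 3, 9, 18, 13, 17, 21, 11, 5, 16, 23], [2, 7, 3, 8, 9, 0, 6, 11, 4, 10, 1, 5], 116, 0, 247, 248),
  ([9, 1, 8, 15, 4, 17, 7, 12, 6, 14, 22, 16, 2, 13, 3, 0, 18, 11, 5, 21, 19, 10, 20, 23], [10, 9, 5, 3, 4, 1, 2, 0, 7, 6, 11, 8], 116, 1, 249, 116),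
  ([15, 12, 8, 1, 4, 19, 3, 2, 0, 7, 22, 13, 9, 21, 6, 14, 17, 20, 16, 10, 11, 5, 18, 23], [11, 3, 0, 10, 4, 7, 9, 1, 6, 5, 2, 8], 117, 0, 250, 251),
  ([3, 7, 2, 8, 4, 22, 12, 14, 0, 9, 17, 11, 15, 19, 1, 6, 5, 20, 13, 18, 10, 21, 16, 23], [3, 10, 11, 4, 0, 6, 9, 2, 1, 5, 8, 7], 118, 0, 252, 253),
  ([3, 14, 2, 9, 4, 16, 7, 12, 8, 0, 5, 19, 6, 13, 15, 1, 10, 22, 11, 18, 17, 21, 20, 23], [5, 6, 0, 7, 1, 2, 4, 10, 11, 8, 3, 9], 118, 1, 52, 118),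
  ([2, 15, 8, 7, 4, 19, 1, 14, 12, 6, 17, 10, 3, 16, 9, 0, 20, 18, 5, 21, 22, 13, 11, 23], [2, 3, 8, 4, 9, 10, 1, 7, 11, 5, 0, 6], 119, 0, 254, 255),
  ([2, 6, 9, 14, 4, 13, 15, 12, 7, 1, 5, 17, 3, 20, 0, 8, 22, 18, 10, 21, 16, 11, 19, 23], [10, 5, 3, 7, 4, 6, 11, 9, 0, 8, 1, 2], 119, 1, 256, 119),
  ([9, 0, 15, 7, 4, 21, 1, 2, 3, 12, 16, 19, 6, 18, 14, 8, 22, 17, 5, 10, 13, 20, 11, 23], [11, 0, 10, 6, 4, 5, 2, 3, 1, 8, 7, 9], 120, 0, 257, 258),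
  ([15, 0, 3, 9, 4, 19, 8, 14, 12, 7, 13, 22, 1, 16, 6, 2, 17, 5, 21, 18, 11, 20, 10, 23], [3, 11, 4, 1, 0, 5, 8, 10, 2, 7, 6, 9], 121, 0, 259, 260)]

/-- A block of pairs. -/
def pairs3 : List (List (Fin 24) × List (Fin 12) × ℕ × ℕ × ℕ × ℕ) := [
  ([6, 8, 3, 0, 4, 13, 9, 12, 7, 14, 11, 16, 15, 20, 1, 2, 5, 10, 21, 18, 19, 22, 17, 23], [5, 0, 7, 11, 1, 8, 3, 6, 10, 9, 2, 4], 121, 1, 54, 121),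
  ([15, 1, 9, 14, 4, 5, 2, 0, 8, 6, 13, 17, 3, 21, 12, 7, 16, 18, 11, 20, 22, 10, 19, 23], [9, 4, 0, 11, 5, 1, 7, 10, 3, 2, 6, 8], 122, 0, 261, 262),
  ([6, 15, 0, 12, 4, 10, 2, 8, 9, 1, 11, 5, 3, 21, 7, 14, 20, 18, 19, 22, 16, 17, 13, 23], [4, 7, 1, 0, 8, 11, 9, 6, 5, 10, 2, 3], 122, 1, 263, 122),
  ([6, 0, 15, 8, 4, 17, 7, 12, 9, 14, 11, 19, 3, 20, 2, 1, 21, 22, 5, 18, 16, 10, 13, 23], [1, 3, 4, 9, 5, 10, 0, 2, 8, 11, 6, 7], 124, 0, 264, 265),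
  ([1, 8, 6, 9, 4, 5, 14, 7, 0, 12, 19, 13, 3, 22, 2, 15, 21, 16, 10, 18, 20, 17, 11, 23], [11, 5, 7, 4, 8, 6, 1, 10, 3, 0, 2, 9], 124, 1, 266, 124),
  ([12, 8, 0, 15, 4, 16, 7, 3, 14, 2, 11, 21, 6, 22, 9, 1, 10, 13, 5, 17, 18, 19, 20, 23], [2, 0, 6, 4, 8, 5, 7, 11, 10, 1, 9, 3], 125, 0, 267, 268),
  ([7, 2, 0, 3, 4, 13, 9, 12, 6, 14, 10, 19, 1, 17, 15, 8, 18, 11, 21, 5, 16, 22, 20, 23], [8, 11, 1, 0, 7, 5, 6, 3, 4, 2, 9, 10], 126, 0, 269, 212),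
  ([14, 2, 8, 3, 4, 11, 0, 7, 1, 12, 17, 13, 15, 5, 6, 9, 18, 19, 21, 10, 20, 16, 22, 23], [3, 0, 11, 1, 9, 8, 2, 5, 7, 10, 4, 6], 126, 1, 56, 126),
  ([6, 7, 1, 9, 4, 13, 14, 8, 12, 0, 19, 5, 3, 16, 15, 2, 20, 22, 11, 18, 21, 17, 10, 23], [7, 4, 11, 5, 2, 1, 6, 9, 0, 3, 8, 10], 127, 0, 270, 271),
  ([1, 14, 15, 0, 4, 11, 12, 9, 7, 8, 13, 10, 3, 20, 6, 2, 22, 16, 19, 18, 21, 5, 17, 23], [9, 7, 0, 8, 10, 11, 2, 4, 1, 5, 3, 6], 127, 1, 272, 127),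
  ([0, 8, 12, 6, 4, 21, 7, 3, 9, 1, 11, 16, 15, 20, 14, 2, 10, 5, 13, 19, 18, 17, 22, 23], [7, 10, 5, 1, 11, 6, 2, 8, 0, 4, 3, 9], 129, 0, 273, 274),
  ([8, 9, 7, 1, 4, 21, 14, 3, 0, 15, 19, 20, 6, 22, 12, 2, 17, 10, 11, 13, 18, 5, 16, 23], [9, 6, 8, 11, 0, 2, 10, 3, 1, 7, 5, 4], 129, 1, 275, 129),
  ([8, 15, 3, 12, 4, 10, 7, 6, 14, 1, 11, 18, 0, 22, 2, 9, 19, 5, 20, 21, 17, 16, 13, 23], [3, 5, 8, 2, 1, 9, 11, 10, 7, 6, 0, 4], 130, 0, 276, 193),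
  ([8, 2, 14, 1, 4, 21, 7, 0, 3, 12, 20, 19, 6, 22, 15, 9, 18, 13, 11, 10, 17, 16, 5, 23], [7, 2, 4, 5, 10, 6, 0, 1, 3, 9, 11, 8], 131, 0, 87, 192),
  ([9, 2, 12, 15, 4, 21, 14, 8, 3, 7, 22, 13, 1, 16, 6, 0, 18, 11, 19, 17, 5, 20, 10, 23], [9, 10, 7, 8, 6, 2, 1, 11, 5, 4, 0, 3], 131, 1, 277, 131),
  ([15, 9, 2, 1, 4, 10, 7, 8, 6, 3, 22, 21, 12, 13, 0, 14, 17, 20, 11, 19, 16, 18, 5, 23], [3, 11, 6, 8, 5, 9, 7, 2, 0, 4, 1, 10], 132, 0, 278, 279),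
  ([3, 15, 14, 8, 4, 18, 9, 2, 1, 12, 17, 19, 7, 11, 0, 6, 5, 20, 10, 22, 13, 16, 21, 23], [10, 3, 1, 7, 5, 9, 6, 8, 11, 0, 2, 4], 133, 0, 280, 281),
  ([3, 6, 12, 9, 4, 18, 0, 2, 15, 7, 5, 13, 14, 19, 8, 1, 10, 22, 17, 16, 11, 20, 21, 23], [6, 5, 11, 9, 8, 4, 2, 3, 0, 1, 10, 7], 133, 1, 59, 133),
  ([9, 15, 0, 2, 4, 20, 14, 7, 3, 8, 16, 5, 6, 22, 1, 12, 18, 10, 19, 17, 13, 21, 11, 23], [10, 9, 11, 2, 1, 8, 6, 7, 4, 5, 3, 0], 134, 0, 282, 283),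
  ([0, 6, 8, 2, 4, 22, 12, 14, 3, 9, 20, 10, 1, 16, 15, 7, 18, 17, 13, 5, 11, 21, 19, 23], [6, 4, 0, 10, 11, 3, 2, 9, 7, 8, 5, 1], 134, 1, 284, 134),
  ([6, 14, 1, 2, 4, 10, 7, 8, 15, 3, 20, 16, 0, 5, 12, 9, 19, 22, 11, 17, 21, 18, 13, 23], [9, 8, 5, 11, 6, 3, 2, 7, 10, 1, 4, 0], 136, 0, 285, 286),
  ([1, 12, 15, 2, 4, 17, 14, 9, 6, 3, 22, 20, 8, 10, 7, 0, 13, 16, 19, 5, 21, 18, 11, 23], [4, 3, 8, 0, 2, 5, 10, 9, 6, 11, 7, 1], 136, 1, 287, 136),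
  ([12, 2, 1, 9, 4, 19, 7, 15, 0, 6, 22, 18, 8, 5, 3, 14, 21, 13, 11, 16, 10, 17, 20, 23], [4, 10, 8, 1, 9, 0, 11, 3, 5, 2, 6, 7], 137, 0, 288, 289),
  ([8, 6, 1, 3, 4, 10, 2, 9, 14, 12, 19, 17, 7, 11, 0, 15, 22, 13, 18, 5, 20, 16, 21, 23], [4, 8, 0, 6, 2, 11, 7, 3, 9, 1, 5, 10], 138, 0, 290, 291),
  ([9, 1, 15, 3, 4, 17, 2, 0, 12, 7, 13, 5, 14, 19, 8, 6, 16, 11, 18, 10, 22, 20, 21, 23], [7, 3, 1, 2, 10, 0, 9, 5, 4, 11, 8, 6], 138, 1, 292, 138),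
  ([15, 12, 1, 6, 4, 19, 9, 14, 2, 3, 21, 16, 7, 11, 8, 0, 13, 20, 17, 5, 22, 18, 10, 23], [6, 10, 7, 9, 11, 1, 3, 0, 4, 2, 8, 5], 139, 0, 260, 293),
  ([3, 7, 8, 1, 4, 22, 15, 6, 14, 12, 19, 13, 9, 10, 2, 0, 11, 20, 5, 21, 17, 16, 18, 23], [1, 4, 6, 9, 3, 2, 10, 11, 0, 8, 7, 5], 140, 0, 294, 295),
  ([7, 6, 15, 9, 4, 13, 14, 2, 12, 3, 16, 18, 0, 19, 1, 8, 17, 22, 10, 5, 21, 20, 11, 23], [1, 10, 0, 8, 9, 7, 3, 2, 11, 6, 5, 4], 142, 0, 296, 297),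
  ([9, 1, 3, 15, 4, 11, 6, 14, 7, 12, 13, 16, 0, 22, 8, 2, 5, 17, 18, 21, 19, 20, 10, 23], [2, 4, 11, 7, 9, 6, 10, 8, 3, 1, 5, 0], 143, 0, 298, 299),
  ([0, 15, 3, 6, 4, 19, 1, 12, 14, 7, 11, 20, 8, 16, 9, 2, 10, 5, 18, 21, 13, 22, 17, 23], [10, 7, 0, 9, 4, 2, 6, 3, 5, 11, 8, 1], 143, 1, 64, 143),
  ([14, 3, 9, 15, 4, 22, 12, 0, 6, 8, 13, 21, 1, 17, 2, 7, 18, 16, 20, 11, 5, 10, 19, 23], [3, 0, 4, 2, 8, 6, 10, 7, 9, 11, 1, 5], 144, 0, 300, 301),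
  ([12, 3, 0, 6, 4, 16, 7, 8, 1, 9, 11, 21, 15, 5, 2, 14, 18, 20, 22, 19, 10, 17, 13, 23], [5, 1, 7, 10, 3, 2, 6, 9, 4, 0, 11, 8], 144, 1, 302, 144),
  ([7, 15, 6, 14, 4, 5, 9, 1, 0, 3, 21, 18, 12, 17, 2, 8, 19, 20, 10, 13, 16, 22, 11, 23], [4, 0, 10, 11, 3, 2, 9, 7, 8, 5, 6, 1], 146, 0, 303, 186),
  ([14, 6, 1, 12, 4, 10, 0, 15, 8, 3, 21, 18, 7, 5, 2, 9, 13, 22, 17, 11, 20, 16, 19, 23], [7, 1, 6, 0, 5, 10, 4, 9, 3, 8, 2, 11], 146, 1, 304, 146),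
  ([7, 0, 12, 2, 4, 5, 14, 1, 8, 6, 10, 17, 3, 16, 9, 15, 21, 22, 19, 20, 18, 13, 11, 23], [6, 7, 5, 1, 0, 11, 4, 3, 10, 8, 9, 2], 147, 0, 305, 306),
  ([2, 14, 8, 6, 4, 11, 15, 1, 7, 12, 20, 16, 0, 5, 3, 9, 22, 19, 10, 21, 17, 13, 18, 23], [5, 10, 9, 6, 11, 7, 4, 3, 8, 0, 2, 1], 148, 0, 307, 308),
  ([2, 12, 9, 1, 4, 19, 6, 15, 14, 7, 22, 20, 8, 10, 3, 0, 16, 13, 17, 21, 5, 11, 18, 23], [8, 6, 4, 2, 0, 9, 7, 5, 3, 1, 10, 11], 148, 1, 309, 148),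
  ([9, 2, 15, 12, 4, 11, 0, 1, 7, 3, 22, 18, 8, 5, 6, 14, 13, 21, 19, 10, 16, 20, 17, 23], [8, 5, 4, 9, 1, 3, 6, 0, 10, 7, 11, 2], 149, 0, 310, 311),
  ([15, 14, 3, 7, 4, 10, 0, 8, 9, 12, 17, 16, 2, 21, 1, 6, 11, 19, 22, 18, 13, 20, 5, 23], [7, 5, 0, 9, 2, 10, 1, 11, 4, 6, 3, 8], 150, 0, 312, 313),
  ([6, 12, 3, 14, 4, 17, 8, 9, 0, 7, 5, 20, 2, 21, 15, 1, 19, 13, 16, 18, 11, 22, 10, 23], [9, 8, 1, 4, 10, 6, 11, 0, 7, 2, 5, 3], 150, 1, 67, 150),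
  ([3, 14, 2, 15, 4, 22, 12, 7, 6, 1, 17, 11, 8, 13, 9, 0, 10, 16, 19, 21, 5, 18, 20, 23], [6, 5, 9, 1, 7, 3, 11, 8, 4, 10, 2, 0], 151, 0, 314, 315),
  ([3, 12, 2, 6, 4, 16, 7, 14, 1, 15, 5, 19, 9, 11, 0, 8, 17, 20, 13, 21, 10, 18, 22, 23], [2, 8, 4, 11, 9, 5, 0, 3, 7, 6, 10, 1], 151, 1, 316, 151),
  ([6, 2, 9, 0, 4, 13, 3, 7, 12, 1, 16, 11, 15, 20, 14, 8, 19, 18, 21, 10, 5, 17, 22, 23], [9, 8, 4, 2, 3, 0, 1, 10, 6, 5, 11, 7], 152, 0, 172, 317),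
  ([15, 12, 6, 8, 4, 19, 7, 0, 14, 9, 11, 17, 3, 22, 1, 2, 16, 20, 13, 18, 21, 10, 5, 23], [4, 9, 1, 3, 6, 0, 10, 7, 11, 8, 5, 2], 153, 1, 69, 153),
  ([3, 0, 15, 1, 4, 22, 8, 14, 6, 2, 13, 19, 9, 10, 12, 7, 17, 21, 5, 20, 11, 18, 16, 23], [8, 2, 5, 7, 10, 4, 3, 0, 11, 1, 9, 6], 154, 0, 318, 319),
  ([3, 8, 6, 15, 4, 16, 9, 12, 1, 2, 11, 13, 0, 17, 7, 14, 5, 21, 10, 22, 19, 18, 20, 23], [3, 10, 8, 9, 6, 7, 5, 1, 0, 11, 4, 2], 154, 1, 320, 154),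
  ([3, 12, 6, 0, 4, 16, 9, 8, 14, 7, 11, 13, 15, 10, 2, 1, 19, 20, 17, 18, 5, 22, 21, 23], [7, 11, 5, 0, 2, 3, 8, 4, 9, 10, 1, 6], 156, 0, 321, 322),
  ([3, 7, 1, 8, 4, 20, 0, 9, 12, 14, 19, 11, 6, 17, 2, 15, 13, 22, 5, 18, 10, 16, 21, 23], [9, 0, 8, 1, 10, 5, 3, 7, 4, 6, 11, 2], 156, 1, 323, 156),
  ([6, 3, 12, 8, 4, 18, 14, 15, 2, 7, 11, 20, 0, 19, 9, 1, 21, 22, 16, 17, 5, 13, 10, 23], [3, 1, 8, 7, 11, 0, 10, 6, 4, 5, 2, 9], 157, 0, 324, 325),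
  ([1, 12, 7, 2, 4, 16, 6, 3, 14, 9, 10, 20, 0, 22, 15, 8, 19, 17, 13, 5, 21, 11, 18, 23], [10, 2, 7, 6, 3, 11, 4, 1, 0, 5, 8, 9], 158, 0, 326, 327),
  ([15, 7, 14, 2, 4, 20, 1, 3, 12, 0, 17, 22, 8, 16, 6, 9, 13, 5, 11, 10, 21, 19, 18, 23], [6, 10, 9, 2, 5, 0, 7, 11, 1, 8, 3, 4], 158, 1, 71, 158),
  ([3, 8, 6, 7, 4, 21, 12, 9, 0, 14, 19, 10, 1, 17, 15, 2, 5, 16, 13, 18, 11, 22, 20, 23], [10, 3, 2, 6, 9, 4, 0, 11, 5, 1, 7, 8], 159, 0, 328, 329),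
  ([3, 9, 1, 14, 4, 21, 7, 0, 8, 12, 13, 17, 15, 5, 6, 2, 10, 20, 11, 18, 19, 16, 22, 23], [6, 5, 10, 2, 4, 7, 1, 0, 8, 11, 9, 3], 159, 1, 330, 159),
  ([15, 3, 0, 8, 4, 18, 9, 6, 1, 7, 11, 22, 12, 17, 14, 2, 16, 20, 21, 19, 13, 5, 10, 23], [9, 4, 11, 2, 8, 10, 0, 5, 1, 6, 7, 3], 161, 0, 331, 332),
  ([6, 3, 8, 9, 4, 18, 0, 1, 15, 14, 19, 16, 7, 5, 12, 2, 20, 22, 21, 13, 11, 10, 17, 23], [4, 7, 0, 10, 3, 6, 1, 8, 11, 2, 9, 5], 161, 1, 333, 161),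
  ([2, 8, 15, 1, 4, 21, 7, 9, 3, 6, 22, 10, 12, 20, 14, 0, 16, 13, 5, 19, 17, 18, 11, 23], [6, 8, 3, 11, 1, 7, 9, 10, 4, 0, 5, 2], 163, 0, 334, 335),
  ([2, 9, 6, 15, 4, 21, 14, 0, 3, 1, 16, 17, 7, 22, 12, 8, 20, 11, 10, 13, 5, 18, 19, 23], [2, 3, 5, 0, 11, 9, 4, 6, 7, 1, 8, 10], 163, 1, 74, 163),
  ([7, 2, 15, 3, 4, 11, 6, 14, 9, 12, 17, 19, 8, 10, 0, 1, 21, 13, 18, 5, 16, 20, 22, 23], [6, 7, 9, 4, 11, 2, 8, 10, 0, 5, 1, 3], 164, 0, 336, 318),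
  ([14, 2, 6, 3, 4, 19, 1, 12, 0, 7, 5, 13, 9, 17, 8, 15, 21, 11, 18, 10, 20, 22, 16, 23], [2, 9, 4, 7, 0, 10, 3, 6, 1, 8, 11, 5], 164, 1, 337, 164),
  ([8, 2, 14, 15, 4, 13, 0, 7, 6, 9, 17, 11, 3, 22, 1, 12, 18, 21, 19, 16, 20, 10, 5, 23], [2, 7, 8, 10, 5, 11, 3, 9, 0, 1, 6, 4], 166, 0, 338, 339)]

/-- A block of pairs. -/
def pairs4 : List (List (Fin 24) × List (Fin 12) × ℕ × ℕ × ℕ × ℕ) := [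
  ([9, 2, 12, 6, 4, 11, 8, 14, 1, 0, 5, 19, 3, 16, 15, 7, 18, 21, 13, 20, 22, 17, 10, 23], [10, 9, 3, 6, 8, 0, 5, 4, 1, 11, 2, 7], 166, 1, 340, 166),
  ([15, 9, 2, 0, 4, 20, 8, 7, 12, 14, 16, 11, 6, 13, 1, 3, 17, 10, 21, 18, 22, 19, 5, 23], [11, 3, 10, 5, 8, 1, 0, 4, 7, 2, 9, 6], 167, 0, 341, 342),
  ([9, 3, 6, 14, 4, 21, 7, 2, 8, 15, 5, 18, 12, 13, 1, 0, 16, 20, 22, 17, 19, 10, 11, 23], [7, 3, 8, 9, 0, 6, 11, 4, 10, 1, 2, 5], 168, 0, 343, 344),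
  ([0, 3, 1, 12, 4, 21, 14, 2, 9, 6, 10, 18, 7, 11, 15, 8, 20, 22, 16, 5, 13, 17, 19, 23], [9, 5, 3, 4, 1, 2, 0, 7, 6, 11, 10, 8], 168, 1, 345, 168),
  ([14, 6, 12, 2, 4, 10, 7, 9, 15, 0, 5, 17, 3, 20, 1, 8, 18, 22, 13, 16, 21, 19, 11, 23], [3, 0, 10, 4, 7, 9, 1, 6, 5, 2, 11, 8], 169, 0, 346, 347),
  ([6, 1, 7, 14, 4, 18, 9, 15, 3, 0, 21, 5, 12, 20, 8, 2, 16, 17, 11, 13, 19, 22, 10, 23], [10, 11, 4, 0, 6, 9, 2, 1, 5, 8, 3, 7], 170, 0, 348, 349),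
  ([1, 15, 14, 12, 4, 18, 0, 6, 3, 8, 21, 10, 7, 22, 9, 2, 20, 5, 19, 11, 13, 16, 17, 23], [6, 0, 7, 1, 2, 4, 10, 11, 8, 3, 5, 9], 170, 1, 77, 170),
  ([0, 9, 15, 14, 4, 21, 6, 3, 2, 12, 13, 20, 1, 18, 7, 8, 11, 17, 10, 5, 16, 19, 22, 23], [3, 8, 4, 9, 10, 1, 7, 11, 5, 0, 2, 6], 171, 0, 350, 351),
  ([8, 0, 6, 12, 4, 21, 1, 3, 2, 7, 11, 22, 15, 18, 14, 9, 19, 5, 17, 10, 20, 13, 16, 23], [5, 3, 7, 4, 6, 11, 9, 0, 8, 1, 10, 2], 171, 1, 317, 171),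
  ([8, 14, 0, 2, 4, 10, 12, 6, 9, 3, 20, 22, 1, 17, 7, 15, 11, 16, 19, 5, 18, 21, 13, 23], [0, 10, 6, 4, 5, 2, 3, 1, 8, 7, 11, 9], 172, 0, 352, 353),
  ([2, 6, 0, 14, 4, 18, 7, 1, 15, 12, 20, 17, 8, 5, 9, 3, 10, 13, 22, 21, 16, 19, 11, 23], [11, 4, 1, 0, 5, 8, 10, 2, 7, 6, 3, 9], 173, 0, 354, 355),
  ([2, 1, 8, 12, 4, 18, 14, 15, 6, 7, 22, 5, 9, 10, 0, 3, 17, 11, 16, 21, 20, 13, 19, 23], [0, 7, 11, 1, 8, 3, 6, 10, 9, 2, 5, 4], 173, 1, 79, 173),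
  ([7, 12, 1, 0, 4, 20, 6, 3, 15, 8, 10, 16, 2, 18, 14, 9, 19, 13, 17, 11, 21, 5, 22, 23], [4, 0, 11, 5, 1, 7, 10, 3, 2, 6, 9, 8], 174, 0, 356, 357),
  ([14, 7, 15, 8, 4, 22, 1, 3, 6, 9, 17, 20, 2, 18, 12, 0, 13, 11, 5, 19, 21, 10, 16, 23], [7, 1, 0, 8, 11, 9, 6, 5, 10, 2, 4, 3], 174, 1, 358, 174),
  ([1, 2, 0, 12, 4, 18, 14, 3, 6, 9, 10, 21, 7, 22, 8, 15, 13, 11, 19, 5, 20, 17, 16, 23], [3, 4, 9, 5, 10, 0, 2, 8, 11, 6, 1, 7], 176, 0, 359, 305),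
  ([15, 2, 8, 7, 4, 18, 12, 3, 1, 0, 17, 21, 14, 16, 9, 6, 11, 19, 13, 10, 22, 5, 20, 23], [5, 7, 4, 8, 6, 1, 10, 3, 0, 2, 11, 9], 176, 1, 360, 176),
  ([1, 9, 8, 3, 4, 17, 2, 6, 12, 14, 19, 10, 7, 13, 15, 0, 20, 11, 21, 5, 22, 16, 18, 23], [0, 6, 4, 8, 5, 7, 11, 10, 1, 9, 2, 3], 177, 0, 329, 361),
  ([8, 15, 2, 12, 4, 5, 14, 1, 7, 6, 22, 18, 9, 11, 3, 0, 20, 10, 19, 21, 17, 13, 16, 23], [11, 1, 0, 7, 5, 6, 3, 4, 2, 9, 8, 10], 178, 0, 362, 282),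
  ([9, 6, 2, 7, 4, 10, 12, 15, 14, 1, 16, 18, 0, 19, 3, 8, 22, 17, 13, 21, 5, 11, 20, 23], [0, 11, 1, 9, 8, 2, 5, 7, 10, 4, 3, 6], 178, 1, 81, 178),
  ([2, 15, 7, 8, 4, 18, 0, 3, 6, 12, 17, 20, 14, 22, 9, 1, 10, 19, 5, 11, 16, 13, 21, 23], [4, 11, 5, 2, 1, 6, 9, 0, 3, 8, 7, 10], 179, 0, 363, 364),
  ([2, 6, 14, 9, 4, 18, 8, 3, 1, 7, 5, 22, 12, 16, 0, 15, 17, 13, 10, 19, 20, 11, 21, 23], [7, 0, 8, 10, 11, 2, 4, 1, 5, 3, 9, 6], 179, 1, 365, 179),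
  ([2, 14, 8, 3, 4, 19, 1, 15, 0, 9, 17, 10, 7, 5, 6, 12, 22, 11, 16, 13, 20, 21, 18, 23], [10, 5, 1, 11, 6, 2, 8, 0, 4, 3, 7, 9], 181, 0, 366, 367),
  ([2, 12, 9, 3, 4, 13, 15, 6, 8, 0, 5, 17, 14, 10, 1, 7, 16, 19, 20, 11, 22, 21, 18, 23], [6, 8, 11, 0, 2, 10, 3, 1, 7, 5, 9, 4], 181, 1, 368, 181),
  ([9, 2, 15, 6, 4, 21, 1, 0, 8, 14, 16, 19, 7, 5, 12, 3, 13, 11, 18, 20, 22, 10, 17, 23], [5, 8, 2, 1, 9, 11, 10, 7, 6, 0, 3, 4], 182, 0, 369, 264),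
  ([9, 15, 2, 0, 4, 10, 12, 6, 8, 3, 16, 18, 7, 13, 1, 14, 5, 20, 19, 11, 22, 21, 17, 23], [2, 4, 5, 10, 6, 0, 1, 3, 9, 11, 7, 8], 183, 0, 123, 263),
  ([0, 6, 2, 8, 4, 17, 7, 1, 9, 3, 20, 18, 14, 11, 15, 12, 10, 22, 13, 19, 16, 21, 5, 23], [10, 7, 8, 6, 2, 1, 11, 5, 4, 0, 9, 3], 183, 1, 370, 183),
  ([14, 0, 9, 8, 4, 19, 3, 12, 15, 6, 18, 17, 7, 20, 1, 2, 5, 22, 21, 11, 13, 10, 16, 23], [11, 6, 8, 5, 9, 7, 2, 0, 4, 1, 3, 10], 184, 0, 371, 372),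
  ([6, 0, 15, 2, 4, 22, 12, 7, 3, 1, 16, 5, 9, 20, 8, 14, 21, 17, 19, 10, 11, 18, 13, 23], [3, 1, 7, 5, 9, 6, 8, 11, 0, 2, 10, 4], 185, 0, 311, 373),
  ([1, 8, 6, 2, 4, 16, 7, 14, 3, 15, 20, 10, 0, 22, 9, 12, 21, 5, 13, 17, 19, 18, 11, 23], [5, 11, 9, 8, 4, 2, 3, 0, 1, 10, 6, 7], 185, 1, 84, 185),
  ([12, 1, 15, 7, 4, 17, 8, 6, 9, 3, 21, 18, 14, 10, 2, 0, 11, 16, 5, 19, 22, 20, 13, 23], [9, 11, 2, 1, 8, 6, 7, 4, 5, 3, 10, 0], 186, 0, 374, 375),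
  ([9, 12, 14, 8, 4, 17, 3, 0, 6, 15, 18, 19, 7, 22, 2, 1, 13, 20, 16, 11, 5, 10, 21, 23], [8, 5, 11, 6, 3, 2, 7, 10, 1, 4, 9, 0], 188, 0, 376, 377),
  ([0, 7, 12, 9, 4, 5, 3, 8, 1, 6, 18, 13, 14, 16, 2, 15, 11, 22, 20, 19, 10, 17, 21, 23], [3, 8, 0, 2, 5, 10, 9, 6, 11, 7, 4, 1], 188, 1, 223, 188),
  ([14, 3, 2, 15, 4, 16, 6, 8, 12, 0, 17, 21, 7, 13, 9, 1, 20, 22, 18, 11, 5, 19, 10, 23], [10, 8, 1, 9, 0, 11, 3, 5, 2, 6, 4, 7], 189, 0, 378, 379),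
  ([15, 0, 6, 9, 4, 5, 12, 7, 8, 14, 16, 22, 2, 13, 3, 1, 21, 19, 17, 18, 11, 10, 20, 23], [8, 0, 6, 2, 11, 7, 3, 9, 1, 5, 4, 10], 190, 0, 380, 381),
  ([6, 8, 1, 0, 4, 10, 7, 14, 9, 12, 20, 16, 2, 11, 3, 15, 21, 13, 5, 18, 19, 17, 22, 23], [3, 1, 2, 10, 0, 9, 5, 4, 11, 8, 7, 6], 190, 1, 382, 190),
  ([0, 8, 12, 14, 4, 5, 3, 7, 15, 2, 18, 13, 9, 20, 6, 1, 10, 21, 16, 17, 11, 19, 22, 23], [10, 7, 9, 11, 1, 3, 0, 4, 2, 8, 6, 5], 191, 0, 355, 383),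
  ([0, 2, 7, 6, 4, 21, 12, 9, 3, 14, 16, 11, 15, 20, 1, 8, 18, 19, 13, 5, 10, 22, 17, 23], [4, 6, 9, 3, 2, 10, 11, 0, 8, 7, 1, 5], 192, 0, 384, 385),
  ([8, 1, 6, 2, 4, 5, 3, 0, 7, 12, 20, 17, 14, 22, 9, 15, 11, 16, 18, 10, 19, 13, 21, 23], [10, 0, 8, 9, 7, 3, 2, 11, 6, 5, 1, 4], 194, 0, 386, 387),
  ([2, 8, 1, 14, 4, 21, 12, 0, 9, 7, 20, 5, 6, 17, 15, 3, 10, 13, 16, 18, 22, 11, 19, 23], [4, 11, 7, 9, 6, 10, 8, 3, 1, 5, 2, 0], 195, 0, 388, 389),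
  ([2, 9, 15, 12, 4, 21, 7, 8, 0, 14, 22, 10, 1, 5, 6, 3, 17, 11, 20, 18, 16, 19, 13, 23], [7, 0, 9, 4, 2, 6, 3, 5, 11, 8, 10, 1], 195, 1, 89, 195),
  ([7, 2, 3, 0, 4, 11, 8, 1, 14, 6, 10, 18, 12, 16, 15, 9, 19, 13, 21, 20, 17, 22, 5, 23], [0, 4, 2, 8, 6, 10, 7, 9, 11, 1, 3, 5], 196, 0, 327, 390),
  ([14, 2, 3, 8, 4, 19, 9, 15, 12, 1, 17, 18, 7, 20, 6, 0, 13, 11, 21, 22, 5, 16, 10, 23], [1, 7, 10, 3, 2, 6, 9, 4, 0, 11, 5, 8], 196, 1, 391, 196),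
  ([8, 2, 15, 1, 4, 13, 3, 12, 7, 0, 22, 19, 9, 20, 14, 6, 11, 21, 18, 10, 17, 5, 16, 23], [0, 10, 11, 3, 2, 9, 7, 8, 5, 6, 4, 1], 198, 0, 392, 257),
  ([9, 2, 6, 15, 4, 11, 3, 7, 14, 8, 16, 13, 0, 22, 12, 1, 19, 21, 18, 17, 5, 10, 20, 23], [1, 6, 0, 5, 10, 4, 9, 3, 8, 2, 7, 11], 198, 1, 393, 198),
  ([15, 9, 0, 1, 4, 20, 6, 3, 7, 8, 13, 21, 14, 22, 2, 12, 11, 10, 17, 19, 16, 5, 18, 23], [7, 5, 1, 0, 11, 4, 3, 10, 8, 9, 6, 2], 199, 0, 394, 395),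
  ([9, 3, 14, 1, 4, 21, 12, 0, 2, 7, 13, 22, 15, 19, 6, 8, 18, 20, 16, 10, 5, 11, 17, 23], [10, 9, 6, 11, 7, 4, 3, 8, 0, 2, 5, 1], 200, 0, 396, 397),
  ([0, 3, 12, 15, 4, 21, 7, 8, 2, 14, 11, 16, 6, 13, 1, 9, 18, 22, 20, 17, 10, 19, 5, 23], [6, 4, 2, 0, 9, 7, 5, 3, 1, 10, 8, 11], 200, 1, 398, 200),
  ([14, 6, 2, 1, 4, 10, 3, 8, 9, 7, 20, 13, 0, 21, 12, 15, 17, 22, 18, 19, 5, 11, 16, 23], [5, 4, 9, 1, 3, 6, 0, 10, 7, 11, 8, 2], 201, 0, 232, 399),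
  ([6, 1, 14, 8, 4, 18, 12, 2, 15, 9, 20, 11, 0, 19, 7, 3, 5, 17, 16, 22, 21, 10, 13, 23], [5, 0, 9, 2, 10, 1, 11, 4, 6, 3, 7, 8], 202, 0, 400, 401),
  ([1, 15, 12, 9, 4, 18, 7, 2, 6, 0, 22, 19, 8, 13, 14, 3, 10, 5, 20, 16, 21, 17, 11, 23], [8, 1, 4, 10, 6, 11, 0, 7, 2, 5, 9, 3], 202, 1, 92, 202),
  ([0, 9, 14, 7, 4, 21, 1, 8, 3, 6, 18, 10, 12, 16, 15, 2, 20, 17, 11, 19, 13, 22, 5, 23], [5, 9, 1, 7, 3, 11, 8, 4, 10, 2, 6, 0], 203, 0, 402, 403),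
  ([8, 0, 12, 14, 4, 21, 15, 9, 3, 1, 18, 17, 7, 20, 6, 2, 22, 5, 19, 13, 11, 16, 10, 23], [8, 4, 11, 9, 5, 0, 3, 7, 6, 10, 2, 1], 203, 1, 404, 203),
  ([8, 14, 2, 7, 4, 10, 1, 15, 6, 12, 17, 19, 3, 18, 0, 9, 22, 16, 11, 21, 20, 13, 5, 23], [8, 4, 2, 3, 0, 1, 10, 6, 5, 11, 9, 7], 204, 0, 243, 405),
  ([2, 1, 12, 0, 4, 18, 9, 3, 15, 14, 10, 16, 7, 20, 8, 6, 5, 11, 17, 13, 22, 19, 21, 23], [9, 1, 3, 6, 0, 10, 7, 11, 8, 5, 4, 2], 205, 1, 94, 205),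
  ([7, 12, 0, 14, 4, 20, 2, 9, 3, 6, 18, 17, 8, 21, 1, 15, 16, 13, 19, 5, 10, 22, 11, 23], [2, 5, 7, 10, 4, 3, 0, 11, 1, 9, 8, 6], 206, 0, 406, 407),
  ([14, 7, 8, 12, 4, 22, 2, 0, 3, 1, 18, 5, 9, 21, 15, 6, 20, 11, 13, 10, 17, 16, 19, 23], [10, 8, 9, 6, 7, 5, 1, 0, 11, 4, 3, 2], 206, 1, 142, 206),
  ([12, 9, 2, 8, 4, 17, 3, 1, 6, 7, 22, 11, 15, 18, 14, 0, 10, 20, 21, 19, 5, 13, 16, 23], [2, 0, 1, 9, 10, 8, 4, 3, 11, 7, 6, 5], 207, 0, 274, 408),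
  ([7, 0, 2, 9, 4, 5, 3, 15, 1, 14, 16, 19, 6, 18, 12, 8, 17, 22, 21, 13, 10, 11, 20, 23], [10, 1, 11, 4, 6, 3, 7, 5, 0, 9, 2, 8], 207, 1, 96, 207),
  ([8, 14, 7, 2, 4, 16, 9, 3, 12, 6, 17, 22, 15, 20, 0, 1, 19, 10, 11, 5, 18, 13, 21, 23], [3, 5, 11, 8, 10, 7, 0, 9, 4, 2, 6, 1], 208, 0, 409, 410),
  ([9, 12, 14, 2, 4, 20, 0, 3, 7, 1, 5, 16, 6, 22, 8, 15, 13, 17, 19, 10, 18, 11, 21, 23], [5, 8, 0, 3, 6, 9, 1, 4, 7, 10, 2, 11], 208, 1, 411, 208)]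

/-- A block of pairs. -/
def pairs5 : List (List (Fin 24) × List (Fin 12) × ℕ × ℕ × ℕ × ℕ) := [
  ([3, 7, 8, 2, 4, 20, 6, 15, 9, 0, 17, 5, 14, 10, 1, 12, 11, 22, 13, 16, 19, 21, 18, 23], [4, 1, 5, 3, 9, 7, 0, 8, 10, 11, 2, 6], 210, 0, 412, 413),
  ([3, 14, 9, 2, 4, 22, 1, 6, 0, 8, 5, 10, 12, 17, 15, 7, 19, 16, 11, 20, 13, 21, 18, 23], [7, 11, 8, 5, 4, 9, 1, 3, 6, 0, 10, 2], 210, 1, 414, 210),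
  ([6, 7, 15, 9, 4, 22, 12, 0, 14, 8, 16, 5, 2, 19, 1, 3, 11, 13, 20, 18, 21, 10, 17, 23], [6, 2, 8, 0, 4, 3, 7, 10, 5, 1, 11, 9], 211, 0, 415, 416),
  ([12, 2, 9, 3, 4, 19, 8, 14, 15, 7, 5, 11, 6, 10, 1, 0, 18, 13, 21, 17, 22, 20, 16, 23], [5, 1, 0, 11, 4, 3, 10, 8, 9, 6, 7, 2], 212, 0, 417, 418),
  ([3, 9, 14, 6, 4, 21, 15, 2, 0, 7, 5, 11, 12, 19, 1, 8, 17, 20, 10, 16, 13, 22, 18, 23], [8, 2, 7, 1, 6, 0, 5, 10, 4, 9, 3, 11], 213, 0, 419, 420),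
  ([12, 15, 6, 1, 4, 19, 3, 14, 0, 9, 21, 10, 7, 22, 8, 2, 5, 20, 18, 13, 11, 17, 16, 23], [7, 8, 6, 2, 1, 11, 5, 4, 0, 9, 10, 3], 214, 0, 421, 254),
  ([7, 6, 1, 15, 4, 13, 3, 12, 8, 0, 21, 17, 14, 16, 9, 2, 10, 22, 18, 11, 19, 5, 20, 23], [9, 3, 2, 10, 11, 0, 8, 7, 1, 4, 6, 5], 214, 1, 99, 214),
  ([1, 3, 0, 9, 4, 16, 2, 14, 12, 6, 13, 22, 15, 19, 7, 8, 20, 18, 21, 5, 10, 17, 11, 23], [6, 0, 10, 7, 11, 8, 5, 4, 9, 1, 3, 2], 215, 0, 253, 422),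
  ([15, 3, 8, 0, 4, 20, 2, 12, 7, 1, 11, 16, 6, 13, 14, 9, 22, 18, 21, 10, 17, 5, 19, 23], [2, 1, 6, 9, 0, 3, 8, 7, 4, 11, 5, 10], 215, 1, 423, 215),
  ([1, 6, 8, 14, 4, 18, 9, 2, 3, 12, 20, 13, 0, 21, 7, 15, 22, 17, 10, 5, 19, 16, 11, 23], [9, 7, 5, 3, 1, 10, 8, 6, 4, 2, 0, 11], 216, 0, 424, 425),
  ([8, 1, 2, 6, 4, 16, 15, 14, 12, 7, 20, 11, 0, 19, 9, 3, 17, 5, 18, 21, 22, 13, 10, 23], [9, 6, 5, 10, 2, 4, 7, 1, 0, 8, 11, 3], 217, 0, 426, 427),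
  ([9, 15, 2, 1, 4, 20, 6, 12, 7, 14, 22, 19, 8, 13, 0, 3, 5, 10, 18, 21, 16, 11, 17, 23], [4, 2, 8, 6, 10, 7, 9, 11, 1, 3, 0, 5], 217, 1, 101, 217),
  ([2, 3, 7, 12, 4, 21, 15, 0, 8, 6, 10, 22, 1, 5, 14, 9, 16, 18, 20, 11, 17, 13, 19, 23], [8, 6, 1, 10, 3, 0, 2, 11, 5, 7, 4, 9], 218, 0, 428, 429),
  ([2, 3, 14, 7, 4, 21, 6, 8, 9, 1, 17, 16, 15, 10, 12, 0, 20, 18, 22, 19, 5, 11, 13, 23], [3, 2, 11, 6, 5, 1, 10, 0, 8, 9, 7, 4], 218, 1, 430, 218),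
  ([7, 3, 1, 2, 4, 20, 6, 12, 9, 14, 10, 16, 0, 17, 8, 15, 21, 22, 18, 5, 19, 11, 13, 23], [7, 6, 10, 2, 8, 4, 11, 9, 5, 0, 3, 1], 220, 0, 431, 432),
  ([14, 3, 15, 2, 4, 22, 1, 7, 0, 12, 17, 20, 8, 5, 9, 6, 21, 16, 18, 10, 13, 19, 11, 23], [9, 2, 6, 10, 3, 7, 0, 4, 8, 1, 5, 11], 220, 1, 433, 220),
  ([7, 6, 1, 9, 4, 22, 12, 3, 14, 2, 19, 18, 8, 16, 15, 0, 10, 13, 17, 5, 21, 11, 20, 23], [3, 9, 5, 11, 10, 6, 1, 4, 8, 7, 0, 2], 221, 0, 434, 435),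
  ([0, 15, 9, 6, 4, 5, 14, 7, 1, 12, 16, 20, 2, 11, 3, 8, 18, 19, 10, 21, 13, 17, 22, 23], [6, 4, 8, 5, 7, 11, 10, 1, 9, 2, 0, 3], 222, 1, 103, 222),
  ([7, 15, 2, 14, 4, 20, 0, 3, 9, 1, 17, 18, 8, 21, 6, 12, 10, 5, 19, 13, 16, 11, 22, 23], [9, 3, 6, 8, 0, 5, 4, 1, 11, 2, 10, 7], 224, 0, 436, 237),
  ([14, 6, 2, 12, 4, 22, 8, 3, 0, 15, 5, 18, 9, 21, 1, 7, 17, 10, 13, 11, 20, 19, 16, 23], [4, 5, 2, 3, 1, 8, 7, 11, 0, 10, 6, 9], 224, 1, 437, 224),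
  ([7, 0, 9, 2, 4, 22, 8, 6, 14, 1, 16, 17, 15, 10, 12, 3, 19, 5, 21, 20, 18, 11, 13, 23], [4, 0, 9, 10, 7, 8, 6, 2, 1, 11, 5, 3], 225, 0, 438, 321),
  ([7, 6, 9, 15, 4, 22, 8, 0, 3, 12, 16, 17, 2, 21, 1, 14, 18, 13, 10, 11, 19, 20, 5, 23], [8, 11, 6, 1, 3, 4, 9, 5, 10, 0, 2, 7], 226, 0, 155, 320),
  ([14, 1, 0, 6, 4, 16, 9, 8, 3, 7, 20, 5, 2, 21, 15, 12, 18, 11, 17, 19, 13, 22, 10, 23], [3, 0, 2, 11, 5, 7, 4, 8, 6, 1, 10, 9], 226, 1, 439, 226),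
  ([7, 12, 14, 0, 4, 13, 15, 8, 6, 3, 18, 16, 9, 10, 1, 2, 17, 20, 19, 11, 21, 22, 5, 23], [10, 1, 9, 2, 0, 6, 4, 8, 5, 7, 11, 3], 227, 0, 440, 441),
  ([9, 7, 6, 0, 4, 11, 3, 2, 1, 12, 16, 13, 15, 18, 8, 14, 5, 20, 22, 10, 19, 17, 21, 23], [4, 2, 9, 8, 11, 1, 0, 7, 5, 6, 3, 10], 228, 0, 442, 443),
  ([0, 14, 1, 8, 4, 19, 3, 2, 15, 7, 20, 11, 6, 18, 9, 12, 10, 22, 16, 17, 13, 5, 21, 23], [7, 10, 4, 3, 0, 11, 1, 9, 8, 2, 5, 6], 228, 1, 106, 228),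
  ([14, 6, 12, 1, 4, 22, 9, 7, 3, 8, 21, 13, 15, 20, 2, 0, 18, 10, 17, 19, 5, 16, 11, 23], [0, 3, 8, 7, 4, 11, 5, 2, 1, 6, 9, 10], 229, 0, 444, 445),
  ([12, 1, 7, 15, 4, 16, 0, 14, 3, 9, 21, 11, 6, 22, 2, 8, 18, 17, 5, 13, 10, 20, 19, 23], [1, 5, 3, 9, 7, 0, 8, 10, 11, 2, 4, 6], 229, 1, 446, 229),
  ([7, 0, 9, 12, 4, 5, 6, 8, 15, 3, 18, 21, 14, 10, 2, 1, 19, 22, 17, 11, 16, 20, 13, 23], [0, 4, 3, 7, 10, 5, 1, 11, 6, 2, 8, 9], 231, 0, 447, 448),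
  ([14, 8, 0, 7, 4, 10, 1, 9, 6, 3, 18, 21, 12, 17, 2, 15, 13, 16, 5, 19, 20, 22, 11, 23], [1, 7, 5, 9, 6, 8, 11, 0, 2, 10, 3, 4], 231, 1, 399, 231),
  ([7, 8, 14, 3, 4, 5, 12, 15, 0, 6, 17, 10, 2, 19, 9, 1, 21, 13, 16, 11, 18, 22, 20, 23], [7, 6, 0, 3, 5, 8, 2, 1, 9, 11, 10, 4], 232, 0, 449, 450),
  ([2, 7, 15, 0, 4, 11, 8, 9, 14, 12, 16, 20, 6, 10, 3, 1, 22, 13, 5, 18, 17, 19, 21, 23], [10, 5, 11, 3, 9, 0, 1, 6, 2, 7, 8, 4], 233, 0, 451, 452),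
  ([2, 14, 6, 8, 4, 19, 9, 0, 12, 7, 20, 22, 1, 17, 3, 15, 16, 11, 10, 18, 5, 13, 21, 23], [6, 8, 0, 5, 4, 1, 11, 2, 10, 9, 3, 7], 233, 1, 453, 233),
  ([9, 7, 0, 8, 4, 11, 15, 14, 2, 3, 18, 22, 12, 19, 6, 1, 13, 20, 5, 17, 16, 21, 10, 23], [5, 8, 1, 0, 4, 7, 2, 9, 11, 3, 10, 6], 234, 0, 427, 454),
  ([1, 0, 2, 14, 4, 5, 12, 8, 7, 9, 20, 21, 6, 13, 3, 15, 22, 17, 19, 18, 10, 11, 16, 23], [7, 9, 4, 11, 2, 8, 10, 0, 5, 1, 6, 3], 235, 0, 455, 406),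
  ([15, 8, 2, 12, 4, 10, 7, 9, 14, 0, 22, 21, 1, 11, 3, 6, 16, 5, 13, 18, 17, 19, 20, 23], [9, 4, 7, 0, 10, 3, 6, 1, 8, 11, 2, 5], 235, 1, 456, 235),
  ([12, 1, 2, 7, 4, 16, 9, 3, 8, 6, 10, 18, 0, 21, 15, 14, 5, 17, 11, 19, 22, 13, 20, 23], [7, 8, 10, 5, 11, 3, 9, 0, 1, 6, 2, 4], 237, 0, 457, 458),
  ([3, 1, 9, 7, 4, 18, 14, 6, 15, 12, 19, 17, 8, 10, 0, 2, 5, 16, 11, 21, 13, 20, 22, 23], [3, 10, 5, 8, 1, 0, 4, 7, 2, 9, 11, 6], 238, 0, 459, 460),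
  ([0, 1, 3, 2, 4, 17, 15, 12, 9, 8, 10, 16, 7, 20, 14, 6, 11, 5, 18, 22, 13, 21, 19, 23], [3, 8, 9, 0, 6, 11, 4, 10, 1, 2, 7, 5], 239, 0, 429, 461),
  ([8, 15, 3, 2, 4, 5, 6, 7, 0, 9, 17, 20, 14, 22, 12, 1, 19, 10, 18, 16, 11, 21, 13, 23], [5, 3, 4, 1, 2, 0, 7, 6, 11, 10, 9, 8], 239, 1, 462, 239),
  ([8, 1, 6, 9, 4, 16, 0, 3, 14, 15, 19, 18, 7, 22, 2, 12, 11, 5, 17, 13, 20, 10, 21, 23], [0, 10, 4, 7, 9, 1, 6, 5, 2, 11, 3, 8], 240, 0, 463, 464),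
  ([2, 8, 1, 15, 4, 13, 0, 12, 6, 3, 22, 16, 9, 17, 14, 7, 10, 21, 5, 11, 20, 18, 19, 23], [11, 4, 0, 6, 9, 2, 1, 5, 8, 3, 10, 7], 241, 0, 465, 466),
  ([2, 9, 15, 6, 4, 11, 8, 7, 1, 3, 16, 20, 0, 5, 12, 14, 17, 21, 10, 19, 22, 18, 13, 23], [0, 7, 1, 2, 4, 10, 11, 8, 3, 5, 6, 9], 241, 1, 113, 241),
  ([8, 7, 9, 3, 4, 5, 12, 1, 0, 2, 19, 11, 6, 17, 14, 15, 22, 13, 20, 10, 18, 21, 16, 23], [8, 4, 9, 10, 1, 7, 11, 5, 0, 2, 3, 6], 242, 0, 467, 468),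
  ([9, 14, 0, 3, 4, 10, 7, 15, 8, 2, 13, 19, 1, 5, 12, 6, 16, 11, 22, 17, 18, 21, 20, 23], [3, 7, 4, 6, 11, 9, 0, 8, 1, 10, 5, 2], 242, 1, 405, 242),
  ([15, 7, 14, 6, 4, 5, 3, 1, 8, 9, 21, 11, 12, 16, 2, 0, 13, 20, 22, 19, 17, 10, 18, 23], [10, 6, 4, 5, 2, 3, 1, 8, 7, 11, 0, 9], 243, 0, 469, 470),
  ([3, 9, 6, 1, 4, 21, 12, 8, 2, 15, 19, 10, 7, 13, 14, 0, 11, 20, 17, 22, 5, 18, 16, 23], [4, 1, 0, 5, 8, 10, 2, 7, 6, 3, 11, 9], 244, 0, 471, 472),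
  ([3, 0, 1, 15, 4, 21, 7, 9, 2, 6, 13, 17, 14, 11, 12, 8, 19, 22, 5, 16, 10, 18, 20, 23], [7, 11, 1, 8, 3, 6, 10, 9, 2, 5, 0, 4], 244, 1, 115, 244),
  ([9, 14, 12, 3, 4, 11, 8, 2, 7, 15, 5, 19, 6, 13, 0, 1, 22, 10, 16, 17, 18, 20, 21, 23], [0, 11, 5, 1, 7, 10, 3, 2, 6, 9, 4, 8], 245, 0, 473, 474),
  ([0, 12, 7, 3, 4, 19, 9, 2, 14, 6, 10, 13, 1, 11, 8, 15, 16, 17, 20, 5, 18, 22, 21, 23], [1, 0, 8, 11, 9, 6, 5, 10, 2, 4, 7, 3], 245, 1, 475, 245),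
  ([15, 8, 2, 3, 4, 5, 9, 7, 1, 6, 17, 13, 14, 11, 12, 0, 16, 10, 21, 19, 22, 18, 20, 23], [4, 9, 5, 10, 0, 2, 8, 11, 6, 1, 3, 7], 247, 0, 476, 394),
  ([6, 9, 2, 3, 4, 10, 0, 14, 15, 1, 5, 11, 12, 19, 7, 8, 20, 17, 21, 13, 16, 18, 22, 23], [7, 4, 8, 6, 1, 10, 3, 0, 2, 11, 5, 9], 247, 1, 477, 247),
  ([0, 3, 15, 1, 4, 21, 6, 9, 8, 7, 13, 20, 14, 10, 12, 2, 16, 22, 18, 19, 11, 5, 17, 23], [1, 0, 7, 5, 6, 3, 4, 2, 9, 8, 11, 10], 249, 0, 478, 374),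
  ([8, 3, 6, 15, 4, 21, 1, 0, 9, 14, 11, 22, 12, 17, 7, 2, 20, 16, 18, 13, 19, 10, 5, 23], [11, 1, 9, 8, 2, 5, 7, 10, 4, 3, 0, 6], 249, 1, 117, 249),
  ([1, 9, 15, 3, 4, 11, 12, 14, 2, 6, 13, 10, 0, 19, 8, 7, 21, 17, 20, 5, 22, 18, 16, 23], [11, 5, 2, 1, 6, 9, 0, 3, 8, 7, 4, 10], 250, 0, 479, 480),
  ([15, 0, 6, 3, 4, 19, 7, 12, 2, 1, 11, 17, 8, 13, 9, 14, 21, 5, 22, 10, 16, 18, 20, 23], [0, 8, 10, 11, 2, 4, 1, 5, 3, 9, 7, 6], 250, 1, 481, 250),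
  ([12, 6, 14, 15, 4, 13, 9, 7, 2, 0, 21, 22, 1, 11, 3, 8, 18, 17, 10, 16, 5, 19, 20, 23], [5, 1, 11, 6, 2, 8, 0, 4, 3, 7, 10, 9], 252, 0, 482, 483),
  ([7, 1, 12, 6, 4, 11, 0, 14, 2, 8, 21, 16, 15, 19, 3, 9, 18, 5, 17, 20, 10, 13, 22, 23], [8, 11, 0, 2, 10, 3, 1, 7, 5, 9, 6, 4], 252, 1, 422, 252),
  ([3, 12, 2, 0, 4, 20, 14, 7, 9, 8, 10, 13, 1, 11, 6, 15, 17, 16, 19, 18, 5, 21, 22, 23], [8, 2, 1, 9, 11, 10, 7, 6, 0, 3, 5, 4], 253, 0, 306, 359),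
  ([14, 1, 15, 6, 4, 11, 3, 7, 9, 8, 21, 5, 12, 20, 0, 2, 17, 16, 18, 19, 13, 10, 22, 23], [4, 5, 10, 6, 0, 1, 3, 9, 11, 7, 2, 8], 254, 0, 175, 358)]

/-- A block of pairs. -/
def pairs6 : List (List (Fin 24) × List (Fin 12) × ℕ × ℕ × ℕ × ℕ) := [
  ([2, 1, 0, 12, 4, 11, 6, 7, 14, 15, 10, 5, 3, 22, 8, 9, 16, 18, 17, 21, 20, 19, 13, 23], [6, 8, 5, 9, 7, 2, 0, 4, 1, 3, 11, 10], 255, 0, 484, 485),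
  ([12, 9, 8, 14, 4, 17, 15, 0, 1, 3, 18, 21, 7, 5, 2, 6, 11, 20, 10, 13, 22, 16, 19, 23], [11, 9, 8, 4, 2, 3, 0, 1, 10, 6, 5, 7], 256, 1, 120, 256),
  ([0, 2, 1, 6, 4, 19, 3, 14, 12, 9, 20, 11, 8, 16, 7, 15, 13, 21, 18, 5, 10, 17, 22, 23], [11, 2, 1, 8, 6, 7, 4, 5, 3, 10, 9, 0], 257, 0, 486, 487),
  ([1, 2, 12, 0, 4, 11, 15, 7, 9, 6, 10, 13, 3, 20, 8, 14, 21, 18, 19, 16, 22, 17, 5, 23], [5, 11, 6, 3, 2, 7, 10, 1, 4, 9, 8, 0], 259, 0, 488, 489),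
  ([15, 2, 7, 8, 4, 19, 6, 14, 0, 1, 17, 11, 3, 22, 9, 12, 21, 18, 13, 20, 16, 5, 10, 23], [8, 0, 2, 5, 10, 9, 6, 11, 7, 4, 3, 1], 259, 1, 293, 259),
  ([1, 9, 3, 8, 4, 11, 0, 7, 14, 12, 19, 20, 6, 22, 15, 2, 10, 17, 21, 18, 13, 16, 5, 23], [8, 1, 9, 0, 11, 3, 5, 2, 6, 4, 10, 7], 260, 0, 490, 434),
  ([1, 3, 0, 7, 4, 18, 14, 2, 15, 8, 10, 21, 12, 19, 9, 6, 20, 16, 22, 17, 13, 5, 11, 23], [0, 6, 2, 11, 7, 3, 9, 1, 5, 4, 8, 10], 261, 0, 491, 492),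
  ([15, 3, 8, 14, 4, 18, 12, 2, 6, 9, 17, 21, 7, 13, 0, 1, 22, 20, 16, 5, 11, 10, 19, 23], [1, 2, 10, 0, 9, 5, 4, 11, 8, 7, 3, 6], 261, 1, 493, 261),
  ([1, 6, 8, 7, 4, 17, 2, 9, 0, 15, 19, 10, 3, 21, 14, 12, 22, 18, 13, 16, 20, 5, 11, 23], [7, 9, 11, 1, 3, 0, 4, 2, 8, 6, 10, 5], 262, 0, 472, 494),
  ([8, 1, 2, 9, 4, 5, 14, 15, 0, 3, 22, 18, 12, 19, 6, 7, 17, 16, 11, 13, 20, 21, 10, 23], [6, 9, 3, 2, 10, 11, 0, 8, 7, 1, 4, 5], 263, 0, 325, 495),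
  ([15, 9, 1, 0, 4, 10, 12, 14, 8, 7, 13, 11, 3, 16, 2, 6, 21, 20, 17, 18, 22, 5, 19, 23], [0, 8, 9, 7, 3, 2, 11, 6, 5, 1, 10, 4], 265, 0, 496, 497),
  ([3, 15, 8, 0, 4, 18, 7, 6, 2, 9, 11, 10, 12, 13, 14, 1, 19, 20, 5, 16, 17, 21, 22, 23], [11, 7, 9, 6, 10, 8, 3, 1, 5, 2, 4, 0], 266, 0, 498, 499),
  ([3, 6, 9, 8, 4, 18, 14, 1, 2, 0, 19, 17, 7, 11, 12, 15, 13, 22, 10, 20, 5, 21, 16, 23], [0, 9, 4, 2, 6, 3, 5, 11, 8, 10, 7, 1], 266, 1, 125, 266),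
  ([0, 6, 2, 15, 4, 22, 1, 7, 14, 12, 16, 13, 9, 11, 8, 3, 10, 17, 18, 21, 20, 19, 5, 23], [7, 10, 3, 2, 6, 9, 4, 0, 11, 5, 1, 8], 267, 1, 500, 267),
  ([6, 14, 2, 12, 4, 10, 0, 9, 8, 7, 5, 11, 3, 21, 1, 15, 16, 22, 19, 18, 20, 13, 17, 23], [10, 11, 3, 2, 9, 7, 8, 5, 6, 4, 0, 1], 269, 0, 501, 352),
  ([1, 12, 2, 7, 4, 17, 8, 0, 9, 14, 10, 19, 3, 21, 15, 6, 20, 16, 13, 18, 22, 11, 5, 23], [6, 0, 5, 10, 4, 9, 3, 8, 2, 7, 1, 11], 269, 1, 213, 269),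
  ([8, 6, 3, 0, 4, 10, 7, 15, 9, 2, 11, 18, 12, 20, 1, 14, 17, 13, 22, 16, 19, 21, 5, 23], [9, 6, 11, 7, 4, 3, 8, 0, 2, 5, 10, 1], 270, 0, 502, 503),
  ([9, 1, 3, 8, 4, 17, 14, 6, 0, 2, 19, 18, 7, 22, 15, 12, 5, 11, 16, 20, 13, 21, 10, 23], [4, 2, 0, 9, 7, 5, 3, 1, 10, 8, 6, 11], 270, 1, 504, 270),
  ([3, 7, 1, 2, 4, 22, 9, 0, 6, 15, 10, 5, 12, 17, 8, 14, 13, 20, 11, 16, 19, 18, 21, 23], [0, 9, 2, 10, 1, 11, 4, 6, 3, 7, 5, 8], 272, 0, 505, 506),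
  ([3, 14, 15, 2, 4, 16, 0, 8, 1, 6, 17, 10, 7, 5, 9, 12, 11, 22, 19, 20, 13, 18, 21, 23], [1, 4, 10, 6, 11, 0, 7, 2, 5, 9, 8, 3], 272, 1, 128, 272),
  ([2, 15, 9, 8, 4, 19, 6, 12, 0, 3, 22, 20, 1, 17, 7, 14, 5, 18, 10, 11, 16, 21, 13, 23], [9, 1, 7, 3, 11, 8, 4, 10, 2, 6, 5, 0], 273, 0, 507, 508),
  ([2, 6, 0, 9, 4, 13, 1, 7, 8, 3, 16, 22, 15, 5, 14, 12, 10, 18, 17, 19, 20, 21, 11, 23], [4, 11, 9, 5, 0, 3, 7, 6, 10, 2, 8, 1], 273, 1, 408, 273),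
  ([9, 0, 14, 15, 4, 21, 12, 3, 8, 6, 13, 22, 1, 16, 7, 2, 5, 17, 19, 11, 18, 10, 20, 23], [4, 2, 3, 0, 1, 10, 6, 5, 11, 9, 8, 7], 274, 0, 339, 509),
  ([6, 8, 1, 3, 4, 13, 14, 7, 2, 15, 19, 5, 9, 11, 0, 12, 21, 10, 16, 17, 20, 18, 22, 23], [1, 3, 6, 0, 10, 7, 11, 8, 5, 4, 9, 2], 275, 1, 130, 275),
  ([15, 1, 12, 9, 4, 5, 6, 8, 7, 3, 22, 16, 2, 13, 14, 0, 11, 18, 17, 19, 21, 20, 10, 23], [5, 7, 10, 4, 3, 0, 11, 1, 9, 8, 2, 6], 276, 0, 332, 510),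
  ([6, 15, 7, 0, 4, 10, 1, 9, 14, 3, 16, 20, 2, 11, 12, 8, 19, 18, 5, 13, 21, 22, 17, 23], [8, 9, 6, 7, 5, 1, 0, 11, 4, 3, 10, 2], 276, 1, 194, 276),
  ([0, 14, 9, 1, 4, 19, 7, 15, 12, 6, 13, 10, 3, 20, 8, 2, 16, 22, 11, 21, 18, 17, 5, 23], [0, 1, 9, 10, 8, 4, 3, 11, 7, 6, 2, 5], 277, 0, 367, 511),
  ([8, 12, 0, 15, 4, 13, 14, 6, 7, 1, 11, 17, 3, 22, 9, 2, 20, 16, 19, 21, 18, 5, 10, 23], [1, 11, 4, 6, 3, 7, 5, 0, 9, 2, 10, 8], 277, 1, 132, 277),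
  ([1, 0, 14, 3, 4, 5, 6, 15, 8, 12, 13, 19, 9, 10, 2, 7, 21, 17, 22, 11, 20, 16, 18, 23], [5, 11, 8, 10, 7, 0, 9, 4, 2, 6, 3, 1], 278, 0, 512, 513),
  ([15, 8, 12, 3, 4, 10, 1, 6, 9, 7, 11, 13, 0, 17, 2, 14, 21, 5, 16, 19, 22, 20, 18, 23], [8, 0, 3, 6, 9, 1, 4, 7, 10, 2, 5, 11], 278, 1, 514, 278),
  ([7, 15, 14, 6, 4, 20, 8, 12, 3, 0, 21, 19, 1, 16, 2, 9, 18, 5, 10, 11, 17, 22, 13, 23], [11, 8, 5, 4, 9, 1, 3, 6, 0, 10, 7, 2], 280, 1, 515, 280),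
  ([3, 1, 7, 0, 4, 18, 8, 2, 6, 14, 10, 11, 12, 13, 9, 15, 17, 16, 5, 20, 19, 22, 21, 23], [2, 8, 0, 4, 3, 7, 10, 5, 1, 11, 6, 9], 281, 0, 432, 516),
  ([0, 1, 2, 14, 4, 17, 7, 6, 12, 15, 20, 18, 8, 13, 3, 9, 16, 5, 11, 21, 10, 19, 22, 23], [1, 0, 11, 4, 3, 10, 8, 9, 6, 7, 5, 2], 282, 0, 517, 518),
  ([8, 1, 9, 2, 4, 16, 7, 12, 3, 0, 22, 17, 15, 20, 6, 14, 18, 5, 11, 10, 19, 21, 13, 23], [2, 7, 1, 6, 0, 5, 10, 4, 9, 3, 8, 11], 283, 0, 519, 442),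
  ([2, 8, 15, 14, 4, 13, 9, 7, 12, 0, 17, 5, 3, 20, 1, 6, 16, 21, 10, 18, 22, 19, 11, 23], [8, 6, 2, 1, 11, 5, 4, 0, 9, 10, 7, 3], 284, 0, 520, 350),
  ([2, 9, 6, 12, 4, 11, 0, 14, 7, 8, 5, 10, 3, 22, 15, 1, 20, 21, 17, 18, 16, 13, 19, 23], [3, 2, 10, 11, 0, 8, 7, 1, 4, 6, 9, 5], 284, 1, 135, 284),
  ([8, 7, 3, 14, 4, 5, 6, 15, 1, 12, 17, 20, 2, 18, 9, 0, 11, 13, 22, 21, 19, 16, 10, 23], [0, 10, 7, 11, 8, 5, 4, 9, 1, 3, 6, 2], 285, 0, 349, 521),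
  ([9, 14, 3, 12, 4, 10, 1, 6, 15, 7, 5, 22, 2, 18, 0, 8, 19, 11, 16, 21, 13, 20, 17, 23], [1, 6, 9, 0, 3, 8, 7, 4, 11, 5, 2, 10], 285, 1, 522, 285),
  ([15, 7, 6, 2, 4, 5, 12, 0, 1, 3, 16, 22, 9, 17, 14, 8, 11, 20, 13, 10, 21, 18, 19, 23], [7, 5, 3, 1, 10, 8, 6, 4, 2, 0, 9, 11], 286, 0, 216, 423),
  ([3, 0, 15, 12, 4, 21, 14, 8, 9, 7, 11, 5, 6, 10, 1, 2, 17, 22, 19, 18, 13, 20, 16, 23], [2, 8, 6, 10, 7, 9, 11, 1, 3, 0, 4, 5], 287, 1, 137, 287),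
  ([9, 14, 3, 0, 4, 11, 6, 1, 2, 8, 13, 16, 15, 18, 12, 7, 19, 10, 22, 20, 5, 21, 17, 23], [6, 1, 10, 3, 0, 2, 11, 5, 7, 4, 8, 9], 288, 0, 410, 523),
  ([0, 12, 3, 8, 4, 19, 1, 15, 2, 9, 11, 20, 6, 18, 7, 14, 13, 17, 16, 22, 10, 21, 5, 23], [2, 11, 6, 5, 1, 10, 0, 8, 9, 7, 3, 4], 288, 1, 524, 288),
  ([15, 8, 3, 12, 4, 5, 14, 0, 7, 9, 11, 21, 6, 22, 2, 1, 13, 10, 16, 18, 17, 20, 19, 23], [6, 10, 2, 8, 4, 11, 9, 5, 0, 3, 7, 1], 290, 0, 525, 526),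
  ([6, 9, 3, 7, 4, 10, 12, 8, 14, 0, 19, 21, 1, 16, 2, 15, 11, 17, 20, 18, 5, 22, 13, 23], [2, 6, 10, 3, 7, 0, 4, 8, 1, 5, 9, 11], 290, 1, 527, 290),
  ([0, 15, 6, 3, 4, 5, 2, 8, 7, 14, 11, 10, 12, 13, 9, 1, 20, 19, 18, 17, 16, 22, 21, 23], [9, 5, 11, 10, 6, 1, 4, 8, 7, 0, 3, 2], 291, 0, 528, 529),
  ([8, 3, 15, 7, 4, 21, 12, 2, 0, 1, 17, 18, 14, 19, 6, 9, 22, 16, 20, 10, 11, 5, 13, 23], [4, 8, 5, 7, 11, 10, 1, 9, 2, 0, 6, 3], 292, 1, 139, 292),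
  ([12, 6, 15, 3, 4, 13, 1, 8, 7, 9, 11, 10, 0, 5, 14, 2, 22, 17, 18, 19, 21, 20, 16, 23], [3, 6, 8, 0, 5, 4, 1, 11, 2, 10, 9, 7], 294, 0, 530, 334),
  ([7, 1, 6, 3, 4, 11, 15, 9, 14, 0, 19, 17, 8, 10, 12, 2, 16, 5, 18, 13, 21, 22, 20, 23], [5, 2, 3, 1, 8, 7, 11, 0, 10, 6, 4, 9], 294, 1, 531, 294),
  ([1, 9, 15, 8, 4, 17, 14, 12, 0, 7, 22, 20, 2, 19, 3, 6, 21, 11, 10, 18, 13, 5, 16, 23], [5, 11, 10, 6, 1, 4, 8, 7, 0, 3, 9, 2], 296, 1, 532, 296),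
  ([0, 3, 12, 1, 4, 22, 8, 7, 6, 9, 10, 20, 2, 13, 15, 14, 18, 21, 16, 19, 11, 17, 5, 23], [4, 6, 11, 9, 0, 8, 1, 10, 5, 3, 7, 2], 298, 0, 533, 457),
  ([8, 3, 7, 15, 4, 16, 9, 14, 1, 0, 17, 22, 2, 11, 6, 12, 18, 21, 20, 13, 19, 5, 10, 23], [7, 2, 0, 4, 1, 3, 11, 6, 8, 5, 9, 10], 298, 1, 534, 298),
  ([8, 6, 3, 1, 4, 13, 15, 7, 12, 14, 19, 22, 9, 20, 0, 2, 17, 10, 18, 21, 11, 16, 5, 23], [6, 9, 1, 4, 7, 10, 2, 5, 8, 0, 3, 11], 299, 0, 535, 536),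
  ([7, 12, 0, 1, 4, 13, 9, 2, 8, 15, 10, 19, 3, 21, 14, 6, 16, 20, 17, 22, 18, 5, 11, 23], [5, 2, 6, 4, 10, 8, 1, 9, 0, 11, 3, 7], 300, 0, 537, 538),
  ([14, 7, 8, 15, 4, 11, 0, 2, 9, 6, 17, 13, 3, 21, 12, 1, 20, 22, 5, 16, 18, 10, 19, 23], [8, 10, 2, 7, 6, 3, 11, 4, 1, 0, 5, 9], 300, 1, 539, 300),
  ([7, 3, 8, 1, 4, 20, 14, 9, 15, 0, 19, 21, 6, 10, 2, 12, 18, 22, 16, 13, 17, 5, 11, 23], [8, 11, 9, 6, 5, 10, 2, 4, 7, 1, 0, 3], 301, 0, 540, 459),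
  ([9, 12, 2, 8, 4, 20, 6, 15, 3, 0, 22, 19, 1, 18, 14, 7, 16, 17, 13, 11, 5, 21, 10, 23], [7, 3, 9, 1, 5, 4, 8, 0, 6, 2, 11, 10], 302, 0, 541, 542),
  ([0, 7, 2, 9, 4, 22, 1, 6, 3, 8, 16, 13, 15, 18, 12, 14, 20, 5, 11, 19, 10, 21, 17, 23], [9, 5, 4, 11, 8, 7, 3, 1, 2, 10, 0, 6], 302, 1, 145, 302),
  ([6, 1, 8, 7, 4, 18, 0, 3, 2, 12, 19, 16, 9, 21, 14, 15, 11, 17, 5, 10, 20, 13, 22, 23], [6, 2, 1, 11, 5, 4, 0, 9, 10, 7, 8, 3], 303, 0, 543, 467),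
  ([1, 15, 9, 14, 4, 18, 8, 3, 2, 7, 13, 20, 0, 21, 12, 6, 19, 5, 10, 17, 22, 11, 16, 23], [2, 10, 11, 0, 8, 7, 1, 4, 6, 9, 3, 5], 303, 1, 187, 303),
  ([7, 8, 3, 9, 4, 5, 2, 1, 15, 12, 19, 16, 6, 18, 14, 0, 10, 13, 21, 22, 17, 20, 11, 23], [9, 3, 8, 2, 7, 1, 6, 0, 5, 10, 4, 11], 304, 0, 544, 545)]

/-- A block of pairs. -/
def pairs7 : List (List (Fin 24) × List (Fin 12) × ℕ × ℕ × ℕ × ℕ) := [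
  ([14, 9, 3, 0, 4, 10, 2, 15, 6, 7, 13, 20, 1, 18, 12, 8, 17, 11, 21, 16, 5, 22, 19, 23], [4, 5, 3, 10, 9, 11, 2, 1, 8, 6, 7, 0], 304, 1, 147, 304),
  ([6, 2, 9, 14, 4, 18, 7, 3, 15, 8, 5, 21, 12, 20, 0, 1, 19, 13, 11, 17, 16, 10, 22, 23], [8, 9, 7, 3, 2, 11, 6, 5, 1, 10, 0, 4], 305, 0, 546, 547),
  ([12, 14, 6, 9, 4, 16, 15, 3, 1, 0, 5, 22, 2, 18, 7, 8, 11, 19, 10, 13, 21, 17, 20, 23], [9, 11, 1, 3, 0, 4, 2, 8, 6, 10, 7, 5], 307, 1, 548, 307),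
  ([2, 7, 0, 15, 4, 13, 1, 6, 12, 14, 16, 22, 9, 17, 3, 8, 20, 11, 5, 21, 10, 19, 18, 23], [3, 2, 7, 10, 1, 4, 9, 8, 5, 11, 6, 0], 308, 0, 201, 398),
  ([14, 9, 0, 3, 4, 11, 8, 1, 7, 6, 13, 17, 15, 5, 12, 2, 20, 10, 21, 19, 18, 22, 16, 23], [10, 8, 6, 4, 2, 0, 9, 7, 5, 3, 1, 11], 309, 0, 549, 444),
  ([12, 0, 8, 3, 4, 19, 9, 15, 14, 1, 11, 5, 6, 10, 7, 2, 22, 17, 21, 13, 18, 16, 20, 23], [6, 3, 2, 7, 10, 1, 4, 9, 8, 5, 11, 0], 309, 1, 149, 309),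
  ([0, 14, 1, 9, 4, 22, 2, 3, 6, 12, 13, 16, 15, 18, 8, 7, 10, 19, 11, 5, 20, 17, 21, 23], [10, 7, 6, 0, 3, 5, 8, 2, 1, 9, 11, 4], 310, 0, 550, 551),
  ([8, 12, 15, 0, 4, 16, 2, 3, 1, 7, 11, 20, 6, 18, 9, 14, 17, 13, 19, 10, 22, 5, 21, 23], [6, 9, 2, 1, 5, 8, 3, 10, 11, 4, 0, 7], 310, 1, 373, 310),
  ([1, 7, 12, 6, 4, 5, 2, 15, 0, 9, 21, 20, 14, 19, 3, 8, 22, 11, 13, 16, 10, 17, 18, 23], [9, 7, 2, 0, 4, 1, 3, 11, 6, 8, 5, 10], 312, 0, 552, 553),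
  ([15, 14, 7, 1, 4, 10, 2, 6, 8, 0, 21, 22, 12, 13, 3, 9, 16, 19, 11, 20, 17, 5, 18, 23], [4, 9, 10, 1, 7, 11, 5, 0, 2, 3, 8, 6], 312, 1, 554, 312),
  ([1, 7, 3, 12, 4, 5, 9, 0, 8, 14, 10, 22, 2, 21, 6, 15, 13, 11, 20, 18, 19, 16, 17, 23], [4, 3, 11, 7, 6, 2, 0, 1, 9, 10, 8, 5], 313, 0, 516, 431),
  ([12, 7, 14, 1, 4, 13, 9, 6, 8, 3, 21, 22, 15, 10, 0, 2, 5, 20, 11, 19, 18, 16, 17, 23], [8, 7, 0, 3, 9, 5, 11, 10, 6, 1, 4, 2], 314, 0, 219, 430),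
  ([7, 14, 12, 15, 4, 11, 0, 1, 9, 3, 21, 16, 6, 17, 8, 2, 10, 22, 19, 13, 18, 20, 5, 23], [3, 9, 1, 5, 4, 8, 0, 6, 2, 11, 7, 10], 314, 1, 555, 314),
  ([3, 7, 2, 1, 4, 20, 14, 12, 15, 6, 10, 13, 0, 19, 8, 9, 5, 22, 11, 21, 17, 18, 16, 23], [10, 3, 7, 0, 4, 8, 1, 5, 9, 2, 6, 11], 315, 0, 556, 491),
  ([12, 9, 14, 8, 4, 20, 6, 7, 3, 1, 18, 11, 0, 22, 2, 15, 21, 17, 10, 19, 5, 16, 13, 23], [4, 10, 6, 11, 0, 7, 2, 5, 9, 8, 1, 3], 316, 0, 180, 365),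
  ([7, 0, 12, 9, 4, 22, 1, 14, 3, 15, 18, 19, 8, 16, 2, 6, 21, 5, 17, 13, 10, 20, 11, 23], [7, 6, 2, 0, 1, 9, 10, 8, 4, 3, 11, 5], 316, 1, 152, 316),
  ([12, 2, 1, 3, 4, 13, 15, 7, 8, 14, 10, 11, 0, 5, 9, 6, 21, 19, 18, 17, 22, 16, 20, 23], [10, 4, 7, 9, 1, 6, 5, 2, 11, 3, 0, 8], 318, 0, 557, 558),
  ([3, 9, 1, 6, 4, 20, 0, 7, 15, 2, 19, 11, 8, 5, 14, 12, 10, 21, 17, 16, 13, 18, 22, 23], [5, 6, 3, 4, 2, 9, 8, 11, 1, 0, 7, 10], 319, 0, 545, 559),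
  ([12, 15, 8, 1, 4, 20, 0, 9, 3, 14, 22, 10, 2, 21, 6, 7, 18, 19, 5, 13, 11, 16, 17, 23], [5, 1, 10, 0, 8, 9, 7, 3, 2, 11, 6, 4], 320, 0, 529, 560),
  ([3, 14, 15, 9, 4, 22, 8, 0, 7, 12, 13, 19, 1, 5, 2, 6, 11, 16, 10, 18, 17, 20, 21, 23], [4, 1, 3, 11, 6, 8, 5, 9, 7, 2, 0, 10], 322, 0, 561, 562),
  ([12, 6, 3, 15, 4, 17, 2, 0, 9, 7, 11, 22, 8, 21, 14, 1, 10, 13, 18, 16, 5, 20, 19, 23], [0, 2, 10, 3, 1, 7, 5, 9, 6, 8, 11, 4], 323, 0, 563, 465),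
  ([7, 1, 3, 6, 4, 5, 2, 8, 0, 14, 19, 16, 9, 21, 12, 15, 17, 11, 18, 20, 10, 22, 13, 23], [1, 10, 6, 5, 11, 9, 8, 4, 2, 3, 0, 7], 323, 1, 157, 323),
  ([8, 12, 9, 15, 4, 16, 7, 1, 14, 6, 22, 17, 2, 11, 0, 3, 19, 13, 20, 21, 18, 10, 5, 23], [5, 3, 10, 9, 11, 2, 1, 8, 6, 7, 4, 0], 324, 0, 199, 393),
  ([9, 7, 0, 6, 4, 20, 14, 15, 12, 1, 16, 5, 2, 19, 8, 3, 13, 11, 22, 21, 18, 17, 10, 23], [8, 5, 6, 4, 0, 10, 11, 3, 2, 9, 7, 1], 324, 1, 495, 324),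
  ([3, 9, 6, 14, 4, 20, 8, 12, 7, 0, 5, 17, 2, 13, 1, 15, 11, 21, 10, 18, 19, 22, 16, 23], [1, 4, 9, 8, 5, 11, 6, 3, 2, 7, 10, 0], 326, 0, 564, 424),
  ([3, 0, 1, 12, 4, 22, 9, 7, 14, 8, 10, 5, 2, 11, 15, 6, 19, 21, 17, 18, 13, 16, 20, 23], [11, 7, 4, 3, 8, 0, 2, 5, 10, 9, 6, 1], 326, 1, 390, 326),
  ([6, 14, 12, 2, 4, 22, 15, 3, 7, 8, 5, 16, 9, 20, 1, 0, 11, 10, 19, 17, 21, 13, 18, 23], [2, 6, 4, 10, 8, 1, 9, 0, 11, 3, 5, 7], 327, 0, 565, 566),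
  ([12, 15, 8, 6, 4, 19, 9, 0, 2, 7, 11, 5, 3, 21, 1, 14, 18, 20, 10, 16, 22, 13, 17, 23], [1, 5, 4, 8, 0, 6, 2, 11, 7, 3, 9, 10], 328, 0, 567, 507),
  ([7, 6, 9, 1, 4, 13, 0, 8, 2, 14, 19, 10, 3, 21, 15, 12, 18, 22, 17, 20, 16, 11, 5, 23], [11, 8, 7, 3, 1, 2, 10, 0, 9, 5, 4, 6], 328, 1, 361, 328),
  ([12, 0, 3, 7, 4, 19, 6, 2, 15, 9, 10, 21, 1, 18, 8, 14, 5, 17, 22, 16, 11, 20, 13, 23], [8, 7, 1, 4, 6, 9, 3, 2, 10, 11, 0, 5], 330, 0, 568, 569),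
  ([7, 8, 3, 14, 4, 13, 1, 2, 6, 0, 17, 21, 15, 18, 9, 12, 10, 5, 16, 20, 19, 22, 11, 23], [3, 9, 11, 7, 2, 4, 5, 10, 6, 0, 1, 8], 330, 1, 160, 330),
  ([1, 12, 2, 15, 4, 16, 0, 8, 3, 6, 22, 13, 9, 21, 7, 14, 20, 17, 19, 11, 10, 18, 5, 23], [0, 6, 11, 4, 10, 1, 2, 7, 3, 8, 9, 5], 331, 0, 570, 571),
  ([15, 7, 2, 6, 4, 20, 8, 9, 3, 1, 16, 11, 0, 21, 14, 12, 22, 5, 13, 19, 17, 18, 10, 23], [1, 2, 0, 7, 6, 11, 10, 9, 5, 3, 4, 8], 331, 1, 510, 331),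
  ([1, 3, 9, 0, 4, 18, 8, 15, 6, 12, 13, 20, 14, 10, 7, 2, 22, 16, 21, 11, 19, 17, 5, 23], [7, 9, 1, 6, 5, 2, 11, 3, 0, 10, 4, 8], 332, 0, 413, 572),
  ([9, 7, 6, 8, 4, 20, 2, 3, 15, 14, 19, 22, 1, 18, 0, 12, 5, 11, 13, 17, 16, 10, 21, 23], [2, 4, 10, 11, 8, 3, 5, 6, 0, 7, 1, 9], 333, 1, 162, 333),
  ([14, 15, 1, 3, 4, 19, 6, 0, 12, 8, 13, 5, 9, 17, 7, 2, 20, 10, 18, 11, 21, 16, 22, 23], [8, 10, 5, 11, 3, 9, 0, 1, 6, 2, 7, 4], 334, 0, 573, 574),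
  ([2, 0, 1, 6, 4, 21, 12, 8, 3, 15, 20, 5, 14, 16, 7, 9, 22, 19, 17, 11, 10, 18, 13, 23], [10, 5, 8, 1, 0, 4, 7, 2, 9, 11, 3, 6], 335, 0, 575, 576),
  ([6, 14, 1, 12, 4, 22, 8, 7, 0, 9, 21, 11, 15, 5, 2, 3, 19, 10, 16, 18, 20, 17, 13, 23], [8, 9, 0, 6, 11, 4, 10, 1, 2, 7, 3, 5], 336, 0, 523, 409),
  ([1, 12, 15, 7, 4, 16, 9, 14, 8, 0, 21, 19, 6, 10, 2, 3, 13, 17, 20, 18, 22, 5, 11, 23], [3, 4, 1, 2, 0, 7, 6, 11, 10, 9, 5, 8], 336, 1, 319, 336),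
  ([7, 14, 8, 12, 4, 11, 3, 9, 2, 6, 18, 10, 0, 21, 15, 1, 19, 22, 16, 5, 17, 13, 20, 23], [4, 0, 6, 9, 2, 1, 5, 8, 3, 10, 11, 7], 337, 0, 211, 414),
  ([14, 12, 9, 7, 4, 19, 3, 0, 2, 1, 18, 17, 8, 21, 6, 15, 13, 16, 20, 10, 5, 11, 22, 23], [7, 1, 2, 4, 10, 11, 8, 3, 5, 6, 0, 9], 337, 1, 165, 337),
  ([6, 12, 14, 15, 4, 17, 2, 1, 9, 8, 21, 16, 7, 11, 3, 0, 20, 13, 19, 22, 5, 10, 18, 23], [7, 4, 6, 11, 9, 0, 8, 1, 10, 5, 3, 2], 338, 1, 509, 338),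
  ([0, 2, 7, 1, 4, 19, 9, 12, 15, 8, 10, 13, 3, 20, 6, 14, 18, 21, 11, 22, 16, 5, 17, 23], [6, 4, 5, 2, 3, 1, 8, 7, 11, 0, 10, 9], 339, 0, 577, 568),
  ([0, 14, 9, 8, 4, 22, 15, 7, 3, 2, 18, 11, 12, 20, 1, 6, 16, 19, 10, 17, 13, 21, 5, 23], [1, 0, 5, 8, 10, 2, 7, 6, 3, 11, 4, 9], 340, 0, 308, 548),
  ([8, 12, 0, 9, 4, 16, 6, 14, 3, 2, 18, 19, 7, 22, 15, 1, 20, 13, 17, 5, 11, 21, 10, 23], [11, 1, 8, 3, 6, 10, 9, 2, 5, 0, 7, 4], 340, 1, 167, 340),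
  ([1, 0, 14, 2, 4, 17, 15, 6, 9, 7, 20, 22, 8, 10, 3, 12, 21, 5, 19, 16, 13, 11, 18, 23], [11, 5, 1, 7, 10, 3, 2, 6, 9, 4, 0, 8], 341, 0, 578, 440),
  ([15, 8, 12, 2, 4, 5, 6, 1, 0, 14, 22, 16, 9, 17, 3, 7, 21, 10, 13, 20, 11, 19, 18, 23], [0, 8, 11, 9, 6, 5, 10, 2, 4, 7, 1, 3], 341, 1, 579, 341),
  ([0, 12, 8, 7, 4, 19, 6, 14, 15, 1, 18, 16, 9, 10, 3, 2, 20, 17, 13, 21, 11, 5, 22, 23], [9, 5, 10, 0, 2, 8, 11, 6, 1, 3, 4, 7], 343, 0, 580, 417),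
  ([8, 7, 9, 14, 4, 13, 1, 12, 6, 15, 18, 20, 0, 17, 3, 2, 22, 5, 11, 21, 19, 10, 16, 23], [4, 8, 6, 1, 10, 3, 0, 2, 11, 5, 7, 9], 343, 1, 581, 343),
  ([2, 12, 3, 9, 4, 19, 7, 14, 0, 8, 5, 16, 6, 22, 1, 15, 17, 13, 20, 18, 10, 21, 11, 23], [0, 7, 5, 6, 3, 4, 2, 9, 8, 11, 1, 10], 345, 0, 582, 486),
  ([2, 7, 3, 0, 4, 13, 14, 12, 8, 9, 10, 20, 1, 16, 15, 6, 5, 11, 22, 18, 17, 21, 19, 23], [1, 9, 8, 2, 5, 7, 10, 4, 3, 0, 11, 6], 345, 1, 169, 345),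
  ([7, 8, 9, 14, 4, 5, 6, 0, 1, 2, 18, 21, 12, 17, 3, 15, 16, 13, 10, 20, 19, 11, 22, 23], [5, 2, 1, 6, 9, 0, 3, 8, 7, 4, 11, 10], 346, 0, 425, 564),
  ([14, 9, 0, 12, 4, 10, 1, 8, 15, 2, 18, 21, 7, 5, 3, 6, 20, 11, 17, 22, 13, 19, 16, 23], [8, 10, 11, 2, 4, 1, 5, 3, 9, 7, 0, 6], 346, 1, 583, 346),
  ([8, 3, 6, 7, 4, 16, 0, 1, 12, 2, 19, 18, 9, 17, 15, 14, 20, 21, 22, 10, 11, 13, 5, 23], [1, 11, 6, 2, 8, 0, 4, 3, 7, 10, 5, 9], 348, 0, 584, 585),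
  ([9, 3, 1, 14, 4, 20, 8, 15, 7, 2, 13, 18, 0, 5, 6, 12, 22, 21, 16, 17, 19, 11, 10, 23], [11, 0, 2, 10, 3, 1, 7, 5, 9, 6, 8, 4], 348, 1, 521, 348),
  ([15, 6, 12, 7, 4, 18, 8, 1, 3, 9, 21, 17, 14, 16, 0, 2, 22, 10, 13, 19, 11, 20, 5, 23], [2, 1, 9, 11, 10, 7, 6, 0, 3, 5, 8, 4], 349, 0, 395, 476),
  ([2, 0, 1, 7, 4, 19, 8, 12, 14, 9, 10, 17, 3, 16, 6, 15, 22, 21, 5, 18, 20, 11, 13, 23], [5, 10, 6, 0, 1, 3, 9, 11, 7, 2, 4, 8], 350, 0, 246, 475),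
  ([9, 8, 1, 7, 4, 21, 15, 3, 2, 14, 19, 16, 6, 18, 12, 0, 13, 10, 5, 17, 22, 11, 20, 23], [8, 5, 9, 7, 2, 0, 4, 1, 3, 11, 6, 10], 351, 0, 536, 586),
  ([15, 7, 2, 14, 4, 5, 9, 8, 0, 12, 17, 13, 3, 21, 6, 1, 22, 20, 11, 18, 16, 19, 10, 23], [2, 1, 8, 6, 7, 4, 5, 3, 10, 9, 11, 0], 352, 0, 587, 588),
  ([14, 8, 2, 7, 4, 16, 6, 3, 1, 9, 17, 21, 15, 18, 0, 12, 5, 10, 13, 19, 20, 11, 22, 23], [11, 6, 3, 2, 7, 10, 1, 4, 9, 8, 5, 0], 354, 0, 445, 549)]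

/-- A block of pairs. -/
def pairs8 : List (List (Fin 24) × List (Fin 12) × ℕ × ℕ × ℕ × ℕ) := [
  ([12, 9, 2, 14, 4, 20, 1, 3, 15, 0, 5, 21, 6, 18, 8, 7, 10, 17, 11, 13, 22, 19, 16, 23], [0, 2, 5, 10, 9, 6, 11, 7, 4, 3, 8, 1], 354, 1, 383, 354),
  ([2, 15, 9, 7, 4, 18, 12, 6, 1, 14, 16, 10, 0, 17, 8, 3, 5, 19, 20, 21, 22, 11, 13, 23], [1, 9, 0, 11, 3, 5, 2, 6, 4, 10, 8, 7], 355, 0, 560, 528),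
  ([6, 9, 3, 2, 4, 17, 8, 12, 1, 15, 5, 20, 14, 16, 7, 0, 11, 10, 21, 22, 19, 18, 13, 23], [6, 2, 11, 7, 3, 9, 1, 5, 4, 8, 0, 10], 356, 0, 589, 590),
  ([1, 0, 3, 2, 4, 5, 9, 7, 15, 6, 10, 22, 12, 20, 14, 8, 19, 17, 21, 16, 13, 18, 11, 23], [2, 10, 0, 9, 5, 4, 11, 8, 7, 3, 1, 6], 356, 1, 591, 356),
  ([1, 14, 15, 6, 4, 16, 9, 12, 3, 2, 21, 19, 7, 20, 0, 8, 22, 11, 10, 5, 13, 18, 17, 23], [7, 9, 6, 10, 8, 3, 1, 5, 2, 4, 11, 0], 360, 0, 562, 592),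
  ([15, 12, 6, 1, 4, 20, 0, 7, 3, 2, 21, 13, 14, 22, 8, 9, 16, 19, 17, 10, 11, 18, 5, 23], [9, 4, 2, 6, 3, 5, 11, 8, 10, 7, 0, 1], 360, 1, 177, 360),
  ([15, 1, 14, 9, 4, 18, 7, 3, 6, 8, 13, 16, 0, 22, 12, 2, 17, 5, 11, 19, 21, 10, 20, 23], [11, 3, 2, 9, 7, 8, 5, 6, 4, 0, 10, 1], 362, 0, 593, 469),
  ([6, 15, 12, 0, 4, 18, 14, 3, 1, 9, 11, 20, 8, 16, 7, 2, 5, 10, 19, 13, 21, 17, 22, 23], [0, 5, 10, 4, 9, 3, 8, 2, 7, 1, 6, 11], 362, 1, 283, 362),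
  ([14, 1, 6, 15, 4, 16, 2, 12, 8, 9, 21, 17, 7, 13, 0, 3, 5, 11, 18, 22, 20, 10, 19, 23], [6, 11, 7, 4, 3, 8, 0, 2, 5, 10, 9, 1], 363, 0, 301, 539),
  ([12, 15, 1, 6, 4, 20, 2, 7, 9, 0, 21, 5, 14, 11, 8, 3, 10, 19, 18, 16, 22, 17, 13, 23], [2, 0, 9, 7, 5, 3, 1, 10, 8, 6, 4, 11], 363, 1, 594, 363),
  ([14, 8, 7, 0, 4, 16, 15, 12, 3, 6, 18, 13, 9, 20, 2, 1, 21, 10, 5, 11, 17, 22, 19, 23], [9, 2, 10, 1, 11, 4, 6, 3, 7, 5, 0, 8], 365, 0, 595, 596),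
  ([14, 7, 15, 12, 4, 11, 3, 1, 2, 0, 21, 5, 6, 18, 8, 9, 13, 22, 20, 10, 17, 19, 16, 23], [1, 7, 3, 11, 8, 4, 10, 2, 6, 5, 9, 0], 366, 0, 221, 433),
  ([12, 14, 6, 7, 4, 19, 3, 15, 2, 8, 21, 10, 1, 18, 9, 0, 11, 16, 22, 17, 5, 13, 20, 23], [11, 9, 5, 0, 3, 7, 6, 10, 2, 8, 4, 1], 366, 1, 511, 366),
  ([2, 7, 0, 3, 4, 11, 6, 1, 9, 8, 10, 5, 12, 17, 15, 14, 20, 13, 22, 19, 16, 21, 18, 23], [2, 3, 0, 1, 10, 6, 5, 11, 9, 8, 4, 7], 367, 0, 458, 533),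
  ([12, 0, 8, 7, 4, 17, 15, 9, 6, 2, 18, 21, 14, 10, 3, 1, 22, 19, 5, 16, 11, 13, 20, 23], [3, 6, 0, 10, 7, 11, 8, 5, 4, 9, 1, 2], 368, 1, 182, 368),
  ([8, 12, 15, 9, 4, 13, 3, 2, 6, 14, 22, 19, 1, 18, 0, 7, 17, 16, 20, 5, 11, 10, 21, 23], [9, 6, 7, 5, 1, 0, 11, 4, 3, 10, 8, 2], 369, 1, 265, 369),
  ([2, 8, 14, 15, 4, 21, 6, 3, 0, 12, 17, 16, 7, 22, 1, 9, 5, 13, 10, 11, 20, 19, 18, 23], [1, 9, 10, 8, 4, 3, 11, 7, 6, 2, 0, 5], 370, 0, 483, 597),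
  ([2, 9, 12, 6, 4, 21, 1, 3, 8, 7, 5, 20, 14, 16, 15, 0, 10, 11, 17, 19, 22, 13, 18, 23], [11, 4, 6, 3, 7, 5, 0, 9, 2, 10, 1, 8], 370, 1, 184, 370),
  ([7, 2, 0, 15, 4, 11, 12, 9, 1, 8, 16, 21, 6, 17, 3, 14, 18, 13, 19, 22, 10, 5, 20, 23], [11, 8, 10, 7, 0, 9, 4, 2, 6, 3, 5, 1], 371, 0, 571, 598),
  ([14, 2, 8, 6, 4, 19, 7, 0, 15, 9, 20, 21, 1, 5, 3, 12, 18, 11, 13, 16, 17, 10, 22, 23], [0, 3, 6, 9, 1, 4, 7, 10, 2, 5, 8, 11], 371, 1, 599, 371),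
  ([15, 9, 1, 2, 4, 20, 14, 12, 3, 6, 22, 17, 8, 16, 0, 7, 21, 10, 11, 5, 13, 18, 19, 23], [8, 0, 4, 3, 7, 10, 5, 1, 11, 6, 2, 9], 373, 0, 526, 600),
  ([9, 3, 1, 6, 4, 21, 15, 8, 0, 12, 19, 16, 7, 5, 14, 2, 22, 20, 18, 11, 13, 17, 10, 23], [0, 11, 4, 3, 10, 8, 9, 6, 7, 5, 1, 2], 374, 0, 601, 602),
  ([0, 9, 7, 15, 4, 21, 12, 2, 8, 1, 16, 11, 6, 13, 14, 3, 10, 17, 20, 22, 18, 5, 19, 23], [10, 7, 11, 8, 5, 4, 9, 1, 3, 6, 0, 2], 376, 0, 466, 563),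
  ([8, 0, 14, 6, 4, 21, 7, 2, 9, 15, 20, 19, 1, 11, 12, 3, 17, 5, 22, 16, 18, 10, 13, 23], [6, 9, 0, 3, 8, 7, 4, 11, 5, 2, 1, 10], 376, 1, 603, 376),
  ([8, 14, 7, 0, 4, 10, 3, 9, 15, 1, 18, 11, 12, 20, 2, 6, 19, 16, 22, 13, 17, 5, 21, 23], [5, 3, 1, 10, 8, 6, 4, 2, 0, 9, 7, 11], 377, 0, 286, 522),
  ([7, 12, 14, 1, 4, 20, 8, 15, 9, 2, 21, 19, 6, 10, 0, 3, 17, 13, 16, 22, 18, 11, 5, 23], [1, 10, 3, 0, 2, 11, 5, 7, 4, 8, 6, 9], 378, 0, 513, 604),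
  ([14, 7, 12, 15, 4, 22, 9, 6, 0, 2, 21, 13, 1, 17, 8, 3, 5, 11, 20, 16, 18, 19, 10, 23], [11, 6, 5, 1, 10, 0, 8, 9, 7, 3, 2, 4], 378, 1, 605, 378),
  ([1, 2, 8, 0, 4, 18, 9, 6, 15, 7, 20, 13, 14, 10, 12, 3, 19, 11, 21, 16, 22, 5, 17, 23], [10, 2, 8, 4, 11, 9, 5, 0, 3, 7, 6, 1], 380, 0, 606, 447),
  ([15, 2, 9, 8, 4, 18, 0, 1, 6, 14, 22, 11, 12, 17, 7, 3, 13, 19, 21, 20, 16, 10, 5, 23], [6, 10, 3, 7, 0, 4, 8, 1, 5, 9, 2, 11], 380, 1, 607, 380),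
  ([9, 6, 3, 2, 4, 10, 1, 14, 8, 0, 5, 22, 12, 16, 7, 15, 13, 17, 18, 20, 19, 21, 11, 23], [8, 5, 7, 11, 10, 1, 9, 2, 0, 6, 4, 3], 382, 1, 191, 382),
  ([2, 12, 1, 9, 4, 13, 0, 8, 7, 14, 22, 16, 15, 5, 3, 6, 20, 19, 17, 18, 10, 11, 21, 23], [2, 3, 1, 8, 7, 11, 0, 10, 6, 4, 5, 9], 384, 1, 608, 384),
  ([6, 3, 9, 12, 4, 18, 7, 2, 1, 0, 5, 21, 14, 11, 8, 15, 16, 22, 20, 10, 19, 17, 13, 23], [11, 10, 6, 1, 4, 8, 7, 0, 3, 9, 5, 2], 386, 1, 609, 386),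
  ([14, 15, 3, 7, 4, 19, 9, 2, 0, 6, 17, 18, 8, 21, 1, 12, 5, 10, 20, 16, 13, 22, 11, 23], [6, 11, 9, 0, 8, 1, 10, 5, 3, 7, 4, 2], 388, 0, 610, 573),
  ([12, 6, 3, 14, 4, 13, 0, 2, 8, 1, 5, 18, 9, 21, 15, 7, 10, 17, 22, 20, 11, 16, 19, 23], [2, 0, 4, 1, 3, 11, 6, 8, 5, 9, 7, 10], 388, 1, 611, 388),
  ([2, 0, 6, 7, 4, 21, 14, 9, 8, 12, 16, 17, 15, 10, 1, 3, 5, 19, 22, 18, 20, 13, 11, 23], [9, 1, 4, 7, 10, 2, 5, 8, 0, 3, 6, 11], 389, 0, 612, 613),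
  ([12, 2, 3, 9, 4, 13, 0, 6, 7, 15, 5, 18, 14, 22, 1, 8, 11, 19, 21, 16, 10, 20, 17, 23], [11, 9, 6, 5, 10, 2, 4, 7, 1, 0, 8, 3], 390, 0, 614, 575),
  ([14, 12, 7, 6, 4, 19, 8, 15, 0, 3, 21, 20, 1, 5, 9, 2, 17, 16, 13, 11, 18, 22, 10, 23], [5, 4, 11, 8, 7, 3, 1, 2, 10, 0, 9, 6], 391, 1, 197, 391),
  ([15, 14, 1, 3, 4, 10, 12, 9, 6, 2, 13, 11, 0, 17, 7, 8, 22, 19, 16, 5, 21, 18, 20, 23], [2, 1, 11, 5, 4, 0, 9, 10, 7, 8, 6, 3], 392, 0, 313, 554),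
  ([6, 12, 15, 3, 4, 17, 7, 0, 1, 2, 11, 19, 8, 5, 14, 9, 16, 13, 20, 10, 21, 18, 22, 23], [10, 11, 0, 8, 7, 1, 4, 6, 9, 3, 2, 5], 392, 1, 258, 392),
  ([0, 14, 8, 1, 4, 22, 12, 6, 7, 15, 20, 10, 2, 13, 9, 3, 11, 19, 16, 21, 18, 5, 17, 23], [3, 8, 2, 7, 1, 6, 0, 5, 10, 4, 9, 11], 393, 0, 615, 616),
  ([1, 0, 2, 3, 4, 17, 8, 12, 6, 15, 10, 19, 7, 13, 14, 9, 22, 5, 21, 11, 20, 18, 16, 23], [9, 7, 3, 2, 11, 6, 5, 1, 10, 0, 8, 4], 394, 0, 617, 537),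
  ([8, 7, 14, 3, 4, 13, 0, 2, 12, 1, 17, 11, 15, 19, 9, 6, 20, 5, 22, 10, 18, 16, 21, 23], [11, 1, 3, 0, 4, 2, 8, 6, 10, 7, 9, 5], 396, 1, 618, 396),
  ([8, 3, 7, 6, 4, 21, 14, 9, 2, 12, 19, 20, 1, 11, 15, 0, 18, 16, 22, 5, 17, 13, 10, 23], [2, 7, 10, 1, 4, 9, 8, 5, 11, 6, 3, 0], 397, 0, 271, 504),
  ([9, 3, 14, 6, 4, 20, 0, 12, 15, 8, 5, 16, 2, 19, 1, 7, 18, 21, 22, 11, 13, 10, 17, 23], [9, 10, 1, 7, 11, 5, 0, 2, 3, 8, 4, 6], 400, 1, 619, 400),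
  ([15, 6, 7, 0, 4, 18, 14, 2, 1, 8, 16, 13, 9, 11, 12, 3, 17, 10, 22, 20, 21, 5, 19, 23], [3, 11, 7, 6, 2, 0, 1, 9, 10, 8, 4, 5], 401, 0, 600, 525),
  ([2, 0, 7, 6, 4, 19, 3, 15, 12, 8, 16, 5, 9, 20, 1, 14, 17, 21, 22, 11, 10, 13, 18, 23], [7, 0, 3, 9, 5, 11, 10, 6, 1, 4, 8, 2], 402, 0, 289, 524),
  ([2, 8, 14, 1, 4, 13, 3, 6, 7, 9, 20, 10, 0, 22, 15, 12, 5, 21, 16, 19, 17, 11, 18, 23], [9, 1, 5, 4, 8, 0, 6, 2, 11, 7, 3, 10], 402, 1, 620, 402),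
  ([9, 8, 7, 12, 4, 21, 6, 0, 3, 15, 18, 5, 14, 22, 1, 2, 16, 10, 13, 11, 19, 20, 17, 23], [3, 7, 0, 4, 8, 1, 5, 9, 2, 6, 10, 11], 403, 0, 621, 589),
  ([15, 2, 9, 7, 4, 19, 1, 0, 12, 3, 16, 21, 6, 17, 8, 14, 13, 18, 11, 10, 22, 20, 5, 23], [10, 6, 11, 0, 7, 2, 5, 9, 8, 1, 4, 3], 404, 0, 251, 481),
  ([6, 2, 0, 14, 4, 13, 15, 8, 7, 3, 20, 21, 1, 5, 9, 12, 11, 18, 19, 17, 16, 22, 10, 23], [6, 2, 0, 1, 9, 10, 8, 4, 3, 11, 7, 5], 404, 1, 204, 404),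
  ([6, 9, 2, 7, 4, 17, 14, 0, 12, 8, 16, 21, 15, 19, 3, 1, 20, 10, 11, 18, 5, 13, 22, 23], [4, 7, 9, 1, 6, 5, 2, 11, 3, 0, 10, 8], 406, 0, 622, 623),
  ([12, 14, 9, 7, 4, 16, 2, 8, 3, 15, 18, 10, 0, 21, 6, 1, 22, 19, 11, 17, 5, 20, 13, 23], [6, 3, 4, 2, 9, 8, 11, 1, 0, 7, 5, 10], 407, 0, 616, 624),
  ([14, 8, 2, 0, 4, 10, 3, 6, 15, 12, 20, 13, 1, 18, 7, 9, 5, 16, 21, 11, 17, 19, 22, 23], [6, 11, 0, 7, 2, 5, 9, 8, 1, 4, 10, 3], 408, 0, 347, 583),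
  ([15, 7, 6, 14, 4, 20, 0, 12, 9, 8, 21, 13, 1, 17, 2, 3, 11, 5, 22, 18, 16, 10, 19, 23], [5, 7, 11, 10, 1, 9, 2, 0, 6, 4, 8, 3], 409, 0, 262, 493),
  ([0, 7, 12, 2, 4, 22, 8, 3, 14, 15, 10, 20, 1, 16, 9, 6, 11, 5, 13, 17, 18, 19, 21, 23], [8, 3, 1, 5, 2, 4, 11, 7, 9, 6, 10, 0], 410, 0, 485, 625),
  ([0, 9, 7, 14, 4, 17, 2, 12, 6, 3, 18, 20, 8, 13, 15, 1, 10, 21, 11, 5, 16, 22, 19, 23], [7, 10, 2, 5, 8, 0, 3, 6, 9, 1, 4, 11], 411, 0, 389, 611),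
  ([8, 0, 14, 12, 4, 5, 2, 7, 1, 3, 18, 22, 9, 11, 6, 15, 17, 21, 19, 10, 20, 16, 13, 23], [9, 6, 10, 8, 3, 1, 5, 2, 4, 11, 7, 0], 411, 1, 209, 411),
  ([12, 6, 15, 14, 4, 17, 8, 1, 0, 2, 21, 18, 7, 5, 3, 9, 22, 13, 10, 20, 11, 19, 16, 23], [6, 3, 7, 5, 0, 9, 2, 10, 1, 11, 4, 8], 412, 0, 351, 520),
  ([7, 1, 6, 12, 4, 5, 9, 15, 8, 2, 21, 18, 14, 10, 3, 0, 16, 11, 17, 22, 19, 13, 20, 23], [2, 5, 9, 8, 1, 4, 10, 6, 11, 0, 7, 3], 412, 1, 572, 412),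
  ([3, 12, 0, 2, 4, 16, 15, 1, 8, 9, 10, 17, 7, 5, 6, 14, 13, 20, 19, 22, 11, 21, 18, 23], [9, 0, 3, 8, 7, 4, 11, 5, 2, 1, 6, 10], 413, 0, 626, 488)]

/-- A block of pairs. -/
def pairs9 : List (List (Fin 24) × List (Fin 12) × ℕ × ℕ × ℕ × ℕ) := [
  ([12, 7, 0, 14, 4, 13, 3, 8, 2, 15, 18, 5, 9, 21, 1, 6, 11, 20, 22, 17, 10, 19, 16, 23], [9, 11, 10, 7, 6, 0, 3, 5, 8, 2, 1, 4], 414, 0, 518, 627),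
  ([8, 6, 1, 0, 4, 13, 9, 2, 7, 15, 20, 18, 14, 11, 3, 12, 22, 10, 17, 16, 19, 5, 21, 23], [8, 4, 10, 2, 6, 5, 9, 1, 7, 3, 11, 0], 415, 0, 590, 621),
  ([9, 1, 15, 8, 4, 11, 0, 2, 14, 6, 22, 18, 12, 19, 3, 7, 16, 17, 5, 20, 13, 10, 21, 23], [3, 7, 6, 10, 2, 8, 4, 11, 9, 5, 0, 1], 415, 1, 628, 415),
  ([9, 14, 0, 12, 4, 11, 15, 7, 1, 6, 18, 22, 8, 5, 3, 2, 16, 10, 19, 21, 13, 17, 20, 23], [7, 3, 2, 11, 6, 5, 1, 10, 0, 8, 9, 4], 417, 0, 629, 565),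
  ([12, 0, 7, 8, 4, 19, 1, 14, 2, 6, 18, 22, 9, 11, 3, 15, 21, 17, 5, 20, 10, 13, 16, 23], [10, 4, 9, 3, 8, 2, 7, 1, 6, 0, 5, 11], 419, 0, 487, 582),
  ([7, 8, 14, 9, 4, 13, 15, 12, 2, 1, 18, 16, 0, 19, 3, 6, 21, 5, 10, 22, 17, 11, 20, 23], [6, 7, 4, 5, 3, 10, 9, 11, 2, 1, 8, 0], 419, 1, 630, 419),
  ([9, 1, 8, 3, 4, 11, 12, 7, 2, 0, 19, 5, 6, 13, 15, 14, 18, 17, 16, 10, 22, 21, 20, 23], [9, 10, 8, 4, 3, 11, 7, 6, 2, 0, 1, 5], 421, 0, 585, 631),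
  ([0, 15, 9, 3, 4, 19, 7, 14, 2, 8, 13, 10, 1, 11, 6, 12, 18, 5, 20, 17, 16, 21, 22, 23], [4, 6, 3, 7, 5, 0, 9, 2, 10, 1, 11, 8], 421, 1, 255, 421),
  ([6, 3, 9, 8, 4, 22, 2, 7, 14, 15, 19, 20, 1, 11, 12, 0, 16, 18, 21, 17, 5, 10, 13, 23], [10, 11, 2, 4, 1, 5, 3, 9, 7, 0, 8, 6], 422, 0, 632, 463),
  ([3, 8, 15, 7, 4, 16, 0, 14, 12, 9, 17, 10, 2, 19, 6, 1, 13, 21, 5, 18, 11, 20, 22, 23], [0, 9, 7, 5, 3, 1, 10, 8, 6, 4, 2, 11], 424, 0, 633, 479),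
  ([15, 3, 14, 8, 4, 20, 1, 7, 9, 6, 17, 22, 2, 11, 0, 12, 21, 18, 16, 19, 13, 10, 5, 23], [0, 8, 7, 1, 4, 6, 9, 3, 2, 10, 11, 5], 426, 0, 470, 593),
  ([6, 3, 12, 9, 4, 22, 15, 14, 0, 1, 5, 16, 2, 19, 8, 7, 21, 18, 20, 13, 11, 17, 10, 23], [1, 3, 9, 11, 7, 2, 4, 5, 10, 6, 0, 8], 426, 1, 454, 426),
  ([14, 12, 6, 9, 4, 19, 1, 2, 15, 8, 5, 13, 3, 18, 7, 0, 20, 16, 17, 22, 21, 10, 11, 23], [10, 8, 3, 1, 5, 2, 4, 11, 7, 9, 6, 0], 428, 0, 372, 599),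
  ([12, 7, 1, 0, 4, 13, 15, 2, 6, 9, 10, 11, 3, 18, 14, 8, 22, 20, 5, 16, 21, 17, 19, 23], [6, 3, 5, 11, 8, 10, 7, 0, 9, 4, 2, 1], 428, 1, 461, 428),
  ([2, 3, 12, 14, 4, 21, 1, 9, 0, 15, 5, 20, 6, 17, 7, 8, 22, 18, 16, 13, 10, 19, 11, 23], [5, 10, 0, 2, 8, 11, 6, 1, 3, 4, 9, 7], 429, 0, 627, 517),
  ([12, 3, 6, 2, 4, 16, 15, 14, 8, 7, 5, 22, 9, 10, 0, 1, 21, 20, 18, 17, 11, 13, 19, 23], [4, 10, 2, 6, 5, 9, 1, 7, 3, 11, 8, 0], 432, 0, 634, 635),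
  ([7, 12, 1, 14, 4, 13, 3, 6, 2, 9, 21, 17, 15, 18, 0, 8, 19, 20, 16, 5, 10, 11, 22, 23], [0, 4, 8, 1, 5, 9, 2, 6, 10, 3, 7, 11], 433, 0, 636, 637),
  ([6, 1, 14, 7, 4, 17, 2, 12, 0, 3, 21, 16, 15, 19, 8, 9, 5, 18, 11, 10, 20, 22, 13, 23], [0, 5, 8, 10, 2, 7, 6, 3, 11, 4, 1, 9], 436, 0, 397, 618),
  ([1, 15, 12, 14, 4, 5, 2, 7, 8, 3, 21, 20, 6, 13, 9, 0, 10, 18, 19, 17, 22, 16, 11, 23], [1, 8, 3, 6, 10, 9, 2, 5, 0, 7, 11, 4], 436, 1, 238, 436),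
  ([14, 9, 12, 0, 4, 11, 6, 7, 2, 15, 18, 20, 8, 13, 3, 1, 21, 10, 17, 16, 5, 19, 22, 23], [2, 9, 7, 8, 5, 6, 4, 0, 10, 11, 3, 1], 437, 1, 225, 437),
  ([1, 2, 8, 12, 4, 11, 6, 9, 14, 3, 22, 21, 15, 10, 0, 7, 19, 18, 13, 5, 20, 16, 17, 23], [2, 10, 1, 11, 4, 6, 3, 7, 5, 0, 9, 8], 438, 1, 322, 438),
  ([7, 3, 2, 8, 4, 20, 0, 15, 12, 6, 17, 18, 14, 19, 1, 9, 16, 22, 21, 11, 10, 13, 5, 23], [5, 2, 4, 11, 7, 9, 6, 10, 8, 3, 1, 0], 439, 0, 553, 638),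
  ([14, 3, 2, 9, 4, 22, 8, 6, 7, 1, 5, 18, 12, 13, 15, 0, 20, 16, 21, 19, 17, 11, 10, 23], [8, 10, 7, 0, 9, 4, 2, 6, 3, 5, 11, 1], 439, 1, 227, 439),
  ([6, 9, 7, 2, 4, 10, 1, 15, 8, 12, 16, 20, 0, 5, 3, 14, 21, 17, 11, 22, 19, 13, 18, 23], [1, 3, 0, 4, 2, 8, 6, 10, 7, 9, 11, 5], 440, 0, 639, 502),
  ([7, 8, 9, 3, 4, 13, 0, 6, 12, 15, 19, 10, 1, 17, 14, 2, 16, 5, 21, 11, 18, 20, 22, 23], [2, 5, 10, 9, 6, 11, 7, 4, 3, 8, 0, 1], 444, 0, 494, 471),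
  ([9, 3, 6, 1, 4, 20, 2, 7, 12, 0, 19, 22, 8, 13, 14, 15, 16, 21, 18, 10, 5, 17, 11, 23], [3, 7, 5, 0, 9, 2, 10, 1, 11, 4, 6, 8], 446, 0, 468, 543),
  ([0, 3, 1, 15, 4, 22, 2, 14, 7, 8, 13, 16, 9, 11, 12, 6, 20, 21, 18, 17, 10, 5, 19, 23], [5, 9, 8, 1, 4, 10, 6, 11, 0, 7, 2, 3], 446, 1, 230, 446),
  ([6, 2, 0, 9, 4, 18, 8, 15, 1, 12, 16, 19, 7, 5, 14, 3, 11, 13, 21, 22, 20, 17, 10, 23], [2, 6, 5, 9, 1, 7, 3, 11, 8, 4, 10, 0], 447, 0, 542, 640),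
  ([6, 15, 7, 12, 4, 18, 9, 1, 2, 8, 21, 5, 14, 11, 0, 3, 19, 10, 20, 22, 16, 13, 17, 23], [9, 8, 2, 5, 7, 10, 4, 3, 0, 11, 1, 6], 449, 0, 240, 462),
  ([1, 6, 14, 7, 4, 18, 0, 15, 2, 9, 21, 10, 12, 19, 8, 3, 13, 17, 22, 16, 20, 11, 5, 23], [4, 3, 10, 8, 9, 6, 7, 5, 1, 0, 11, 2], 449, 1, 641, 449),
  ([14, 6, 1, 2, 4, 22, 15, 0, 7, 9, 20, 17, 8, 5, 12, 3, 13, 10, 18, 16, 21, 11, 19, 23], [1, 7, 11, 5, 0, 2, 3, 8, 4, 9, 10, 6], 451, 0, 642, 595),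
  ([12, 1, 15, 2, 4, 16, 6, 8, 14, 0, 22, 5, 9, 10, 7, 3, 11, 17, 18, 20, 21, 19, 13, 23], [11, 9, 0, 8, 1, 10, 5, 3, 7, 4, 6, 2], 451, 1, 643, 451),
  ([12, 14, 9, 6, 4, 19, 8, 2, 0, 1, 5, 11, 3, 21, 7, 15, 22, 16, 10, 20, 18, 17, 13, 23], [3, 6, 10, 9, 2, 5, 0, 7, 11, 1, 8, 4], 453, 1, 234, 453),
  ([3, 2, 14, 7, 4, 18, 9, 15, 6, 0, 17, 19, 8, 10, 12, 1, 13, 21, 11, 16, 5, 22, 20, 23], [9, 0, 6, 11, 4, 10, 1, 2, 7, 3, 8, 5], 455, 0, 604, 512),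
  ([3, 2, 12, 14, 4, 18, 0, 6, 1, 8, 5, 13, 9, 17, 7, 15, 11, 21, 19, 20, 10, 16, 22, 23], [4, 1, 2, 0, 7, 6, 11, 10, 9, 5, 3, 8], 455, 1, 407, 455),
  ([1, 15, 14, 9, 4, 5, 6, 0, 7, 2, 13, 19, 3, 22, 12, 8, 20, 18, 10, 16, 21, 11, 17, 23], [0, 6, 9, 2, 1, 5, 8, 3, 10, 11, 4, 7], 456, 0, 281, 515),
  ([15, 6, 12, 0, 4, 10, 1, 8, 14, 2, 11, 13, 3, 16, 7, 9, 22, 18, 17, 20, 21, 19, 5, 23], [1, 2, 4, 10, 11, 8, 3, 5, 6, 0, 7, 9], 456, 1, 236, 456),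
  ([15, 1, 12, 14, 4, 18, 8, 6, 2, 0, 21, 17, 7, 13, 9, 3, 11, 5, 16, 20, 22, 19, 10, 23], [7, 5, 6, 3, 4, 2, 9, 8, 11, 1, 0, 10], 462, 0, 644, 587),
  ([14, 15, 3, 1, 4, 10, 2, 9, 8, 12, 13, 20, 0, 21, 7, 6, 5, 19, 18, 22, 17, 16, 11, 23], [11, 6, 2, 8, 0, 4, 3, 7, 10, 5, 1, 9], 465, 0, 645, 646),
  ([2, 0, 6, 1, 4, 19, 9, 14, 15, 3, 20, 22, 8, 10, 7, 12, 5, 21, 17, 13, 16, 18, 11, 23], [1, 9, 11, 10, 7, 6, 0, 3, 5, 8, 2, 4], 466, 0, 418, 580),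
  ([15, 6, 0, 12, 4, 18, 9, 3, 2, 14, 11, 22, 8, 21, 7, 1, 13, 10, 17, 5, 16, 19, 20, 23], [10, 6, 0, 1, 3, 9, 11, 7, 2, 4, 5, 8], 467, 0, 342, 579),
  ([0, 12, 8, 3, 4, 17, 14, 6, 9, 2, 11, 13, 15, 10, 7, 1, 20, 19, 16, 5, 18, 21, 22, 23], [5, 9, 7, 2, 0, 4, 1, 3, 11, 6, 8, 10], 468, 0, 613, 647),
  ([1, 6, 7, 8, 4, 18, 12, 3, 15, 0, 19, 22, 9, 20, 14, 2, 10, 17, 13, 11, 21, 5, 16, 23], [1, 8, 6, 7, 4, 5, 3, 10, 9, 11, 2, 0], 469, 0, 559, 544),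
  ([3, 8, 15, 6, 4, 21, 14, 0, 2, 1, 11, 5, 12, 19, 7, 9, 13, 16, 10, 20, 17, 18, 22, 23], [9, 0, 11, 3, 5, 2, 6, 4, 10, 8, 1, 7], 472, 0, 297, 532),
  ([0, 7, 9, 12, 4, 22, 15, 14, 6, 1, 18, 11, 8, 10, 2, 3, 13, 5, 20, 21, 16, 17, 19, 23], [2, 11, 7, 3, 9, 1, 5, 4, 8, 0, 6, 10], 473, 0, 648, 634),
  ([8, 14, 0, 7, 4, 16, 6, 12, 1, 15, 18, 19, 9, 17, 2, 3, 11, 10, 22, 21, 20, 5, 13, 23], [10, 0, 9, 5, 4, 11, 8, 7, 3, 1, 2, 6], 473, 1, 649, 473),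
  ([9, 8, 12, 7, 4, 10, 2, 14, 15, 3, 18, 16, 0, 19, 1, 6, 5, 21, 13, 17, 22, 20, 11, 23], [4, 2, 6, 3, 5, 11, 8, 10, 7, 0, 9, 1], 477, 1, 248, 477),
  ([2, 12, 1, 3, 4, 19, 8, 0, 15, 6, 10, 17, 7, 5, 9, 14, 20, 13, 16, 11, 22, 18, 21, 23], [3, 2, 9, 7, 8, 5, 6, 4, 0, 10, 11, 1], 478, 0, 569, 577),
  ([2, 7, 15, 3, 4, 13, 9, 8, 6, 1, 17, 5, 14, 10, 0, 12, 22, 11, 20, 19, 16, 18, 21, 23], [5, 10, 4, 9, 3, 8, 2, 7, 1, 6, 0, 11], 478, 1, 375, 478),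
  ([9, 8, 7, 1, 4, 10, 0, 6, 14, 2, 19, 13, 3, 22, 12, 15, 16, 21, 5, 20, 18, 11, 17, 23], [7, 3, 11, 8, 4, 10, 2, 6, 5, 9, 1, 0], 482, 0, 291, 527),
  ([0, 9, 14, 15, 4, 17, 8, 1, 12, 2, 13, 11, 3, 16, 7, 6, 20, 21, 10, 22, 18, 19, 5, 23], [9, 5, 0, 3, 7, 6, 10, 2, 8, 4, 11, 1], 482, 1, 597, 482),
  ([14, 15, 7, 1, 4, 19, 8, 12, 2, 9, 21, 20, 6, 13, 3, 0, 18, 10, 5, 22, 17, 11, 16, 23], [3, 0, 1, 10, 6, 5, 11, 9, 8, 4, 2, 7], 483, 0, 574, 610),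
  ([12, 3, 2, 0, 4, 16, 9, 1, 14, 15, 10, 18, 7, 11, 6, 8, 22, 20, 21, 13, 5, 19, 17, 23], [3, 6, 9, 1, 4, 7, 10, 2, 5, 8, 0, 11], 484, 1, 625, 484),
  ([2, 14, 3, 8, 4, 11, 12, 7, 9, 0, 17, 22, 15, 20, 6, 1, 10, 19, 16, 18, 5, 21, 13, 23], [11, 4, 3, 10, 8, 9, 6, 7, 5, 1, 0, 2], 486, 0, 650, 550),
  ([6, 2, 14, 9, 4, 13, 1, 12, 8, 15, 5, 19, 3, 16, 0, 7, 21, 18, 11, 22, 20, 10, 17, 23], [3, 1, 10, 8, 6, 4, 2, 0, 9, 7, 5, 11], 489, 0, 377, 603),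
  ([3, 0, 12, 15, 4, 22, 2, 6, 7, 9, 11, 17, 8, 13, 1, 14, 5, 21, 19, 16, 10, 20, 18, 23], [10, 3, 0, 2, 11, 5, 7, 4, 8, 6, 1, 9], 490, 0, 598, 570),
  ([3, 8, 7, 6, 4, 16, 2, 1, 14, 0, 19, 5, 9, 11, 15, 12, 10, 21, 13, 20, 17, 22, 18, 23], [6, 5, 1, 10, 0, 8, 9, 7, 3, 2, 11, 4], 490, 1, 435, 490),
  ([15, 8, 3, 2, 4, 10, 0, 14, 6, 1, 17, 16, 7, 22, 12, 9, 13, 5, 21, 20, 11, 18, 19, 23], [10, 6, 1, 4, 8, 7, 0, 3, 9, 5, 11, 2], 496, 1, 651, 496),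
  ([7, 15, 6, 2, 4, 20, 1, 9, 12, 8, 16, 10, 0, 17, 14, 3, 19, 5, 18, 22, 21, 13, 11, 23], [0, 4, 1, 3, 11, 6, 8, 5, 9, 7, 2, 10], 498, 1, 652, 498),
  ([3, 1, 0, 9, 4, 18, 12, 15, 2, 8, 13, 5, 14, 19, 7, 6, 11, 16, 17, 22, 10, 21, 20, 23], [1, 4, 7, 10, 2, 5, 8, 0, 3, 6, 9, 11], 499, 0, 638, 552)]

/-- A block of pairs. -/
def pairs10 : List (List (Fin 24) × List (Fin 12) × ℕ × ℕ × ℕ × ℕ) := [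
  ([2, 9, 12, 15, 4, 11, 3, 1, 14, 0, 22, 17, 8, 16, 6, 7, 10, 21, 20, 13, 5, 19, 18, 23], [4, 11, 8, 7, 3, 1, 2, 10, 0, 9, 5, 6], 500, 1, 268, 500),
  ([8, 7, 14, 9, 4, 5, 2, 0, 15, 6, 18, 22, 12, 19, 3, 1, 20, 13, 11, 16, 17, 10, 21, 23], [1, 11, 5, 4, 0, 9, 10, 7, 8, 6, 2, 3], 501, 0, 401, 619),
  ([9, 14, 12, 0, 4, 10, 2, 8, 6, 1, 18, 16, 7, 13, 3, 15, 22, 11, 19, 20, 5, 17, 21, 23], [11, 0, 8, 7, 1, 4, 6, 9, 3, 2, 10, 5], 501, 1, 353, 501),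
  ([0, 15, 3, 9, 4, 5, 12, 1, 8, 2, 13, 18, 14, 16, 6, 7, 10, 19, 20, 22, 11, 21, 17, 23], [7, 10, 1, 4, 9, 8, 5, 11, 6, 3, 2, 0], 503, 0, 364, 594),
  ([7, 1, 3, 12, 4, 11, 8, 2, 9, 15, 10, 18, 0, 21, 6, 14, 17, 5, 16, 22, 19, 20, 13, 23], [10, 1, 7, 11, 5, 0, 2, 3, 8, 4, 9, 6], 505, 1, 653, 505),
  ([3, 12, 6, 2, 4, 20, 8, 9, 15, 1, 5, 17, 14, 10, 0, 7, 19, 16, 13, 22, 11, 18, 21, 23], [11, 7, 6, 2, 0, 1, 9, 10, 8, 4, 3, 5], 506, 0, 448, 606),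
  ([14, 1, 0, 15, 4, 11, 8, 9, 2, 12, 13, 17, 3, 21, 6, 7, 18, 16, 5, 22, 20, 19, 10, 23], [0, 3, 9, 5, 11, 10, 6, 1, 4, 8, 7, 2], 507, 0, 379, 605),
  ([2, 1, 8, 0, 4, 11, 15, 14, 9, 3, 20, 16, 6, 10, 12, 7, 17, 18, 5, 13, 22, 21, 19, 23], [7, 0, 4, 8, 1, 5, 9, 2, 6, 10, 3, 11], 508, 0, 635, 648),
  ([1, 6, 14, 8, 4, 17, 15, 0, 12, 3, 20, 22, 2, 19, 7, 9, 13, 18, 10, 11, 21, 16, 5, 23], [3, 4, 2, 9, 8, 11, 1, 0, 7, 5, 6, 10], 510, 0, 420, 630),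
  ([9, 7, 8, 6, 4, 11, 12, 1, 14, 15, 19, 5, 3, 16, 0, 2, 22, 20, 13, 21, 18, 10, 17, 23], [11, 0, 7, 2, 5, 9, 8, 1, 4, 10, 6, 3], 511, 0, 464, 632),
  ([3, 2, 7, 12, 4, 18, 8, 1, 15, 9, 10, 11, 0, 5, 14, 6, 19, 21, 13, 22, 17, 20, 16, 23], [7, 11, 10, 1, 9, 2, 0, 6, 4, 8, 5, 3], 512, 0, 357, 591),
  ([6, 9, 7, 3, 4, 17, 15, 1, 0, 14, 19, 11, 8, 5, 2, 12, 21, 10, 20, 13, 16, 22, 18, 23], [3, 1, 5, 2, 4, 11, 7, 9, 6, 10, 8, 0], 513, 0, 586, 535),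
  ([1, 15, 9, 12, 4, 5, 3, 8, 0, 6, 22, 10, 2, 21, 14, 7, 19, 18, 20, 11, 13, 17, 16, 23], [10, 2, 5, 8, 0, 3, 6, 9, 1, 4, 7, 11], 514, 0, 499, 652),
  ([15, 6, 0, 7, 4, 10, 3, 9, 8, 1, 16, 17, 2, 21, 12, 14, 13, 18, 22, 19, 11, 5, 20, 23], [6, 10, 8, 3, 1, 5, 2, 4, 11, 7, 9, 0], 514, 1, 279, 514),
  ([6, 1, 7, 8, 4, 17, 15, 9, 12, 2, 19, 11, 3, 20, 14, 0, 16, 18, 5, 22, 21, 13, 10, 23], [11, 10, 7, 6, 0, 3, 5, 8, 2, 1, 9, 4], 515, 0, 602, 654),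
  ([15, 3, 0, 14, 4, 20, 6, 9, 12, 2, 13, 21, 1, 17, 8, 7, 16, 18, 22, 5, 11, 19, 10, 23], [4, 9, 3, 8, 2, 7, 1, 6, 0, 5, 10, 11], 519, 0, 588, 644),
  ([6, 3, 8, 12, 4, 22, 1, 0, 7, 2, 11, 21, 15, 5, 9, 14, 20, 18, 16, 10, 19, 13, 17, 23], [7, 4, 5, 3, 10, 9, 11, 2, 1, 8, 6, 0], 519, 1, 443, 519),
  ([14, 15, 1, 7, 4, 10, 0, 6, 9, 2, 21, 18, 12, 17, 3, 8, 20, 19, 5, 16, 13, 11, 22, 23], [10, 8, 4, 3, 11, 7, 6, 2, 0, 1, 9, 5], 520, 0, 646, 655),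
  ([0, 12, 3, 7, 4, 17, 15, 1, 6, 14, 10, 16, 2, 18, 8, 9, 13, 19, 20, 21, 11, 22, 5, 23], [11, 2, 4, 1, 5, 3, 9, 7, 0, 8, 10, 6], 521, 0, 656, 557),
  ([8, 7, 3, 9, 4, 13, 15, 6, 2, 0, 19, 22, 1, 18, 14, 12, 11, 5, 20, 16, 17, 21, 10, 23], [10, 0, 2, 8, 11, 6, 1, 3, 4, 9, 5, 7], 523, 0, 654, 601),
  ([1, 0, 3, 14, 4, 17, 7, 9, 12, 8, 13, 21, 15, 20, 2, 6, 19, 5, 22, 18, 10, 16, 11, 23], [10, 2, 6, 5, 9, 1, 7, 3, 11, 8, 4, 0], 526, 0, 657, 636),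
  ([8, 0, 12, 6, 4, 5, 9, 15, 7, 2, 11, 19, 3, 20, 14, 1, 22, 21, 17, 16, 18, 13, 10, 23], [4, 8, 1, 5, 9, 2, 6, 10, 3, 7, 0, 11], 527, 0, 640, 541),
  ([9, 8, 1, 12, 4, 10, 3, 15, 6, 0, 22, 5, 2, 18, 7, 14, 13, 21, 16, 11, 19, 17, 20, 23], [5, 8, 10, 2, 7, 6, 3, 11, 4, 1, 0, 9], 530, 0, 503, 639),
  ([0, 9, 15, 7, 4, 17, 3, 6, 1, 8, 16, 10, 2, 18, 14, 12, 11, 21, 20, 19, 13, 5, 22, 23], [8, 3, 6, 10, 9, 2, 5, 0, 7, 11, 1, 4], 530, 1, 335, 530),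
  ([1, 3, 9, 7, 4, 16, 15, 8, 14, 2, 19, 21, 6, 10, 0, 12, 22, 18, 20, 17, 13, 11, 5, 23], [9, 7, 8, 5, 6, 4, 0, 10, 11, 3, 2, 1], 531, 1, 295, 531),
  ([6, 7, 1, 15, 4, 22, 8, 14, 3, 2, 21, 11, 12, 16, 9, 0, 20, 13, 5, 17, 19, 18, 10, 23], [4, 7, 10, 2, 5, 8, 0, 3, 6, 9, 1, 11], 534, 1, 299, 534),
  ([7, 6, 15, 1, 4, 22, 2, 14, 0, 8, 21, 10, 12, 19, 9, 3, 17, 13, 18, 20, 16, 5, 11, 23], [10, 1, 4, 9, 8, 5, 11, 6, 3, 2, 7, 0], 539, 0, 480, 633),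
  ([1, 7, 6, 3, 4, 5, 14, 8, 15, 2, 19, 13, 9, 10, 12, 0, 20, 11, 22, 17, 21, 18, 16, 23], [6, 0, 1, 3, 9, 11, 7, 2, 4, 5, 10, 8], 540, 1, 460, 540),
  ([8, 14, 2, 0, 4, 16, 15, 1, 3, 9, 20, 11, 6, 18, 7, 12, 22, 10, 19, 13, 17, 21, 5, 23], [4, 8, 7, 0, 3, 9, 5, 11, 10, 6, 1, 2], 542, 0, 566, 629),
  ([8, 3, 15, 6, 4, 16, 2, 12, 14, 9, 11, 20, 0, 19, 7, 1, 22, 21, 18, 5, 17, 10, 13, 23], [8, 4, 3, 11, 7, 6, 2, 0, 1, 9, 10, 5], 543, 0, 416, 628),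
  ([12, 0, 3, 8, 4, 17, 2, 6, 1, 14, 11, 22, 15, 18, 7, 9, 5, 19, 21, 20, 10, 16, 13, 23], [7, 8, 5, 6, 4, 0, 10, 11, 3, 2, 9, 1], 545, 0, 385, 608),
  ([9, 12, 8, 14, 4, 20, 1, 7, 15, 6, 18, 13, 0, 5, 2, 3, 19, 17, 16, 21, 22, 10, 11, 23], [6, 1, 4, 8, 7, 0, 3, 9, 5, 11, 10, 2], 546, 1, 658, 546),
  ([9, 7, 8, 0, 4, 20, 1, 12, 3, 2, 18, 13, 14, 16, 6, 15, 22, 11, 5, 10, 19, 21, 17, 23], [0, 11, 3, 5, 2, 6, 4, 10, 8, 1, 9, 7], 548, 0, 387, 609),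
  ([7, 0, 2, 12, 4, 22, 15, 3, 6, 8, 10, 21, 1, 18, 9, 14, 17, 5, 19, 11, 16, 13, 20, 23], [1, 10, 8, 6, 4, 2, 0, 9, 7, 5, 3, 11], 549, 0, 489, 626),
  ([6, 7, 9, 1, 4, 22, 2, 3, 0, 12, 19, 20, 8, 21, 15, 14, 5, 13, 11, 10, 16, 17, 18, 23], [5, 0, 3, 7, 6, 10, 2, 8, 4, 11, 9, 1], 555, 0, 631, 584),
  ([1, 14, 0, 15, 4, 16, 2, 3, 8, 7, 13, 22, 9, 21, 6, 12, 10, 11, 19, 17, 20, 5, 18, 23], [8, 1, 5, 9, 2, 6, 10, 3, 7, 0, 4, 11], 555, 1, 315, 555),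
  ([12, 6, 14, 3, 4, 17, 7, 9, 1, 8, 5, 10, 2, 11, 15, 0, 18, 13, 22, 19, 21, 16, 20, 23], [1, 5, 9, 2, 6, 10, 3, 7, 0, 4, 8, 11], 556, 0, 403, 620),
  ([7, 1, 12, 3, 4, 5, 14, 0, 15, 9, 10, 17, 2, 19, 6, 8, 18, 11, 16, 13, 21, 20, 22, 23], [11, 8, 4, 10, 2, 6, 5, 9, 1, 7, 3, 0], 556, 1, 492, 556),
  ([7, 14, 15, 8, 4, 11, 6, 2, 1, 0, 17, 19, 3, 18, 12, 9, 16, 22, 10, 20, 21, 5, 13, 23], [2, 5, 8, 0, 3, 6, 9, 1, 4, 7, 10, 11], 561, 1, 592, 561),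
  ([9, 8, 12, 1, 4, 21, 14, 2, 0, 6, 22, 13, 15, 19, 7, 3, 5, 10, 16, 20, 18, 17, 11, 23], [2, 4, 1, 5, 3, 9, 7, 0, 8, 10, 11, 6], 563, 0, 659, 622),
  ([0, 15, 6, 9, 4, 19, 8, 2, 12, 1, 16, 18, 7, 13, 3, 14, 20, 5, 10, 22, 11, 17, 21, 23], [5, 9, 2, 6, 10, 3, 7, 0, 4, 8, 1, 11], 567, 1, 508, 567),
  ([14, 9, 3, 12, 4, 11, 15, 2, 1, 8, 5, 21, 6, 18, 0, 7, 17, 10, 20, 22, 13, 16, 19, 23], [5, 4, 0, 9, 10, 7, 8, 6, 2, 1, 11, 3], 569, 0, 596, 642),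
  ([3, 9, 14, 1, 4, 20, 2, 15, 12, 8, 13, 10, 0, 19, 6, 7, 17, 21, 11, 22, 5, 16, 18, 23], [2, 8, 11, 6, 1, 3, 4, 9, 5, 10, 0, 7], 570, 0, 450, 641),
  ([6, 14, 2, 1, 4, 22, 9, 0, 3, 15, 20, 19, 8, 21, 12, 7, 16, 10, 11, 13, 5, 18, 17, 23], [11, 10, 1, 9, 2, 0, 6, 4, 8, 5, 7, 3], 571, 0, 474, 649),
  ([2, 14, 6, 3, 4, 11, 0, 9, 1, 15, 5, 10, 12, 17, 8, 7, 16, 19, 22, 13, 20, 18, 21, 23], [8, 6, 7, 4, 5, 3, 10, 9, 11, 2, 1, 0], 577, 0, 624, 615),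
  ([3, 2, 7, 14, 4, 21, 1, 8, 0, 6, 17, 13, 15, 5, 12, 9, 19, 18, 11, 20, 10, 22, 16, 23], [11, 7, 3, 9, 1, 5, 4, 8, 0, 6, 2, 10], 578, 0, 637, 657),
  ([3, 2, 14, 12, 4, 21, 15, 9, 8, 1, 5, 11, 6, 10, 7, 0, 13, 18, 19, 22, 17, 16, 20, 23], [0, 9, 5, 4, 11, 8, 7, 3, 1, 2, 10, 6], 578, 1, 441, 578),
  ([6, 1, 8, 14, 4, 17, 3, 0, 9, 15, 20, 5, 2, 21, 7, 12, 11, 18, 16, 13, 19, 10, 22, 23], [2, 6, 3, 5, 11, 8, 10, 7, 0, 9, 4, 1], 581, 1, 344, 581),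
  ([15, 12, 8, 6, 4, 20, 2, 3, 9, 14, 11, 16, 0, 21, 1, 7, 17, 19, 13, 5, 22, 10, 18, 23], [3, 11, 8, 4, 10, 2, 6, 5, 9, 1, 7, 0], 584, 0, 381, 607),
  ([0, 3, 15, 12, 4, 22, 9, 6, 14, 2, 11, 18, 8, 10, 1, 7, 16, 21, 20, 5, 13, 19, 17, 23], [0, 1, 10, 6, 5, 11, 9, 8, 4, 2, 3, 7], 585, 0, 452, 643),
  ([1, 3, 7, 0, 4, 16, 6, 12, 8, 15, 10, 20, 2, 13, 9, 14, 21, 18, 22, 11, 19, 5, 17, 23], [11, 5, 4, 0, 9, 10, 7, 8, 6, 2, 1, 3], 593, 0, 506, 653),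
  ([2, 0, 7, 1, 4, 21, 15, 3, 9, 14, 10, 22, 12, 20, 6, 8, 17, 19, 5, 13, 16, 11, 18, 23], [0, 7, 2, 5, 9, 8, 1, 4, 10, 6, 11, 3], 597, 0, 558, 656),
  ([12, 2, 9, 1, 4, 13, 14, 8, 6, 0, 22, 21, 15, 10, 3, 7, 18, 19, 11, 20, 5, 17, 16, 23], [1, 5, 2, 4, 11, 7, 9, 6, 10, 8, 3, 0], 598, 0, 647, 612),
  ([12, 14, 7, 6, 4, 16, 0, 1, 8, 2, 21, 11, 15, 5, 9, 3, 10, 19, 22, 20, 18, 13, 17, 23], [0, 2, 8, 11, 6, 1, 3, 4, 9, 5, 10, 7], 604, 0, 551, 650),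
  ([0, 12, 7, 8, 4, 17, 2, 9, 1, 15, 18, 20, 14, 11, 3, 6, 16, 19, 13, 22, 10, 5, 21, 23], [0, 1, 3, 9, 11, 7, 2, 4, 5, 10, 6, 8], 614, 1, 576, 614),
  ([3, 2, 12, 7, 4, 21, 6, 0, 9, 15, 10, 19, 1, 17, 14, 8, 11, 18, 13, 16, 5, 20, 22, 23], [1, 4, 8, 7, 0, 3, 9, 5, 11, 10, 6, 2], 617, 1, 538, 617),
  ([15, 6, 7, 12, 4, 10, 2, 14, 9, 3, 21, 22, 1, 11, 0, 8, 17, 18, 13, 5, 16, 20, 19, 23], [11, 3, 5, 2, 6, 4, 10, 8, 1, 9, 0, 7], 618, 0, 497, 651),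
  ([14, 15, 7, 3, 4, 10, 12, 8, 6, 0, 17, 5, 2, 13, 1, 9, 18, 19, 20, 11, 21, 22, 16, 23], [0, 3, 7, 6, 10, 2, 8, 4, 11, 9, 5, 1], 620, 0, 655, 645),
  ([8, 6, 0, 3, 4, 13, 14, 12, 2, 9, 11, 17, 15, 19, 1, 7, 18, 10, 22, 5, 20, 21, 16, 23], [7, 2, 5, 9, 8, 1, 4, 10, 6, 11, 0, 3], 631, 0, 623, 659),
  ([8, 0, 6, 14, 4, 5, 3, 1, 15, 9, 20, 17, 2, 18, 12, 7, 19, 21, 22, 13, 11, 10, 16, 23], [3, 5, 2, 6, 4, 10, 8, 1, 9, 0, 11, 7], 639, 0, 547, 658)]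

/-- The pairs of permutations, each with its parent and its two successors. -/
def pairList : List (List (Fin 24) × List (Fin 12) × ℕ × ℕ × ℕ × ℕ) :=
  pairs0 ++ pairs1 ++ pairs2 ++ pairs3 ++ pairs4 ++ pairs5 ++ pairs6 ++ pairs7 ++ pairs8 ++ pairs9 ++ pairs10

/-- The translation on twelve labels. -/
def shiftF (i : Fin 12) : Fin 12 := if h : i.val < 11 then ⟨(i.val + 1) % 11, by omega⟩ else 11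

/-- The inversion on twelve labels. -/
def flipF : Fin 12 → Fin 12 := ![11, 10, 5, 7, 8, 2, 9, 3, 4, 6, 1, 0]

/-- The translation as a permutation. -/
def shiftP : Equiv.Perm (Fin 12) :=
  ⟨shiftF, fun i => if h : i.val < 11 then ⟨(i.val + 10) % 11, by omega⟩ else 11, by decide, by decide⟩

/-- The inversion as a permutation. -/
def flipP : Equiv.Perm (Fin 12) := ⟨flipF, flipF, by decide, by decide⟩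

/-- An entry of the list. -/
abbrev row (i : ℕ) : List (Fin 24) × List (Fin 12) × ℕ × ℕ × ℕ × ℕ := pairList.getD i ([], [], 0, 0, 0, 0)

/-- The first permutation of an entry. -/
def f24 (i : ℕ) (x : Fin 24) : Fin 24 := (row i).1.getD x.val 0

/-- The second permutation of an entry. -/
def f12 (i : ℕ) (x : Fin 12) : Fin 12 := (row i).2.1.getD x.val 0

theorem pairList_closed : pairList.length = 660 ∧ (∀ x, f24 0 x = x) ∧ (∀ x, f12 0 x = x) ∧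
    ∀ i : Fin 660, (row i.val).2.2.2.2.1 < 660 ∧ (row i.val).2.2.2.2.2 < 660 ∧
      (∀ x, f24 (row i.val).2.2.2.2.1 x = tabFn tabS.1 (f24 i.val x)) ∧
      (∀ x, f12 (row i.val).2.2.2.2.1 x = shiftF (f12 i.val x)) ∧
      (∀ x, f24 (row i.val).2.2.2.2.2 x = tabFn tabJ.1 (f24 i.val x)) ∧
      (∀ x, f12 (row i.val).2.2.2.2.2 x = flipF (f12 i.val x)) := by
  decide +kernel

theorem pairList_parent : ∀ i : Fin 660, i.val ≠ 0 → (row i.val).2.2.1 < i.val ∧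
    ((row i.val).2.2.2.1 = 0 ∧ (row (row i.val).2.2.1).2.2.2.2.1 = i.val ∨
      (row i.val).2.2.2.1 = 1 ∧ (row (row i.val).2.2.1).2.2.2.2.2 = i.val) := by
  decide +kernel

/-- A key for the first permutation. -/
def key24 (i : Fin 660) : ℕ := (f24 i.val 0).val + 24 * (f24 i.val 1).val + 576 * (f24 i.val 6).val

/-- A key for the second permutation. -/
def key12 (i : Fin 660) : ℕ := (f12 i.val 0).val + 12 * (f12 i.val 1).val + 144 * (f12 i.val 2).val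

theorem keys_distinct : distinctB 14 ((List.finRange 660).map key24) = true ∧
    distinctB 11 ((List.finRange 660).map key12) = true := by
  decide +kernel

theorem key24_inj : Function.Injective key24 := fun i j h =>
  List.inj_on_of_nodup_map (distinctB_sound _ _ keys_distinct.1) (List.mem_finRange i) (List.mem_finRange j) h

theorem key12_inj : Function.Injective key12 := fun i j h =>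
  List.inj_on_of_nodup_map (distinctB_sound _ _ keys_distinct.2) (List.mem_finRange i) (List.mem_finRange j) h

/-- A pair of permutations is the listed one. -/
def Rep (k : Equiv.Perm GolayPt × Equiv.Perm (Fin 12)) (i : Fin 660) : Prop :=
  (∀ x, fn k.1 x = f24 i.val x) ∧ ∀ x, k.2 x = f12 i.val x

theorem rep_unique {k k' : Equiv.Perm GolayPt × Equiv.Perm (Fin 12)} {i : Fin 660} (h : Rep k i) (h' : Rep k' i) :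
    k = k' :=
  Prod.ext (fn_ext fun x => by rw [h.1, h'.1]) (Equiv.ext fun x => by rw [h.2, h'.2])

theorem tabs_inv : TabInv tabS ∧ TabInv tabJ := by decide +kernel

/-- The two pairs of generators. -/
def pairGens : Set (Equiv.Perm GolayPt × Equiv.Perm (Fin 12)) := {(tperm tabS, shiftP), (tperm tabJ, flipP)}

/-- The group generated by the two pairs. -/
def graphK : Subgroup (Equiv.Perm GolayPt × Equiv.Perm (Fin 12)) := Subgroup.closure pairGens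

theorem rep_step {k : Equiv.Perm GolayPt × Equiv.Perm (Fin 12)} {i : Fin 660} (h : Rep k i) :
    (∃ j : Fin 660, j.val = (row i.val).2.2.2.2.1 ∧ Rep ((tperm tabS, shiftP) * k) j) ∧
    ∃ j : Fin 660, j.val = (row i.val).2.2.2.2.2 ∧ Rep ((tperm tabJ, flipP) * k) j := by
  obtain ⟨ha, hb, a1, a2, b1, b2⟩ := pairList_closed.2.2.2 i
  constructor
  · refine ⟨⟨_, ha⟩, rfl, fun x => ?_, fun x => ?_⟩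
    · show fn (tperm tabS * k.1) x = _
      rw [fn_mul, fn_tperm tabs_inv.1, h.1, a1]
    · show shiftF (k.2 x) = _
      rw [h.2, a2]
  · refine ⟨⟨_, hb⟩, rfl, fun x => ?_, fun x => ?_⟩
    · show fn (tperm tabJ * k.1) x = _
      rw [fn_mul, fn_tperm tabs_inv.2, h.1, b1]
    · show flipF (k.2 x) = _
      rw [h.2, b2]

theorem rep_total {k : Equiv.Perm GolayPt × Equiv.Perm (Fin 12)} (hk : k ∈ graphK) : ∃ i, Rep k i := by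
  rw [graphK, ← Subgroup.mem_toSubmonoid, Subgroup.closure_toSubmonoid_of_finite] at hk
  induction hk using Submonoid.closure_induction_left with
  | one =>
    refine ⟨0, fun x => ?_, fun x => (pairList_closed.2.2.1 x).symm⟩
    rw [Prod.fst_one, show f24 (0 : Fin 660).val x = x from pairList_closed.2.1 x]
    simp [fn, idx_pt]
  | mul_left a ha b _ ih =>
    obtain ⟨i, hi⟩ := ih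
    rcases ha with rfl | rfl
    · obtain ⟨j, -, hj⟩ := (rep_step hi).1; exact ⟨j, hj⟩
    · obtain ⟨j, -, hj⟩ := (rep_step hi).2; exact ⟨j, hj⟩

theorem rep_exists : ∀ n : ℕ, ∀ i : Fin 660, i.val = n → ∃ k ∈ graphK, Rep k i := by
  intro n
  induction n using Nat.strong_induction_on with
  | _ n ih =>
    intro i hi
    by_cases h0 : i.val = 0
    · refine ⟨1, one_mem _, fun x => ?_, fun x => ?_⟩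
      · rw [Prod.fst_one, h0, pairList_closed.2.1]; simp [fn, idx_pt]
      · rw [Prod.snd_one, h0, pairList_closed.2.2.1]; rfl
    · obtain ⟨hlt, h⟩ := pairList_parent i h0
      obtain ⟨k, hk, hrep⟩ := ih _ (hi ▸ hlt) ⟨_, hlt.trans i.isLt⟩ rfl
      rcases h with ⟨-, e⟩ | ⟨-, e⟩
      · obtain ⟨j, hj, hj'⟩ := (rep_step hrep).1
        obtain rfl : j = i := Fin.ext (hj.trans e)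
        exact ⟨_, mul_mem (Subgroup.subset_closure (Or.inl rfl)) hk, hj'⟩
      · obtain ⟨j, hj, hj'⟩ := (rep_step hrep).2
        obtain rfl : j = i := Fin.ext (hj.trans e)
        exact ⟨_, mul_mem (Subgroup.subset_closure (Or.inr rfl)) hk, hj'⟩

theorem card_graphK : Nat.card graphK = 660 := by
  choose g hg hr using fun i : Fin 660 => rep_exists i.val i rfl
  have hb : Function.Bijective (fun i => (⟨g i, hg i⟩ : graphK)) := by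
    refine ⟨fun i j h => key24_inj ?_, fun k => ?_⟩
    · have e : g i = g j := congrArg Subtype.val h
      have hi := (hr i).1
      rw [e] at hi
      simp only [key24, ← hi, ← (hr j).1]
    · obtain ⟨i, hi⟩ := rep_total k.2
      exact ⟨i, Subtype.ext (rep_unique (hr i) hi)⟩
  rw [← Nat.card_congr (Equiv.ofBijective _ hb), Nat.card_eq_fintype_card, Fintype.card_fin]

theorem fst_inj : Function.Injective fun k : graphK => k.1.1 := fun k k' e => by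
  obtain ⟨i, hi⟩ := rep_total k.2
  obtain ⟨j, hj⟩ := rep_total k'.2
  have e' : k.1.1 = k'.1.1 := e
  have hi1 := hi.1
  rw [e'] at hi1
  obtain rfl : i = j := key24_inj (by simp only [key24, ← hi1, ← hj.1])
  exact Subtype.ext (rep_unique hi hj)

theorem snd_inj : Function.Injective fun k : graphK => k.1.2 := fun k k' e => by
  obtain ⟨i, hi⟩ := rep_total k.2
  obtain ⟨j, hj⟩ := rep_total k'.2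
  have e' : k.1.2 = k'.1.2 := e
  have hi1 := hi.2
  rw [e'] at hi1
  obtain rfl : i = j := key12_inj (by simp only [key12, ← hi1, ← hj.2])
  exact Subtype.ext (rep_unique hi hj)

/-! ### The stabiliser -/

/-- The standard stabiliser. -/
abbrev G0 : Subgroup (Equiv.Perm GolayPt) :=
  fixN stabD baseL 1 ⊓ MulAction.stabilizer (Equiv.Perm GolayPt) (pt 4)

theorem tabs_in : TabIn 1 tabS ∧ tabFn tabS.1 4 = 4 ∧ TabIn 1 tabJ ∧ tabFn tabJ.1 4 = 4 := by decide +kernel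

theorem trans_out : (∀ T ∈ tabsT, TabIn 3 T) ∧
    ∀ a : Fin 24, dMask.testBit a.val = false → ∃ T ∈ tabsT, tabFn T.1 4 = a := by
  decide +kernel

theorem four_out : pt 4 ∉ D0 := by decide +kernel

theorem card_out : D0ᶜ.card = 12 := by decide +kernel

theorem exists_move {q : GolayPt} (hq : q ∉ D0) : ∃ g ∈ fixN stabD baseL 1, g (pt 4) = q := by
  have hb : dMask.testBit (idx q).val = false := by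
    rw [D0, mem_supp, Bool.not_eq_true] at hq; exact hq
  obtain ⟨T, hT, hTa⟩ := trans_out.2 _ hb
  have hm := tab_mem (trans_out.1 T hT)
  exact ⟨tperm T, ⟨hm.1, fun j hj => hm.2 j (by omega)⟩, by
    rw [tperm_apply (trans_out.1 T hT).1, hTa, pt_idx]⟩

theorem card_G0 : Nat.card G0 = 660 := by
  have h : Nat.card G0 * (↑D0ᶜ : Set GolayPt).ncard = Nat.card (fixN stabD baseL 1) :=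
    card_inf_stab (fixN stabD baseL 1) (pt 4) (↑D0ᶜ : Set GolayPt)
      (fun a ha => by
        simp only [Finset.coe_compl, Set.mem_compl_iff, Finset.mem_coe, Equiv.Perm.smul_def]
        rw [← (stabD_mem_iff.mp ha.1).2]
        exact four_out)
      (fun y hy => exists_move (by simpa using hy))
  have h1 := card_stabD_step ⟨0, by norm_num⟩
  simp only [Nat.zero_add, fixN_zero, card_stabD.1] at h1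
  rw [Set.ncard_coe_finset, card_out] at h
  omega

theorem fst_mem {k : Equiv.Perm GolayPt × Equiv.Perm (Fin 12)} (hk : k ∈ graphK) : k.1 ∈ G0 := by
  have : graphK ≤ G0.comap (MonoidHom.fst _ _) := by
    rw [graphK, Subgroup.closure_le]
    rintro _ (rfl | rfl)
    · simp only [Subgroup.coe_comap, Set.mem_preimage, SetLike.mem_coe, MonoidHom.coe_fst, Subgroup.mem_inf,
        MulAction.mem_stabilizer_iff, Equiv.Perm.smul_def]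
      exact ⟨tab_mem (T := tabS) tabs_in.1, by rw [tperm_apply (T := tabS) tabs_in.1.1, tabs_in.2.1]⟩
    · simp only [Subgroup.coe_comap, Set.mem_preimage, SetLike.mem_coe, MonoidHom.coe_fst, Subgroup.mem_inf,
        MulAction.mem_stabilizer_iff, Equiv.Perm.smul_def]
      exact ⟨tab_mem (T := tabJ) tabs_in.2.2.1, by rw [tperm_apply (T := tabJ) tabs_in.2.2.1.1, tabs_in.2.2.2]⟩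
  exact this hk

/-! ### The linear group -/

/-- Vectors for the twelve labels. -/
def labV (i : Fin 12) : Fin 2 → ZMod 11 := if i.val < 11 then ![(i.val : ZMod 11), 1] else ![1, 0]

theorem labV_facts : (∀ i, labV i ≠ 0) ∧
    ∀ i j, ∀ r : ZMod 11, r • labV j = labV i → i = j := by
  decide +kernel

/-- The twelve points of the line. -/
def lab (i : Fin 12) : ℙ (ZMod 11) (Fin 2 → ZMod 11) := Projectivization.mk _ (labV i) (labV_facts.1 i)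

theorem lab_bijective : Function.Bijective lab := by
  refine (Nat.bijective_iff_injective_and_card lab).2 ⟨fun i j h => ?_, ?_⟩
  · obtain ⟨r, hr⟩ := (Projectivization.mk_eq_mk_iff' _ _ _ _ _).1 h
    exact labV_facts.2 i j r hr
  · rw [Projectivization.card_of_finrank_two _ _ (by simp)]
    simp

/-- The action of the linear group on the twelve labels. -/
noncomputable def linHom : Matrix.ProjectiveSpecialLinearGroup (Fin 2) (ZMod 11) →* Equiv.Perm (Fin 12) :=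
  (Equiv.ofBijective lab lab_bijective).symm.permCongrHom.toMonoidHom.comp (MulAction.toPermHom _ _)

theorem linHom_injective : Function.Injective linHom :=
  (Equiv.permCongrHom _).injective.comp MulAction.toPerm_injective

theorem linHom_eq {A : SL(2, ZMod 11)} {f : Equiv.Perm (Fin 12)}
    (h : ∀ i, ∃ r : ZMod 11, r • labV (f i) = (A : Matrix (Fin 2) (Fin 2) (ZMod 11)).mulVec (labV i)) :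
    linHom (QuotientGroup.mk A) = f := by
  refine Equiv.ext fun i => ?_
  show (Equiv.ofBijective lab lab_bijective).symm (A • lab i) = f i
  rw [Equiv.symm_apply_eq]
  obtain ⟨r, hr⟩ := h i
  show A • lab i = lab (f i)
  rw [lab, lab]
  exact (Projectivization.mk_eq_mk_iff' _ _ _ _ _).2 ⟨r, hr⟩

/-- The translation matrix. -/
def matS : SL(2, ZMod 11) := ⟨!![1, 1; 0, 1], by decide⟩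

/-- The inversion matrix. -/
def matJ : SL(2, ZMod 11) := ⟨!![0, -1; 1, 0], by decide⟩

theorem mats_ok : (∀ i, ∃ r : ZMod 11, r • labV (shiftP i) = (matS : Matrix (Fin 2) (Fin 2) (ZMod 11)).mulVec (labV i)) ∧
    ∀ i, ∃ r : ZMod 11, r • labV (flipP i) = (matJ : Matrix (Fin 2) (Fin 2) (ZMod 11)).mulVec (labV i) := by
  decide +kernel

theorem snd_mem {k : Equiv.Perm GolayPt × Equiv.Perm (Fin 12)} (hk : k ∈ graphK) : k.2 ∈ linHom.range := by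
  have : graphK ≤ linHom.range.comap (MonoidHom.snd _ _) := by
    rw [graphK, Subgroup.closure_le]
    rintro _ (rfl | rfl)
    · exact ⟨_, linHom_eq mats_ok.1⟩
    · exact ⟨_, linHom_eq mats_ok.2⟩
  exact this hk

theorem card_lin : Nat.card (Matrix.ProjectiveSpecialLinearGroup (Fin 2) (ZMod 11)) = 660 := by
  have h := Classical.SL2.card_PSL2_mul (F := ZMod 11)
  rw [ZMod.card, show Nat.gcd 2 (11 - 1) = 2 by decide] at h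
  omega

theorem nonempty_iso : Nonempty (G0 ≃* Matrix.ProjectiveSpecialLinearGroup (Fin 2) (ZMod 11)) := by
  let f1 : graphK →* G0 := ((MonoidHom.fst _ _).comp graphK.subtype).codRestrict G0 fun k => fst_mem k.2
  let f2 : graphK →* linHom.range :=
    ((MonoidHom.snd _ _).comp graphK.subtype).codRestrict _ fun k => snd_mem k.2
  have hb1 : Function.Bijective f1 := (Nat.bijective_iff_injective_and_card f1).2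
    ⟨fun a b e => fst_inj (congrArg Subtype.val e), by rw [card_graphK, card_G0]⟩
  have hb2 : Function.Bijective f2 := (Nat.bijective_iff_injective_and_card f2).2
    ⟨fun a b e => snd_inj (congrArg Subtype.val e), by
      rw [card_graphK, ← Nat.card_congr (MonoidHom.ofInjective linHom_injective).toEquiv, card_lin]⟩
  exact ⟨((MulEquiv.ofBijective f1 hb1).symm.trans (MulEquiv.ofBijective f2 hb2)).trans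
    (MonoidHom.ofInjective linHom_injective).symm⟩

theorem iso_transport {d : Finset GolayPt} (hd : d ∈ dodecads) {p q : GolayPt} (hp : p ∈ d) (hq : q ∉ d) :
    Nonempty (↥(MulAction.stabilizer M24 d ⊓ MulAction.stabilizer M24 p ⊓ MulAction.stabilizer M24 q) ≃* G0) := by
  obtain ⟨σ₀, hσ₀, hd0, hp0⟩ := exists_dodecad_point hd hp
  have hq0 : σ₀⁻¹ q ∉ D0 := fun h => hq (by
    rw [← hd0, ← Finset.inv_smul_mem_iff]; exact h)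
  obtain ⟨t, ht, htq⟩ := exists_move hq0
  set σ := σ₀ * t with hσdef
  have hσ : σ ∈ M24 := mul_mem hσ₀ ht.1.1
  have hdσ : σ • D0 = d := by rw [hσdef, mul_smul, show t • D0 = D0 from ht.1.2, hd0]
  have hpσ : σ (pt (bat baseL 0)) = p := by
    rw [hσdef, Equiv.Perm.mul_apply, ht.2 0 Nat.one_pos, hp0]
  have hqσ : σ (pt 4) = q := by
    rw [hσdef, Equiv.Perm.mul_apply, htq, Equiv.Perm.coe_inv, Equiv.apply_symm_apply]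
  clear_value σ
  have hc : ∀ (g : Equiv.Perm GolayPt) (a b : GolayPt), σ a = b → (g b = b ↔ (σ⁻¹ * g * σ) a = a) := by
    rintro g a _ rfl
    rw [Equiv.Perm.mul_apply, Equiv.Perm.mul_apply, Equiv.Perm.coe_inv, Equiv.symm_apply_eq]
  have key : ∀ g : Equiv.Perm GolayPt, (g ∈ M24 ∧ g • d = d ∧ g p = p ∧ g q = q) ↔ σ⁻¹ * g * σ ∈ G0 := by
    intro g
    constructor
    · rintro ⟨hg, hgd, gp, gq⟩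
      refine ⟨⟨(conj_stabD hσ g).mp ⟨hg, by rw [hdσ]; exact hgd⟩, fun i hi => ?_⟩, (hc g _ _ hqσ).1 gq⟩
      obtain rfl : i = 0 := by omega
      exact (hc g _ _ hpσ).1 gp
    · rintro ⟨⟨hg, hfix⟩, h4⟩
      obtain ⟨a, b⟩ := (conj_stabD hσ g).mpr hg
      exact ⟨a, hdσ ▸ b, (hc g _ _ hpσ).2 (hfix 0 Nat.one_pos), (hc g _ _ hqσ).2 h4⟩
  exact ⟨
    { toFun := fun g => ⟨σ⁻¹ * ((g : M24) : Equiv.Perm GolayPt) * σ,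
        (key _).1 ⟨(g : M24).2, g.2.1.1, g.2.1.2, g.2.2⟩⟩
      invFun := fun h =>
        have hk := (key (σ * (h : Equiv.Perm GolayPt) * σ⁻¹)).2 (by simp [mul_assoc, h.2])
        ⟨⟨_, hk.1⟩, ⟨hk.2.1, hk.2.2.1⟩, hk.2.2.2⟩
      left_inv := fun g => by apply Subtype.ext; apply Subtype.ext; simp [mul_assoc]
      right_inv := fun h => by apply Subtype.ext; simp [mul_assoc]
      map_mul' := fun a b => by apply Subtype.ext; simp [mul_assoc] }⟩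

end Cfsg.Agent.Golay.Linear11
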