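import Cfsg.Agent.Lib.Golay.Code
import Mathlib.GroupTheory.GroupAction.MultipleTransitivity

/-!
A base and transversals for the automorphism group of the length-24 code.
Points are handled as bit positions `0..23` here.
-/

set_option autoImplicit false

namespace Cfsg.Agent.Golay

open Cfsg
open scoped Pointwise

/-- Tables of the five letters: shift, its inverse, `projInv`, `cubeTwist`, its inverse. -/
def letterTab : List (List ℕ) := [[1, 2, 3, 4, 5, 6, 7, 8, 9, 10, 11, 12, 13, 14, 15, 16, 17, 18, 19, 20, 21, 22, 0, 23], [22, 0, 1, 2, 3, 4, 5, 6, 7, 8, 9, 10, 11, 12, 13, 14, 15, 16, 17, 18, 19, 20, 21, 23], [23, 22, 11, 15, 17, 9, 19, 13, 20, 5, 16, 2, 21, 7, 18, 3, 10, 4, 14, 6, 8, 12, 1, 0], [0, 18, 6, 3, 2, 21, 1, 5, 16, 12, 7, 19, 8, 9, 17, 15, 13, 11, 4, 22, 10, 20, 14, 23], [0, 6, 4, 3, 18, 7, 2, 10, 12, 13, 20, 17, 9, 16, 22, 15, 8, 14, 1, 11, 21, 5, 19, 23]]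

/-- The five letters as permutations. -/
noncomputable def letter : Fin 5 → Equiv.Perm GolayPt
  | 0 => Equiv.optionCongr (Equiv.addRight (1 : ZMod 23))
  | 1 => (Equiv.optionCongr (Equiv.addRight (1 : ZMod 23)))⁻¹
  | 2 => projInv
  | 3 => cubeTwist
  | 4 => cubeTwist⁻¹

/-- A letter acting on positions. -/
def act (k : Fin 5) (i : Fin 24) : Fin 24 := Fin.ofNat 24 ((letterTab.getD k.val []).getD i.val 0)

/-- A word acting on positions, the head acting last. -/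
def ev : List (Fin 5) → Fin 24 → Fin 24
  | [], i => i
  | k :: w, i => act k (ev w i)

theorem act_inv : ∀ i : Fin 24, act 1 (act 0 i) = i ∧ act 4 (act 3 i) = i ∧ act 0 (act 1 i) = i ∧
    act 3 (act 4 i) = i := by decide +kernel

theorem letter_apply_shift : ∀ p : GolayPt,
    Option.map (fun x : ZMod 23 => x + 1) p = pt (act 0 (idx p)) := by decide +kernel

theorem letter_apply_projInv : ∀ p : GolayPt, projInvFun p = pt (act 2 (idx p)) := by decide +kernel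

theorem letter_apply_cubeTwist : ∀ p : GolayPt, cubeTwistFun p = pt (act 3 (idx p)) := by
  decide +kernel

theorem letter_apply (k : Fin 5) (p : GolayPt) : letter k p = pt (act k (idx p)) := by
  have h0 : ∀ q, letter 0 q = pt (act 0 (idx q)) := letter_apply_shift
  have h2 : ∀ q, letter 2 q = pt (act 2 (idx q)) := letter_apply_projInv
  have h3 : ∀ q, letter 3 q = pt (act 3 (idx q)) := letter_apply_cubeTwist
  have h1 : ∀ q, letter 1 q = pt (act 1 (idx q)) := fun q => by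
    apply (letter 0).injective
    rw [show letter 1 = (letter 0)⁻¹ from rfl, Equiv.Perm.coe_inv, Equiv.apply_symm_apply, h0,
      idx_pt, (act_inv _).2.2.1, pt_idx]
  have h4 : ∀ q, letter 4 q = pt (act 4 (idx q)) := fun q => by
    apply (letter 3).injective
    rw [show letter 4 = (letter 3)⁻¹ from rfl, Equiv.Perm.coe_inv, Equiv.apply_symm_apply, h3,
      idx_pt, (act_inv _).2.2.2, pt_idx]
  fin_cases k
  · exact h0 p
  · exact h1 p
  · exact h2 p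
  · exact h3 p
  · exact h4 p

/-- The permutation of a word. -/
noncomputable def wordPerm (w : List (Fin 5)) : Equiv.Perm GolayPt := (w.map letter).prod

theorem wordPerm_apply (w : List (Fin 5)) (i : Fin 24) : wordPerm w (pt i) = pt (ev w i) := by
  induction w with
  | nil => rfl
  | cons k w ih =>
    simp only [wordPerm, List.map_cons, List.prod_cons, Equiv.Perm.mul_apply] at *
    rw [ih, letter_apply, idx_pt]; rfl

theorem mem_M24_of_forall {σ : Equiv.Perm GolayPt}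
    (h : ∀ w ∈ golayCode, (fun p => w (σ p)) ∈ golayCode) : σ⁻¹ ∈ M24 := by
  rw [MulAction.mem_stabilizer_set_iff_smul_set_subset (Set.toFinite _)]
  rintro _ ⟨s, ⟨w, hw, rfl⟩, rfl⟩
  refine ⟨_, h w hw, ?_⟩
  ext p
  simp [support₂, Finset.mem_smul_finset, Equiv.Perm.smul_def, eq_comm, Equiv.eq_symm_apply]

theorem forall_of_mem_M24 {σ : Equiv.Perm GolayPt} (h : σ ∈ M24) {w : GolayPt → ZMod 2}
    (hw : w ∈ golayCode) : (fun p => w (σ p)) ∈ golayCode := by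
  have h' : σ⁻¹ • support₂ w ∈ supports (golayCode : Set (GolayPt → ZMod 2)) := by
    have := MulAction.mem_stabilizer_iff.mp (inv_mem h)
    rw [← this]
    exact Set.smul_mem_smul_set ⟨w, hw, rfl⟩
  obtain ⟨v, hv, e⟩ := h'
  suffices v = fun p => w (σ p) by rw [← this]; exact hv
  funext p
  have := Finset.ext_iff.mp e p
  simp only [support₂, Finset.mem_smul_finset, Finset.mem_filter, Finset.mem_univ, true_and,
    Equiv.Perm.smul_def, Equiv.Perm.coe_inv] at this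
  have h2 : v p ≠ 0 ↔ w (σ p) ≠ 0 := by
    rw [this]
    constructor
    · rintro ⟨a, ha, rfl⟩; rwa [Equiv.apply_symm_apply]
    · intro ha; exact ⟨σ p, ha, Equiv.symm_apply_apply _ _⟩
  revert h2
  generalize v p = a
  generalize w (σ p) = b
  revert a b
  decide

theorem comp_mem_of_qr (σ : Equiv.Perm GolayPt)
    (h : ∀ t, inC (mask fun p => qrWord t (σ p)) = true) :
    ∀ w ∈ golayCode, (fun p => w (σ p)) ∈ golayCode := by
  intro w hw
  induction hw using Submodule.span_induction with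
  | mem x hx =>
    rcases hx with ⟨t, rfl⟩ | hx
    · exact (mem_golay_iff _).mpr (h t)
    · rw [Set.mem_singleton_iff] at hx; subst hx; exact Submodule.subset_span (Or.inr rfl)
  | zero => exact Submodule.zero_mem _
  | add x y _ _ hx hy => exact Submodule.add_mem _ hx hy
  | smul c x _ hx => exact Submodule.smul_mem _ c hx

theorem letter_qr : ∀ (k : Fin 5) (t : ZMod 23),
    inC (mask fun p => qrWord t (pt (act k (idx p)))) = true := by decide +kernel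

theorem letter_mem (k : Fin 5) : letter k ∈ M24 := by
  rw [← inv_inv (letter k)]
  refine inv_mem (mem_M24_of_forall (comp_mem_of_qr _ fun t => ?_))
  simpa only [letter_apply] using letter_qr k t

theorem wordPerm_mem (w : List (Fin 5)) : wordPerm w ∈ M24 :=
  Subgroup.list_prod_mem _ fun x hx => by
    obtain ⟨k, _, rfl⟩ := List.mem_map.mp hx
    exact letter_mem k

/-- The group generated by the three permutations of the statements. -/
noncomputable abbrev genGroup : Subgroup (Equiv.Perm GolayPt) :=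
  Subgroup.closure {Equiv.optionCongr (Equiv.addRight (1 : ZMod 23)), projInv, cubeTwist}

theorem wordPerm_mem_genGroup (w : List (Fin 5)) : wordPerm w ∈ genGroup :=
  Subgroup.list_prod_mem _ fun x hx => by
    obtain ⟨k, _, rfl⟩ := List.mem_map.mp hx
    fin_cases k
    · exact Subgroup.subset_closure (by simp [letter])
    · exact inv_mem (Subgroup.subset_closure (by simp))
    · exact Subgroup.subset_closure (by simp [letter])
    · exact Subgroup.subset_closure (by simp [letter])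
    · exact inv_mem (Subgroup.subset_closure (by simp))

/-- The base. -/
def baseL : List (Fin 24) := [23, 0, 1, 2, 3, 4, 5]

/-- The transversals. -/
def levels : List (List (Fin 24 × List (Fin 5))) := [
  [(0, [2]), (1, [0, 2]), (2, [0, 0, 2]), (3, [0, 0, 0, 2]), (4, [4, 0, 0, 2]), (5, [1, 4, 0, 2]), (6, [4, 0, 2]), (7, [0, 4, 0, 2]), (8, [0, 0, 4, 0, 2]), (9, [2, 1, 4, 0, 2]), (10, [1, 2, 0, 0, 2]), (11, [2, 0, 0, 2]), (12, [2, 1, 1, 2]), (13, [1, 3, 1, 2]), (14, [3, 1, 2]), (15, [0, 3, 1, 2]), (16, [1, 1, 3, 0, 2]), (17, [1, 3, 0, 2]), (18, [3, 0, 2]), (19, [4, 1, 2]), (20, [1, 1, 1, 2]), (21, [1, 1, 2]), (22, [1, 2]), (23, [])], 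
  [(0, []), (1, [0]), (2, [0, 0]), (3, [0, 0, 0]), (4, [4, 0, 0]), (5, [1, 4, 0]), (6, [4, 0]), (7, [0, 4, 0]), (8, [0, 0, 4, 0]), (9, [3, 1, 3, 1]), (10, [4, 0, 4, 0]), (11, [4, 4, 1]), (12, [1, 1, 3, 1]), (13, [1, 3, 1]), (14, [3, 1]), (15, [0, 3, 1]), (16, [1, 1, 3, 0]), (17, [1, 3, 0]), (18, [3, 0]), (19, [4, 1]), (20, [1, 1, 1]), (21, [1, 1]), (22, [1])], 
  [(1, []), (2, [4, 4]), (3, [1, 1, 1, 3, 3, 0, 0, 0]), (4, [3, 3]), (5, [1, 4, 0, 3, 3, 1]), (6, [4]), (7, [0, 0, 4, 1, 1, 1]), (8, [0, 4, 1, 4, 0, 3, 1]), (9, [1, 3, 0, 4, 1, 1]), (10, [0, 3, 1, 3, 1, 1]), (11, [0, 0, 0, 0, 0, 3, 0]), (12, [2, 1, 1, 3, 3, 3, 0, 2]), (13, [1, 3, 0, 3, 0, 4, 0]), (14, [1, 1, 2, 1, 1, 2, 4, 4, 1, 2, 0]), (15, [1, 1, 1, 4, 0, 0, 0]), (16, [1, 1, 3, 3, 3, 0]), (17, [0, 0, 0, 3, 1, 1]), (18, [3]), (19, [1, 1, 3, 0, 0, 0, 0]), (20, [1, 3, 0, 0, 4, 0, 0]), (21, [1, 3, 0, 4, 1, 1, 4]), (22, [1, 1, 1, 3, 0, 0,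 0])], 
  [(2, []), (3, [3, 0, 3, 0, 3, 0]), (4, [0, 0, 4, 0, 4, 1, 2, 1, 4, 0, 3, 3, 1, 2]), (5, [3, 2, 0, 3, 0, 3, 0, 2]), (6, [1, 1, 1, 4, 4, 0, 0, 0, 0, 3, 3, 0, 3, 3, 1, 1]), (7, [3, 3, 1, 3, 0, 0, 3, 3, 0]), (8, [3, 3, 1, 3, 1, 3, 3, 0, 4, 1]), (9, [1, 4, 1, 1, 1, 1, 1, 1, 3, 1, 3, 3, 1, 1, 1]), (10, [0, 4, 1, 3, 0, 3, 1, 1, 1, 3, 1, 3, 0, 4, 0]), (11, [1, 1, 1, 4, 0, 0, 0, 1, 1, 1, 1, 4, 0, 0]), (12, [4, 4, 1, 1, 3, 1, 1, 4, 0]), (13, [0, 4, 1, 3, 0, 3, 1, 1, 3, 1, 3, 1, 4, 4, 1]), (14, [0, 4, 1, 3, 0, 3, 1, 0, 0, 4, 0, 4, 1]), (15, [0, 4, 4, 1, 3, 0, 0, 0, 3, 1, 4, 0]), (16, [3, 3, 1, 1, 3, 1, 4, 1, 1]), (17, [0, 0, 4, 1, 1, 1, 1, 4, 0, 0, 0, 0, 3, 1]), (18, [1, 1, 3, 1, 1, 4, 0, 1, 1, 1, 1, 3, 3, 0]), (19, [0, 4, 4, 1, 3, 0, 1, 3, 1, 4, 1, 4, 0]), (20, [3, 3, 1, 3, 3, 0, 0]), (21, [4, 4, 0, 0, 0, 0, 4, 1]), (22, [1, 1, 1, 3, 0, 0, 0, 1, 4, 1, 4, 1, 3])], 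
  [(3, []), (4, [4, 1, 4, 1, 4, 1]), (5, [0, 3, 1, 3, 1, 1, 0, 4, 1, 4, 0, 3, 1, 1, 1, 1, 1, 4, 0, 0, 0, 4, 0, 0, 2, 1, 1, 2, 4, 4, 1, 2]), (6, [1, 3, 0, 0, 4, 0, 0, 3, 3, 4, 1, 1, 3, 3, 3, 0, 4]), (7, [0, 3, 1, 1, 1, 1, 3, 3, 1, 4, 1, 1, 1, 1, 1, 0, 3, 3, 3, 1, 3, 0]), (8, [1, 3, 0, 0, 4, 0, 0, 3, 3, 4, 4, 2, 1, 4, 1, 4, 1, 2]), (9, [2, 1, 4, 1, 4, 1, 2, 4, 0, 4, 4, 1, 3, 0, 0, 0, 0, 3, 1, 1, 4]), (10, [1, 4, 4, 1, 1, 4, 0, 4, 4, 1, 4, 1, 1, 1, 1, 1, 0, 3, 1, 1, 1, 1]), (11, [0, 3, 1, 1, 1, 1, 3, 3, 0, 0, 0, 3, 1, 1, 2, 0, 0, 0, 3, 1, 1, 2]), (12, [1, 4, 4, 1, 1, 4, 0, 4, 4, 1, 2, 0, 3, 3, 2, 0, 0, 2, 0, 0, 0, 0, 4, 0, 0, 3, 0]), (13, [1, 3, 0, 3, 0, 4, 0, 1, 4, 0, 3, 3, 1, 1, 1, 3, 1, 1, 4, 0, 1, 4, 0, 3, 3, 1, 3]), (14, [1, 1, 4, 4, 0, 4, 4, 4, 4, 1, 4, 0, 0, 4, 1, 3, 1]), (15, [1, 4, 4, 0, 0, 0, 0, 1, 3, 0, 0, 4, 0, 0, 0, 0, 0, 3, 1, 1, 0, 4, 1, 2, 1, 3, 3, 0, 0, 2, 0]), (16, [1, 3, 0, 3,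 0, 4, 0, 1, 4, 0, 3, 3, 1, 0, 0, 0, 3, 1, 1, 2, 1, 3, 0, 4, 1, 1, 2]), (17, [0, 4, 1, 1, 1, 1, 3, 0, 0, 0, 0, 3, 1, 1, 1, 1, 1, 3, 0, 0, 0, 1, 1, 3, 3, 1, 4, 1]), (18, [2, 1, 4, 1, 4, 1, 2, 4, 4, 0, 0, 0, 3, 0, 3, 1, 1]), (19, [0, 3, 1, 3, 1, 1, 0, 4, 1, 4, 0, 3, 1, 0, 0, 4, 0, 4, 1, 1, 3, 1, 4, 0, 4, 0, 0]), (20, [0, 0, 0, 4, 4, 0, 4, 0, 0, 0, 0, 0, 0, 3, 0, 4, 4, 0, 4, 0, 0, 0, 4, 4, 1]), (21, [1, 4, 4, 0, 0, 0, 0, 1, 3, 0, 0, 4, 0, 0, 1, 1, 1, 3, 0, 0, 0, 2, 1, 3, 3, 0, 0, 2]), (22, [0, 3, 3, 0, 4, 0, 4, 0, 0, 4, 1, 4, 0, 3, 1, 0, 0, 3, 1, 4, 0, 1, 4, 4, 0, 0, 0, 0])], 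
  [(4, []), (6, [2, 0, 3, 0, 3, 0, 2, 3, 3, 4, 4, 1, 1, 3, 1, 1, 4, 0, 1, 3, 0, 0, 4, 0, 0, 3, 3, 4, 4, 1, 3, 2, 0, 3, 0, 3, 0, 2, 0]), (7, [0, 3, 3, 1, 1, 1, 3, 1, 3, 3, 1, 4, 1, 1, 1, 1, 1, 1, 3, 1, 3, 3, 1, 1, 1, 4, 0, 3, 0, 3, 0, 1, 1, 1, 4, 0, 0, 0, 1, 4, 4, 4, 0, 0, 1, 1, 3, 1, 1, 3, 0, 0]), (8, [0, 0, 0, 4, 4, 0, 4, 0, 0, 0, 0, 0, 0, 3, 0, 3, 1, 3, 1, 3, 3, 3, 1, 1]), (9, [2, 0, 0, 4, 1, 1, 1, 2, 0, 0, 4, 1, 1, 1, 4, 4, 0, 0, 0, 0, 4, 1, 0, 3, 1, 4, 4, 0, 4, 0, 4, 4, 3, 1, 3, 3, 0, 0, 3]), (10, [0, 4, 0, 3, 1, 1, 3, 0, 3, 3, 3, 3, 1, 3, 3, 0, 0, 1, 4, 4, 0, 0, 0, 0, 1, 3, 0, 0, 4, 0, 0, 4, 0, 4, 0, 4, 0, 0, 0, 4, 0]), (11, [2, 0, 4, 4, 1, 3, 0, 2, 0, 3, 1, 3, 1, 1, 3, 3, 1, 3, 0, 3, 0, 3, 0, 0]), (12, [0, 3, 0, 4, 4, 0, 0, 1, 1, 1, 4, 0, 0, 0, 0, 0, 4, 1, 1, 1, 1, 4, 0, 0, 0, 0, 3, 1, 1, 4, 4, 1, 1, 4, 0, 4, 4, 1, 1, 3, 1, 1, 4, 0, 1, 1, 3, 0, 4, 0, 0, 0]), (13, [1, 3, 0, 0, 4, 0, 0,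 3, 3, 0, 4, 4, 1, 3, 0, 2, 0, 0, 0, 0, 4, 1, 2]), (15, [2, 1, 1, 4, 4, 0, 2, 1, 1, 1, 4, 0, 0, 0, 1, 1, 3, 1, 1, 4, 0, 1, 1, 1, 1, 3, 3, 0, 0, 4, 1, 1, 1, 1, 3, 0, 0, 0, 0, 3, 1, 1, 1, 1, 1, 3, 0, 0, 0, 1, 1, 3, 3, 3, 0, 3]), (16, [0, 3, 3, 1, 1, 1, 3, 1, 3, 3, 1, 4, 1, 1, 1, 1, 1, 1, 3, 1, 3, 3, 1, 1, 1, 1, 3, 0, 4, 1, 1, 1, 4, 0, 3, 3, 1, 3, 3, 0, 3, 0, 3, 0, 4]), (18, [2, 0, 0, 3, 1, 4, 0, 2, 0, 0, 4, 1, 1, 1, 0, 4, 4, 1, 3, 0, 1, 3, 1, 4, 1, 4, 0, 1, 3, 0, 0, 4, 0, 0, 3, 3, 1, 1, 3, 0, 3, 0, 0, 0]), (19, [2, 0, 0, 3, 1, 4, 0, 2, 0, 0, 4, 1, 1, 1, 0, 4, 4, 1, 3, 0, 1, 3, 1, 4, 1, 4, 0, 2, 0, 4, 4, 1, 3, 0, 2, 0, 3, 1, 3, 1, 1, 2, 1, 4, 4, 4, 0, 0, 2, 1, 3, 3, 0, 0, 4]), (20, [0, 0, 0, 4, 4, 0, 4, 0, 0, 0, 0, 0, 0, 3, 0, 1, 1, 1, 3, 0, 0, 0, 0, 4, 1, 3, 0, 3, 1]), (21, [2, 0, 0, 4, 1, 1, 1, 2, 0, 0, 4, 1, 1, 1, 4, 4, 0, 0, 0, 0, 4, 1, 1, 1, 4, 4, 0, 4, 4, 1, 4, 4, 4, 0, 0, 0, 0, 0, 3, 1, 1,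 3]), (22, [2, 0, 0, 3, 1, 4, 0, 2, 0, 0, 4, 1, 1, 1, 0, 4, 4, 1, 3, 0, 1, 3, 1, 4, 1, 4, 0, 0, 4, 1, 1, 1, 1, 3, 0, 0, 0, 0, 3, 1, 1, 4, 0, 0, 0, 0, 4, 1, 3])], 
  [(5, []), (14, [0, 4, 1, 4, 0, 3, 1, 1, 1, 1, 4, 0, 0, 0, 1, 4, 1, 1, 1, 1, 1, 1, 3, 1, 3, 3, 1, 1, 1, 2, 0, 3, 0, 3, 0, 2, 3, 3, 4, 4, 1, 1, 3, 1, 1, 4, 0, 1, 4, 4, 1, 1, 4, 0, 4, 4, 1, 4, 1, 1, 1, 1, 1, 1, 3, 0, 4, 1, 1, 3]), (17, [0, 0, 4, 4, 4, 0, 4, 0, 4, 1, 4, 1, 1, 1, 1, 1, 1, 3, 1, 3, 3, 1, 1, 1, 1, 1, 4, 4, 0, 4, 4, 0, 4, 1, 3, 0, 3, 1, 0, 0, 3, 1, 3, 0, 0])]]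

/-- The `i`-th base position. -/
def bpt (i : ℕ) : Fin 24 := baseL.getD i 0

/-- The orbit at level `i` with the words reaching it. -/
def lev (i : ℕ) : List (Fin 24 × List (Fin 5)) := levels.getD i []

theorem levels_ok : ∀ i : Fin 7, ∀ e ∈ lev i.val, ev e.2 (bpt i.val) = e.1 ∧
    ∀ j : Fin i.val, ev e.2 (bpt j.val) = bpt j.val := by decide +kernel

theorem lev_small : ∀ i : Fin 5, ∀ x : Fin 24,
    (∀ j : Fin i.val, x ≠ bpt j.val) → x ∈ (lev i.val).map Prod.fst := by decide +kernel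

/-- The octad through the first five base points. -/
def baseOct : ℕ := 8536111

theorem lev_five : ∀ x : Fin 24, baseOct.testBit x.val = false → x ∈ (lev 5).map Prod.fst := by
  decide +kernel

theorem lev_six : ∀ x : Fin 24, baseOct.testBit x.val = true → (∀ j : Fin 5, x ≠ bpt j.val) →
    x ∈ (lev 6).map Prod.fst := by decide +kernel

/-- Octads with five points in the base. -/
def pins : List (ℕ × List (Fin 24)) := [(8536111, [23, 0, 1, 2, 3]), (12656663, [23, 0, 1, 2, 4]), (9963547, [23, 0, 1, 3, 4]), (8421811, [23, 0, 1, 4, 5]), (10486557, [23, 0, 2, 3, 4]), (8391797, [23, 0, 2, 4, 5]), (8663097, [23, 0, 3, 4, 5]), (8683614, [23, 1, 2, 3, 4]), (11538486, [23, 1, 2, 4, 5]), (12584506, [23, 1, 3, 4, 5]), (8978620, [23, 2, 3, 4, 5]), (5279, [0, 1, 2, 3, 4]), (786999, [0, 1, 2, 4, 5]), (2162811, [0, 1, 3, 4, 5]), (5275709, [0, 2, 3, 4, 5]), (10558, [1, 2, 3, 4, 5])]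

/-- An octad with five points among those pinned by `pins`. -/
def pinLast : ℕ × List (Fin 24) := (8524371, [23, 0, 1, 4, 6])

/-- The words of weight eight. -/
def octList : List ℕ := codeList.filter fun m => popc m == 8

/-- `o` is the only octad containing the five positions. -/
def uniqOct (o : ℕ) (s : List (Fin 24)) : Bool :=
  octList.filter (fun m => s.all fun i => m.testBit i.val) == [o]

theorem pins_ok : (pins.all fun e => uniqOct e.1 e.2 && e.2.all (baseL.contains ·)) = true := by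
  decide +kernel

theorem baseOct_ok : uniqOct baseOct (baseL.take 5) = true := by decide +kernel

/-- Positions pinned by `pins`. -/
def pinned : List (Fin 24) := (List.finRange 24).filter fun p =>
  (List.finRange 24).all fun q => q == p || pins.any fun e => e.1.testBit p.val != e.1.testBit q.val

theorem pinLast_ok :
    (uniqOct pinLast.1 pinLast.2 && pinLast.2.all (pinned.contains ·)) = true := by decide +kernel

theorem pins_separate : ∀ p q : Fin 24,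
    (∀ e ∈ pins, e.1.testBit p.val = e.1.testBit q.val) →
      pinLast.1.testBit p.val = pinLast.1.testBit q.val → p = q := by decide +kernel

theorem popc_mask_comp (σ : Equiv.Perm GolayPt) (m : ℕ) :
    popc (mask fun p => ofMask m (σ p)) = popc m := by
  have e : ∀ n, popc n = (Finset.univ.filter fun p : GolayPt => n.testBit (idx p).val).card := by
    intro n
    rw [popc, List.countP_eq_length_filter]
    have h1 : (Finset.univ.filter fun p : GolayPt => n.testBit (idx p).val).card =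
        (Finset.univ.filter fun i : Fin 24 => n.testBit i.val).card :=
      Finset.card_bij' (fun p _ => idx p) (fun i _ => pt i) (by simp) (by simp [idx_pt])
        (by simp [pt_idx]) (by simp [idx_pt])
    have h2 : (Finset.univ.filter fun i : Fin 24 => n.testBit i.val).card =
        ((Finset.range 24).filter fun i => n.testBit i).card :=
      Finset.card_bij (fun i _ => i.val) (by simp) (fun a _ b _ h => Fin.ext h)
        (fun b hb => ⟨⟨b, Finset.mem_range.mp (Finset.mem_filter.mp hb).1⟩, by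
          simpa using (Finset.mem_filter.mp hb).2, rfl⟩)
    rw [h1, h2, Finset.card_def, Finset.filter_val, Finset.range_val, Multiset.range,
      Multiset.filter_coe, Multiset.coe_card]
    simp
  rw [e, e]
  refine Finset.card_bij' (fun p _ => σ p) (fun p _ => σ.symm p) ?_ ?_ (by simp) (by simp) <;>
    intro p hp <;>
    simp only [Finset.mem_filter, Finset.mem_univ, true_and] at hp ⊢ <;>
    rw [testBit_mask] at * <;>
    simp_all [ofMask, Equiv.apply_symm_apply]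

theorem bit_fixed_of_uniq {σ : Equiv.Perm GolayPt} (hσ : σ ∈ M24) {o : ℕ} {s : List (Fin 24)}
    (hu : uniqOct o s = true) (hfix : ∀ i ∈ s, σ (pt i) = pt i) (p : GolayPt) :
    o.testBit (idx (σ p)).val = o.testBit (idx p).val := by
  rw [uniqOct, beq_iff_eq] at hu
  have ho : o ∈ octList.filter fun m => s.all fun i => m.testBit i.val := by
    rw [hu]; exact List.mem_singleton_self _
  simp only [octList, List.mem_filter, beq_iff_eq, List.all_eq_true] at ho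
  obtain ⟨⟨hoC, ho8⟩, hos⟩ := ho
  obtain ⟨hlt, hinC⟩ := (mem_codeList_iff o).mp hoC
  have hC : ofMask o ∈ golayCode := (mem_golay_iff _).mpr (by rwa [mask_ofMask hlt])
  have hv := forall_of_mem_M24 hσ hC
  have hmem : mask (fun q => ofMask o (σ q)) ∈
      octList.filter fun m => s.all fun i => m.testBit i.val := by
    simp only [octList, List.mem_filter, beq_iff_eq, List.all_eq_true]
    refine ⟨⟨mask_mem_codeList hv, by rw [popc_mask_comp, ho8]⟩, fun i hi => ?_⟩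
    rw [← idx_pt i, testBit_mask]
    simp [hfix i hi, ofMask, idx_pt, hos i hi]
  rw [hu, List.mem_singleton] at hmem
  conv_rhs => rw [← hmem]
  rw [testBit_mask]
  cases h : o.testBit (idx (σ p)).val <;> simp [ofMask, h]

theorem eq_one_of_fixes_base {σ : Equiv.Perm GolayPt} (hσ : σ ∈ M24)
    (h : ∀ i : Fin 7, σ (pt (bpt i.val)) = pt (bpt i.val)) : σ = 1 := by
  have hb : ∀ b ∈ baseL, σ (pt b) = pt b := by
    intro b hb
    have key : ∀ b ∈ baseL, ∃ i : Fin 7, b = bpt i.val := by decide +kernel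
    obtain ⟨i, rfl⟩ := key b hb
    exact h i
  have h1 : ∀ e ∈ pins, ∀ p, e.1.testBit (idx (σ p)).val = e.1.testBit (idx p).val := by
    intro e he p
    have := List.all_eq_true.mp pins_ok e he
    simp only [Bool.and_eq_true, List.all_eq_true, List.contains_iff_mem] at this
    exact bit_fixed_of_uniq hσ this.1 (fun i hi => hb i (this.2 i hi)) p
  have hp : ∀ i ∈ pinned, σ (pt i) = pt i := by
    intro i hi
    simp only [pinned, List.mem_filter, List.all_eq_true, List.mem_finRange, true_implies,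
      Bool.or_eq_true, beq_iff_eq, List.any_eq_true, bne_iff_ne] at hi
    rcases hi.2 (idx (σ (pt i))) with he | ⟨e, he, hne⟩
    · apply_fun pt at he; rwa [pt_idx] at he
    · exact absurd (by rw [h1 e he, idx_pt]) hne
  have hl := Bool.and_eq_true_iff.mp pinLast_ok
  have h2 : ∀ p, pinLast.1.testBit (idx (σ p)).val = pinLast.1.testBit (idx p).val := fun p =>
    bit_fixed_of_uniq hσ hl.1 (fun i hi => hp i (List.contains_iff_mem.mp (List.all_eq_true.mp hl.2 i hi))) p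
  ext1 p
  have := pins_separate _ _ (fun e he => h1 e he p) (h2 p)
  apply_fun pt at this
  rwa [pt_idx, pt_idx] at this

/-- The elements of `M24` fixing the first `n` base points. -/
def chain (n : ℕ) : Subgroup (Equiv.Perm GolayPt) where
  carrier := {σ | σ ∈ M24 ∧ ∀ i < n, σ (pt (bpt i)) = pt (bpt i)}
  one_mem' := ⟨one_mem _, fun _ _ => rfl⟩
  mul_mem' := fun {a b} ha hb => ⟨mul_mem ha.1 hb.1, fun i hi => by
    rw [Equiv.Perm.mul_apply, hb.2 i hi, ha.2 i hi]⟩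
  inv_mem' := fun {a} ha => ⟨inv_mem ha.1, fun i hi => by
    conv_lhs => rw [← ha.2 i hi]
    exact Equiv.symm_apply_apply a _⟩

theorem chain_zero : chain 0 = M24 := by
  ext σ; exact ⟨fun h => h.1, fun h => ⟨h, fun i hi => absurd hi (Nat.not_lt_zero i)⟩⟩

theorem chain_seven : chain 7 = ⊥ := by
  rw [eq_bot_iff]
  exact fun σ h => Subgroup.mem_bot.mpr (eq_one_of_fixes_base h.1 fun i => h.2 i.val i.isLt)

theorem wordPerm_mem_chain (i : Fin 7) {e : Fin 24 × List (Fin 5)} (he : e ∈ lev i.val) :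
    wordPerm e.2 ∈ chain i.val ∧ wordPerm e.2 (pt (bpt i.val)) = pt e.1 := by
  refine ⟨⟨wordPerm_mem _, fun j hj => ?_⟩, ?_⟩
  · rw [wordPerm_apply, (levels_ok i e he).2 ⟨j, hj⟩]
  · rw [wordPerm_apply, (levels_ok i e he).1]

theorem base_orbit_mem (i : Fin 7) {σ : Equiv.Perm GolayPt} (hσ : σ ∈ chain i.val) :
    idx (σ (pt (bpt i.val))) ∈ (lev i.val).map Prod.fst := by
  have hne : ∀ j : Fin 7, j < i → idx (σ (pt (bpt i.val))) ≠ bpt j.val := by
    intro j hj he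
    apply_fun pt at he
    rw [pt_idx, ← hσ.2 j.val hj] at he
    have := σ.injective he
    apply_fun idx at this
    rw [idx_pt, idx_pt] at this
    have key : ∀ a b : Fin 7, bpt a.val = bpt b.val → a = b := by decide +kernel
    exact (ne_of_gt hj) (key i j this)
  have hoct : ∀ x : Fin 24, 5 ≤ i.val → baseOct.testBit (idx (σ (pt x))).val = baseOct.testBit x.val := by
    intro x h5
    rw [bit_fixed_of_uniq hσ.1 baseOct_ok (fun b hb => ?_), idx_pt]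
    have key : ∀ b ∈ baseL.take 5, ∃ j : Fin 5, b = bpt j.val := by decide +kernel
    obtain ⟨j, rfl⟩ := key b hb
    exact hσ.2 j.val (lt_of_lt_of_le j.isLt h5)
  by_cases h5 : i.val < 5
  · exact lev_small ⟨i.val, h5⟩ _ fun j => hne ⟨j.val, by omega⟩ j.isLt
  · by_cases h6 : i.val = 5
    · have hb : baseOct.testBit (bpt 5).val = false := by decide +kernel
      simp only [h6] at hσ ⊢
      exact lev_five _ (by rw [← hb]; exact hoct _ (by omega))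
    · have h6' : i.val = 6 := by omega
      have hb : baseOct.testBit (bpt 6).val = true := by decide +kernel
      have hne' : ∀ j : Fin 5, idx (σ (pt (bpt i.val))) ≠ bpt j.val := fun j =>
        hne ⟨j.val, by omega⟩ (by show j.val < i.val; omega)
      simp only [h6'] at hne' ⊢
      exact lev_six _ (by rw [← hb]; exact hoct _ (by omega)) hne'

theorem chain_step (i : Fin 7) {σ : Equiv.Perm GolayPt} (hσ : σ ∈ chain i.val) :
    ∃ e ∈ lev i.val, (wordPerm e.2)⁻¹ * σ ∈ chain (i.val + 1) := by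
  obtain ⟨e, he, hx⟩ := List.mem_map.mp (base_orbit_mem i hσ)
  obtain ⟨hw, hb⟩ := wordPerm_mem_chain i he
  refine ⟨e, he, mul_mem (inv_mem hw.1) hσ.1, fun j hj => ?_⟩
  rcases Nat.lt_succ_iff_lt_or_eq.mp hj with hj | rfl
  · exact (mul_mem (inv_mem hw) hσ).2 j hj
  · rw [Equiv.Perm.mul_apply, Equiv.Perm.coe_inv, Equiv.symm_apply_eq, hb, hx, pt_idx]

theorem chain_le_genGroup : ∀ (n : ℕ) (i : ℕ), n + i = 7 → chain i ≤ genGroup := by
  intro n
  induction n with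
  | zero =>
    intro i hi
    rw [Nat.zero_add] at hi; subst hi
    rw [chain_seven]; exact bot_le
  | succ n ih =>
    intro i hi σ hσ
    obtain ⟨e, -, h⟩ := chain_step ⟨i, by omega⟩ hσ
    have := mul_mem (wordPerm_mem_genGroup e.2) (ih (i + 1) (by omega) h)
    rwa [mul_inv_cancel_left] at this

theorem genGroup_eq : genGroup = M24 := by
  refine le_antisymm ((Subgroup.closure_le _).mpr ?_) ?_
  · rintro x (rfl | rfl | rfl)
    · exact letter_mem 0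
    · exact letter_mem 2
    · exact letter_mem 3
  · rw [← chain_zero]; exact chain_le_genGroup 7 0 rfl

theorem card_chain_step (i : Fin 7) :
    Nat.card (chain i.val) = (lev i.val).length * Nat.card (chain (i.val + 1)) := by
  classical
  have horb : MulAction.orbit (chain i.val) (pt (bpt i.val)) =
      (((lev i.val).map Prod.fst).map pt).toFinset := by
    ext p
    simp only [List.coe_toFinset, List.mem_map, Set.mem_ofPred_eq]
    constructor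
    · rintro ⟨σ, rfl⟩
      exact ⟨idx (σ.val (pt (bpt i.val))), List.mem_map.mp (base_orbit_mem i σ.2), pt_idx _⟩
    · rintro ⟨x, ⟨e, he, rfl⟩, rfl⟩
      exact ⟨⟨_, (wordPerm_mem_chain i he).1⟩, (wordPerm_mem_chain i he).2⟩
  have hnd : ∀ j : Fin 7, (((lev j.val).map Prod.fst).map pt).Nodup := by decide +kernel
  have hst : (chain (i.val + 1)).subgroupOf (chain i.val) =
      MulAction.stabilizer (chain i.val) (pt (bpt i.val)) := by
    ext σ
    constructor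
    · exact fun h => h.2 i.val (Nat.lt_succ_self _)
    · refine fun h => ⟨σ.2.1, fun j hj => ?_⟩
      rcases Nat.lt_succ_iff_lt_or_eq.mp hj with hj | rfl
      · exact σ.2.2 j hj
      · exact h
  have hle : chain (i.val + 1) ≤ chain i.val := fun σ h => ⟨h.1, fun j hj => h.2 j (by omega)⟩
  rw [← Nat.card_congr (Subgroup.subgroupOfEquivOfLe hle).toEquiv, hst,
    ← Subgroup.index_mul_card (MulAction.stabilizer (chain i.val) (pt (bpt i.val))),
    MulAction.index_stabilizer, horb, Set.ncard_coe_finset,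
    List.toFinset_card_of_nodup (hnd i), List.length_map, List.length_map]

theorem card_chain : Nat.card (chain 0) = 244823040 ∧ Nat.card (chain 1) = 10200960 ∧
    Nat.card (chain 2) = 443520 := by
  have h7 : Nat.card (chain 7) = 1 := by rw [chain_seven]; exact Subgroup.card_bot
  have hl : ∀ i : Fin 7, (lev i.val).length = [24, 23, 22, 21, 20, 16, 3].getD i.val 0 := by
    decide +kernel
  have h6 : Nat.card (chain 6) = 3 := by
    have := card_chain_step ⟨6, by omega⟩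
    rw [hl] at this; simp [h7] at this; omega
  have h5 : Nat.card (chain 5) = 48 := by
    have := card_chain_step ⟨5, by omega⟩
    rw [hl] at this; simp [h6] at this; omega
  have h4 : Nat.card (chain 4) = 960 := by
    have := card_chain_step ⟨4, by omega⟩
    rw [hl] at this; simp [h5] at this; omega
  have h3 : Nat.card (chain 3) = 20160 := by
    have := card_chain_step ⟨3, by omega⟩
    rw [hl] at this; simp [h4] at this; omega
  have h2 : Nat.card (chain 2) = 443520 := by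
    have := card_chain_step ⟨2, by omega⟩
    rw [hl] at this; simp [h3] at this; omega
  have h1 : Nat.card (chain 1) = 10200960 := by
    have := card_chain_step ⟨1, by omega⟩
    rw [hl] at this; simp [h2] at this; omega
  have := card_chain_step ⟨0, by omega⟩
  rw [hl] at this; simp [h1] at this
  exact ⟨by omega, h1, h2⟩

theorem card_M24 : Nat.card M24 = 244823040 := by rw [← chain_zero]; exact card_chain.1

theorem exists_mem_M24_map (x : Fin 5 ↪ GolayPt) :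
    ∃ σ ∈ M24, ∀ i : Fin 5, σ (pt (bpt i.val)) = x i := by
  suffices ∀ n, n ≤ 5 → ∃ σ ∈ M24, ∀ i : Fin 5, i.val < n → σ (pt (bpt i.val)) = x i by
    obtain ⟨σ, h, h'⟩ := this 5 le_rfl
    exact ⟨σ, h, fun i => h' i i.isLt⟩
  intro n
  induction n with
  | zero => exact fun _ => ⟨1, one_mem _, fun i hi => absurd hi (Nat.not_lt_zero _)⟩
  | succ n ih =>
    intro hn
    obtain ⟨σ, hσ, h⟩ := ih (by omega)
    have hmem : idx (σ.symm (x ⟨n, by omega⟩)) ∈ (lev n).map Prod.fst := by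
      refine lev_small ⟨n, by omega⟩ _ fun j he => ?_
      apply_fun pt at he
      rw [pt_idx, Equiv.symm_apply_eq, h ⟨j.val, lt_trans j.isLt (by show n < 5; omega)⟩ j.isLt] at he
      have := congrArg Fin.val (x.injective he)
      simp only at this
      exact absurd this (ne_of_gt j.isLt)
    obtain ⟨e, he, hx⟩ := List.mem_map.mp hmem
    obtain ⟨hw, hb⟩ := wordPerm_mem_chain ⟨n, by omega⟩ he
    refine ⟨σ * wordPerm e.2, mul_mem hσ hw.1, fun i hi => ?_⟩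
    rw [Equiv.Perm.mul_apply]
    rcases Nat.lt_succ_iff_lt_or_eq.mp hi with hi | hi
    · rw [hw.2 i.val hi, h i hi]
    · rw [show i = ⟨n, by omega⟩ from Fin.ext hi]
      simp only at hb ⊢
      rw [hb, hx, pt_idx, Equiv.apply_symm_apply]

theorem five_transitive : MulAction.IsMultiplyPretransitive M24 GolayPt 5 := by
  constructor
  intro x y
  obtain ⟨σ, hσ, h1⟩ := exists_mem_M24_map x
  obtain ⟨τ, hτ, h2⟩ := exists_mem_M24_map y
  refine ⟨⟨τ * σ⁻¹, mul_mem hτ (inv_mem hσ)⟩, ?_⟩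
  refine DFunLike.ext _ _ fun i => ?_
  show (τ * σ⁻¹) (x i) = y i
  rw [← h1 i, Equiv.Perm.mul_apply, Equiv.Perm.coe_inv, Equiv.symm_apply_apply, h2 i]

end Cfsg.Agent.Golay
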