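import Mathlib.Data.Fin.Basic

/-! Tables for the subgroups of the length-24 automorphism group. -/

set_option autoImplicit false

namespace Cfsg.Agent.Golay

/-- A token: whether inverted, and the generator number. -/
abbrev Tok := Bool × ℕ

/-- Levels of tokens. -/
abbrev TokLevels := List (List (Fin 24 × List Tok))

/-- Generators of prime order for degree 23. -/
def gens23 : List (List (Fin 5)) := [[0], [0, 0, 1], [1, 0, 0], [4, 0, 3]]

/-- Transversals for degree 23. -/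
def levels23 : TokLevels := [
  [(0, []), (1, [(false, 0)]), (2, [(false, 0), (false, 0)]), (3, [(false, 0), (false, 0), (false, 0)]), (4, [(false, 3), (false, 3)]), (5, [(true, 0), (false, 3)]), (6, [(false, 3)]), (7, [(false, 0), (false, 3)]), (8, [(true, 3), (true, 3), (false, 0)]), (9, [(true, 3), (true, 3), (true, 0)]), (10, [(false, 3), (false, 0), (false, 0)]), (11, [(false, 3), (false, 0)]), (12, [(false, 0), (false, 3), (false, 0)]), (13, [(true, 0), (true, 3), (false, 0)]), (14, [(true, 3), (false, 0)]), (15, [(false, 3), (true, 0)]), (16, [(true, 3), (true, 0)]), (17, [(false, 0), (true, 3), (true, 0)]), (18, [(true, 0), (true, 3)]), (19, [(true, 3)]), (20, [(false, 0), (true, 3)]), (21, [(true, 0), (true, 0)]), (22, [(true, 0)])],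
  [(1, []), (2, [(true, 0), (true, 0), (true, 0), (false, 3), (false, 3), (false, 3)]), (3, [(false, 0), (false, 3), (false, 0), (false, 3), (true, 0)]), (4, [(true, 3), (true, 0), (true, 3), (false, 0), (false, 0)]), (5, [(true, 0), (false, 3), (false, 0), (true, 3), (false, 0), (true, 3)]), (6, [(false, 3), (true, 0), (true, 0), (true, 3), (true, 0), (false, 3)]), (7, [(false, 0), (false, 3), (false, 3), (false, 0), (true, 3), (true, 3), (false, 0)]), (8, [(true, 0), (true, 3), (true, 3), (true, 0), (true, 0)]), (9, [(true, 3), (false, 0), (false, 3), (true, 0), (true, 0)]), (10, [(true, 0), (false, 3), (false, 3), (false, 3), (false, 0), (true, 3), (false, 0)]), (11, [(true, 0), (true, 0), (false, 3), (false, 0), (false, 3)]), (12, [(true, 0), (true, 0), (true, 3), (true, 3), (false, 0), (false, 3), (false, 0)]), (13, [(false, 3), (false, 3), (true, 0), (false, 3)]), (14, [(false, 0), (false, 0), (false, 3),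 (false, 3), (false, 0)]), (15, [(true, 0), (true, 0), (true, 3), (true, 0), (false, 3), (false, 0)]), (16, [(false, 0), (true, 3), (false, 0), (true, 3), (false, 0)]), (17, [(true, 3), (false, 0), (true, 3), (true, 3)]), (18, [(true, 0), (false, 3), (true, 0), (false, 3), (true, 0)]), (19, [(true, 3), (false, 0), (false, 0), (false, 3), (false, 3)]), (20, [(true, 3), (true, 3), (true, 0), (true, 0), (false, 3)]), (21, [(false, 3), (false, 0), (true, 3), (false, 0), (false, 3)]), (22, [(false, 0), (false, 3), (true, 0), (true, 0), (true, 0), (true, 3)])],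
  [(2, []), (3, [(true, 0), (false, 3), (true, 0), (false, 3), (true, 0), (true, 0), (false, 3), (false, 3), (false, 0), (false, 0), (false, 3)]), (4, [(false, 3), (false, 0), (false, 0), (false, 0), (true, 3), (true, 0), (true, 0), (true, 3), (true, 0), (false, 3), (false, 3), (false, 0), (false, 0)]), (5, [(false, 0), (true, 3), (false, 0), (true, 3), (false, 0), (false, 3), (true, 0), (false, 3), (true, 0), (true, 3), (false, 0)]), (6, [(false, 3), (false, 3), (true, 0), (false, 3), (false, 0), (false, 3), (false, 3), (true, 0), (false, 3), (false, 0), (false, 0)]), (7, [(false, 3), (false, 0), (false, 0), (false, 0), (true, 3), (true, 0), (true, 0), (false, 3), (false, 3), (false, 0), (true, 3), (false, 0), (false, 0)]), (8, [(true, 3), (true, 3), (true, 0), (true, 0), (false, 3), (true, 0), (false, 3), (false, 0), (false, 0), (false, 0), (false, 3), (false, 0)]), (9, [(true, 0), (true, 0), (false, 3), (false,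 0), (false, 3), (false, 0), (false, 0), (true, 3), (true, 0), (false, 3)]), (10, [(true, 0), (false, 3), (false, 3), (true, 0), (true, 3), (true, 3), (true, 0), (false, 3), (false, 0), (false, 3), (true, 0), (false, 3), (false, 3)]), (11, [(false, 0), (true, 3), (true, 0), (true, 3), (true, 0), (false, 0), (false, 3), (true, 0), (false, 3), (false, 0), (true, 3)]), (12, [(true, 0), (true, 3), (false, 0), (false, 3), (false, 0), (false, 0), (true, 0), (true, 3), (true, 0), (true, 3), (true, 0), (true, 3), (false, 0)]), (13, [(true, 3), (true, 0), (true, 3), (false, 0), (false, 0), (false, 0), (true, 3), (true, 3), (false, 0), (false, 0), (false, 3)]), (14, [(true, 3), (true, 0), (false, 3), (true, 0), (true, 3), (true, 0), (true, 3), (true, 0), (false, 3), (true, 0), (false, 3), (false, 0)]), (15, [(true, 0), (true, 0), (false, 3), (false, 0), (false, 3), (true, 0), (true, 3), (false, 0), (false, 3), (false, 0),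 (false, 0)]), (16, [(false, 0), (true, 3), (true, 0), (true, 3), (true, 0), (false, 3), (false, 0), (false, 3), (false, 0), (false, 0), (false, 0)]), (17, [(false, 3), (false, 3), (true, 0), (false, 3), (true, 0), (true, 0), (true, 0), (true, 0), (false, 3), (false, 3)]), (18, [(false, 0), (true, 3), (true, 0), (true, 3), (true, 0), (true, 3), (true, 3), (true, 0), (true, 3), (true, 3)]), (19, [(false, 3), (false, 0), (false, 0), (false, 0), (true, 3), (true, 0), (true, 0), (true, 0), (true, 0), (true, 3), (true, 3), (false, 0), (false, 3)]), (20, [(true, 3), (true, 3), (true, 0), (true, 0), (false, 3), (true, 3), (true, 3), (true, 3), (false, 0), (false, 0), (false, 0)]), (21, [(true, 0), (true, 3), (true, 3), (true, 0), (true, 0), (true, 0), (false, 3), (false, 0), (false, 3), (false, 0), (false, 3), (false, 0)]), (22, [(false, 3), (true, 0), (false, 3), (true, 0), (true, 3), (false, 0), (true, 3), (true, 0),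 (false, 3), (true, 0), (true, 3)])],
  [(3, []), (4, [(false, 0), (true, 3), (false, 0), (true, 3), (false, 0), (false, 0), (false, 0), (false, 0), (false, 0), (true, 3)]), (5, [(true, 0), (true, 3), (true, 0), (true, 3), (true, 0), (true, 3), (false, 0), (false, 0), (false, 0), (false, 3), (false, 3), (false, 0), (false, 3), (true, 0), (false, 3), (true, 0), (true, 3), (false, 0), (false, 0), (true, 3), (true, 3), (true, 3), (true, 3), (false, 0)]), (6, [(true, 3), (true, 0), (true, 0), (true, 3), (true, 3), (false, 0), (false, 0), (true, 3), (false, 0), (true, 3), (false, 0), (true, 0), (true, 0), (false, 3), (false, 0), (false, 3), (false, 0), (true, 3), (true, 0), (true, 3), (true, 0)]), (7, [(false, 3), (false, 0), (true, 3), (false, 0), (false, 3), (true, 0), (false, 3), (false, 0), (true, 3), (false, 0), (true, 3), (true, 3), (true, 3), (true, 3), (false, 0), (false, 0), (false, 0), (false, 3), (false,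 0), (true, 3), (true, 3), (false, 0), (false, 0)]), (8, [(false, 3), (false, 3), (false, 0), (false, 3), (false, 3), (false, 0), (false, 3), (false, 0), (false, 3), (true, 0), (false, 0), (true, 3), (true, 0), (true, 3), (true, 0), (true, 0), (true, 0), (true, 0), (true, 0), (true, 0), (true, 3), (true, 3)]), (9, [(true, 0), (true, 3), (false, 0), (true, 3), (false, 0), (false, 3), (false, 0), (false, 3), (false, 0), (true, 3), (false, 0), (false, 3), (true, 0), (true, 3), (false, 0), (false, 3), (false, 0), (false, 0), (false, 0), (false, 3), (true, 0), (true, 0), (true, 3), (false, 0), (false, 3)]), (10, [(false, 3), (false, 3), (true, 0), (false, 3), (false, 3), (true, 0), (true, 0), (true, 0), (true, 0)]), (11, [(false, 3), (false, 0), (true, 3), (false, 0), (false, 3), (true, 0), (false, 3), (false, 0), (true, 3), (false, 0), (true, 3), (false, 0), (true, 3), (false, 0), (true, 3), (false, 0), (false, 0),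 (false, 3), (true, 0), (true, 3), (true, 3), (true, 3), (true, 0)]), (12, [(true, 0), (true, 3), (true, 0), (false, 3), (false, 3), (false, 0), (false, 0), (false, 3), (true, 0), (true, 0), (false, 3), (false, 3), (false, 0)]), (13, [(false, 3), (true, 0), (true, 3), (false, 0), (true, 3), (true, 0), (false, 0), (false, 3), (false, 0), (false, 3), (true, 0), (false, 0), (false, 0), (true, 3), (true, 0), (false, 3), (true, 0), (true, 0), (true, 0), (true, 3), (true, 0), (true, 3)]), (14, [(true, 0), (true, 0), (true, 3), (false, 0), (true, 3), (true, 3), (true, 0), (true, 3), (false, 0), (true, 3), (true, 3), (false, 0), (false, 0), (true, 3), (true, 0), (false, 3), (true, 3), (true, 0), (true, 0), (true, 3), (true, 3), (false, 0)]), (15, [(false, 3), (true, 0), (true, 3), (false, 0), (true, 3), (true, 0), (false, 0), (false, 3), (false, 0), (false, 3), (true, 0), (false, 3), (true, 0), (false, 3), (true, 0), (true,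 3), (false, 0), (true, 0), (true, 3), (true, 0), (true, 0), (true, 0), (true, 3), (false, 0)]), (16, [(false, 3), (true, 0), (true, 3), (false, 0), (true, 3), (true, 0), (false, 0), (false, 3), (false, 0), (false, 3), (true, 0), (true, 3), (true, 3), (true, 3), (false, 0), (false, 0), (false, 0), (false, 0), (false, 3), (false, 3), (true, 0), (true, 0), (false, 3), (false, 0)]), (17, [(true, 3), (true, 0), (true, 0), (true, 3), (true, 3), (false, 0), (false, 0), (true, 3), (false, 0), (true, 3), (false, 0), (false, 3), (false, 3), (true, 0), (false, 3), (true, 0), (false, 3), (false, 3), (false, 3), (false, 3), (true, 0)]), (18, [(false, 3), (false, 3), (true, 0), (false, 3), (false, 3), (false, 0), (false, 3), (false, 3), (false, 3), (false, 3)]), (19, [(true, 3), (true, 0), (true, 0), (true, 3), (true, 3), (false, 0), (false, 0), (true, 3), (false, 0), (true, 3), (false, 0), (true, 0), (true, 3), (false, 0),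 (false, 3), (false, 0), (false, 0), (true, 0), (true, 3), (true, 3), (true, 3), (true, 3), (true, 3)]), (20, [(true, 3), (false, 0), (false, 3), (true, 0), (true, 0), (true, 3), (true, 0), (true, 3), (false, 0), (false, 0), (true, 0), (true, 3), (true, 0), (false, 3), (false, 3), (false, 0), (false, 0), (true, 0), (false, 3), (false, 0), (true, 3), (true, 0), (true, 0), (true, 0)]), (21, [(true, 0), (true, 3), (false, 0), (true, 3), (false, 0), (false, 3), (false, 0), (false, 3), (false, 0), (true, 3), (false, 0), (false, 3), (true, 0), (true, 3), (true, 0), (false, 3), (false, 3), (false, 0), (false, 0), (false, 0), (false, 3), (false, 3), (false, 0), (false, 0), (false, 0), (false, 3)]), (22, [(false, 3), (false, 3), (true, 0), (false, 3), (false, 0), (false, 0), (true, 3), (true, 3), (true, 3)])],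
  [(4, []), (6, [(true, 0), (false, 3), (false, 3), (false, 3), (false, 3), (true, 0), (true, 0), (false, 3), (false, 0), (true, 3), (false, 0), (true, 3), (true, 0), (true, 3), (true, 3), (true, 0), (true, 0), (true, 0), (false, 3), (false, 0), (false, 3), (false, 0), (false, 3), (false, 0), (true, 3), (true, 0), (true, 0), (true, 3), (true, 3), (false, 0), (false, 0), (true, 3), (false, 0), (true, 3), (false, 0), (true, 0), (false, 3), (true, 0), (false, 3), (true, 0), (true, 0), (true, 3), (true, 3), (false, 0), (false, 0), (true, 3)]), (7, [(true, 0), (false, 3), (false, 3), (false, 3), (false, 3), (true, 0), (true, 0), (false, 3), (false, 0), (true, 3), (false, 0), (true, 3), (true, 0), (true, 3), (true, 3), (true, 0), (true, 0), (true, 0), (false, 3), (false, 0), (false, 3), (false, 0), (false, 3), (false, 0), (true, 3), (true, 0), (false, 3), (true, 0), (true, 3), (true, 0), (true, 3), (true, 0), (true,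 3), (true, 3), (false, 0), (true, 3)]), (8, [(true, 3), (true, 3), (true, 3), (true, 3), (true, 0), (true, 3), (true, 3), (false, 0), (true, 3), (true, 3), (true, 0), (true, 0), (true, 0), (false, 3), (false, 3), (false, 3), (true, 3), (false, 0), (false, 0), (false, 3), (false, 3), (false, 3), (false, 3), (true, 0), (false, 3), (true, 0), (true, 3), (true, 3), (true, 3), (true, 0), (false, 3)]), (9, [(false, 3), (false, 0), (false, 3), (false, 0), (false, 0), (false, 0), (true, 3), (false, 0), (false, 3), (true, 0), (true, 0), (false, 0), (true, 3), (true, 0), (true, 3), (true, 0), (false, 0), (false, 3), (true, 0), (false, 3), (false, 0), (true, 3), (true, 3), (true, 0), (true, 3), (false, 0), (false, 0), (true, 3), (true, 3), (false, 0), (false, 0), (false, 0), (false, 0)]), (10, [(true, 3), (true, 0), (true, 0), (true, 0), (true, 3), (true, 3), (true, 0), (true, 0), (true, 0), (true, 3), (true, 3), (false,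 0), (false, 3), (false, 0), (true, 3), (true, 0), (false, 3), (true, 0), (true, 3), (true, 0), (true, 3), (true, 0), (false, 3), (true, 0), (false, 3), (false, 0), (true, 0), (true, 0), (false, 3), (true, 0), (true, 3), (true, 3), (false, 0), (false, 0), (false, 3), (true, 0), (true, 0), (true, 0), (true, 3), (true, 0), (true, 3), (true, 3), (true, 0), (true, 0), (false, 3), (false, 3), (false, 3), (true, 0), (true, 0)]), (11, [(false, 0), (true, 3), (true, 3), (true, 3), (true, 3), (false, 0), (true, 3), (false, 0), (true, 3), (true, 3), (true, 0), (false, 3), (true, 0), (false, 3), (true, 0), (true, 0), (false, 3), (false, 3), (false, 0), (false, 0), (false, 3), (true, 0), (true, 0), (true, 3), (true, 3), (false, 0), (false, 3), (false, 0), (false, 0), (false, 3), (true, 0), (true, 0), (true, 0), (true, 3), (false, 0), (false, 0), (false, 3), (false, 3), (false, 0), (false, 3), (false, 3), (false, 0), (false,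 3), (false, 3)]), (12, [(true, 0), (true, 3), (true, 3), (false, 0), (false, 0), (true, 3), (true, 0), (true, 0), (true, 3), (true, 3), (false, 0), (false, 3), (false, 0), (true, 0), (false, 3), (false, 0), (false, 3), (false, 0), (false, 3), (false, 0), (true, 0), (true, 0), (true, 3), (true, 0), (false, 3), (false, 0), (true, 0), (false, 3), (true, 0), (true, 3), (true, 3), (true, 3), (false, 0), (true, 3), (true, 3), (true, 3), (true, 0), (false, 3), (false, 3)]), (13, [(false, 0), (false, 3), (false, 0), (false, 3), (true, 0), (true, 3), (true, 0), (true, 3), (false, 0), (false, 0), (true, 0), (false, 3), (true, 0), (false, 3), (true, 0), (true, 0), (false, 3), (false, 3), (false, 0), (false, 0), (false, 3), (true, 3), (true, 0), (false, 3), (false, 3), (false, 0), (false, 0), (false, 0), (false, 0), (false, 3), (true, 0), (true, 0), (true, 0), (true, 3), (true, 0), (true, 0), (false, 3), (false, 0), (false,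 3), (false, 0), (false, 3), (true, 0), (false, 3), (true, 0), (true, 0), (true, 0)]), (15, [(true, 3), (true, 3), (true, 3), (true, 3), (true, 0), (true, 3), (true, 3), (false, 0), (true, 3), (true, 3), (true, 3), (true, 3), (false, 0), (true, 3), (true, 0), (true, 3), (false, 0), (false, 3), (false, 3), (false, 0), (true, 3), (true, 3), (false, 0), (false, 0), (true, 3), (false, 0), (true, 3), (false, 0), (false, 0), (false, 3), (false, 3), (false, 3), (true, 0), (true, 0), (true, 3)]), (16, [(true, 3), (true, 0), (false, 3), (false, 0), (false, 0), (true, 3), (true, 0), (true, 0), (true, 0), (true, 3), (true, 0), (false, 3), (false, 0), (true, 3), (true, 0), (false, 3), (true, 0), (true, 3), (true, 0), (true, 3), (true, 0), (false, 3), (true, 0), (false, 3), (false, 0), (true, 0), (false, 3), (false, 0), (true, 3), (false, 0), (true, 3), (true, 0), (false, 3), (true, 0), (false, 3), (true, 0), (false, 3), (true,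 0), (false, 3), (true, 0), (true, 3), (false, 0), (true, 0), (false, 3), (false, 0), (false, 3), (false, 3), (true, 0), (false, 3), (false, 0)]), (18, [(true, 0), (true, 3), (false, 0), (false, 0), (true, 3), (true, 3), (true, 0), (true, 0), (true, 0), (true, 0), (false, 3), (false, 3), (false, 3), (false, 0), (true, 3), (true, 0), (true, 3), (true, 0), (false, 0), (false, 3), (true, 0), (false, 3), (false, 0), (true, 3), (false, 3), (false, 0), (true, 3), (false, 0), (false, 3), (true, 0), (false, 3), (false, 0), (true, 3), (false, 0), (true, 3), (false, 3), (true, 0), (false, 3), (true, 0), (true, 3), (false, 0), (true, 0), (true, 0), (true, 0), (true, 0), (true, 0), (true, 0), (false, 3)]), (19, [(true, 0), (true, 3), (false, 0), (false, 0), (true, 3), (true, 3), (true, 0), (true, 0), (true, 0), (true, 0), (false, 3), (false, 3), (false, 3), (false, 0), (true, 3), (true, 0), (true, 3), (true, 0), (false, 0),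 (false, 3), (true, 0), (false, 3), (false, 0), (true, 3), (true, 3), (false, 0), (false, 3), (true, 0), (true, 0), (true, 3), (true, 0), (true, 3), (false, 0), (false, 0), (false, 0), (true, 3), (false, 0), (true, 3), (false, 0), (false, 0), (false, 3), (true, 0), (false, 3), (true, 0), (false, 3), (false, 3), (false, 0)]), (20, [(false, 0), (true, 3), (true, 3), (true, 3), (true, 3), (false, 0), (true, 3), (false, 0), (true, 3), (true, 3), (true, 0), (false, 3), (true, 0), (false, 3), (true, 0), (true, 0), (false, 3), (false, 3), (false, 0), (false, 0), (false, 3), (false, 0), (false, 0), (false, 3), (false, 3), (false, 0), (true, 3), (false, 0), (false, 3), (false, 3), (false, 3), (false, 0)]), (21, [(false, 0), (false, 0), (false, 0), (false, 0), (true, 3), (true, 3), (false, 0), (true, 3), (true, 3), (true, 3), (true, 3), (false, 0), (true, 3), (true, 0), (true, 3), (false, 0), (false, 3), (false, 3), (false,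 0), (true, 3), (true, 3), (false, 0), (true, 3), (false, 0), (true, 3), (true, 3), (false, 3), (true, 0), (true, 3), (false, 0), (true, 3), (true, 0)]), (22, [(false, 0), (false, 0), (false, 0), (false, 0), (true, 3), (true, 3), (false, 0), (true, 3), (true, 3), (false, 3), (false, 3), (true, 0), (false, 3), (false, 0), (false, 3), (false, 0), (false, 0), (true, 3), (false, 0)])],
  [(5, []), (14, [(true, 0), (true, 0), (true, 0), (true, 0), (false, 3), (false, 3), (true, 0), (true, 0), (false, 3), (false, 0), (false, 3), (false, 3), (true, 0), (true, 3), (false, 0), (true, 3), (true, 0), (false, 0), (false, 3), (false, 0), (false, 3), (true, 0), (false, 0), (false, 0), (true, 3), (true, 0), (false, 3), (true, 0), (true, 0), (true, 0), (true, 3), (true, 0), (true, 3), (false, 0), (true, 3), (true, 3), (true, 3), (true, 3), (false, 0), (true, 3), (false, 0), (true, 3), (true, 3), (true, 0), (false, 3), (true, 0),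 (false, 3), (true, 0), (true, 0), (false, 3), (false, 3), (false, 0), (false, 0), (false, 3), (true, 0), (true, 0), (true, 0), (false, 3), (false, 3), (false, 3), (true, 3), (false, 0), (false, 0), (false, 3), (false, 3), (false, 0), (true, 3), (false, 0), (true, 3), (false, 0), (false, 0), (false, 0), (true, 3), (false, 0), (false, 3), (false, 3)]), (17, [(true, 3), (true, 3), (false, 0), (false, 3), (false, 3), (false, 3), (true, 0), (false, 3), (false, 3), (false, 3), (false, 0), (true, 3), (false, 0), (true, 0), (true, 3), (false, 0), (false, 3), (false, 0), (false, 0), (true, 0), (true, 3), (true, 0), (true, 3), (true, 0), (true, 3), (false, 0), (true, 0), (true, 3), (true, 0), (false, 3), (false, 3), (false, 0), (false, 0), (false, 3), (true, 0), (true, 0), (false, 3), (false, 3), (false, 0), (false, 3), (false, 3), (false, 3), (true, 0), (true, 0), (true, 3), (false, 0), (true, 3), (true, 3), (true, 3),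 (false, 0), (false, 3), (true, 0), (true, 0), (true, 3), (true, 0), (true, 3), (false, 0), (false, 0), (false, 0), (false, 3), (false, 3), (false, 0), (false, 3), (false, 3), (true, 0)])]]

/-- Generators of prime order for degree 22. -/
def gens22 : List (List (Fin 5)) := [[1, 1, 3, 3, 3, 0, 3], [4, 1, 1, 3, 3, 3, 0, 3, 3], [3, 1, 1, 3, 3, 3, 0, 3, 4], [4, 4, 1, 1, 3, 3, 3, 0, 3, 3, 3]]

/-- Transversals for degree 22. -/
def levels22 : TokLevels := [
  [(1, []), (2, [(false, 3)]), (3, [(false, 2), (true, 3)]), (4, [(true, 0)]), (5, [(true, 3), (false, 2)]), (6, [(true, 1), (false, 0)]), (7, [(false, 2), (false, 0)]), (8, [(false, 1), (false, 3)]), (9, [(false, 1), (false, 3), (false, 0)]), (10, [(false, 0), (false, 0)]), (11, [(false, 2), (false, 2)]), (12, [(false, 1)]), (13, [(false, 2)]), (14, [(false, 0), (false, 1)]), (15, [(false, 0)]), (16, [(false, 2), (true, 0)]), (17, [(true, 2), (false, 3)]), (18,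 [(true, 2), (false, 0)]), (19, [(true, 3)]), (20, [(false, 1), (false, 0)]), (21, [(false, 3), (false, 0)]), (22, [(false, 3), (false, 1)])],
  [(2, []), (3, [(true, 0), (true, 3), (false, 1), (false, 1)]), (4, [(true, 1), (true, 3), (true, 0), (false, 2)]), (5, [(true, 0), (true, 2), (true, 1), (false, 2)]), (6, [(true, 1), (true, 0), (true, 0), (true, 0)]), (7, [(true, 0), (true, 3), (false, 0), (true, 3)]), (8, [(true, 0), (false, 1), (true, 2), (true, 0)]), (9, [(false, 3), (false, 3), (false, 2)]), (10, [(true, 0), (true, 3), (true, 2), (false, 1)]), (11, [(true, 2), (true, 3), (true, 3)]), (12, [(true, 0), (true, 3), (false, 1), (true, 2)]), (13, [(false, 1), (true, 0)]), (14, [(true, 1), (true, 2)]), (15, [(true, 0), (true, 0), (true, 1), (true, 1)]), (16, [(true, 2), (false, 3), (false, 2), (false, 2), (false, 0)]), (17, [(false, 2), (false, 1)]), (18, [(true, 3), (false, 1), (false, 2)]), (19, [(false,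 0), (true, 1)]), (20, [(true, 0), (true, 2), (true, 0), (false, 3)]), (21, [(true, 3), (true, 3), (false, 0)]), (22, [(true, 3), (true, 1), (false, 2), (false, 0), (false, 0)])],
  [(3, []), (4, [(true, 3), (false, 0), (false, 2), (false, 0), (false, 0), (true, 2), (false, 3), (false, 0), (false, 0)]), (5, [(true, 2), (false, 0), (false, 3), (false, 1), (false, 0), (false, 1), (false, 0), (false, 0)]), (6, [(true, 1), (true, 1), (false, 3), (false, 0), (false, 0), (true, 3), (false, 1)]), (7, [(true, 3), (false, 0), (false, 2), (false, 0), (true, 1), (false, 3), (true, 0)]), (8, [(false, 1), (true, 0), (true, 0), (false, 3), (false, 3)]), (9, [(true, 0), (true, 0), (true, 2), (false, 1), (false, 3), (true, 0), (true, 1), (true, 1), (false, 0), (false, 0)]), (10, [(true, 3), (false, 0), (false, 2), (false, 0), (false, 0), (true, 2), (true, 3), (true, 0)]), (11, [(true, 0), (true, 0), (true, 2), (false, 1), (false,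 3), (true, 1), (true, 1), (false, 3), (false, 0)]), (12, [(true, 1), (true, 2), (false, 3), (false, 0), (false, 2)]), (13, [(true, 1), (true, 2), (true, 1), (true, 0), (true, 0), (true, 1)]), (14, [(true, 2), (true, 1), (false, 3), (true, 0), (false, 2), (false, 0), (false, 3)]), (15, [(true, 1), (true, 1), (false, 3), (false, 0), (true, 0), (true, 1), (true, 0), (false, 1)]), (16, [(true, 0), (false, 3), (false, 3), (true, 0), (false, 2), (false, 2), (false, 3)]), (17, [(true, 2), (false, 1), (false, 2), (false, 0), (true, 2), (true, 1), (false, 3)]), (18, [(true, 3), (false, 0), (false, 2), (false, 0), (true, 0), (false, 1), (true, 2), (true, 1)]), (19, [(true, 1), (true, 2), (true, 0), (true, 3), (true, 1), (true, 1), (false, 3), (false, 1)]), (20, [(false, 1), (false, 1), (false, 0), (false, 0), (true, 3), (true, 1), (true, 0), (false, 1), (false, 0)]), (21, [(true, 2), (false, 1), (false, 2), (false, 0),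 (false, 0), (true, 2), (false, 1), (true, 3)]), (22, [(true, 3), (false, 0), (false, 2), (false, 0), (false, 0), (true, 3), (true, 2)])],
  [(4, []), (6, [(true, 3), (false, 1), (false, 2), (true, 0), (true, 2), (true, 1), (false, 2), (false, 2), (false, 1), (true, 0), (true, 1), (true, 3), (true, 2), (false, 0)]), (7, [(true, 1), (false, 0), (false, 1), (false, 0), (true, 0), (true, 3), (false, 1), (false, 1), (true, 2), (false, 0), (false, 3), (false, 1), (true, 0), (true, 0), (false, 1), (false, 1), (false, 0)]), (8, [(true, 0), (true, 0), (true, 2), (false, 1), (false, 3), (true, 0), (true, 2), (true, 3), (false, 0), (false, 0)]), (9, [(false, 1), (false, 0), (false, 0), (false, 1), (false, 2), (false, 1), (false, 1), (true, 0), (true, 1), (false, 0), (false, 1), (false, 0)]), (10, [(true, 3), (false, 1), (false, 2), (true, 0), (true, 2), (true, 1), (false, 2), (false, 0), (false, 0), (false, 0), (false, 1),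 (true, 2), (true, 0), (true, 3)]), (11, [(true, 3), (true, 2), (true, 2), (false, 0), (true, 3), (true, 3), (false, 0), (true, 1), (true, 1), (false, 3), (false, 0), (true, 1), (false, 3), (true, 1)]), (12, [(true, 1), (false, 0), (false, 1), (false, 0), (true, 0), (true, 3), (false, 1), (false, 1), (true, 2), (true, 3), (true, 3), (false, 3), (true, 2), (true, 1), (true, 3)]), (13, [(false, 2), (false, 3), (true, 0), (true, 0), (true, 2), (true, 0), (false, 3), (false, 2), (true, 1), (false, 3), (false, 0), (true, 3), (true, 1), (false, 0), (true, 2), (false, 0)]), (15, [(true, 2), (true, 0), (true, 3), (false, 2), (false, 1), (false, 0), (true, 1), (true, 0), (true, 1), (true, 0), (true, 2)]), (16, [(false, 0), (true, 3), (false, 1), (true, 0), (true, 2), (true, 0), (false, 3), (false, 0), (true, 2), (true, 3), (true, 1)]), (18, [(true, 0), (true, 0), (true, 1), (true, 0), (true, 1), (true, 3), (true, 0), (false,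 2), (false, 0), (false, 0), (false, 0), (false, 1), (true, 0), (true, 3), (false, 2), (false, 1), (false, 0)]), (19, [(true, 1), (false, 0), (false, 1), (false, 0), (true, 0), (true, 3), (false, 1), (false, 1), (false, 0), (false, 2), (true, 1), (false, 0), (true, 0), (true, 3), (true, 3), (false, 1), (false, 0)]), (20, [(true, 0), (true, 0), (false, 1), (false, 1), (false, 0), (true, 3), (true, 1), (false, 2), (false, 0), (false, 0), (false, 0), (false, 2), (true, 1), (false, 0), (true, 3), (true, 2), (true, 2), (false, 0)]), (21, [(false, 0), (true, 3), (false, 1), (true, 0), (true, 2), (true, 0), (false, 3), (false, 1), (true, 0), (true, 0), (true, 0), (true, 1), (true, 0)]), (22, [(true, 3), (true, 2), (true, 2), (false, 0), (true, 3), (true, 3), (false, 0), (false, 2), (true, 1), (false, 3), (false, 0), (false, 0), (false, 2), (true, 1), (false, 0)])],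
  [(5, []), (14, [(false, 0), (false, 1), (false, 0), (false, 0), (false, 0), (true, 1), (true, 3), (false, 0), (false, 2), (false, 0), (true, 1), (false, 3), (true, 0), (true, 0), (false, 3), (false, 3), (true, 1), (true, 3), (true, 2), (false, 1), (false, 0)]), (17, [(false, 3), (false, 1), (false, 2), (true, 3), (false, 3), (false, 3), (false, 2), (true, 1), (true, 1), (false, 3), (false, 0), (true, 0), (true, 1), (true, 0), (false, 1), (false, 1), (false, 0), (false, 0), (false, 1), (false, 2), (false, 1), (true, 1), (true, 1), (false, 3), (false, 0), (true, 0), (true, 2), (false, 0), (false, 0), (false, 0)])]]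

/-- Generators of prime order for degree 11. -/
def gens11 : List (List (Fin 5)) := [[2, 4, 4, 1, 3, 3, 1, 4, 0, 0, 0, 4, 2, 4, 4, 1, 3, 3, 3, 1, 1, 1, 3, 0], [1, 4, 0, 0, 0, 4, 2, 4, 4, 1, 3, 3, 1, 4, 0, 0, 0, 4, 2, 4, 4, 1, 3, 3, 3, 1, 1, 1, 3, 0, 3, 1, 1, 1, 3, 0], [3, 1, 1, 1, 3, 0, 2, 4, 4, 1, 3, 3, 1, 4, 0, 0, 0, 4, 2, 4, 4, 1, 3, 3, 3, 1, 1, 1, 3, 0, 1, 4, 0, 0, 0, 4], [3, 1, 1, 1, 3, 0, 3, 1, 1, 1, 3, 0, 2, 4, 4, 1, 3, 3, 1, 4, 0, 0, 0, 4, 2, 4, 4, 1, 3, 3, 3, 1, 1, 1, 3, 0, 1, 4, 0, 0, 0, 4, 1, 4, 0, 0, 0, 4]]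

/-- Transversals for degree 11. -/
def levels11 : TokLevels := [
  [(0, []), (1, [(false, 0)]), (2, [(false, 1), (false, 1)]), (3, [(true, 0), (false, 1)]), (6, [(true, 1), (false, 0)]), (7, [(false, 1)]), (8, [(true, 1), (true, 0)]), (9, [(true, 0)]), (12, [(false, 2)]), (14, [(true, 1)]), (15, [(false, 1), (false, 0)])],
  [(1, []), (2, [(false, 0), (false, 3), (false, 0)]), (3, [(false, 0), (true, 2), (false, 0)]), (6, [(true, 2), (true, 2), (false, 3)]), (7, [(true, 2), (true, 2), (false, 1)]), (8, [(true, 1), (false, 3)]), (9, [(false, 0), (true, 3)]), (12, [(true, 0), (false, 1), (false, 3), (false, 2)]), (14, [(true, 2), (false, 0), (false, 1)]), (15, [(true, 0), (true, 2)])],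
  [(2, []), (3, [(true, 0), (true, 3), (true, 0), (false, 1), (false, 1), (true, 0)]), (6, [(true, 3), (false, 1), (true, 1), (true, 0), (false, 2)]), (7, [(true, 0), (false, 2), (true, 0), (true, 1), (true, 1), (false, 2), (false, 3)]), (8, [(false, 1), (false, 0), (false, 0)]), (9, [(false, 2), (false, 0), (false, 1), (false, 3), (false, 1)]), (12, [(false, 3), (true, 0), (false, 2), (false, 0)]), (14, [(true, 0), (false, 2), (true, 0), (true, 1), (true, 1), (false, 0), (false, 2)]), (15, [(true, 0), (true, 3), (true, 0), (true, 1), (false, 0), (false, 1), (false, 2)])],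
  [(3, []), (6, [(true, 0), (true, 0), (true, 1), (true, 0), (true, 3), (true, 0), (true, 1), (true, 1), (false, 2), (false, 1)]), (7, [(true, 0), (true, 2), (false, 0), (true, 3), (true, 3), (false, 1), (true, 1), (true, 1), (true, 1), (false, 2)]), (8, [(true, 1), (true, 3), (true, 1), (true, 0), (true, 2), (true, 0), (true, 3), (true, 0), (true, 1), (false, 2), (false, 2)]), (9, [(true, 0), (true, 2), (false, 0), (true, 3), (true, 2), (false, 0), (false, 3)]), (12, [(true, 0), (true, 0), (true, 1), (true, 1), (false, 2), (false, 2), (false, 3), (true, 0)]), (14, [(false, 0), (true, 1), (true, 1), (false, 0), (false, 3), (false, 0), (true, 1), (false, 2), (false, 2), (true, 0), (false, 2), (true, 0)]), (15, [(true, 0), (true, 2), (false, 0), (true, 3), (false, 3), (true, 0), (true, 0), (true, 1), (true, 3), (false, 0)])]]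

/-- Transversals for the stabiliser of the standard weight-12 word. -/
def levels12 : List (List (Fin 24 × List (Fin 5))) := [
  [(0, [2, 4, 4, 1, 3, 3]), (1, [4, 4, 0, 3, 3, 2, 3, 1, 1, 1, 3, 0, 2, 4, 4, 1, 3, 3]), (2, [4, 4, 0, 3, 3, 2]), (3, [3, 1, 1, 1, 3, 0, 4, 4, 0, 3, 3, 2, 3, 1, 1, 1, 3, 0, 2, 4, 4, 1, 3, 3]), (6, [2, 4, 4, 1, 3, 3, 3, 1, 1, 1, 3, 0, 2, 4, 4, 1, 3, 3]), (7, [3, 1, 1, 1, 3, 0, 3, 1, 1, 1, 3, 0, 2, 4, 4, 1, 3, 3]), (8, [2, 4, 4, 1, 3, 3, 1, 4, 0, 0, 0, 4, 4, 4, 0, 3, 3, 2]), (9, [1, 4, 0, 0, 0, 4, 4, 4, 0, 3, 3, 2]), (12, [1, 4, 0, 0, 0, 4, 4, 4, 0, 3, 3, 2, 3, 1, 1, 1, 3, 0, 2, 4, 4, 1, 3, 3]), (14, [1, 4, 0, 0, 0, 4, 2, 4, 4, 1, 3, 3, 1, 4, 0, 0, 0, 4, 4, 4, 0, 3, 3, 2]), (15, [3, 1, 1, 1, 3, 0, 2, 4, 4, 1, 3, 3]), (23, [])],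
  [(0, []), (1, [4, 4, 0, 3, 3, 2, 3, 1, 1, 1, 3, 0, 4, 4, 0, 3, 3, 2, 1, 4, 0, 0, 0, 4]), (2, [1, 4, 0, 0, 0, 4]), (3, [1, 4, 0, 0, 0, 4, 1, 4, 0, 0, 0, 4, 2, 4, 4, 1, 3, 3, 1, 4, 0, 0, 0, 4, 2, 4, 4, 1, 3, 3]), (6, [2, 4, 4, 1, 3, 3, 1, 4, 0, 0, 0, 4, 4, 4, 0, 3, 3, 2, 1, 4, 0, 0, 0, 4, 2, 4, 4, 1, 3, 3]), (7, [3, 1, 1, 1, 3, 0, 3, 1, 1, 1, 3, 0]), (8, [2, 4, 4, 1, 3, 3, 1, 4, 0, 0, 0, 4, 2, 4, 4, 1, 3, 3]), (9, [1, 4, 0, 0, 0, 4, 1, 4, 0, 0, 0, 4]), (12, [4, 4, 0, 3, 3, 2, 3, 1, 1, 1, 3, 0, 4, 4, 0, 3, 3, 2, 3, 1, 1, 1, 3, 0]), (14, [1, 4, 0, 0, 0, 4, 2, 4, 4, 1, 3, 3, 1, 4, 0, 0, 0, 4, 2, 4, 4, 1, 3, 3]), (15, [3, 1, 1, 1, 3, 0])],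
  [(1, []), (2, [4, 4, 0, 3, 3, 2, 3, 1, 1, 1, 3, 0, 4, 4, 0, 3, 3, 2, 4, 4, 0, 3, 3, 2, 1, 4, 0, 0, 0, 4, 1, 4, 0, 0, 0, 4, 4, 4, 0, 3, 3, 2, 1, 4, 0, 0, 0, 4, 4, 4, 0, 3, 3, 2]), (3, [4, 4, 0, 3, 3, 2, 3, 1, 1, 1, 3, 0, 4, 4, 0, 3, 3, 2, 3, 1, 1, 1, 3, 0, 4, 4, 0, 3, 3, 2, 3, 1, 1, 1, 3, 0, 4, 4, 0, 3, 3, 2, 3, 1, 1, 1, 3, 0, 3, 1, 1, 1, 3, 0]), (6, [4, 4, 0, 3, 3, 2, 3, 1, 1, 1, 3, 0, 2, 4, 4, 1, 3, 3, 3, 1, 1, 1, 3, 0, 4, 4, 0, 3, 3, 2, 2, 4, 4, 1, 3, 3, 3, 1, 1, 1, 3, 0, 2, 4, 4, 1, 3, 3, 1, 4, 0, 0, 0, 4, 1, 4, 0, 0, 0, 4, 4, 4, 0, 3, 3, 2]), (7, [3, 1, 1, 1, 3, 0, 4, 4, 0, 3, 3, 2, 3, 1, 1, 1, 3, 0, 4, 4, 0, 3, 3, 2]), (8, [3, 1, 1, 1, 3, 0, 2, 4, 4, 1, 3, 3, 1, 4, 0, 0, 0, 4, 2, 4, 4, 1, 3, 3, 4, 4, 0, 3, 3, 2, 1, 4, 0, 0, 0, 4, 4, 4, 0, 3, 3, 2, 1, 4, 0, 0, 0, 4, 2, 4, 4, 1, 3, 3, 3, 1, 1, 1, 3, 0, 2, 4, 4, 1, 3, 3]), (9, [3, 1, 1, 1, 3, 0, 2, 4, 4, 1, 3, 3, 1, 4, 0, 0, 0, 4, 2, 4, 4, 1, 3, 3, 2, 4, 4,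 1, 3, 3, 1, 4, 0, 0, 0, 4, 2, 4, 4, 1, 3, 3, 3, 1, 1, 1, 3, 0]), (12, [1, 4, 0, 0, 0, 4, 1, 4, 0, 0, 0, 4, 4, 4, 0, 3, 3, 2, 1, 4, 0, 0, 0, 4, 1, 4, 0, 0, 0, 4, 4, 4, 0, 3, 3, 2, 1, 4, 0, 0, 0, 4, 4, 4, 0, 3, 3, 2, 1, 4, 0, 0, 0, 4]), (14, [1, 4, 0, 0, 0, 4, 2, 4, 4, 1, 3, 3, 1, 4, 0, 0, 0, 4, 2, 4, 4, 1, 3, 3, 3, 1, 1, 1, 3, 0, 2, 4, 4, 1, 3, 3, 1, 4, 0, 0, 0, 4, 2, 4, 4, 1, 3, 3]), (15, [2, 4, 4, 1, 3, 3, 1, 4, 0, 0, 0, 4, 2, 4, 4, 1, 3, 3, 1, 4, 0, 0, 0, 4])],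
  [(2, []), (3, [2, 4, 4, 1, 3, 3, 1, 4, 0, 0, 0, 4, 2, 4, 4, 1, 3, 3, 1, 4, 0, 0, 0, 4, 1, 4, 0, 0, 0, 4, 2, 4, 4, 1, 3, 3, 1, 4, 0, 0, 0, 4, 2, 4, 4, 1, 3, 3, 4, 4, 0, 3, 3, 2, 1, 4, 0, 0, 0, 4, 1, 4, 0, 0, 0, 4, 4, 4, 0, 3, 3, 2, 1, 4, 0, 0, 0, 4, 1, 4, 0, 0, 0, 4, 2, 4, 4, 1, 3, 3]), (6, [3, 1, 1, 1, 3, 0, 4, 4, 0, 3, 3, 2, 3, 1, 1, 1, 3, 0, 4, 4, 0, 3, 3, 2, 1, 4, 0, 0, 0, 4, 4, 4, 0, 3, 3, 2, 3, 1, 1, 1, 3, 0, 2, 4, 4, 1, 3, 3, 3, 1, 1, 1, 3, 0, 4, 4, 0, 3, 3, 2, 1, 4, 0, 0, 0, 4]), (7, [2, 4, 4, 1, 3, 3, 3, 1, 1, 1, 3, 0, 2, 4, 4, 1, 3, 3, 3, 1, 1, 1, 3, 0, 3, 1, 1, 1, 3, 0, 2, 4, 4, 1, 3, 3, 2, 4, 4, 1, 3, 3, 1, 4, 0, 0, 0, 4, 2, 4, 4, 1, 3, 3, 4, 4, 0, 3, 3, 2, 3, 1, 1, 1, 3, 0, 4, 4, 0, 3, 3, 2, 3, 1, 1, 1, 3, 0, 4, 4, 0, 3, 3, 2, 1, 4, 0, 0, 0, 4, 4, 4, 0, 3, 3, 2, 3, 1, 1, 1, 3, 0, 3, 1, 1, 1, 3, 0, 2, 4, 4, 1, 3, 3, 3, 1, 1, 1, 3, 0, 2, 4, 4, 1, 3, 3]), (8, [4, 4, 0, 3, 3, 2, 1, 4, 0, 0, 0, 4, 4,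 4, 0, 3, 3, 2, 3, 1, 1, 1, 3, 0, 2, 4, 4, 1, 3, 3, 3, 1, 1, 1, 3, 0, 2, 4, 4, 1, 3, 3, 4, 4, 0, 3, 3, 2, 3, 1, 1, 1, 3, 0, 4, 4, 0, 3, 3, 2, 1, 4, 0, 0, 0, 4, 3, 1, 1, 1, 3, 0, 2, 4, 4, 1, 3, 3, 1, 4, 0, 0, 0, 4, 2, 4, 4, 1, 3, 3, 2, 4, 4, 1, 3, 3, 3, 1, 1, 1, 3, 0, 2, 4, 4, 1, 3, 3, 3, 1, 1, 1, 3, 0, 3, 1, 1, 1, 3, 0, 2, 4, 4, 1, 3, 3]), (9, [1, 4, 0, 0, 0, 4, 1, 4, 0, 0, 0, 4, 2, 4, 4, 1, 3, 3, 1, 4, 0, 0, 0, 4, 2, 4, 4, 1, 3, 3, 1, 4, 0, 0, 0, 4, 2, 4, 4, 1, 3, 3, 1, 4, 0, 0, 0, 4, 2, 4, 4, 1, 3, 3, 3, 1, 1, 1, 3, 0, 2, 4, 4, 1, 3, 3, 1, 4, 0, 0, 0, 4, 2, 4, 4, 1, 3, 3, 3, 1, 1, 1, 3, 0, 3, 1, 1, 1, 3, 0, 2, 4, 4, 1, 3, 3, 1, 4, 0, 0, 0, 4, 2, 4, 4, 1, 3, 3]), (12, [2, 4, 4, 1, 3, 3, 1, 4, 0, 0, 0, 4, 2, 4, 4, 1, 3, 3, 1, 4, 0, 0, 0, 4, 4, 4, 0, 3, 3, 2, 3, 1, 1, 1, 3, 0, 4, 4, 0, 3, 3, 2, 4, 4, 0, 3, 3, 2, 1, 4, 0, 0, 0, 4, 2, 4, 4, 1, 3, 3, 3, 1, 1, 1, 3, 0, 3, 1, 1, 1, 3, 0, 2, 4, 4, 1, 3, 3, 1, 4, 0, 0,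 0, 4, 4, 4, 0, 3, 3, 2]), (14, [2, 4, 4, 1, 3, 3, 1, 4, 0, 0, 0, 4, 2, 4, 4, 1, 3, 3, 1, 4, 0, 0, 0, 4, 3, 1, 1, 1, 3, 0, 2, 4, 4, 1, 3, 3, 3, 1, 1, 1, 3, 0, 4, 4, 0, 3, 3, 2, 1, 4, 0, 0, 0, 4, 1, 4, 0, 0, 0, 4, 4, 4, 0, 3, 3, 2, 3, 1, 1, 1, 3, 0, 2, 4, 4, 1, 3, 3]), (15, [3, 1, 1, 1, 3, 0, 4, 4, 0, 3, 3, 2, 3, 1, 1, 1, 3, 0, 4, 4, 0, 3, 3, 2, 3, 1, 1, 1, 3, 0, 4, 4, 0, 3, 3, 2, 1, 4, 0, 0, 0, 4, 4, 4, 0, 3, 3, 2, 3, 1, 1, 1, 3, 0, 2, 4, 4, 1, 3, 3, 3, 1, 1, 1, 3, 0, 2, 4, 4, 1, 3, 3])],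
  [(3, []), (6, [4, 4, 0, 3, 3, 2, 1, 4, 0, 0, 0, 4, 1, 4, 0, 0, 0, 4, 4, 4, 0, 3, 3, 2, 1, 4, 0, 0, 0, 4, 4, 4, 0, 3, 3, 2, 4, 4, 0, 3, 3, 2, 3, 1, 1, 1, 3, 0, 4, 4, 0, 3, 3, 2, 1, 4, 0, 0, 0, 4, 3, 1, 1, 1, 3, 0, 2, 4, 4, 1, 3, 3, 1, 4, 0, 0, 0, 4, 2, 4, 4, 1, 3, 3, 4, 4, 0, 3, 3, 2, 1, 4, 0, 0, 0, 4, 4, 4, 0, 3, 3, 2, 1, 4, 0, 0, 0, 4, 2, 4, 4, 1, 3, 3, 3, 1, 1, 1, 3, 0, 2, 4, 4, 1, 3, 3, 1, 4, 0, 0, 0, 4, 4, 4, 0, 3, 3, 2, 3, 1, 1, 1, 3, 0, 4, 4, 0, 3, 3, 2, 4, 4, 0, 3, 3, 2, 3, 1, 1, 1, 3, 0, 4, 4, 0, 3, 3, 2, 1, 4, 0, 0, 0, 4, 1, 4, 0, 0, 0, 4, 1, 4, 0, 0, 0, 4, 4, 4, 0, 3, 3, 2, 1, 4, 0, 0, 0, 4, 2, 4, 4, 1, 3, 3, 3, 1, 1, 1, 3, 0, 3, 1, 1, 1, 3, 0, 2, 4, 4, 1, 3, 3, 1, 4, 0, 0, 0, 4, 1, 4, 0, 0, 0, 4, 2, 4, 4, 1, 3, 3]), (7, [4, 4, 0, 3, 3, 2, 3, 1, 1, 1, 3, 0, 4, 4, 0, 3, 3, 2, 1, 4, 0, 0, 0, 4, 1, 4, 0, 0, 0, 4, 4, 4, 0, 3, 3, 2, 3, 1, 1, 1, 3, 0, 4, 4, 0, 3, 3, 2, 1, 4, 0, 0, 0, 4, 4, 4, 0, 3, 3, 2,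 3, 1, 1, 1, 3, 0, 4, 4, 0, 3, 3, 2, 3, 1, 1, 1, 3, 0, 4, 4, 0, 3, 3, 2, 3, 1, 1, 1, 3, 0, 4, 4, 0, 3, 3, 2, 3, 1, 1, 1, 3, 0, 3, 1, 1, 1, 3, 0, 1, 4, 0, 0, 0, 4, 1, 4, 0, 0, 0, 4, 2, 4, 4, 1, 3, 3, 1, 4, 0, 0, 0, 4, 2, 4, 4, 1, 3, 3, 1, 4, 0, 0, 0, 4, 2, 4, 4, 1, 3, 3, 1, 4, 0, 0, 0, 4, 2, 4, 4, 1, 3, 3, 3, 1, 1, 1, 3, 0, 4, 4, 0, 3, 3, 2, 1, 4, 0, 0, 0, 4, 2, 4, 4, 1, 3, 3, 1, 4, 0, 0, 0, 4, 2, 4, 4, 1, 3, 3, 1, 4, 0, 0, 0, 4, 4, 4, 0, 3, 3, 2, 3, 1, 1, 1, 3, 0, 2, 4, 4, 1, 3, 3]), (8, [2, 4, 4, 1, 3, 3, 3, 1, 1, 1, 3, 0, 4, 4, 0, 3, 3, 2, 1, 4, 0, 0, 0, 4, 1, 4, 0, 0, 0, 4, 4, 4, 0, 3, 3, 2, 3, 1, 1, 1, 3, 0, 2, 4, 4, 1, 3, 3, 2, 4, 4, 1, 3, 3, 1, 4, 0, 0, 0, 4, 2, 4, 4, 1, 3, 3, 3, 1, 1, 1, 3, 0, 4, 4, 0, 3, 3, 2, 3, 1, 1, 1, 3, 0, 4, 4, 0, 3, 3, 2, 2, 4, 4, 1, 3, 3, 3, 1, 1, 1, 3, 0, 3, 1, 1, 1, 3, 0, 4, 4, 0, 3, 3, 2, 1, 4, 0, 0, 0, 4, 4, 4, 0, 3, 3, 2, 2, 4, 4, 1, 3, 3, 1, 4, 0, 0, 0, 4, 4, 4, 0, 3, 3, 2,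 1, 4, 0, 0, 0, 4, 2, 4, 4, 1, 3, 3, 1, 4, 0, 0, 0, 4, 4, 4, 0, 3, 3, 2, 1, 4, 0, 0, 0, 4, 1, 4, 0, 0, 0, 4, 1, 4, 0, 0, 0, 4, 2, 4, 4, 1, 3, 3, 3, 1, 1, 1, 3, 0, 3, 1, 1, 1, 3, 0, 2, 4, 4, 1, 3, 3]), (9, [4, 4, 0, 3, 3, 2, 1, 4, 0, 0, 0, 4, 4, 4, 0, 3, 3, 2, 1, 4, 0, 0, 0, 4, 2, 4, 4, 1, 3, 3, 3, 1, 1, 1, 3, 0, 2, 4, 4, 1, 3, 3, 1, 4, 0, 0, 0, 4, 2, 4, 4, 1, 3, 3, 1, 4, 0, 0, 0, 4, 2, 4, 4, 1, 3, 3, 1, 4, 0, 0, 0, 4, 1, 4, 0, 0, 0, 4, 4, 4, 0, 3, 3, 2, 3, 1, 1, 1, 3, 0, 4, 4, 0, 3, 3, 2, 4, 4, 0, 3, 3, 2, 3, 1, 1, 1, 3, 0, 4, 4, 0, 3, 3, 2, 1, 4, 0, 0, 0, 4, 1, 4, 0, 0, 0, 4, 1, 4, 0, 0, 0, 4, 4, 4, 0, 3, 3, 2, 3, 1, 1, 1, 3, 0, 4, 4, 0, 3, 3, 2, 1, 4, 0, 0, 0, 4, 1, 4, 0, 0, 0, 4]), (12, [4, 4, 0, 3, 3, 2, 1, 4, 0, 0, 0, 4, 1, 4, 0, 0, 0, 4, 4, 4, 0, 3, 3, 2, 1, 4, 0, 0, 0, 4, 4, 4, 0, 3, 3, 2, 4, 4, 0, 3, 3, 2, 3, 1, 1, 1, 3, 0, 4, 4, 0, 3, 3, 2, 1, 4, 0, 0, 0, 4, 3, 1, 1, 1, 3, 0, 2, 4, 4, 1, 3, 3, 1, 4, 0,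 0, 0, 4, 2, 4, 4, 1, 3, 3, 4, 4, 0, 3, 3, 2, 1, 4, 0, 0, 0, 4, 4, 4, 0, 3, 3, 2, 1, 4, 0, 0, 0, 4, 2, 4, 4, 1, 3, 3, 3, 1, 1, 1, 3, 0, 2, 4, 4, 1, 3, 3, 1, 4, 0, 0, 0, 4, 2, 4, 4, 1, 3, 3, 1, 4, 0, 0, 0, 4, 2, 4, 4, 1, 3, 3, 2, 4, 4, 1, 3, 3, 1, 4, 0, 0, 0, 4, 2, 4, 4, 1, 3, 3, 1, 4, 0, 0, 0, 4, 1, 4, 0, 0, 0, 4]), (14, [2, 4, 4, 1, 3, 3, 3, 1, 1, 1, 3, 0, 4, 4, 0, 3, 3, 2, 1, 4, 0, 0, 0, 4, 1, 4, 0, 0, 0, 4, 4, 4, 0, 3, 3, 2, 3, 1, 1, 1, 3, 0, 2, 4, 4, 1, 3, 3, 2, 4, 4, 1, 3, 3, 1, 4, 0, 0, 0, 4, 2, 4, 4, 1, 3, 3, 3, 1, 1, 1, 3, 0, 4, 4, 0, 3, 3, 2, 3, 1, 1, 1, 3, 0, 4, 4, 0, 3, 3, 2, 2, 4, 4, 1, 3, 3, 3, 1, 1, 1, 3, 0, 3, 1, 1, 1, 3, 0, 4, 4, 0, 3, 3, 2, 1, 4, 0, 0, 0, 4, 4, 4, 0, 3, 3, 2, 2, 4, 4, 1, 3, 3, 1, 4, 0, 0, 0, 4, 4, 4, 0, 3, 3, 2, 1, 4, 0, 0, 0, 4, 2, 4, 4, 1, 3, 3, 4, 4, 0, 3, 3, 2, 1, 4, 0, 0, 0, 4, 2, 4, 4, 1, 3, 3, 3, 1, 1, 1, 3, 0, 3, 1, 1, 1, 3, 0, 2, 4, 4, 1, 3, 3, 1, 4, 0, 0, 0, 4, 4, 4,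 0, 3, 3, 2, 1, 4, 0, 0, 0, 4]), (15, [4, 4, 0, 3, 3, 2, 1, 4, 0, 0, 0, 4, 1, 4, 0, 0, 0, 4, 4, 4, 0, 3, 3, 2, 1, 4, 0, 0, 0, 4, 4, 4, 0, 3, 3, 2, 4, 4, 0, 3, 3, 2, 3, 1, 1, 1, 3, 0, 4, 4, 0, 3, 3, 2, 1, 4, 0, 0, 0, 4, 3, 1, 1, 1, 3, 0, 2, 4, 4, 1, 3, 3, 1, 4, 0, 0, 0, 4, 2, 4, 4, 1, 3, 3, 4, 4, 0, 3, 3, 2, 1, 4, 0, 0, 0, 4, 4, 4, 0, 3, 3, 2, 1, 4, 0, 0, 0, 4, 2, 4, 4, 1, 3, 3, 3, 1, 1, 1, 3, 0, 2, 4, 4, 1, 3, 3, 3, 1, 1, 1, 3, 0, 2, 4, 4, 1, 3, 3, 3, 1, 1, 1, 3, 0, 2, 4, 4, 1, 3, 3, 3, 1, 1, 1, 3, 0, 3, 1, 1, 1, 3, 0, 2, 4, 4, 1, 3, 3, 3, 1, 1, 1, 3, 0, 3, 1, 1, 1, 3, 0, 4, 4, 0, 3, 3, 2, 3, 1, 1, 1, 3, 0, 2, 4, 4, 1, 3, 3, 3, 1, 1, 1, 3, 0, 4, 4, 0, 3, 3, 2, 4, 4, 0, 3, 3, 2, 1, 4, 0, 0, 0, 4, 1, 4, 0, 0, 0, 4, 4, 4, 0, 3, 3, 2, 1, 4, 0, 0, 0, 4, 4, 4, 0, 3, 3, 2, 3, 1, 1, 1, 3, 0])]]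

/-- Transversals on the complement of the standard weight-12 word. -/
def levelsCo : TokLevels := [
  [(4, []), (5, [(false, 0)]), (10, [(true, 0), (false, 1)]), (11, [(false, 3)]), (13, [(true, 2), (false, 0)]), (16, [(false, 2), (false, 0)]), (17, [(false, 1), (false, 1)]), (18, [(false, 0), (false, 0)]), (19, [(false, 1)]), (20, [(false, 2)]), (21, [(true, 0)]), (22, [(false, 0), (false, 2)])],
  [(5, []), (10, [(true, 0), (true, 3)]), (11, [(true, 0), (false, 2), (true, 3), (false, 1)]), (13, [(true, 1), (true, 2)]), (16, [(true, 2), (true, 0), (true, 0), (false, 3)]), (17, [(false, 3), (false, 0)]), (18, [(true, 0), (true, 2), (true, 1), (false, 0)]), (19, [(true, 0), (true, 0), (false, 1), (false, 0)]), (20, [(true, 3), (true, 1)]), (21, [(true, 1), (false, 0), (true, 2), (true, 0)]), (22, [(true, 0), (true, 0), (true, 1), (false, 2)])],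
  [(10, []), (11, [(true, 0), (true, 3), (true, 1), (true, 3), (false, 0)]), (13, [(true, 1), (false, 3), (true, 2), (false, 0), (true, 1), (false, 0), (false, 3), (true, 1)]), (16, [(true, 0), (true, 1), (false, 0), (false, 0), (true, 3), (false, 1), (false, 2)]), (17, [(true, 0), (true, 3), (true, 0), (false, 3), (false, 1)]), (18, [(true, 0), (true, 3), (true, 0), (true, 2), (false, 0), (false, 1)]), (19, [(false, 2), (false, 1), (false, 0), (true, 2), (false, 1)]), (20, [(false, 2), (false, 1), (true, 1), (true, 3), (true, 3)]), (21, [(false, 2), (false, 1), (true, 0), (true, 2), (false, 3), (false, 2)]), (22, [(false, 1), (false, 3), (true, 2), (true, 0), (false, 2), (false, 2)])]]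

/-- Base in the complement. -/
def coBase : List (Fin 24) := [4, 5, 10]

/-- The standard weight-12 word. -/
def dMask : ℕ := 8442831

end Cfsg.Agent.Golay
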