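import Cfsg.Agent.Lib.Golay.Mathieu
import Cfsg.Agent.Lib.Golay.OutSmall

/-!
The subgroup of order seventy-two fixing the standard weight-12 word and three of its points,
with table data.
-/

set_option autoImplicit false

namespace Cfsg.Agent.Golay.Small

open Cfsg Cfsg.Agent.Golay
open scoped Pointwise

/-- A table gives an element of the dodecad stabiliser fixing the first `n` base points. -/
def TabIn (n : ℕ) (T : Tab) : Prop :=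
  TabInv T ∧ (∀ x ∈ basis, inC (pullMask (tabFn T.1) x.2) = true) ∧
    (∀ i : Fin 24, dMask.testBit (tabFn T.1 i).val = dMask.testBit i.val) ∧
    ∀ j : Fin n, tabFn T.1 (bat baseL j.val) = bat baseL j.val

instance (n : ℕ) (T : Tab) : Decidable (TabIn n T) := by unfold TabIn; infer_instance

theorem tperm_apply {T : Tab} (h : TabInv T) (i : Fin 24) : tperm T (pt i) = pt (tabFn T.1 i) := by
  rw [← fn_tperm h i]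
  simp [fn, pt_idx]

theorem tab_mem {n : ℕ} {T : Tab} (h : TabIn n T) : tperm T ∈ fixN stabD baseL n := by
  obtain ⟨hi, hb, hd, hf⟩ := h
  refine ⟨stabD_mem_iff.mpr ⟨mem_M24_of_basis
    (by rw [show fn (tperm T) = tabFn T.1 from funext (fn_tperm hi)]; exact hb), fun p => ?_⟩,
    fun j hj => ?_⟩
  · rw [← pt_idx p, tperm_apply hi]
    simp [D0, mem_supp, idx_pt, hd]
  · rw [tperm_apply hi, hf ⟨j, hj⟩]

theorem tperm_ext {T U : Tab} (hT : TabInv T) (hU : TabInv U)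
    (h : ∀ i, tabFn T.1 i = tabFn U.1 i) : tperm T = tperm U :=
  fn_ext fun i => by rw [fn_tperm hT, fn_tperm hU, h]

theorem tperm_mul {T U V : Tab} (hT : TabInv T) (hU : TabInv U) (hV : TabInv V)
    (h : ∀ i, tabFn T.1 (tabFn U.1 i) = tabFn V.1 i) : tperm T * tperm U = tperm V :=
  fn_ext fun i => by rw [fn_mul, fn_tperm hT, fn_tperm hU, fn_tperm hV, h]

/-- A homomorphism given by tables. -/
def tabHom {M : Type*} [Group M] (f : M → Tab) (hf : ∀ x, TabInv (f x))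
    (hmul : ∀ x y, ∀ i, tabFn (f x).1 (tabFn (f y).1 i) = tabFn (f (x * y)).1 i) :
    M →* Equiv.Perm GolayPt :=
  MonoidHom.mk' (fun x => tperm (f x)) fun x y => (tperm_mul (hf x) (hf y) (hf (x * y)) (hmul x y)).symm

theorem exists_conj {n : ℕ} (hn : n ≤ 5) {d : Finset GolayPt} (hd : d ∈ dodecads) (z : Fin n ↪ GolayPt)
    (hz : ∀ i, z i ∈ d) :
    ∃ σ ∈ M24, σ • D0 = d ∧ ∀ i : Fin n, σ (pt (bat baseL i.val)) = z i := by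
  obtain ⟨σ, hσ, rfl⟩ := dodecad_transitive hd
  obtain ⟨τ, hτ, h⟩ := exists_tuple (H := stabD) (bs := baseL) (N := n) D0
    (fun g hg a ha => ((stabD_mem_iff.mp hg).2 a).mp ha)
    (fun i hi p hp h => stabD_cov (by omega) p hp h)
    (z.trans (σ⁻¹ : Equiv.Perm GolayPt).toEmbedding) (fun i => Finset.inv_smul_mem_iff.mpr (hz i))
  refine ⟨σ * τ, mul_mem hσ hτ.1, by rw [mul_smul, show τ • D0 = D0 from hτ.2], fun i => ?_⟩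
  rw [Equiv.Perm.mul_apply, h i]
  simp only [Function.Embedding.trans_apply, Equiv.coe_toEmbedding, Equiv.Perm.coe_inv,
    Equiv.apply_symm_apply]

/-- The subgroup fixing a dodecad and three of its points. -/
abbrev S3pt (d : Finset GolayPt) (p q r : GolayPt) : Subgroup M24 :=
  MulAction.stabilizer M24 d ⊓ MulAction.stabilizer M24 p ⊓ MulAction.stabilizer M24 q ⊓
    MulAction.stabilizer M24 r

theorem exists_equiv {d : Finset GolayPt} (hd : d ∈ dodecads) {p q r : GolayPt} (hp : p ∈ d) (hq : q ∈ d)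
    (hr : r ∈ d) (hpq : p ≠ q) (hpr : p ≠ r) (hqr : q ≠ r) :
    ∃ (σ : Equiv.Perm GolayPt) (e : S3pt d p q r ≃* fixN stabD baseL 3), σ ∈ M24 ∧ σ • D0 = d ∧
      ∀ g : S3pt d p q r, ((g : M24) : Equiv.Perm GolayPt) = σ * (e g : Equiv.Perm GolayPt) * σ⁻¹ := by
  obtain ⟨σ, hσ, hdσ, hz⟩ := exists_conj (n := 3) (by norm_num) hd ⟨![p, q, r], fun i j h => by
    fin_cases i <;> fin_cases j <;> simp_all [eq_comm]⟩ (fun i => by fin_cases i <;> assumption)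
  have h0 : σ (pt (bat baseL 0)) = p := hz 0
  have h1 : σ (pt (bat baseL 1)) = q := hz 1
  have h2 : σ (pt (bat baseL 2)) = r := hz 2
  have key : ∀ g : Equiv.Perm GolayPt, (g ∈ M24 ∧ g • d = d ∧ g p = p ∧ g q = q ∧ g r = r) ↔
      σ⁻¹ * g * σ ∈ fixN stabD baseL 3 := by
    intro g
    have hc : ∀ (a b : GolayPt), σ a = b → (g b = b ↔ (σ⁻¹ * g * σ) a = a) := by
      rintro a _ rfl
      rw [Equiv.Perm.mul_apply, Equiv.Perm.mul_apply, Equiv.Perm.coe_inv, Equiv.symm_apply_eq]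
    constructor
    · rintro ⟨hg, hgd, gp, gq, gr⟩
      refine ⟨(conj_stabD hσ g).mp ⟨hg, by rw [hdσ]; exact hgd⟩, fun i hi => ?_⟩
      interval_cases i
      · exact (hc _ _ h0).1 gp
      · exact (hc _ _ h1).1 gq
      · exact (hc _ _ h2).1 gr
    · rintro ⟨hg, hfix⟩
      obtain ⟨a, b⟩ := (conj_stabD hσ g).mpr hg
      exact ⟨a, hdσ ▸ b, (hc _ _ h0).2 (hfix 0 (by norm_num)), (hc _ _ h1).2 (hfix 1 (by norm_num)),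
        (hc _ _ h2).2 (hfix 2 (by norm_num))⟩
  let e : S3pt d p q r ≃* fixN stabD baseL 3 :=
    { toFun := fun g => ⟨σ⁻¹ * ((g : M24) : Equiv.Perm GolayPt) * σ,
        (key _).1 ⟨(g : M24).2, g.2.1.1.1, g.2.1.1.2, g.2.1.2, g.2.2⟩⟩
      invFun := fun h =>
        have hk := (key (σ * (h : Equiv.Perm GolayPt) * σ⁻¹)).2 (by simp [mul_assoc, h.2])
        ⟨⟨_, hk.1⟩, ⟨⟨⟨hk.2.1, hk.2.2.1⟩, hk.2.2.2.1⟩, hk.2.2.2.2⟩⟩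
      left_inv := fun g => by apply Subtype.ext; apply Subtype.ext; simp [mul_assoc]
      right_inv := fun h => by apply Subtype.ext; simp [mul_assoc]
      map_mul' := fun a b => by apply Subtype.ext; simp [mul_assoc] }
  exact ⟨σ, e, hσ, hdσ, fun g => by simp [e, mul_assoc]⟩

theorem card_fix_three : Nat.card (fixN stabD baseL 3) = 72 := by
  have h0 := card_stabD_step ⟨0, by norm_num⟩
  have h1 := card_stabD_step ⟨1, by norm_num⟩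
  have h2 := card_stabD_step ⟨2, by norm_num⟩
  simp only [Nat.zero_add, Nat.reduceAdd, Nat.reduceSub, fixN_zero, card_stabD.1] at h0 h1 h2
  omega

/-- The normal elementary abelian subgroup. -/
def tabsN : List Tab := [
  ([0, 1, 2, 3, 4, 5, 6, 7, 8, 9, 10, 11, 12, 13, 14, 15, 16, 17, 18, 19, 20, 21, 22, 23], [0, 1, 2, 3, 4, 5, 6, 7, 8, 9, 10, 11, 12, 13, 14, 15, 16, 17, 18, 19, 20, 21, 22, 23]),
  ([0, 1, 15, 8, 17, 4, 3, 12, 6, 2, 10, 16, 14, 13, 7, 9, 18, 5, 11, 21, 20, 22, 19, 23], [0, 1, 9, 6, 5, 17, 8, 14, 3, 15, 10, 18, 7, 13, 12, 2, 11, 4, 16, 22, 20, 19, 21, 23]),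
  ([0, 1, 9, 6, 5, 17, 8, 14, 3, 15, 10, 18, 7, 13, 12, 2, 11, 4, 16, 22, 20, 19, 21, 23], [0, 1, 15, 8, 17, 4, 3, 12, 6, 2, 10, 16, 14, 13, 7, 9, 18, 5, 11, 21, 20, 22, 19, 23]),
  ([0, 1, 6, 12, 5, 17, 7, 2, 14, 8, 13, 16, 15, 20, 9, 3, 18, 4, 11, 19, 10, 21, 22, 23], [0, 1, 7, 15, 17, 4, 2, 6, 9, 14, 20, 18, 3, 10, 8, 12, 11, 5, 16, 19, 13, 21, 22, 23]),
  ([0, 1, 3, 14, 4, 5, 12, 15, 7, 6, 13, 18, 9, 20, 2, 8, 11, 17, 16, 21, 10, 22, 19, 23], [0, 1, 14, 2, 4, 5, 9, 8, 15, 12, 20, 16, 6, 10, 3, 7, 18, 17, 11, 22, 13, 19, 21, 23]),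
  ([0, 1, 8, 7, 17, 4, 14, 9, 12, 3, 13, 11, 2, 20, 15, 6, 16, 5, 18, 22, 10, 19, 21, 23], [0, 1, 12, 9, 5, 17, 15, 3, 2, 7, 20, 11, 8, 10, 6, 14, 16, 4, 18, 21, 13, 22, 19, 23]),
  ([0, 1, 7, 15, 17, 4, 2, 6, 9, 14, 20, 18, 3, 10, 8, 12, 11, 5, 16, 19, 13, 21, 22, 23], [0, 1, 6, 12, 5, 17, 7, 2, 14, 8, 13, 16, 15, 20, 9, 3, 18, 4, 11, 19, 10, 21, 22, 23]),
  ([0, 1, 12, 9, 5, 17, 15, 3, 2, 7, 20, 11, 8, 10, 6, 14, 16, 4, 18, 21, 13, 22, 19, 23], [0, 1, 8, 7, 17, 4, 14, 9, 12, 3, 13, 11, 2, 20, 15, 6, 16, 5, 18, 22, 10, 19, 21, 23]),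
  ([0, 1, 14, 2, 4, 5, 9, 8, 15, 12, 20, 16, 6, 10, 3, 7, 18, 17, 11, 22, 13, 19, 21, 23], [0, 1, 3, 14, 4, 5, 12, 15, 7, 6, 13, 18, 9, 20, 2, 8, 11, 17, 16, 21, 10, 22, 19, 23])]

/-- A quaternion subgroup. -/
def tabsQ : List Tab := [
  ([0, 1, 2, 3, 4, 5, 6, 7, 8, 9, 10, 11, 12, 13, 14, 15, 16, 17, 18, 19, 20, 21, 22, 23], [0, 1, 2, 3, 4, 5, 6, 7, 8, 9, 10, 11, 12, 13, 14, 15, 16, 17, 18, 19, 20, 21, 22, 23]),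
  ([0, 1, 6, 14, 18, 16, 8, 3, 9, 2, 19, 4, 12, 22, 15, 7, 5, 11, 17, 10, 21, 13, 20, 23], [0, 1, 9, 7, 11, 16, 2, 15, 6, 8, 19, 17, 12, 21, 3, 14, 5, 18, 4, 10, 22, 20, 13, 23]),
  ([0, 1, 8, 15, 17, 5, 9, 14, 2, 6, 10, 18, 12, 20, 7, 3, 16, 4, 11, 19, 13, 22, 21, 23], [0, 1, 8, 15, 17, 5, 9, 14, 2, 6, 10, 18, 12, 20, 7, 3, 16, 4, 11, 19, 13, 22, 21, 23]),
  ([0, 1, 9, 7, 11, 16, 2, 15, 6, 8, 19, 17, 12, 21, 3, 14, 5, 18, 4, 10, 22, 20, 13, 23], [0, 1, 6, 14, 18, 16, 8, 3, 9, 2, 19, 4, 12, 22, 15, 7, 5, 11, 17, 10, 21, 13, 20, 23]),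
  ([0, 1, 15, 2, 13, 10, 14, 6, 3, 7, 5, 22, 12, 17, 9, 8, 19, 20, 21, 16, 4, 11, 18, 23], [0, 1, 3, 8, 20, 10, 7, 9, 15, 14, 5, 21, 12, 4, 6, 2, 19, 13, 22, 16, 17, 18, 11, 23]),
  ([0, 1, 14, 9, 21, 19, 3, 2, 7, 15, 16, 13, 12, 18, 8, 6, 10, 22, 20, 5, 11, 17, 4, 23], [0, 1, 7, 6, 22, 19, 15, 8, 14, 3, 16, 20, 12, 11, 2, 9, 10, 21, 13, 5, 18, 4, 17, 23]),
  ([0, 1, 3, 8, 20, 10, 7, 9, 15, 14, 5, 21, 12, 4, 6, 2, 19, 13, 22, 16, 17, 18, 11, 23], [0, 1, 15, 2, 13, 10, 14, 6, 3, 7, 5, 22, 12, 17, 9, 8, 19, 20, 21, 16, 4, 11, 18, 23]),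
  ([0, 1, 7, 6, 22, 19, 15, 8, 14, 3, 16, 20, 12, 11, 2, 9, 10, 21, 13, 5, 18, 4, 17, 23], [0, 1, 14, 9, 21, 19, 3, 2, 7, 15, 16, 13, 12, 18, 8, 6, 10, 22, 20, 5, 11, 17, 4, 23])]

/-- Transversal on the complement. -/
def tabsT : List Tab := [
  ([0, 1, 2, 3, 4, 5, 6, 7, 8, 9, 10, 11, 12, 13, 14, 15, 16, 17, 18, 19, 20, 21, 22, 23], [0, 1, 2, 3, 4, 5, 6, 7, 8, 9, 10, 11, 12, 13, 14, 15, 16, 17, 18, 19, 20, 21, 22, 23]),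
  ([0, 1, 6, 12, 5, 17, 7, 2, 14, 8, 13, 16, 15, 20, 9, 3, 18, 4, 11, 19, 10, 21, 22, 23], [0, 1, 7, 15, 17, 4, 2, 6, 9, 14, 20, 18, 3, 10, 8, 12, 11, 5, 16, 19, 13, 21, 22, 23]),
  ([0, 1, 12, 14, 10, 13, 2, 8, 3, 9, 17, 21, 15, 5, 7, 6, 19, 20, 22, 18, 4, 11, 16, 23], [0, 1, 6, 8, 20, 13, 15, 14, 7, 9, 4, 21, 2, 5, 3, 12, 22, 10, 19, 16, 17, 11, 18, 23]),
  ([0, 1, 9, 7, 11, 16, 2, 15, 6, 8, 19, 17, 12, 21, 3, 14, 5, 18, 4, 10, 22, 20, 13, 23], [0, 1, 6, 14, 18, 16, 8, 3, 9, 2, 19, 4, 12, 22, 15, 7, 5, 11, 17, 10, 21, 13, 20, 23]),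
  ([0, 1, 2, 9, 13, 10, 12, 8, 6, 14, 17, 21, 7, 4, 15, 3, 22, 20, 19, 11, 5, 18, 16, 23], [0, 1, 2, 15, 13, 20, 8, 12, 7, 3, 5, 19, 6, 4, 9, 14, 22, 10, 21, 18, 17, 11, 16, 23]),
  ([0, 1, 8, 2, 16, 18, 6, 3, 7, 14, 19, 4, 15, 21, 12, 9, 17, 11, 5, 13, 22, 10, 20, 23], [0, 1, 3, 7, 11, 18, 6, 8, 2, 15, 21, 17, 14, 19, 9, 12, 4, 16, 5, 10, 22, 13, 20, 23]),
  ([0, 1, 7, 8, 17, 5, 6, 2, 3, 12, 13, 16, 9, 10, 15, 14, 11, 4, 18, 21, 20, 19, 22, 23], [0, 1, 7, 8, 17, 5, 6, 2, 3, 12, 13, 16, 9, 10, 15, 14, 11, 4, 18, 21, 20, 19, 22, 23]),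
  ([0, 1, 6, 14, 18, 16, 8, 3, 9, 2, 19, 4, 12, 22, 15, 7, 5, 11, 17, 10, 21, 13, 20, 23], [0, 1, 9, 7, 11, 16, 2, 15, 6, 8, 19, 17, 12, 21, 3, 14, 5, 18, 4, 10, 22, 20, 13, 23]),
  ([0, 1, 3, 15, 19, 21, 14, 2, 6, 9, 16, 13, 8, 11, 12, 7, 20, 22, 10, 17, 18, 5, 4, 23], [0, 1, 7, 2, 22, 21, 8, 15, 12, 9, 18, 13, 14, 11, 6, 3, 10, 19, 20, 4, 16, 5, 17, 23]),
  ([0, 1, 8, 3, 20, 13, 2, 12, 14, 15, 5, 19, 9, 17, 6, 7, 21, 10, 22, 11, 4, 18, 16, 23], [0, 1, 6, 3, 20, 10, 14, 15, 2, 12, 17, 19, 7, 5, 8, 9, 22, 13, 21, 11, 4, 16, 18, 23]),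
  ([0, 1, 8, 9, 21, 22, 7, 15, 3, 2, 18, 13, 6, 16, 14, 12, 20, 19, 10, 5, 11, 4, 17, 23], [0, 1, 9, 8, 21, 19, 12, 6, 2, 3, 18, 20, 15, 11, 14, 7, 13, 22, 10, 17, 16, 4, 5, 23]),
  ([0, 1, 7, 2, 22, 21, 8, 15, 12, 9, 18, 13, 14, 11, 6, 3, 10, 19, 20, 4, 16, 5, 17, 23], [0, 1, 3, 15, 19, 21, 14, 2, 6, 9, 16, 13, 8, 11, 12, 7, 20, 22, 10, 17, 18, 5, 4, 23])]

end Cfsg.Agent.Golay.Small
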