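import Cfsg.Agent.Lib.Golay.OrbStd

/-! More suborbits, and maximality of stabilisers from suborbit sizes. -/

set_option autoImplicit false

namespace Cfsg.Agent.Golay

open Cfsg
open scoped Pointwise

/-- The one-point mask of a position. -/
def bitM (i : Fin 24) : ℕ := 2 ^ i.val

theorem supp_bitM : ∀ i : Fin 24, supp (bitM i) = {pt i} := by decide +kernel

theorem smul_singleton_iff {σ : Equiv.Perm GolayPt} {p q : GolayPt} :
    σ • ({p} : Finset GolayPt) = {q} ↔ σ p = q := by
  rw [Finset.smul_finset_singleton, Finset.singleton_inj, Equiv.Perm.smul_def]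

/-- Transport of a certified orbit along an element of `M24`. -/
theorem trans_any {fix : List ℕ} {gens : List Tab} {c : Orb} {P : ℕ → Bool} {n : ℕ}
    {σ : Equiv.Perm GolayPt} (hσ : σ ∈ M24) (hg : gensFix fix gens) (hv : c.valid gens P n = true)
    (S T : Set (Finset GolayPt)) (hP : ∀ m, m < 2 ^ 24 → P m = true → supp m ∈ S) (hn : S.ncard = n)
    (hT : ∀ x ∈ T, σ⁻¹ • x ∈ S) {a b : Finset GolayPt} (ha : a ∈ T) (hb : b ∈ T) :
    ∃ g : Equiv.Perm GolayPt, g ∈ M24 ∧ (∀ f ∈ fix, g • σ • supp f = σ • supp f) ∧ g • a = b := by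
  obtain ⟨τ, ⟨hτM, hτf⟩, hτ⟩ := Orb.trans hg hv hP hn (hT a ha) (hT b hb)
  exact ⟨σ * τ * σ⁻¹, mul_mem (mul_mem hσ hτM) (inv_mem hσ), fun f hf => conj_fix (hτf f hf),
    by rw [mul_smul, mul_smul, hτ, smul_inv_smul]⟩

theorem exists_map_points {N : ℕ} (hN : N ≤ 5) (x : Fin N ↪ GolayPt) :
    ∃ σ ∈ M24, ∀ i : Fin N, σ (pt (bpt i.val)) = x i :=
  exists_tuple (H := M24) (bs := baseL) (N := N) Finset.univ (fun _ _ _ _ => Finset.mem_univ _)
    (fun i hi p _ hp => chain_cov (by omega) p hp) x (fun _ => Finset.mem_univ _)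

theorem exists_map_set (s : Finset GolayPt) {k : ℕ} (hk : k ≤ 5) (hs : s.card = k) (f : ℕ)
    (hf : supp f = (Finset.univ : Finset (Fin k)).image fun i => pt (bpt i.val)) :
    ∃ σ ∈ M24, σ • supp f = s := by
  obtain ⟨σ, hσ, h⟩ := exists_map_points hk
    ((s.equivFinOfCardEq hs).symm.toEmbedding.trans (Function.Embedding.subtype _))
  refine ⟨σ, hσ, Finset.eq_of_subset_of_card_le ?_ ?_⟩
  · intro p hp
    obtain ⟨q, hq, rfl⟩ := Finset.mem_smul_finset.mp hp
    rw [hf, Finset.mem_image] at hq
    obtain ⟨i, -, rfl⟩ := hq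
    rw [Equiv.Perm.smul_def, h i]
    exact ((s.equivFinOfCardEq hs).symm i).2
  · rw [Finset.card_smul_finset, hf, Finset.card_image_of_injective _ ?_, Finset.card_univ,
      Fintype.card_fin, hs]
    intro i j hij
    have hinj : ∀ i j : Fin 5, pt (bpt i.val) = pt (bpt j.val) → i = j := by decide +kernel
    have := congrArg Fin.val (hinj ⟨i.val, by omega⟩ ⟨j.val, by omega⟩ hij)
    exact Fin.ext this

/-! ### Maximality -/

theorem coatom_of_classes {G X : Type*} [Group G] [Finite G] [MulAction G X] (x : X) {k : ℕ}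
    (cls : X → Fin k) (sizes : Fin k → ℕ) (hk : 0 < k) (hpos : ∀ i, 0 < sizes i)
    (hcls : ∀ i, {y ∈ MulAction.orbit G x | y ≠ x ∧ cls y = i}.ncard = sizes i)
    (htrans : ∀ a ∈ MulAction.orbit G x, ∀ b ∈ MulAction.orbit G x, a ≠ x → b ≠ x → cls a = cls b →
      ∃ g ∈ MulAction.stabilizer G x, g • a = b)
    (hnum : ∀ S : Finset (Fin k), (1 + ∑ i ∈ S, sizes i) ∣ (1 + ∑ i, sizes i) →
      S = ∅ ∨ S = Finset.univ) :
    IsCoatom (MulAction.stabilizer G x) := by
  classical
  set H := MulAction.stabilizer G x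
  have hfin : (MulAction.orbit G x).Finite := Set.finite_range fun g : G => g • x
  have count : ∀ (O : Set X), O ⊆ MulAction.orbit G x → x ∈ O →
      (∀ a ∈ O, ∀ g ∈ H, g • a ∈ O) →
      O.ncard = 1 + ∑ i ∈ Finset.univ.filter (fun i => ∃ y ∈ O, y ≠ x ∧ cls y = i), sizes i := by
    intro O hO hxO hinv
    set S := Finset.univ.filter (fun i => ∃ y ∈ O, y ≠ x ∧ cls y = i)
    have hOf : O.Finite := hfin.subset hO
    have e1 : (O \ {x}).ncard + 1 = O.ncard := Set.ncard_sdiff_singleton_add_one hxO hOf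
    have hf2 : (O \ {x}).Finite := hOf.subset Set.sdiff_subset
    rw [← e1, add_comm, Set.ncard_eq_toFinset_card _ hf2,
      Finset.card_eq_sum_card_fiberwise (f := cls) (t := S) (fun y hy => by
        obtain ⟨h1, h2⟩ := (Set.Finite.mem_toFinset _).mp hy
        exact Finset.mem_filter.mpr ⟨Finset.mem_univ _, y, h1, h2, rfl⟩)]
    congr 1
    refine Finset.sum_congr rfl fun i hi => ?_
    obtain ⟨-, y, hy, hyx, rfl⟩ := Finset.mem_filter.mp hi
    rw [← hcls (cls y), ← Set.ncard_coe_finset]
    congr 1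
    ext z
    simp only [Finset.coe_filter, Set.Finite.mem_toFinset, Set.mem_sdiff, Set.mem_singleton_iff,
      Set.mem_ofPred_eq]
    constructor
    · rintro ⟨⟨hz, hzx⟩, e⟩; exact ⟨hO hz, hzx, e⟩
    · rintro ⟨hz, hzx, e⟩
      obtain ⟨g, hg, rfl⟩ := htrans y (hO hy) z hz hyx hzx e.symm
      exact ⟨⟨hinv y hy g hg, hzx⟩, e⟩
  have hall : (MulAction.orbit G x).ncard = 1 + ∑ i, sizes i := by
    rw [count _ subset_rfl (MulAction.mem_orbit_self x) (fun a ha g _ => by
      obtain ⟨h, rfl⟩ := ha
      exact ⟨g * h, mul_smul g h x⟩)]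
    congr 1
    refine Finset.sum_congr (Finset.filter_true_of_mem fun i _ => ?_) fun _ _ => rfl
    obtain ⟨y, hy⟩ := Set.nonempty_of_ncard_ne_zero (by rw [hcls i]; exact (hpos i).ne')
    exact ⟨y, hy.1, hy.2.1, hy.2.2⟩
  refine ⟨fun htop => ?_, fun K hK => ?_⟩
  · have h1 : (MulAction.orbit G x).ncard = 1 := by
      rw [← MulAction.index_stabilizer]
      show H.index = 1
      rw [htop, Subgroup.index_top]
    rw [hall] at h1
    have h2 := Finset.single_le_sum (s := Finset.univ) (f := sizes) (fun i _ => Nat.zero_le _)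
      (Finset.mem_univ ⟨0, hk⟩)
    have := hpos ⟨0, hk⟩
    omega
  · set O := MulAction.orbit K x with hOdef
    have hOsub : O ⊆ MulAction.orbit G x := by
      rintro _ ⟨g, rfl⟩; exact ⟨g.1, rfl⟩
    have hc := count O hOsub (MulAction.mem_orbit_self x) (fun a ha g hg => by
      obtain ⟨h, rfl⟩ := ha
      exact ⟨⟨g * h.1, mul_mem (hK.le hg) h.2⟩, mul_smul g h.1 x⟩)
    have hst : MulAction.stabilizer K x = H.subgroupOf K := by
      ext g; exact Iff.rfl
    have hmul := Subgroup.relIndex_mul_index hK.le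
    rw [Subgroup.relIndex, ← hst, MulAction.index_stabilizer] at hmul
    have hH : H.index = (MulAction.orbit G x).ncard := MulAction.index_stabilizer G x
    have hdvd : O.ncard ∣ (MulAction.orbit G x).ncard := ⟨K.index, by rw [← hH]; exact hmul.symm⟩
    rw [hc, hall] at hdvd
    rcases hnum _ hdvd with h | h
    · exfalso
      obtain ⟨g, hgK, hgH⟩ := SetLike.exists_of_lt hK
      refine (Finset.eq_empty_iff_forall_notMem.mp h (cls (g • x))) (Finset.mem_filter.mpr
        ⟨Finset.mem_univ _, g • x, ⟨⟨g, hgK⟩, rfl⟩, fun e => hgH e, rfl⟩)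
    · rw [h] at hc
      have h1 : O.ncard * K.index = (MulAction.orbit G x).ncard := by rw [hmul, hH]
      rw [hc, hall] at h1
      have h2 : 0 < 1 + ∑ i, sizes i := by omega
      exact Subgroup.index_eq_one.mp
        (Nat.eq_of_mul_eq_mul_left h2 (by rw [h1, mul_one]))

theorem subgroup_smul_finset (g : M24) (s : Finset GolayPt) : g • s = (g : Equiv.Perm GolayPt) • s := rfl

theorem exists_M24 {X : Type*} [MulAction (Equiv.Perm GolayPt) X] {a b : X}
    {g : Equiv.Perm GolayPt} (hg : g ∈ M24) (h : g • a = b) : b ∈ MulAction.orbit M24 a :=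
  ⟨⟨g, hg⟩, h⟩

theorem maximal_octad {o : Finset GolayPt} (ho : o ∈ octads) :
    IsCoatom (MulAction.stabilizer M24 o) := by
  have horb : MulAction.orbit M24 o = octads := by
    ext y
    refine ⟨fun ⟨g, hg⟩ => hg ▸ smul_mem_weight g.2 ho, fun hy => ?_⟩
    obtain ⟨σ, hσ, h⟩ := octad_transitive ho hy
    exact exists_M24 hσ h
  refine coatom_of_classes o (fun y => if (o ∩ y).card = 0 then (0 : Fin 3) else
    if (o ∩ y).card = 2 then 1 else 2) ![30, 448, 280] (by norm_num) (by decide) ?_ ?_ ?_
  · intro i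
    rw [horb]
    have hh : ∀ y ∈ octads, y ≠ o → (o ∩ y).card = 0 ∨ (o ∩ y).card = 2 ∨ (o ∩ y).card = 4 :=
      fun y hy hne => Steiner.inter_24 (by decide) octads_steiner ho hy hne.symm
    have hne : ∀ y : Finset GolayPt, (o ∩ y).card ≠ 8 → y ≠ o := fun y h e => h (by
      rw [e, Finset.inter_self, ho.2])
    fin_cases i
    · rw [show ![30, 448, 280] (⟨0, by norm_num⟩ : Fin 3) = (0, 30).2 from rfl,
        ← octad_meet o ho (0, 30) (by simp)]
      congr 1; ext y
      simp only [Set.mem_ofPred_eq]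
      constructor
      · rintro ⟨hy, hyo, e⟩
        refine ⟨hy, ?_⟩
        rcases hh y hy hyo with h | h | h <;> simp [h] at e ⊢
      · rintro ⟨hy, e⟩
        exact ⟨hy, hne y (by omega), by simp [e]⟩
    · rw [show ![30, 448, 280] (⟨1, by norm_num⟩ : Fin 3) = (2, 448).2 from rfl,
        ← octad_meet o ho (2, 448) (by simp)]
      congr 1; ext y
      simp only [Set.mem_ofPred_eq]
      constructor
      · rintro ⟨hy, hyo, e⟩
        refine ⟨hy, ?_⟩
        rcases hh y hy hyo with h | h | h <;> simp [h] at e ⊢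
      · rintro ⟨hy, e⟩
        exact ⟨hy, hne y (by omega), by simp [e]⟩
    · rw [show ![30, 448, 280] (⟨2, by norm_num⟩ : Fin 3) = (4, 280).2 from rfl,
        ← octad_meet o ho (4, 280) (by simp)]
      congr 1; ext y
      simp only [Set.mem_ofPred_eq]
      constructor
      · rintro ⟨hy, hyo, e⟩
        refine ⟨hy, ?_⟩
        rcases hh y hy hyo with h | h | h <;> simp [h] at e ⊢
      · rintro ⟨hy, e⟩
        exact ⟨hy, hne y (by omega), by simp [e]⟩
  · intro a ha b hb hao hbo hab
    rw [horb] at ha hb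
    have h1 := Steiner.inter_24 (by decide) octads_steiner ho ha hao.symm
    have h2 := Steiner.inter_24 (by decide) octads_steiner ho hb hbo.symm
    have h3 : (o ∩ a).card = (o ∩ b).card := by
      rcases h1 with h | h | h <;> rcases h2 with h' | h' | h' <;> simp [h, h'] at hab ⊢
    obtain ⟨g, hg, hgo, e⟩ := octad_suborbit ho ha hb h3
    exact ⟨⟨g, hg⟩, hgo, e⟩
  · decide +kernel

theorem maximal_dodecad_pair {d : Finset GolayPt} (hd : d ∈ dodecads) :
    IsCoatom (MulAction.stabilizer M24 ({d, dᶜ} : Finset (Finset GolayPt))) := by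
  have hcompl : ∀ a ∈ dodecads, aᶜ ∈ dodecads := fun a ha => by
    obtain ⟨⟨w, hw, rfl⟩, hc⟩ := ha
    refine ⟨⟨w + 1, Submodule.add_mem _ hw (Submodule.subset_span (Or.inr rfl)), ?_⟩,
      by rw [Finset.card_compl, hc]; decide⟩
    ext p
    simp only [support₂, Finset.mem_compl, Finset.mem_filter, Finset.mem_univ, true_and, Pi.add_apply,
      Pi.one_apply]
    generalize w p = z
    revert z
    decide
  have hinter : ∀ a ∈ dodecads, (d ∩ aᶜ).card = 12 - (d ∩ a).card := fun a _ => by
    have := Finset.card_sdiff_add_card_inter d a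
    rw [hd.2] at this
    rw [← Finset.sdiff_eq_inter_compl]
    omega
  have hsmul : ∀ (g : Equiv.Perm GolayPt) (a : Finset GolayPt), g • ({a, aᶜ} : Finset (Finset GolayPt)) =
      {g • a, (g • a)ᶜ} := fun g a => by
    rw [Finset.smul_finset_insert, Finset.smul_finset_singleton]
    congr 2
    ext p
    rw [← Finset.inv_smul_mem_iff, Finset.mem_compl, Finset.mem_compl, ← Finset.inv_smul_mem_iff]
  have horb : ∀ y, y ∈ MulAction.orbit M24 ({d, dᶜ} : Finset (Finset GolayPt)) ↔
      ∃ a ∈ dodecads, y = {a, aᶜ} := by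
    intro y
    constructor
    · rintro ⟨g, rfl⟩
      exact ⟨_, smul_mem_weight g.2 hd, hsmul g d⟩
    · rintro ⟨a, ha, rfl⟩
      obtain ⟨σ, hσ, e⟩ := dodecad_transitive ha
      obtain ⟨τ, hτ, e'⟩ := dodecad_transitive hd
      refine exists_M24 (g := σ * τ⁻¹) (mul_mem hσ (inv_mem hτ)) ?_
      rw [hsmul, mul_smul, ← e', inv_smul_smul, e]
  refine coatom_of_classes _
    (fun y : Finset (Finset GolayPt) => if ∃ a ∈ y, (d ∩ a).card = 6 then (1 : Fin 2) else 0)
    ![495, 792] (by norm_num) (by decide) ?_ ?_ ?_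
  · intro i
    have hc4 := dodecad_meet d hd (4, 495) (by simp)
    have hc6 := dodecad_meet d hd (6, 1584) (by simp)
    fin_cases i
    · rw [show ![495, 792] (⟨0, by norm_num⟩ : Fin 2) = (4, 495).2 from rfl, ← hc4]
      rw [← Set.ncard_image_of_injOn (f := fun a : Finset GolayPt => ({a, aᶜ} : Finset (Finset GolayPt)))
        (s := {s : Finset GolayPt | s ∈ dodecads ∧ (d ∩ s).card = (4, 495).1})]
      · congr 1; ext y
        simp only [Set.mem_ofPred_eq, Set.mem_image, horb]
        constructor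
        · rintro ⟨⟨a, ha, rfl⟩, hne, hcls⟩
          have h6 : ∀ b ∈ ({a, aᶜ} : Finset (Finset GolayPt)), (d ∩ b).card ≠ 6 := fun b hb hb6 => by
            rw [if_pos ⟨b, hb, hb6⟩] at hcls; simp at hcls
          by_cases had : a = d
          · exact absurd (by rw [had]) hne
          rcases dodecad_inter hd ha had with h | h | h | h
          · exfalso
            refine hne ?_
            have : d = aᶜ := octad_eq_of_meet hd.2 (hcompl a ha).2 (by rw [hinter a ha, h])
            rw [this, compl_compl, Finset.pair_comm]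
          · exact ⟨a, ⟨ha, h⟩, rfl⟩
          · exact absurd h (h6 a (by simp))
          · exact ⟨aᶜ, ⟨hcompl a ha, by rw [hinter a ha, h]⟩, by rw [compl_compl, Finset.pair_comm]⟩
        · rintro ⟨a, ⟨ha, h4⟩, rfl⟩
          refine ⟨⟨a, ha, rfl⟩, fun e => ?_, ?_⟩
          · have hm : a ∈ ({d, dᶜ} : Finset (Finset GolayPt)) := e ▸ Finset.mem_insert_self _ _
            simp only [Finset.mem_insert, Finset.mem_singleton] at hm
            rcases hm with rfl | rfl
            · simp [hd.2] at h4
            · simp at h4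
          · rw [if_neg]
            · rfl
            · rintro ⟨b, hb, h6⟩
              simp only [Finset.mem_insert, Finset.mem_singleton] at hb
              rcases hb with rfl | rfl
              · omega
              · rw [hinter a ha, h4] at h6; omega
      · rintro a ⟨ha, h4⟩ b ⟨hb, h4'⟩ e
        have hm : a ∈ ({b, bᶜ} : Finset (Finset GolayPt)) := by
          simp only at e; rw [← e]; exact Finset.mem_insert_self _ _
        simp only [Finset.mem_insert, Finset.mem_singleton] at hm
        rcases hm with h | h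
        · exact h
        · rw [h, hinter b hb, h4'] at h4; omega
    · -- pairs with both members meeting in six points
      have h792 : {s : Finset GolayPt | s ∈ dodecads ∧ (d ∩ s).card = 6 ∧ none ∈ s}.ncard = 792 := by
        have hpair : {s : Finset GolayPt | s ∈ dodecads ∧ (d ∩ s).card = 6 ∧ none ∉ s}.ncard =
            {s : Finset GolayPt | s ∈ dodecads ∧ (d ∩ s).card = 6 ∧ none ∈ s}.ncard := by
          rw [← Set.ncard_image_of_injective {s : Finset GolayPt | s ∈ dodecads ∧ (d ∩ s).card = 6 ∧ none ∈ s}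
            compl_injective]
          congr 1; ext s
          simp only [Set.mem_ofPred_eq, Set.mem_image]
          constructor
          · rintro ⟨hs, h6, hn⟩
            exact ⟨sᶜ, ⟨hcompl s hs, by rw [hinter s hs, h6], by simpa using hn⟩, compl_compl s⟩
          · rintro ⟨a, ⟨ha, h6, hn⟩, rfl⟩
            exact ⟨hcompl a ha, by rw [hinter a ha, h6], by simpa using hn⟩
        have hunion : {s : Finset GolayPt | s ∈ dodecads ∧ (d ∩ s).card = 6} =
            {s : Finset GolayPt | s ∈ dodecads ∧ (d ∩ s).card = 6 ∧ none ∈ s} ∪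
              {s : Finset GolayPt | s ∈ dodecads ∧ (d ∩ s).card = 6 ∧ none ∉ s} := by
          ext s; simp only [Set.mem_ofPred_eq, Set.mem_union]
          exact ⟨fun h => (em (none ∈ s)).elim (fun h' => Or.inl ⟨h.1, h.2, h'⟩)
            (fun h' => Or.inr ⟨h.1, h.2, h'⟩), fun h => h.elim (fun h => ⟨h.1, h.2.1⟩) (fun h => ⟨h.1, h.2.1⟩)⟩
        simp only at hc6
        rw [hunion, Set.ncard_union_eq (Set.disjoint_left.mpr fun s h h' => h'.2.2 h.2.2)
          (Set.toFinite _) (Set.toFinite _), hpair] at hc6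
        omega
      rw [show ![495, 792] (⟨1, by norm_num⟩ : Fin 2) = 792 from rfl, ← h792]
      rw [← Set.ncard_image_of_injOn (f := fun a : Finset GolayPt => ({a, aᶜ} : Finset (Finset GolayPt)))
        (s := {s : Finset GolayPt | s ∈ dodecads ∧ (d ∩ s).card = 6 ∧ none ∈ s})]
      · congr 1; ext y
        simp only [Set.mem_ofPred_eq, Set.mem_image, horb]
        constructor
        · rintro ⟨⟨a, ha, rfl⟩, -, hcls⟩
          have hex : ∃ b ∈ ({a, aᶜ} : Finset (Finset GolayPt)), (d ∩ b).card = 6 := by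
            by_contra hc
            rw [if_neg hc] at hcls; simp at hcls
          have h6 : (d ∩ a).card = 6 := by
            obtain ⟨b, hb, h6⟩ := hex
            simp only [Finset.mem_insert, Finset.mem_singleton] at hb
            rcases hb with rfl | rfl
            · exact h6
            · rw [hinter a ha] at h6; omega
          by_cases hn : none ∈ a
          · exact ⟨a, ⟨ha, h6, hn⟩, rfl⟩
          · exact ⟨aᶜ, ⟨hcompl a ha, by rw [hinter a ha, h6], by simpa using hn⟩,
              by rw [compl_compl, Finset.pair_comm]⟩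
        · rintro ⟨a, ⟨ha, h6, -⟩, rfl⟩
          refine ⟨⟨a, ha, rfl⟩, fun e => ?_, ?_⟩
          · have hm : a ∈ ({d, dᶜ} : Finset (Finset GolayPt)) := e ▸ Finset.mem_insert_self _ _
            simp only [Finset.mem_insert, Finset.mem_singleton] at hm
            rcases hm with rfl | rfl
            · simp [hd.2] at h6
            · simp at h6
          · rw [if_pos ⟨a, Finset.mem_insert_self _ _, h6⟩]; rfl
      · rintro a ⟨-, -, hn⟩ b ⟨-, -, hn'⟩ e
        have hm : a ∈ ({b, bᶜ} : Finset (Finset GolayPt)) := by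
          simp only at e; rw [← e]; exact Finset.mem_insert_self _ _
        simp only [Finset.mem_insert, Finset.mem_singleton] at hm
        rcases hm with h | h
        · exact h
        · rw [h] at hn; simp [hn'] at hn
  · intro u hu v hv hud hvd huv
    obtain ⟨a, ha, rfl⟩ := (horb u).mp hu
    obtain ⟨b, hb, rfl⟩ := (horb v).mp hv
    have norm : ∀ c ∈ dodecads, ({c, cᶜ} : Finset (Finset GolayPt)) ≠ {d, dᶜ} →
        ∃ c' ∈ dodecads, ({c, cᶜ} : Finset (Finset GolayPt)) = {c', c'ᶜ} ∧
          (d ∩ c').card = if ∃ x ∈ ({c, cᶜ} : Finset (Finset GolayPt)), (d ∩ x).card = 6 then 6 else 4 := by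
      intro c hc hcd
      have hnd : c ≠ d := fun e => hcd (by rw [e])
      have hsix : (∃ x ∈ ({c, cᶜ} : Finset (Finset GolayPt)), (d ∩ x).card = 6) ↔ (d ∩ c).card = 6 := by
        simp only [Finset.mem_insert, Finset.mem_singleton, exists_eq_or_imp, exists_eq_left, hinter c hc]
        omega
      rcases dodecad_inter hd hc hnd with h | h | h | h
      · exfalso
        refine hcd ?_
        have : d = cᶜ := octad_eq_of_meet hd.2 (hcompl c hc).2 (by rw [hinter c hc, h])
        rw [this, compl_compl, Finset.pair_comm]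
      · exact ⟨c, hc, rfl, by rw [if_neg (fun e => by have := hsix.mp e; omega), h]⟩
      · exact ⟨c, hc, rfl, by rw [if_pos (hsix.mpr h), h]⟩
      · exact ⟨cᶜ, hcompl c hc, by rw [compl_compl, Finset.pair_comm],
          by rw [if_neg (fun e => by have := hsix.mp e; omega), hinter c hc, h]⟩
    obtain ⟨a', ha', ea, hca⟩ := norm a ha hud
    obtain ⟨b', hb', eb, hcb⟩ := norm b hb hvd
    have hiff : (∃ x ∈ ({a, aᶜ} : Finset (Finset GolayPt)), (d ∩ x).card = 6) ↔
        (∃ x ∈ ({b, bᶜ} : Finset (Finset GolayPt)), (d ∩ x).card = 6) := by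
      constructor
      · intro h
        by_contra h'
        rw [if_pos h, if_neg h'] at huv
        simp at huv
      · intro h
        by_contra h'
        rw [if_neg h', if_pos h] at huv
        simp at huv
    obtain ⟨g, hg, hgd, e⟩ := dodecad_suborbit hd ha' hb' (by rw [hca, hcb]; simp only [hiff])
    refine ⟨⟨g, hg⟩, ?_, ?_⟩
    · show g • ({d, dᶜ} : Finset (Finset GolayPt)) = {d, dᶜ}
      rw [hsmul, hgd]
    · show g • ({a, aᶜ} : Finset (Finset GolayPt)) = {b, bᶜ}
      rw [ea, eb, hsmul, e]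
  · decide +kernel

/-! ### Pairs and triads -/

/-- Weight-`k` sets meeting `f` in `j` positions. -/
def meetK (k f j m : ℕ) : Bool := popc m == k && popc (f &&& m) == j

theorem gens_pairP_ok : gensFix [repP2] gens_pairP := by decide +kernel

theorem orb_pairP_ok : (orb_pairP_1.valid gens_pairP (meetK 2 repP2 1) 44 &&
    orb_pairP_0.valid gens_pairP (meetK 2 repP2 0) 231) = true := by decide +kernel

theorem count_pairP : (List.all [(1, 44), (0, 231)] fun e =>
    distinctB 24 ((genK 24 2).filter fun m => meetK 2 repP2 e.1 m) &&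
      decide (((genK 24 2).filter fun m => meetK 2 repP2 e.1 m).length = e.2)) = true := by
  decide +kernel

theorem genK_lt : (List.all [2, 3] fun k => (genK 24 k).all fun m => decide (m < 2 ^ 24)) = true := by
  decide +kernel

theorem repP2_lt : repP2 < 2 ^ 24 := by decide +kernel

theorem repP2_supp : supp repP2 = (Finset.univ : Finset (Fin 2)).image fun i => pt (bpt i.val) := by
  decide +kernel

theorem meetK_set (k j : ℕ) {f : ℕ} (hf : f < 2 ^ 24) (s : Finset GolayPt) :
    (s.card = k ∧ (supp f ∩ s).card = j) ↔ meetK k f j (maskF s) = true := by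
  rw [card_eq_popc s, popc_inter, maskF_supp hf]
  simp [meetK]

theorem pair_count (s : Finset GolayPt) (hs : s.card = 2) :
    ∀ e ∈ [(1, 44), (0, 231)], {t : Finset GolayPt | t.card = 2 ∧ (s ∩ t).card = e.1}.ncard = e.2 := by
  intro e he
  obtain ⟨σ, hσ, h⟩ := exists_map_set s (by norm_num) hs repP2 repP2_supp
  rw [ncard_transport σ, ← h]
  simp only [Finset.card_smul_finset, card_smul_inter]
  refine ncard_filter_masks (fun m hm => of_decide_eq_true (List.all_eq_true.mp
    (List.all_eq_true.mp genK_lt 2 (by simp)) m hm)) (List.all_eq_true.mp count_pairP e he) fun t => ?_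
  show _ ∧ _ ↔ _
  rw [meetK_set 2 e.1 repP2_lt]
  exact ⟨fun ht => ⟨maskF_mem_genK ((meetK_set 2 e.1 repP2_lt t).mpr ht).1, ht⟩, fun ht => ht.2⟩

theorem maximal_pair {s : Finset GolayPt} (hs : s.card = 2) :
    IsCoatom (MulAction.stabilizer M24 s) := by
  have horb : MulAction.orbit M24 s = {t : Finset GolayPt | t.card = 2} := by
    ext t
    refine ⟨fun ⟨g, hg⟩ => hg ▸ (Finset.card_smul_finset _ _).trans hs, fun ht => ?_⟩
    obtain ⟨σ, hσ, h⟩ := exists_map_set s (by norm_num) hs repP2 repP2_supp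
    obtain ⟨τ, hτ, h'⟩ := exists_map_set t (by norm_num) ht repP2 repP2_supp
    exact exists_M24 (g := τ * σ⁻¹) (mul_mem hτ (inv_mem hσ)) (by rw [mul_smul, ← h, inv_smul_smul, h'])
  have hle : ∀ t : Finset GolayPt, t.card = 2 → t ≠ s → (s ∩ t).card = 0 ∨ (s ∩ t).card = 1 := by
    intro t ht hne
    have h1 : (s ∩ t).card ≤ 2 := hs ▸ Finset.card_le_card Finset.inter_subset_left
    have h2 : (s ∩ t).card ≠ 2 := fun h => hne (octad_eq_of_meet hs ht h).symm
    omega
  refine coatom_of_classes s (fun t => if (s ∩ t).card = 1 then (0 : Fin 2) else 1) ![44, 231]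
    (by norm_num) (by decide) ?_ ?_ ?_
  · intro i
    rw [horb]
    fin_cases i
    · rw [show ![44, 231] (⟨0, by norm_num⟩ : Fin 2) = (1, 44).2 from rfl, ← pair_count s hs (1, 44) (by simp)]
      congr 1; ext t
      simp only [Set.mem_ofPred_eq]
      constructor
      · rintro ⟨ht, hne, e⟩
        refine ⟨ht, ?_⟩
        rcases hle t ht hne with h | h <;> simp [h] at e ⊢
      · rintro ⟨ht, e⟩
        exact ⟨ht, fun h => by rw [h, Finset.inter_self] at e; omega, by simp [e]⟩
    · rw [show ![44, 231] (⟨1, by norm_num⟩ : Fin 2) = (0, 231).2 from rfl, ← pair_count s hs (0, 231) (by simp)]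
      congr 1; ext t
      simp only [Set.mem_ofPred_eq]
      constructor
      · rintro ⟨ht, hne, e⟩
        refine ⟨ht, ?_⟩
        rcases hle t ht hne with h | h <;> simp [h] at e ⊢
      · rintro ⟨ht, e⟩
        exact ⟨ht, fun h => by rw [h, Finset.inter_self] at e; omega, by simp [e]⟩
  · intro a ha b hb hao hbo hab
    rw [horb] at ha hb
    obtain ⟨σ, hσ, h⟩ := exists_map_set s (by norm_num) hs repP2 repP2_supp
    have hv := orb_pairP_ok
    simp only [Bool.and_eq_true] at hv
    have main : ∀ (j n : ℕ) (c : Orb), (j, n) ∈ [(1, 44), (0, 231)] →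
        c.valid gens_pairP (meetK 2 repP2 j) n = true → (s ∩ a).card = j → (s ∩ b).card = j →
        ∃ g ∈ MulAction.stabilizer M24 s, g • a = b := by
      intro j n c hj hc haj hbj
      obtain ⟨g, hg, hgf, e⟩ := trans_any hσ gens_pairP_ok hc
        {t : Finset GolayPt | t.card = 2 ∧ (supp repP2 ∩ t).card = j}
        {t : Finset GolayPt | t.card = 2 ∧ (s ∩ t).card = j}
        (fun m hm hp => (meetK_set 2 j repP2_lt _).mpr (by rw [maskF_supp hm]; exact hp))
        (by
          have hc2 : (supp repP2).card = 2 := by decide +kernel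
          exact pair_count (supp repP2) hc2 (j, n) hj)
        (fun x hx => ⟨(Finset.card_smul_finset _ _).trans hx.1, by
          rw [← card_smul_inter σ, h, smul_inv_smul]; exact hx.2⟩) ⟨ha, haj⟩ ⟨hb, hbj⟩
      exact ⟨⟨g, hg⟩, by have := hgf repP2 List.mem_cons_self; rwa [h] at this, e⟩
    rcases hle a ha hao with h1 | h1 <;> rcases hle b hb hbo with h2 | h2 <;> simp [h1, h2] at hab
    · exact main 0 231 orb_pairP_0 (by simp) hv.2 h1 h2
    · exact main 1 44 orb_pairP_1 (by simp) hv.1 h1 h2
  · decide +kernel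

end Cfsg.Agent.Golay
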