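import Cfsg.Agent.Lib.Golay.Classes
import Cfsg.Agent.Lib.Golay.OrbMore

/-!
The two-point stabiliser in the automorphism group of the length-24 code has no subgroup of
index 56 or 210: normalisers of subgroups of orders eleven and five, and generation by three elements.
-/

set_option autoImplicit false
set_option maxRecDepth 100000

namespace Cfsg.Agent.Golay.NoIndex22

open Cfsg Cfsg.Agent.Golay
open scoped Pointwise

/-- A generator. -/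
def tabA : Tab := ([0, 16, 3, 7, 13, 18, 12, 20, 11, 15, 4, 5, 8, 21, 1, 10, 19, 9, 22, 6, 17, 2, 14, 23], [0, 14, 21, 2, 10, 11, 19, 3, 12, 17, 15, 8, 6, 4, 22, 9, 1, 20, 5, 16, 7, 13, 18, 23])

/-- A generator. -/
def tabB : Tab := ([0, 1, 9, 13, 17, 11, 16, 7, 22, 20, 2, 19, 8, 4, 5, 10, 12, 21, 14, 18, 15, 3, 6, 23], [0, 1, 10, 21, 13, 14, 22, 7, 12, 2, 15, 5, 16, 3, 18, 20, 6, 4, 19, 11, 9, 17, 8, 23])

/-- A generator. -/
def tabT : Tab := ([0, 7, 5, 3, 13, 20, 8, 1, 12, 18, 19, 2, 22, 17, 10, 14, 16, 21, 9, 15, 11, 4, 6, 23], [0, 7, 11, 3, 21, 2, 22, 1, 6, 18, 14, 20, 8, 4, 15, 19, 16, 13, 9, 10, 5, 17, 12, 23])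

/-- The normaliser of the subgroup of order eleven. -/
def norEleven : List Tab := [([0, 1, 2, 3, 4, 5, 6, 7, 8, 9, 10, 11, 12, 13, 14, 15, 16, 17, 18, 19, 20, 21, 22, 23], [0, 1, 2, 3, 4, 5, 6, 7, 8, 9, 10, 11, 12, 13, 14, 15, 16, 17, 18, 19, 20, 21, 22, 23]),
  ([0, 1, 9, 13, 17, 11, 16, 7, 22, 20, 2, 19, 8, 4, 5, 10, 12, 21, 14, 18, 15, 3, 6, 23], [0, 1, 10, 21, 13, 14, 22, 7, 12, 2, 15, 5, 16, 3, 18, 20, 6, 4, 19, 11, 9, 17, 8, 23]),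
  ([0, 1, 10, 21, 13, 14, 22, 7, 12, 2, 15, 5, 16, 3, 18, 20, 6, 4, 19, 11, 9, 17, 8, 23], [0, 1, 9, 13, 17, 11, 16, 7, 22, 20, 2, 19, 8, 4, 5, 10, 12, 21, 14, 18, 15, 3, 6, 23]),
  ([0, 1, 15, 17, 3, 18, 8, 7, 16, 10, 20, 14, 6, 21, 19, 9, 22, 13, 11, 5, 2, 4, 12, 23], [0, 1, 20, 4, 21, 19, 12, 7, 6, 15, 9, 18, 22, 17, 11, 2, 8, 3, 5, 14, 10, 13, 16, 23]),
  ([0, 1, 20, 4, 21, 19, 12, 7, 6, 15, 9, 18, 22, 17, 11, 2, 8, 3, 5, 14, 10, 13, 16, 23], [0, 1, 15, 17, 3, 18, 8, 7, 16, 10, 20, 14, 6, 21, 19, 9, 22, 13, 11, 5, 2, 4, 12, 23]),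
  ([0, 5, 3, 9, 2, 19, 18, 13, 8, 21, 10, 22, 16, 17, 6, 20, 1, 15, 11, 12, 7, 4, 14, 23], [0, 16, 4, 2, 21, 1, 14, 20, 8, 3, 10, 18, 19, 7, 22, 17, 12, 13, 6, 5, 15, 9, 11, 23]),
  ([0, 5, 10, 4, 17, 6, 14, 13, 16, 3, 20, 19, 1, 9, 11, 7, 18, 2, 12, 22, 21, 15, 8, 23], [0, 12, 17, 9, 3, 1, 5, 15, 22, 13, 2, 14, 18, 7, 6, 21, 8, 4, 16, 11, 10, 20, 19, 23]),
  ([0, 5, 21, 17, 15, 22, 1, 13, 14, 7, 3, 12, 8, 2, 19, 10, 16, 4, 6, 11, 20, 9, 18, 23], [0, 6, 13, 10, 17, 1, 18, 9, 12, 21, 15, 19, 11, 7, 8, 4, 16, 3, 22, 14, 20, 2, 5, 23]),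
  ([0, 5, 7, 2, 4, 12, 16, 13, 18, 20, 21, 11, 14, 15, 22, 3, 8, 9, 19, 6, 10, 17, 1, 23], [0, 22, 3, 15, 4, 1, 19, 2, 16, 17, 20, 11, 5, 7, 12, 13, 6, 21, 8, 18, 9, 10, 14, 23]),
  ([0, 5, 20, 15, 9, 11, 8, 13, 1, 10, 7, 6, 18, 4, 12, 21, 14, 17, 22, 19, 3, 2, 16, 23], [0, 8, 21, 20, 13, 1, 11, 10, 6, 4, 9, 5, 14, 7, 16, 3, 22, 17, 12, 19, 2, 15, 18, 23]),
  ([0, 6, 4, 3, 10, 22, 12, 9, 16, 15, 20, 8, 18, 2, 14, 21, 5, 7, 19, 1, 13, 17, 11, 23], [0, 19, 13, 3, 2, 16, 1, 17, 11, 7, 4, 22, 6, 20, 14, 9, 8, 21, 12, 18, 10, 15, 5, 23]),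
  ([0, 6, 13, 10, 17, 1, 18, 9, 12, 21, 15, 19, 11, 7, 8, 4, 16, 3, 22, 14, 20, 2, 5, 23], [0, 5, 21, 17, 15, 22, 1, 13, 14, 7, 3, 12, 8, 2, 19, 10, 16, 4, 6, 11, 20, 9, 18, 23]),
  ([0, 6, 20, 17, 2, 14, 11, 9, 18, 4, 21, 22, 5, 3, 19, 13, 12, 10, 1, 8, 15, 7, 16, 23], [0, 18, 4, 13, 9, 12, 1, 21, 19, 7, 17, 6, 16, 15, 5, 20, 22, 3, 8, 14, 2, 10, 11, 23]),
  ([0, 6, 15, 2, 7, 8, 5, 9, 11, 13, 4, 1, 16, 10, 22, 20, 18, 17, 14, 19, 21, 3, 12, 23], [0, 11, 3, 21, 10, 6, 1, 4, 5, 7, 13, 8, 22, 9, 18, 2, 12, 17, 16, 19, 15, 20, 14, 23]),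
  ([0, 6, 21, 7, 3, 19, 16, 9, 5, 20, 13, 14, 12, 17, 1, 15, 11, 2, 8, 22, 4, 10, 18, 23], [0, 14, 17, 4, 20, 8, 1, 3, 18, 7, 21, 16, 12, 10, 11, 15, 6, 13, 22, 5, 9, 2, 19, 23]),
  ([0, 8, 21, 20, 13, 1, 11, 10, 6, 4, 9, 5, 14, 7, 16, 3, 22, 17, 12, 19, 2, 15, 18, 23], [0, 5, 20, 15, 9, 11, 8, 13, 1, 10, 7, 6, 18, 4, 12, 21, 14, 17, 22, 19, 3, 2, 16, 23]),
  ([0, 8, 2, 13, 15, 19, 14, 10, 11, 3, 4, 12, 18, 17, 5, 21, 6, 20, 1, 16, 9, 7, 22, 23], [0, 18, 2, 9, 10, 14, 16, 21, 1, 20, 7, 8, 11, 3, 6, 4, 19, 13, 12, 5, 17, 15, 22, 23]),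
  ([0, 8, 4, 7, 17, 5, 22, 10, 18, 2, 21, 19, 6, 13, 1, 9, 14, 15, 16, 12, 3, 20, 11, 23], [0, 14, 9, 20, 2, 5, 12, 3, 1, 15, 7, 22, 19, 13, 16, 17, 18, 4, 8, 11, 21, 10, 6, 23]),
  ([0, 8, 3, 17, 20, 12, 6, 10, 22, 9, 2, 16, 11, 15, 19, 4, 18, 7, 5, 1, 21, 13, 14, 23], [0, 19, 10, 2, 15, 18, 6, 17, 1, 9, 7, 12, 5, 21, 22, 13, 11, 3, 16, 14, 4, 20, 8, 23]),
  ([0, 8, 9, 15, 7, 16, 18, 10, 14, 21, 3, 1, 22, 20, 12, 2, 11, 13, 19, 5, 4, 17, 6, 23], [0, 11, 15, 10, 20, 19, 22, 4, 1, 2, 7, 16, 14, 17, 8, 3, 5, 21, 6, 18, 13, 9, 12, 23]),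
  ([0, 11, 7, 9, 17, 8, 12, 4, 14, 15, 3, 19, 5, 10, 6, 13, 22, 20, 18, 16, 2, 21, 1, 23], [0, 22, 20, 10, 7, 12, 14, 2, 5, 3, 13, 1, 6, 15, 8, 9, 19, 4, 18, 11, 17, 21, 16, 23]),
  ([0, 11, 3, 21, 10, 6, 1, 4, 5, 7, 13, 8, 22, 9, 18, 2, 12, 17, 16, 19, 15, 20, 14, 23], [0, 6, 15, 2, 7, 8, 5, 9, 11, 13, 4, 1, 16, 10, 22, 20, 18, 17, 14, 19, 21, 3, 12, 23]),
  ([0, 11, 13, 20, 9, 18, 14, 4, 22, 3, 2, 6, 12, 21, 16, 15, 1, 10, 19, 8, 7, 17, 5, 23], [0, 16, 10, 9, 7, 22, 11, 20, 19, 4, 17, 1, 12, 2, 6, 15, 14, 21, 5, 18, 3, 13, 8, 23]),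
  ([0, 11, 15, 10, 20, 19, 22, 4, 1, 2, 7, 16, 14, 17, 8, 3, 5, 21, 6, 18, 13, 9, 12, 23], [0, 8, 9, 15, 7, 16, 18, 10, 14, 21, 3, 1, 22, 20, 12, 2, 11, 13, 19, 5, 4, 17, 6, 23]),
  ([0, 11, 2, 17, 21, 16, 5, 4, 12, 13, 15, 18, 1, 20, 19, 7, 14, 9, 8, 6, 3, 10, 22, 23], [0, 12, 2, 20, 7, 6, 19, 15, 18, 17, 21, 1, 8, 9, 16, 10, 5, 3, 11, 14, 13, 4, 22, 23]),
  ([0, 12, 2, 20, 7, 6, 19, 15, 18, 17, 21, 1, 8, 9, 16, 10, 5, 3, 11, 14, 13, 4, 22, 23], [0, 11, 2, 17, 21, 16, 5, 4, 12, 13, 15, 18, 1, 20, 19, 7, 14, 9, 8, 6, 3, 10, 22, 23]),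
  ([0, 12, 17, 9, 3, 1, 5, 15, 22, 13, 2, 14, 18, 7, 6, 21, 8, 4, 16, 11, 10, 20, 19, 23], [0, 5, 10, 4, 17, 6, 14, 13, 16, 3, 20, 19, 1, 9, 11, 7, 18, 2, 12, 22, 21, 15, 8, 23]),
  ([0, 12, 13, 7, 4, 14, 8, 15, 19, 10, 17, 11, 22, 3, 1, 2, 18, 20, 6, 16, 21, 9, 5, 23], [0, 14, 15, 13, 4, 22, 18, 3, 6, 21, 9, 11, 1, 2, 5, 7, 19, 10, 16, 8, 17, 20, 12, 23]),
  ([0, 12, 21, 4, 9, 16, 22, 15, 8, 2, 10, 6, 5, 20, 11, 13, 19, 7, 14, 1, 17, 3, 18, 23], [0, 19, 9, 21, 3, 12, 11, 17, 8, 4, 10, 14, 1, 15, 18, 7, 5, 20, 22, 16, 13, 2, 6, 23]),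
  ([0, 12, 10, 3, 20, 11, 18, 15, 5, 21, 13, 16, 19, 4, 14, 17, 22, 9, 1, 6, 2, 7, 8, 23], [0, 18, 20, 3, 13, 8, 19, 21, 22, 17, 2, 5, 1, 10, 14, 7, 11, 15, 6, 12, 4, 9, 16, 23]),
  ([0, 14, 15, 13, 4, 22, 18, 3, 6, 21, 9, 11, 1, 2, 5, 7, 19, 10, 16, 8, 17, 20, 12, 23], [0, 12, 13, 7, 4, 14, 8, 15, 19, 10, 17, 11, 22, 3, 1, 2, 18, 20, 6, 16, 21, 9, 5, 23]),
  ([0, 14, 7, 10, 13, 16, 6, 3, 19, 9, 17, 5, 18, 20, 8, 21, 12, 2, 11, 22, 15, 4, 1, 23], [0, 22, 17, 7, 21, 11, 6, 2, 14, 9, 3, 18, 16, 4, 1, 20, 5, 10, 12, 8, 13, 15, 19, 23]),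
  ([0, 14, 9, 20, 2, 5, 12, 3, 1, 15, 7, 22, 19, 13, 16, 17, 18, 4, 8, 11, 21, 10, 6, 23], [0, 8, 4, 7, 17, 5, 22, 10, 18, 2, 21, 19, 6, 13, 1, 9, 14, 15, 16, 12, 3, 20, 11, 23]),
  ([0, 14, 17, 4, 20, 8, 1, 3, 18, 7, 21, 16, 12, 10, 11, 15, 6, 13, 22, 5, 9, 2, 19, 23], [0, 6, 21, 7, 3, 19, 16, 9, 5, 20, 13, 14, 12, 17, 1, 15, 11, 2, 8, 22, 4, 10, 18, 23]),
  ([0, 14, 21, 2, 10, 11, 19, 3, 12, 17, 15, 8, 6, 4, 22, 9, 1, 20, 5, 16, 7, 13, 18, 23], [0, 16, 3, 7, 13, 18, 12, 20, 11, 15, 4, 5, 8, 21, 1, 10, 19, 9, 22, 6, 17, 2, 14, 23]),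
  ([0, 16, 17, 13, 2, 6, 8, 20, 12, 10, 15, 22, 14, 9, 5, 3, 11, 7, 18, 1, 4, 21, 19, 23], [0, 19, 4, 15, 20, 14, 5, 17, 6, 13, 9, 16, 8, 3, 12, 10, 1, 2, 18, 22, 7, 21, 11, 23]),
  ([0, 16, 10, 9, 7, 22, 11, 20, 19, 4, 17, 1, 12, 2, 6, 15, 14, 21, 5, 18, 3, 13, 8, 23], [0, 11, 13, 20, 9, 18, 14, 4, 22, 3, 2, 6, 12, 21, 16, 15, 1, 10, 19, 8, 7, 17, 5, 23]),
  ([0, 16, 4, 2, 21, 1, 14, 20, 8, 3, 10, 18, 19, 7, 22, 17, 12, 13, 6, 5, 15, 9, 11, 23], [0, 5, 3, 9, 2, 19, 18, 13, 8, 21, 10, 22, 16, 17, 6, 20, 1, 15, 11, 12, 7, 4, 14, 23]),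
  ([0, 16, 15, 21, 9, 5, 19, 20, 14, 17, 3, 6, 11, 13, 18, 4, 8, 2, 1, 22, 10, 7, 12, 23], [0, 18, 17, 10, 15, 5, 11, 21, 16, 4, 20, 12, 22, 13, 8, 2, 1, 9, 14, 6, 7, 3, 19, 23]),
  ([0, 16, 3, 7, 13, 18, 12, 20, 11, 15, 4, 5, 8, 21, 1, 10, 19, 9, 22, 6, 17, 2, 14, 23], [0, 14, 21, 2, 10, 11, 19, 3, 12, 17, 15, 8, 6, 4, 22, 9, 1, 20, 5, 16, 7, 13, 18, 23]),
  ([0, 18, 2, 9, 10, 14, 16, 21, 1, 20, 7, 8, 11, 3, 6, 4, 19, 13, 12, 5, 17, 15, 22, 23], [0, 8, 2, 13, 15, 19, 14, 10, 11, 3, 4, 12, 18, 17, 5, 21, 6, 20, 1, 16, 9, 7, 22, 23]),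
  ([0, 18, 7, 15, 3, 6, 22, 21, 11, 2, 4, 14, 19, 9, 12, 17, 16, 10, 5, 8, 20, 13, 1, 23], [0, 22, 9, 4, 10, 18, 5, 2, 19, 13, 17, 8, 14, 21, 11, 3, 16, 15, 1, 12, 20, 7, 6, 23]),
  ([0, 18, 17, 10, 15, 5, 11, 21, 16, 4, 20, 12, 22, 13, 8, 2, 1, 9, 14, 6, 7, 3, 19, 23], [0, 16, 15, 21, 9, 5, 19, 20, 14, 17, 3, 6, 11, 13, 18, 4, 8, 2, 1, 22, 10, 7, 12, 23]),
  ([0, 18, 4, 13, 9, 12, 1, 21, 19, 7, 17, 6, 16, 15, 5, 20, 22, 3, 8, 14, 2, 10, 11, 23], [0, 6, 20, 17, 2, 14, 11, 9, 18, 4, 21, 22, 5, 3, 19, 13, 12, 10, 1, 8, 15, 7, 16, 23]),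
  ([0, 18, 20, 3, 13, 8, 19, 21, 22, 17, 2, 5, 1, 10, 14, 7, 11, 15, 6, 12, 4, 9, 16, 23], [0, 12, 10, 3, 20, 11, 18, 15, 5, 21, 13, 16, 19, 4, 14, 17, 22, 9, 1, 6, 2, 7, 8, 23]),
  ([0, 19, 10, 2, 15, 18, 6, 17, 1, 9, 7, 12, 5, 21, 22, 13, 11, 3, 16, 14, 4, 20, 8, 23], [0, 8, 3, 17, 20, 12, 6, 10, 22, 9, 2, 16, 11, 15, 19, 4, 18, 7, 5, 1, 21, 13, 14, 23]),
  ([0, 19, 7, 20, 21, 22, 8, 17, 5, 10, 13, 18, 11, 2, 16, 4, 6, 15, 14, 12, 9, 3, 1, 23], [0, 22, 13, 21, 15, 8, 16, 2, 6, 20, 9, 12, 19, 10, 18, 17, 14, 7, 11, 1, 3, 4, 5, 23]),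
  ([0, 19, 13, 3, 2, 16, 1, 17, 11, 7, 4, 22, 6, 20, 14, 9, 8, 21, 12, 18, 10, 15, 5, 23], [0, 6, 4, 3, 10, 22, 12, 9, 16, 15, 20, 8, 18, 2, 14, 21, 5, 7, 19, 1, 13, 17, 11, 23]),
  ([0, 19, 9, 21, 3, 12, 11, 17, 8, 4, 10, 14, 1, 15, 18, 7, 5, 20, 22, 16, 13, 2, 6, 23], [0, 12, 21, 4, 9, 16, 22, 15, 8, 2, 10, 6, 5, 20, 11, 13, 19, 7, 14, 1, 17, 3, 18, 23]),
  ([0, 19, 4, 15, 20, 14, 5, 17, 6, 13, 9, 16, 8, 3, 12, 10, 1, 2, 18, 22, 7, 21, 11, 23], [0, 16, 17, 13, 2, 6, 8, 20, 12, 10, 15, 22, 14, 9, 5, 3, 11, 7, 18, 1, 4, 21, 19, 23]),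
  ([0, 22, 13, 21, 15, 8, 16, 2, 6, 20, 9, 12, 19, 10, 18, 17, 14, 7, 11, 1, 3, 4, 5, 23], [0, 19, 7, 20, 21, 22, 8, 17, 5, 10, 13, 18, 11, 2, 16, 4, 6, 15, 14, 12, 9, 3, 1, 23]),
  ([0, 22, 9, 4, 10, 18, 5, 2, 19, 13, 17, 8, 14, 21, 11, 3, 16, 15, 1, 12, 20, 7, 6, 23], [0, 18, 7, 15, 3, 6, 22, 21, 11, 2, 4, 14, 19, 9, 12, 17, 16, 10, 5, 8, 20, 13, 1, 23]),
  ([0, 22, 17, 7, 21, 11, 6, 2, 14, 9, 3, 18, 16, 4, 1, 20, 5, 10, 12, 8, 13, 15, 19, 23], [0, 14, 7, 10, 13, 16, 6, 3, 19, 9, 17, 5, 18, 20, 8, 21, 12, 2, 11, 22, 15, 4, 1, 23]),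
  ([0, 22, 20, 10, 7, 12, 14, 2, 5, 3, 13, 1, 6, 15, 8, 9, 19, 4, 18, 11, 17, 21, 16, 23], [0, 11, 7, 9, 17, 8, 12, 4, 14, 15, 3, 19, 5, 10, 6, 13, 22, 20, 18, 16, 2, 21, 1, 23]),
  ([0, 22, 3, 15, 4, 1, 19, 2, 16, 17, 20, 11, 5, 7, 12, 13, 6, 21, 8, 18, 9, 10, 14, 23], [0, 5, 7, 2, 4, 12, 16, 13, 18, 20, 21, 11, 14, 15, 22, 3, 8, 9, 19, 6, 10, 17, 1, 23])]

/-- The normaliser of the subgroup of order five. -/
def norFive : List Tab := [([0, 1, 2, 3, 4, 5, 6, 7, 8, 9, 10, 11, 12, 13, 14, 15, 16, 17, 18, 19, 20, 21, 22, 23], [0, 1, 2, 3, 4, 5, 6, 7, 8, 9, 10, 11, 12, 13, 14, 15, 16, 17, 18, 19, 20, 21, 22, 23]),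
  ([0, 1, 2, 17, 13, 14, 6, 7, 12, 10, 9, 18, 8, 4, 5, 20, 22, 3, 11, 19, 15, 21, 16, 23], [0, 1, 2, 17, 13, 14, 6, 7, 12, 10, 9, 18, 8, 4, 5, 20, 22, 3, 11, 19, 15, 21, 16, 23]),
  ([0, 1, 9, 13, 17, 11, 16, 7, 22, 20, 2, 19, 8, 4, 5, 10, 12, 21, 14, 18, 15, 3, 6, 23], [0, 1, 10, 21, 13, 14, 22, 7, 12, 2, 15, 5, 16, 3, 18, 20, 6, 4, 19, 11, 9, 17, 8, 23]),
  ([0, 1, 9, 21, 4, 5, 16, 7, 8, 2, 20, 14, 22, 17, 11, 15, 6, 13, 19, 18, 10, 3, 12, 23], [0, 1, 9, 21, 4, 5, 16, 7, 8, 2, 20, 14, 22, 17, 11, 15, 6, 13, 19, 18, 10, 3, 12, 23]),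
  ([0, 1, 10, 4, 3, 18, 22, 7, 16, 15, 2, 19, 12, 13, 14, 9, 8, 21, 5, 11, 20, 17, 6, 23], [0, 1, 10, 4, 3, 18, 22, 7, 16, 15, 2, 19, 12, 13, 14, 9, 8, 21, 5, 11, 20, 17, 6, 23]),
  ([0, 1, 10, 21, 13, 14, 22, 7, 12, 2, 15, 5, 16, 3, 18, 20, 6, 4, 19, 11, 9, 17, 8, 23], [0, 1, 9, 13, 17, 11, 16, 7, 22, 20, 2, 19, 8, 4, 5, 10, 12, 21, 14, 18, 15, 3, 6, 23]),
  ([0, 1, 15, 13, 21, 19, 8, 7, 6, 20, 10, 11, 16, 3, 18, 2, 12, 17, 14, 5, 9, 4, 22, 23], [0, 1, 15, 13, 21, 19, 8, 7, 6, 20, 10, 11, 16, 3, 18, 2, 12, 17, 14, 5, 9, 4, 22, 23]),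
  ([0, 1, 15, 17, 3, 18, 8, 7, 16, 10, 20, 14, 6, 21, 19, 9, 22, 13, 11, 5, 2, 4, 12, 23], [0, 1, 20, 4, 21, 19, 12, 7, 6, 15, 9, 18, 22, 17, 11, 2, 8, 3, 5, 14, 10, 13, 16, 23]),
  ([0, 1, 20, 4, 21, 19, 12, 7, 6, 15, 9, 18, 22, 17, 11, 2, 8, 3, 5, 14, 10, 13, 16, 23], [0, 1, 15, 17, 3, 18, 8, 7, 16, 10, 20, 14, 6, 21, 19, 9, 22, 13, 11, 5, 2, 4, 12, 23]),
  ([0, 1, 20, 3, 17, 11, 12, 7, 22, 9, 15, 5, 6, 21, 19, 10, 16, 4, 18, 14, 2, 13, 8, 23], [0, 1, 20, 3, 17, 11, 12, 7, 22, 9, 15, 5, 6, 21, 19, 10, 16, 4, 18, 14, 2, 13, 8, 23]),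
  ([0, 7, 5, 3, 13, 20, 8, 1, 12, 18, 19, 2, 22, 17, 10, 14, 16, 21, 9, 15, 11, 4, 6, 23], [0, 7, 11, 3, 21, 2, 22, 1, 6, 18, 14, 20, 8, 4, 15, 19, 16, 13, 9, 10, 5, 17, 12, 23]),
  ([0, 7, 5, 21, 17, 10, 8, 1, 22, 19, 18, 9, 12, 13, 20, 11, 6, 3, 2, 15, 14, 4, 16, 23], [0, 7, 18, 17, 21, 2, 16, 1, 6, 11, 5, 15, 12, 13, 20, 19, 22, 4, 10, 9, 14, 3, 8, 23]),
  ([0, 7, 14, 21, 3, 9, 12, 1, 16, 19, 11, 10, 8, 4, 15, 18, 6, 17, 2, 20, 5, 13, 22, 23], [0, 7, 18, 4, 13, 20, 16, 1, 12, 5, 11, 10, 6, 21, 2, 14, 8, 17, 15, 9, 19, 3, 22, 23]),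
  ([0, 7, 14, 17, 4, 15, 12, 1, 8, 11, 19, 2, 16, 3, 9, 5, 22, 21, 10, 20, 18, 13, 6, 23], [0, 7, 11, 13, 4, 15, 22, 1, 8, 14, 18, 9, 6, 21, 2, 5, 12, 3, 20, 10, 19, 17, 16, 23]),
  ([0, 7, 19, 13, 3, 9, 6, 1, 16, 14, 5, 15, 22, 17, 10, 18, 12, 4, 20, 2, 11, 21, 8, 23], [0, 7, 19, 4, 17, 10, 6, 1, 22, 5, 14, 20, 16, 3, 9, 11, 8, 13, 15, 2, 18, 21, 12, 23]),
  ([0, 7, 19, 4, 17, 10, 6, 1, 22, 5, 14, 20, 16, 3, 9, 11, 8, 13, 15, 2, 18, 21, 12, 23], [0, 7, 19, 13, 3, 9, 6, 1, 16, 14, 5, 15, 22, 17, 10, 18, 12, 4, 20, 2, 11, 21, 8, 23]),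
  ([0, 7, 11, 3, 21, 2, 22, 1, 6, 18, 14, 20, 8, 4, 15, 19, 16, 13, 9, 10, 5, 17, 12, 23], [0, 7, 5, 3, 13, 20, 8, 1, 12, 18, 19, 2, 22, 17, 10, 14, 16, 21, 9, 15, 11, 4, 6, 23]),
  ([0, 7, 11, 13, 4, 15, 22, 1, 8, 14, 18, 9, 6, 21, 2, 5, 12, 3, 20, 10, 19, 17, 16, 23], [0, 7, 14, 17, 4, 15, 12, 1, 8, 11, 19, 2, 16, 3, 9, 5, 22, 21, 10, 20, 18, 13, 6, 23]),
  ([0, 7, 18, 4, 13, 20, 16, 1, 12, 5, 11, 10, 6, 21, 2, 14, 8, 17, 15, 9, 19, 3, 22, 23], [0, 7, 14, 21, 3, 9, 12, 1, 16, 19, 11, 10, 8, 4, 15, 18, 6, 17, 2, 20, 5, 13, 22, 23]),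
  ([0, 7, 18, 17, 21, 2, 16, 1, 6, 11, 5, 15, 12, 13, 20, 19, 22, 4, 10, 9, 14, 3, 8, 23], [0, 7, 5, 21, 17, 10, 8, 1, 22, 19, 18, 9, 12, 13, 20, 11, 6, 3, 2, 15, 14, 4, 16, 23])]

/-- Blocking words for the candidates at eleven. -/
def witEleven : List ℕ := [0, 0, 13062145, 13062145, 13062145, 0, 0, 13062145, 0, 13062145, 13062145, 0, 0, 13062145, 0, 13062145, 0, 13062145, 0, 0, 13062145, 13062145, 0, 0, 0, 13062145, 806987, 806987, 806987, 13062145, 13062145, 806987, 13062145, 806987, 806987, 13062145, 13062145, 806987, 13062145, 806987, 13062145, 806987, 13062145, 13062145, 806987, 806987, 13062145, 0, 0, 0, 13062145, 13062145, 13062145, 0, 0, 13062145, 0, 13062145, 13062145, 0, 0, 13062145, 0, 13062145, 0, 13062145, 0, 0, 13062145, 13062145, 0, 0, 0, 0, 13062145, 13062145, 13062145, 0, 0, 13062145, 0, 13062145, 13062145, 0, 0, 13062145, 0, 13062145, 0, 13062145,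 0, 0, 13062145, 13062145, 0, 0, 0, 0, 13062145, 13062145, 13062145, 0, 0, 13062145, 0, 13062145, 13062145, 0, 0, 13062145, 0, 13062145, 0, 13062145, 0, 0, 13062145, 13062145, 0, 0, 0, 13062145, 806987, 806987, 806987, 13062145, 13062145, 806987, 13062145, 806987, 806987, 13062145, 13062145, 806987, 13062145, 806987, 13062145, 806987, 13062145, 13062145, 806987, 806987, 13062145, 0, 0, 13062145, 806987, 806987, 806987, 13062145, 13062145, 806987, 13062145, 806987, 806987, 13062145, 13062145, 806987, 13062145, 806987, 13062145, 806987, 13062145, 13062145, 806987, 806987, 13062145, 0, 0, 13062145, 806987, 806987, 806987, 13062145, 13062145, 806987, 13062145, 806987, 806987, 13062145, 13062145, 806987, 13062145, 806987, 13062145, 806987, 13062145, 13062145, 806987, 806987, 13062145, 0, 0, 0, 13062145, 13062145, 13062145, 0, 0, 13062145, 0, 13062145, 13062145, 0, 0,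 13062145, 0, 13062145, 0, 13062145, 0, 0, 13062145, 13062145, 0, 0, 0, 13062145, 806987, 806987, 806987, 13062145, 13062145, 806987, 13062145, 806987, 806987, 13062145, 13062145, 806987, 13062145, 806987, 13062145, 806987, 13062145, 13062145, 806987, 806987, 13062145, 0]

/-- Blocking words for the candidates at five. -/
def witFive : List ℕ := [0, 0, 0, 0, 0, 9471495, 9471495, 9471495, 9471495, 9471495, 9471495, 0, 9471495, 9471495, 0, 0, 9471495, 9471495, 0, 9471495, 0, 9471495, 9471495, 0, 9471495, 9471495, 9471495, 9471495, 9471495, 0, 0, 9471495, 9471495, 9471495, 9471495, 9471495, 9471495, 0, 9471495, 0, 0, 9471495, 9471495, 9471495, 9471495, 9471495, 0, 0, 0, 0, 0, 0, 0, 9471495, 9471495, 9471495, 9471495, 9471495, 9471495, 0, 9471495, 9471495, 0, 0, 9471495, 9471495, 0, 9471495, 0, 9471495, 9471495, 0, 9471495, 9471495, 9471495, 9471495, 9471495, 0, 0,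 9471495, 9471495, 9471495, 9471495, 9471495, 9471495, 0, 9471495, 0, 0, 9471495, 9471495, 9471495, 9471495, 9471495, 0, 0, 0, 0, 0, 0, 0, 9471495, 9471495, 9471495, 9471495, 9471495, 9471495, 0, 9471495, 9471495, 0, 0, 9471495, 9471495, 0, 9471495, 0, 9471495, 9471495, 0, 9471495, 9471495, 9471495, 9471495, 9471495, 0, 0, 9471495, 9471495, 9471495, 9471495, 9471495, 9471495, 0, 9471495, 0, 0, 9471495, 9471495, 9471495, 9471495, 9471495, 0, 0, 0, 0, 0, 0, 0, 9471495, 9471495, 9471495, 9471495, 9471495, 9471495, 0, 9471495, 9471495, 0, 0, 9471495, 9471495, 0, 9471495, 0, 9471495, 9471495, 0, 9471495, 9471495, 9471495, 9471495, 9471495, 0, 0, 9471495, 9471495, 9471495, 9471495, 9471495, 9471495, 0, 9471495, 0, 0, 9471495, 9471495, 9471495, 9471495, 9471495, 0, 0]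

/-- Blocking words for the refined candidates at five. -/
def witFiveB : List (List ℕ) := [[], [], [], [], [], [], [], [], [], [], [], [0, 0, 10625178, 12222476, 12222476, 0, 10625178, 0, 10625178, 10625178, 10625178, 0, 10625178, 12222476, 0, 10625178, 10625178, 12222476, 0, 0, 10625178, 12222476, 10625178, 0], [], [], [], [], [], [], [], [], [], [], [], [0, 0, 10625178, 12222476, 12222476, 0, 10625178, 0, 10625178, 10625178, 10625178, 0, 10625178, 12222476, 0, 10625178, 10625178, 12222476, 0, 0, 10625178, 12222476, 10625178, 0], [], [], [], [], [], [0, 0, 10625178, 12222476, 12222476, 0, 10625178, 0, 10625178, 10625178, 10625178, 0, 10625178, 12222476, 0, 10625178, 10625178, 12222476, 0, 0, 10625178, 12222476, 10625178, 0], [], [], [], [], [], [], [], [0, 0, 10625178, 12222476, 12222476, 0, 10625178, 0, 10625178, 10625178, 10625178, 0, 10625178, 12222476, 0,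 10625178, 10625178, 12222476, 0, 0, 10625178, 12222476, 10625178, 0], [], [0, 0, 10625178, 12222476, 12222476, 0, 10625178, 0, 10625178, 10625178, 10625178, 0, 10625178, 12222476, 0, 10625178, 10625178, 12222476, 0, 0, 10625178, 12222476, 10625178, 0], [], [], [], [], [], [], [], [], [], [], [], [], [0, 0, 0, 12222476, 12222476, 10625178, 10625178, 0, 10625178, 0, 0, 10625178, 10625178, 12222476, 10625178, 0, 10625178, 12222476, 10625178, 10625178, 0, 12222476, 10625178, 0], [], [], [], [], [], [], [], [], [], [], [], [], [], [0, 0, 0, 12222476, 12222476, 10625178, 10625178, 0, 10625178, 0, 0, 10625178, 10625178, 12222476, 10625178, 0, 10625178, 12222476, 10625178, 10625178, 0, 12222476, 10625178, 0], [], [0, 0, 0, 12222476, 12222476, 10625178, 10625178, 0, 10625178, 0, 0, 10625178, 10625178, 12222476, 10625178, 0, 10625178, 12222476, 10625178, 10625178, 0, 12222476,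 10625178, 0], [], [], [], [], [], [], [], [], [], [0, 0, 0, 12222476, 12222476, 10625178, 10625178, 0, 10625178, 0, 0, 10625178, 10625178, 12222476, 10625178, 0, 10625178, 12222476, 10625178, 10625178, 0, 12222476, 10625178, 0], [], [], [], [], [], [], [], [], [], [0, 0, 0, 12222476, 12222476, 10625178, 10625178, 0, 10625178, 0, 0, 10625178, 10625178, 12222476, 10625178, 0, 10625178, 12222476, 10625178, 10625178, 0, 12222476, 10625178, 0], [], [], [], [], [], [], [], [], [], [], [], [0, 0, 0, 12222476, 12222476, 10625178, 10625178, 0, 10625178, 0, 0, 10625178, 10625178, 12222476, 10625178, 0, 10625178, 12222476, 10625178, 10625178, 0, 12222476, 10625178, 0], [], [], [], [], [], [], [], [], [], [], [], [], [], [0, 0, 0, 12222476, 12222476, 10625178, 10625178, 0, 10625178, 0, 0, 10625178, 10625178, 12222476, 10625178, 0, 10625178, 12222476, 10625178, 10625178, 0,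 12222476, 10625178, 0], [], [0, 0, 0, 12222476, 12222476, 10625178, 10625178, 0, 10625178, 0, 0, 10625178, 10625178, 12222476, 10625178, 0, 10625178, 12222476, 10625178, 10625178, 0, 12222476, 10625178, 0], [], [], [], [], [], [], [], [], [], [0, 0, 0, 12222476, 12222476, 10625178, 10625178, 0, 10625178, 0, 0, 10625178, 10625178, 12222476, 10625178, 0, 10625178, 12222476, 10625178, 10625178, 0, 12222476, 10625178, 0], [], [], [], [], [], [], [], [], [], [0, 0, 0, 12222476, 12222476, 10625178, 10625178, 0, 10625178, 0, 0, 10625178, 10625178, 12222476, 10625178, 0, 10625178, 12222476, 10625178, 10625178, 0, 12222476, 10625178, 0], [], [], [], [], [], [], [], [], [], [], [], [], [], [], [], [], [], [], [0, 0, 10625178, 12222476, 12222476, 0, 10625178, 0, 10625178, 10625178, 10625178, 0, 10625178, 12222476, 0, 10625178, 10625178, 12222476, 0, 0, 10625178, 12222476,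 10625178, 0], [], [], [], [], [], [], [], [], [], [], [], [0, 0, 10625178, 12222476, 12222476, 0, 10625178, 0, 10625178, 10625178, 10625178, 0, 10625178, 12222476, 0, 10625178, 10625178, 12222476, 0, 0, 10625178, 12222476, 10625178, 0], [], [], [], [], [], [0, 0, 10625178, 12222476, 12222476, 0, 10625178, 0, 10625178, 10625178, 10625178, 0, 10625178, 12222476, 0, 10625178, 10625178, 12222476, 0, 0, 10625178, 12222476, 10625178, 0], [], [], [], [], [], [], [], [0, 0, 10625178, 12222476, 12222476, 0, 10625178, 0, 10625178, 10625178, 10625178, 0, 10625178, 12222476, 0, 10625178, 10625178, 12222476, 0, 0, 10625178, 12222476, 10625178, 0], [], [0, 0, 10625178, 12222476, 12222476, 0, 10625178, 0, 10625178, 10625178, 10625178, 0, 10625178, 12222476, 0, 10625178, 10625178, 12222476, 0, 0, 10625178, 12222476, 10625178, 0], [], [], [], [], [], [], [], []]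

/-- Transversal elements as words in the three generators. -/
def genWords : List (List (List (Fin 3))) := [[[], [2, 2, 2, 1, 0, 2, 0, 0, 2, 1, 2, 0, 0], [1, 2, 2, 2, 0, 2, 1, 0, 0, 2, 0, 1, 2, 1], [2, 0, 0, 0, 2, 0, 0, 1, 0, 0], [1, 0, 1, 0, 2, 0, 2, 0, 2, 2, 2, 1, 0, 1, 0], [1, 2, 0, 0, 2, 0, 0, 2, 1, 0, 2, 0], [1, 2, 0, 0, 1, 2, 0, 2, 0, 2, 0, 2, 0], [1, 0, 0, 2, 0, 2, 1, 2, 0, 2, 2, 2], [1, 0, 2, 1, 0, 0, 2, 1, 2, 0, 2], [0, 1, 0, 2, 1, 0, 2, 0, 1, 2, 2, 0, 2, 1], [1, 2, 0, 1, 2, 2, 0, 2, 2, 2, 0, 0], [0, 0, 2, 2, 2, 0, 0, 0, 2, 1, 0, 2, 2, 0, 1, 0], [1, 2, 1, 0, 2, 0, 2, 2, 2, 0, 2, 2, 0, 1], [0, 0, 0, 2, 0, 0, 2, 0, 2, 2, 1, 0, 2], [2, 1, 2, 0, 2, 2, 2, 1, 0, 2, 1, 0, 1, 2], [1, 2, 2, 0, 0, 1, 2, 0, 2, 1, 0, 0, 2, 1, 0], [2, 0, 2, 0, 2, 0, 1, 1, 0, 2, 2, 2], [0, 2, 2, 1, 2, 0, 0, 1, 2, 0, 2, 0, 0, 1, 0], [0, 0, 1, 0, 2, 0, 2, 1, 2, 0, 2, 0, 0, 1], [2, 2,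 1, 0, 2, 2, 2, 0, 0, 0, 2, 2, 2, 0, 2], [1, 0, 2, 2, 0, 0, 2, 1, 0, 2, 1, 0, 0, 2], [1, 1, 0, 0, 2, 0, 0, 2, 0, 0, 0, 2, 0, 0, 0]], [[], [2, 0, 0, 2, 1, 0, 2, 2, 0, 0, 1, 2, 0, 1, 0], [1, 1, 0, 0, 2, 0, 0, 0, 2, 2, 0], [0, 1, 0, 0, 2, 0, 0, 2, 2, 0, 1, 1, 2, 0, 0], [0, 2, 1, 2, 0, 0, 1, 2, 0, 1, 2, 0, 2, 2], [1, 0, 1, 2, 1, 0, 2, 0, 0, 2, 1], [0, 1, 1, 2, 0, 2, 2, 2, 0, 2, 1, 2, 0], [0, 0, 0, 2, 2, 1, 0, 2, 0], [0, 1, 2, 1, 0, 2, 1, 0, 1, 2, 0, 2, 0], [1, 2, 2, 0, 0, 2, 0, 0, 0, 2, 0, 1, 2, 2], [2, 1, 2, 2, 0, 2, 0, 1, 0, 2, 0, 2, 0, 1], [2, 1, 0, 1, 2, 2, 0, 0, 1, 2, 0, 2, 2, 0, 1], [1, 0, 2, 2, 1, 0, 2, 0, 0, 2, 2, 2, 0], [1, 1, 0, 0, 2, 0, 1, 2, 1, 0, 1, 2, 2], [0, 2, 0, 0, 0, 2, 0, 1, 2, 2, 2, 0, 2], [1, 1, 2, 0, 0, 2, 0, 0, 2, 0, 1, 2, 0, 2, 2], [2, 1, 0, 2, 0, 2, 0, 1, 0, 2, 0, 1, 0, 0], [0, 1, 2, 1, 0, 0, 2, 0, 0, 2, 0, 2, 0, 2, 2], [0, 0, 1, 0, 2, 0, 2,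 0, 0, 1, 1, 2, 0, 0, 2, 0], [2, 0, 1, 2, 0, 0, 2, 1, 0, 0, 2, 1, 2, 0, 1], [2, 1, 2, 1, 0, 2, 0, 0, 1, 0, 2, 0, 0, 1, 0, 0]], [[], [1, 0, 2, 0, 2, 1, 0, 2, 0, 1, 2, 2], [1, 2, 0, 2, 2, 2, 0, 2, 0, 2, 0, 2, 0, 2, 0, 0], [1, 1, 0, 2, 2, 2, 0, 2, 0, 2, 0, 1, 1], [0, 2, 0, 0, 0, 2, 0, 0, 1, 2, 0, 2, 0, 1, 0], [1, 0, 1, 0, 2, 1, 0, 2, 1, 2, 0, 1, 2], [2, 1, 2, 0, 0, 2, 1, 0, 0, 2, 1, 0, 2], [0, 2, 2, 2, 0, 0, 1, 2, 0, 2, 0, 0, 2, 0], [1, 0, 2, 1, 2, 0, 2, 0, 1, 2, 1], [2, 2, 0, 0, 1, 2, 0, 2, 2, 1, 0, 0, 2, 0, 2], [0, 0, 2, 0, 0, 2, 2, 2, 1, 0, 2, 2, 1, 2], [1, 0, 1, 0, 2, 1, 0, 0, 2, 1, 2, 0, 2, 0, 0], [2, 1, 2, 2, 0, 0, 2, 1, 0, 2, 0, 2, 1], [0, 2, 2, 0, 0, 1, 2, 0, 1, 2, 0, 0, 2], [1, 2, 1, 0, 0, 2, 2, 0, 2, 0, 2, 2, 0, 0], [1, 0, 2, 2, 2, 0, 2, 2, 2, 0, 2, 1, 0, 1], [1, 1, 0, 2, 1, 0, 2, 1, 2, 0, 0, 2, 0, 0, 1, 0], [1, 0, 2, 0, 2, 1, 2, 0, 2, 0, 0, 1, 1], [2, 0,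 2, 0, 2, 0, 2, 0, 1, 2, 0, 2, 1], [1, 0, 0, 2, 2, 1, 0, 1, 2, 1, 0]], [[], [2, 0, 1, 0, 2, 0, 2, 0, 2, 1, 2, 2, 0], [1, 0, 1, 0, 2, 0, 2, 2, 0, 0, 2, 2, 2, 0, 0], [0, 1, 0, 2, 2, 0, 1, 2, 0, 2, 0, 1, 0], [0, 2, 0, 0, 0, 2, 0, 2, 2, 0, 2, 0, 1, 2, 1], [1, 0, 1, 2, 0, 2, 1, 0, 2, 0, 1, 1, 0], [1, 2, 0, 0, 2, 2, 0, 2], [2, 0, 2, 0, 1, 1, 2, 0, 2, 0, 2, 2], [2, 2, 0, 2, 2, 0, 0], [1, 2, 0, 1, 2, 0, 1, 2, 0, 1, 2, 2, 0, 0], [2, 0, 2, 0, 2, 2, 2, 0, 0, 1, 2, 0, 1, 0], [2, 0, 1, 2, 2, 2, 0, 2, 0, 2, 1, 0], [2, 0, 0, 2, 2, 0, 1, 1, 2], [2, 0, 0, 2, 0, 0, 2, 0, 2, 0, 0, 0, 0, 0], [0, 1, 2, 0, 0, 2, 2, 0, 2, 0, 0, 1, 2], [1, 0, 1, 1, 2, 0, 2, 0, 1, 2, 2, 2, 0, 1, 0]], [[], [0, 0, 0, 2, 0, 0, 2, 0, 0, 1, 1, 2, 0], [2, 0, 0, 1, 1, 2, 0, 2, 2, 1, 0, 2, 0, 2, 0, 0]]]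

/-- The pairs prescribed on a cycle by a conjugation relation. -/
def cycPairs (T : Tab) (m k : ℕ) (x y : Fin 24) : List (Fin 24 × Fin 24) :=
  (List.range m).map fun i => ((tabFn T.1)^[i] x, (tabFn T.1)^[k * i] y)

/-- The prescription is impossible, or is met by one of the listed tables. -/
def settled (Nl : List Tab) (pairs : List (Fin 24 × Fin 24)) (o : ℕ) : Bool :=
  !decide (pairs.map Prod.snd).Nodup || Nl.any (fun T => pairs.all fun e => tabFn T.1 e.1 == e.2) ||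
    ((wtList 8).contains o && (wtList 8).all fun u => pairs.any fun e => o.testBit e.1.val && !u.testBit e.2.val)

/-- The listed tables are elements of the group. -/
def NorOK (Nl : List Tab) : Prop := ∀ T ∈ Nl, TabInv T ∧ ∀ x ∈ basis, inC (pullMask (tabFn T.1) x.2) = true

theorem fn_pow' (g : Equiv.Perm GolayPt) (n : ℕ) (i : Fin 24) : fn (g ^ n) i = (fn g)^[n] i := by
  induction n with
  | zero => simp [fn, idx_pt]
  | succ n ih => rw [pow_succ', fn_mul, ih, Function.iterate_succ_apply']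

theorem settled_sound {Nl : List Tab} (hN : NorOK Nl) {g : Equiv.Perm GolayPt} (hg : g ∈ M24)
    {pairs : List (Fin 24 × Fin 24)} {o : ℕ} (hp : ∀ e ∈ pairs, fn g e.1 = e.2)
    (hnd : (pairs.map Prod.fst).Nodup) (hlen : 9 ≤ pairs.length) (h : settled Nl pairs o = true) :
    ∃ T ∈ Nl, g = tperm T := by
  simp only [settled, Bool.or_eq_true, Bool.not_eq_true', decide_eq_false_iff_not, List.any_eq_true,
    List.all_eq_true, beq_iff_eq, Bool.and_eq_true, List.contains_eq_mem, decide_eq_true_eq] at h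
  rcases h with (h | ⟨T, hT, hTp⟩) | ⟨ho, hu⟩
  · exfalso; apply h
    rw [show pairs.map Prod.snd = (pairs.map Prod.fst).map (fn g) by
      rw [List.map_map]; exact List.map_congr_left fun e he => (hp e he).symm]
    exact hnd.map (fn_inj g)
  · refine ⟨T, hT, ?_⟩
    obtain ⟨hi, hb⟩ := hN T hT
    have hTM : tperm T ∈ M24 := mem_M24_of_basis
      (by rw [show fn (tperm T) = tabFn T.1 from funext (fn_tperm hi)]; exact hb)
    by_contra hne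
    have hle := fixed_le (mul_mem (inv_mem hTM) hg) (fun e => hne (inv_mul_eq_one.1 e).symm)
    rw [fcount_eq] at hle
    have hsub : (pairs.map Prod.fst).toFinset ⊆
        ((List.finRange 24).filter fun i => decide (fn ((tperm T)⁻¹ * g) i = i)).toFinset := by
      intro i hi'
      obtain ⟨e, he, rfl⟩ := List.mem_map.1 (List.mem_toFinset.1 hi')
      simp only [List.mem_toFinset, List.mem_filter, List.mem_finRange, true_and, decide_eq_true_eq]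
      rw [fn_mul, hp e he, ← hTp e he, ← fn_tperm hi e.1, ← fn_mul, inv_mul_cancel]
      simp [fn, idx_pt]
    have := (Finset.card_le_card hsub).trans (List.toFinset_card_le _)
    rw [List.toFinset_card_of_nodup hnd, List.length_map] at this
    omega
  · exfalso
    have hs : g • supp o ∈ octads :=
      smul_mem_weight hg ((mem_octads _).2 (by rw [maskF_supp (wtList_lt ho)]; exact ho))
    obtain ⟨e, he, hbit, hu'⟩ := hu _ ((mem_octads _).1 hs)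
    have hmem : g (pt e.1) ∈ g • supp o := by
      rw [← Equiv.Perm.smul_def, Finset.smul_mem_smul_finset_iff, mem_supp, idx_pt]
      exact hbit
    have hb := testBit_maskF (g • supp o) (g (pt e.1))
    rw [show idx (g (pt e.1)) = e.2 from hp e he] at hb
    rw [hb, decide_eq_false_iff_not] at hu'
    exact hu' hmem

theorem cyc_sound {T : Tab} (hT : TabInv T) {g : Equiv.Perm GolayPt} {k : ℕ}
    (h : g * tperm T = tperm T ^ k * g) (m : ℕ) (x : Fin 24) :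
    ∀ e ∈ cycPairs T m k x (fn g x), fn g e.1 = e.2 := by
  have hstep : ∀ i, fn g (tabFn T.1 i) = (tabFn T.1)^[k] (fn g i) := fun i => by
    rw [← fn_tperm hT i, ← fn_mul, h, fn_mul, fn_pow', show fn (tperm T) = tabFn T.1 from funext (fn_tperm hT)]
  have hit : ∀ i, fn g ((tabFn T.1)^[i] x) = (tabFn T.1)^[k * i] (fn g x) := by
    intro i
    induction i with
    | zero => simp
    | succ i ih =>
      rw [Function.iterate_succ_apply', hstep, ih, ← Function.iterate_add_apply]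
      rw [show k + k * i = k * (i + 1) by ring]
  intro e he
  obtain ⟨i, -, rfl⟩ := List.mem_map.1 he
  exact hit i

theorem base_fix {g : Equiv.Perm GolayPt} (hg : g ∈ chain 2) : fn g 23 = 23 ∧ fn g 0 = 0 := by
  have h : bpt 0 = 23 ∧ bpt 1 = 0 := by decide +kernel
  constructor
  · have := hg.2 0 (by norm_num); rw [h.1] at this
    rw [fn, this, idx_pt]
  · have := hg.2 1 (by norm_num); rw [h.2] at this
    rw [fn, this, idx_pt]

theorem nor_ok : NorOK norEleven ∧ NorOK norFive ∧ norEleven.length = 55 ∧ norFive.length = 20 := by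
  unfold NorOK; decide +kernel

theorem tabs_ok : TabInv tabA ∧ TabInv tabB ∧ TabInv tabT ∧ tabB ∈ norEleven ∧ tabA ∈ norEleven ∧
    tabT ∈ norFive ∧ (tabFn tabA.1 23 = 23 ∧ tabFn tabA.1 0 = 0) ∧ (tabFn tabB.1 23 = 23 ∧ tabFn tabB.1 0 = 0) ∧
    (tabFn tabT.1 23 = 23 ∧ tabFn tabT.1 0 = 0) ∧ (∀ i, (tabFn tabA.1)^[11] i = i) ∧
    (∀ i, (tabFn tabB.1)^[5] i = i) ∧ tabFn tabA.1 1 ≠ 1 ∧ tabFn tabB.1 2 ≠ 2 := by
  decide +kernel

theorem cand_eleven : ∀ k : Fin 10, ∀ y : Fin 24,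
    settled norEleven ([(23, 23), (0, 0)] ++ cycPairs tabA 11 (k.val + 1) 1 y)
      (witEleven.getD (24 * k.val + y.val) 0) = true := by
  decide +kernel

theorem nodup_eleven : ((([(23, 23), (0, 0)] : List (Fin 24 × Fin 24)) ++ cycPairs tabA 11 0 1 0).map Prod.fst).Nodup := by
  decide +kernel

theorem cycPairs_fst (T : Tab) (m k k' : ℕ) (x y y' : Fin 24) :
    (cycPairs T m k x y).map Prod.fst = (cycPairs T m k' x y').map Prod.fst := by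
  simp [cycPairs, List.map_map, Function.comp_def]

theorem norm_eleven {g : Equiv.Perm GolayPt} (hg : g ∈ chain 2) {k : ℕ} (hk : 1 ≤ k) (hk' : k ≤ 10)
    (h : g * tperm tabA = tperm tabA ^ k * g) : ∃ T ∈ norEleven, g = tperm T := by
  obtain ⟨j, rfl⟩ : ∃ j, k = j + 1 := ⟨k - 1, by omega⟩
  refine settled_sound nor_ok.1 hg.1 (pairs := [(23, 23), (0, 0)] ++ cycPairs tabA 11 (j + 1) 1 (fn g 1))
    ?_ ?_ (by simp [cycPairs]) (cand_eleven ⟨j, by omega⟩ (fn g 1))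
  · intro e he
    rcases List.mem_append.1 he with he | he
    · simp only [List.mem_cons, List.not_mem_nil, or_false] at he
      rcases he with rfl | rfl
      · exact (base_fix hg).1
      · exact (base_fix hg).2
    · exact cyc_sound tabs_ok.1 h 11 1 e he
  · rw [List.map_append, cycPairs_fst tabA 11 (j + 1) 0 1 (fn g 1) 0, ← List.map_append]
    exact nodup_eleven

/-- The pairs of a candidate at five. -/
def fivePairs (k : ℕ) (y : Fin 24) (z : Bool) : List (Fin 24 × Fin 24) :=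
  [(23, 23), (0, 0), (1, if z then 7 else 1), (7, if z then 1 else 7)] ++ cycPairs tabB 5 k 2 y

theorem cand_five : ∀ k : Fin 4, ∀ y : Fin 24, ∀ z : Bool,
    settled norFive (fivePairs (k.val + 1) y z) (witFive.getD (2 * (24 * k.val + y.val) + z.toNat) 0) = true ∨
    ∀ w : Fin 24, settled norFive (fivePairs (k.val + 1) y z ++ cycPairs tabB 5 (k.val + 1) 3 w)
      ((witFiveB.getD (2 * (24 * k.val + y.val) + z.toNat) []).getD w.val 0) = true := by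
  decide +kernel

theorem nodup_five : ((fivePairs 0 0 false ++ cycPairs tabB 5 0 3 0).map Prod.fst).Nodup := by
  decide +kernel

theorem five_fixed : ∀ z : Fin 24, ∀ k : Fin 4, (tabFn tabB.1)^[k.val + 1] z = z →
    z = 23 ∨ z = 0 ∨ z = 1 ∨ z = 7 := by
  decide +kernel

theorem five_fixes : tabFn tabB.1 1 = 1 ∧ tabFn tabB.1 7 = 7 := by decide +kernel

theorem norm_five {g : Equiv.Perm GolayPt} (hg : g ∈ chain 2) {k : ℕ} (hk : 1 ≤ k) (hk' : k ≤ 4)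
    (h : g * tperm tabB = tperm tabB ^ k * g) : ∃ T ∈ norFive, g = tperm T := by
  obtain ⟨j, rfl⟩ : ∃ j, k = j + 1 := ⟨k - 1, by omega⟩
  have hfix : ∀ r : Fin 24, tabFn tabB.1 r = r → r ≠ 23 → r ≠ 0 → fn g r = 1 ∨ fn g r = 7 := by
    intro r hr h23 h0
    have e : (tabFn tabB.1)^[j + 1] (fn g r) = fn g r := by
      have := congrArg (fun q => fn q r) h
      simp only [fn_mul, fn_pow', fn_tperm tabs_ok.2.1 r, hr] at this
      rw [show fn (tperm tabB) = tabFn tabB.1 from funext (fn_tperm tabs_ok.2.1)] at this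
      exact this.symm
    rcases five_fixed _ ⟨j, by omega⟩ e with e | e | e | e
    · exact absurd (fn_inj g (e.trans (base_fix hg).1.symm)) h23
    · exact absurd (fn_inj g (e.trans (base_fix hg).2.symm)) h0
    · exact Or.inl e
    · exact Or.inr e
  obtain ⟨z, hz1, hz7⟩ : ∃ z : Bool, fn g 1 = (if z then 7 else 1) ∧ fn g 7 = (if z then 1 else 7) := by
    rcases hfix 1 five_fixes.1 (by decide) (by decide) with a | a <;>
      rcases hfix 7 five_fixes.2 (by decide) (by decide) with b | b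
    · exact absurd (fn_inj g (a.trans b.symm)) (by decide)
    · exact ⟨false, a, b⟩
    · exact ⟨true, a, b⟩
    · exact absurd (fn_inj g (a.trans b.symm)) (by decide)
  have hp : ∀ e ∈ fivePairs (j + 1) (fn g 2) z ++ cycPairs tabB 5 (j + 1) 3 (fn g 3), fn g e.1 = e.2 := by
    intro e he
    rcases List.mem_append.1 he with he | he
    · rcases List.mem_append.1 he with he | he
      · simp only [List.mem_cons, List.not_mem_nil, or_false] at he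
        rcases he with rfl | rfl | rfl | rfl
        · exact (base_fix hg).1
        · exact (base_fix hg).2
        · exact hz1
        · exact hz7
      · exact cyc_sound tabs_ok.2.1 h 5 2 e he
    · exact cyc_sound tabs_ok.2.1 h 5 3 e he
  have hfst : (fivePairs (j + 1) (fn g 2) z ++ cycPairs tabB 5 (j + 1) 3 (fn g 3)).map Prod.fst =
      (fivePairs 0 0 false ++ cycPairs tabB 5 0 3 0).map Prod.fst := by
    simp [fivePairs, cycPairs, Function.comp_def]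
  have hnd : ((fivePairs (j + 1) (fn g 2) z ++ cycPairs tabB 5 (j + 1) 3 (fn g 3)).map Prod.fst).Nodup :=
    hfst ▸ nodup_five
  rcases cand_five ⟨j, by omega⟩ (fn g 2) z with hc | hc
  · refine settled_sound nor_ok.2.1 hg.1 (fun e he => hp e (List.mem_append_left _ he)) ?_
      (by simp [fivePairs, cycPairs]) hc
    rw [List.map_append, List.nodup_append] at hnd
    exact hnd.1
  · exact settled_sound nor_ok.2.1 hg.1 hp hnd (by simp [fivePairs, cycPairs]) (hc (fn g 3))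

/-! ### Generation -/

/-- The three generators. -/
def gen3 (i : Fin 3) : Tab := [tabA, tabB, tabT].getD i.val tabA

/-- The function of a word in the generators. -/
def evW : List (Fin 3) → Fin 24 → Fin 24
  | [], i => i
  | k :: w, i => tabFn (gen3 k).1 (evW w i)

theorem gen3_inv : ∀ i, TabInv (gen3 i) := by decide +kernel

theorem words_ok : ∀ k : Fin 5, ∀ n : Fin (lev (k.val + 2)).length, ∀ i : Fin 24,
    evW ((genWords.getD k.val []).getD n.val []) i = ev (lev (k.val + 2))[n].2 i := by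
  decide +kernel

theorem top_of_gens {K : Subgroup (Equiv.Perm GolayPt)} (hK : ∀ i, tperm (gen3 i) ∈ K) : chain 2 ≤ K := by
  have hw : ∀ w : List (Fin 3), ∃ s ∈ K, ∀ i, fn s i = evW w i := by
    intro w
    induction w with
    | nil => exact ⟨1, one_mem _, fun i => by simp [fn, evW, idx_pt]⟩
    | cons k w ih =>
      obtain ⟨s, hs, e⟩ := ih
      exact ⟨tperm (gen3 k) * s, mul_mem (hK k) hs, fun i => by rw [fn_mul, e, fn_tperm (gen3_inv k), evW]⟩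
  have key : ∀ n i : ℕ, n + i = 7 → 2 ≤ i → chain i ≤ K := by
    intro n
    induction n with
    | zero =>
      intro i hi _
      rw [Nat.zero_add] at hi; subst hi
      rw [chain_seven]; exact bot_le
    | succ n ih =>
      intro i hi h2 σ hσ
      obtain ⟨e, he, h⟩ := chain_step ⟨i, by omega⟩ hσ
      obtain ⟨k, rfl⟩ : ∃ k, i = k + 2 := ⟨i - 2, by omega⟩
      obtain ⟨m, hm, rfl⟩ := List.getElem_of_mem he
      obtain ⟨s, hs, hse⟩ := hw ((genWords.getD k []).getD m [])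
      have hs' : wordPerm (lev (k + 2))[m].2 = s := fn_ext fun x => by
        rw [hse, words_ok ⟨k, by omega⟩ ⟨m, hm⟩ x, fn, wordPerm_apply, idx_pt]
        rfl
      have := mul_mem (hs' ▸ hs : wordPerm (lev (k + 2))[m].2 ∈ K) (ih (k + 2 + 1) (by omega) (by omega) h)
      rwa [mul_inv_cancel_left] at this
  exact key 5 2 rfl le_rfl

/-! ### The counting -/

theorem tab_mem_chain {T : Tab} (hi : TabInv T) (hb : ∀ x ∈ basis, inC (pullMask (tabFn T.1) x.2) = true)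
    (hf : tabFn T.1 23 = 23 ∧ tabFn T.1 0 = 0) : tperm T ∈ chain 2 := by
  have h : bpt 0 = 23 ∧ bpt 1 = 0 := by decide +kernel
  refine ⟨mem_M24_of_basis (by rw [show fn (tperm T) = tabFn T.1 from funext (fn_tperm hi)]; exact hb), fun i hi' => ?_⟩
  obtain rfl | rfl : i = 0 ∨ i = 1 := by omega
  · rw [h.1]; exact idx_injective' (((fn_tperm hi 23).trans hf.1).trans (idx_pt 23).symm)
  · rw [h.2]; exact idx_injective' (((fn_tperm hi 0).trans hf.2).trans (idx_pt 0).symm)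

/-- The element of order eleven. -/
def aElt : chain 2 := ⟨tperm tabA, tab_mem_chain tabs_ok.1 (nor_ok.1 _ tabs_ok.2.2.2.2.1).2 tabs_ok.2.2.2.2.2.2.1⟩

/-- The element of order five. -/
def bElt : chain 2 := ⟨tperm tabB, tab_mem_chain tabs_ok.2.1 (nor_ok.1 _ tabs_ok.2.2.2.1).2 tabs_ok.2.2.2.2.2.2.2.1⟩

theorem order_elt {g : chain 2} {T : Tab} {p : ℕ} (hp : p.Prime) (he : (g : Equiv.Perm GolayPt) = tperm T)
    (hi : TabInv T) (hpow : ∀ i, (tabFn T.1)^[p] i = i) {x : Fin 24} (hne : tabFn T.1 x ≠ x) :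
    orderOf g = p := by
  haveI : Fact p.Prime := ⟨hp⟩
  refine orderOf_eq_prime (Subtype.ext (fn_ext fun i => ?_)) fun h => hne ?_
  · rw [Subgroup.coe_pow, he, fn_pow', show fn (tperm T) = tabFn T.1 from funext (fn_tperm hi), hpow]
    simp [fn, idx_pt]
  · rw [← fn_tperm hi x, ← he, h]
    simp [fn, idx_pt]

theorem order_ab : orderOf aElt = 11 ∧ orderOf bElt = 5 :=
  ⟨order_elt (g := aElt) (T := tabA) (by norm_num) rfl tabs_ok.1 tabs_ok.2.2.2.2.2.2.2.2.2.1 tabs_ok.2.2.2.2.2.2.2.2.2.2.2.1,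
   order_elt (g := bElt) (T := tabB) (by norm_num) rfl tabs_ok.2.1 tabs_ok.2.2.2.2.2.2.2.2.2.2.1 tabs_ok.2.2.2.2.2.2.2.2.2.2.2.2⟩

theorem card_two : Nat.card (chain 2) = 443520 := card_chain.2.2

theorem norm_count {H : Subgroup (chain 2)} {e : chain 2} (he : e ∈ H) {p : ℕ} (hp : p.Prime)
    (hord : orderOf e = p) (hdvd : p ∣ Nat.card H) (hsq : ¬ p ^ 2 ∣ Nat.card H) {L : List Tab}
    (hL : ∀ g : chain 2, ∀ k, 1 ≤ k → k < p → g * e = e ^ k * g → ∃ T ∈ L, (g : Equiv.Perm GolayPt) = tperm T) :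
    ∃ N n, N * n = Nat.card H ∧ n % p = 1 ∧ p ∣ N ∧ N ≤ L.length ∧
      (L.length ≤ N → ∀ T ∈ L, ∃ h ∈ H, (h : Equiv.Perm GolayPt) = tperm T) := by
  haveI : Fact p.Prime := ⟨hp⟩
  have hordH : orderOf (⟨e, he⟩ : H) = p := by rw [Subgroup.orderOf_mk]; exact hord
  let P : Sylow p H := Sylow.ofCard (Subgroup.zpowers (⟨e, he⟩ : H)) (by
    rw [Nat.card_zpowers, hordH]
    have h1 : (Nat.card H).factorization p = 1 := by
      have a := (hp.pow_dvd_iff_le_factorization Nat.card_pos.ne' (k := 1)).1 (by simpa using hdvd)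
      have b := mt (hp.pow_dvd_iff_le_factorization Nat.card_pos.ne' (k := 2)).2 hsq
      omega
    rw [h1, pow_one])
  set M := Subgroup.normalizer ((P : Subgroup H) : Set H) with hM
  have hmap : ∀ h : M, ∃ i : Fin L.length, ((h : H) : Equiv.Perm GolayPt) = tperm L[i] := by
    intro h
    have h1 : (h : H) * ⟨e, he⟩ * (h : H)⁻¹ ∈ Subgroup.zpowers (⟨e, he⟩ : H) :=
      (Subgroup.mem_normalizer_iff.1 h.2 ⟨e, he⟩).1 (Subgroup.mem_zpowers _)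
    obtain ⟨k, hk, hk'⟩ := Finset.mem_image.1 ((mem_zpowers_iff_mem_range_orderOf (x := (⟨e, he⟩ : H))).1 h1)
    rw [hordH, Finset.mem_range] at hk
    have h2 : ((h : H) : chain 2) * e * ((h : H) : chain 2)⁻¹ = e ^ k := (congrArg Subtype.val hk').symm
    have hk1 : 1 ≤ k := by
      by_contra hk0
      obtain rfl : k = 0 := by omega
      rw [pow_zero, mul_inv_eq_one] at h2
      rw [mul_left_cancel (h2.trans (mul_one _).symm), orderOf_one] at hord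
      exact hp.one_lt.ne hord
    obtain ⟨T, hT, hh⟩ := hL _ k hk1 hk (mul_inv_eq_iff_eq_mul.1 h2)
    obtain ⟨i, hi, rfl⟩ := List.getElem_of_mem hT
    exact ⟨⟨i, hi⟩, hh⟩
  choose f hf using hmap
  have hinj : Function.Injective f := fun a b e' => by
    apply Subtype.ext; apply Subtype.ext; apply Subtype.ext
    rw [hf a, hf b, e']
  refine ⟨Nat.card M, Nat.card (Sylow p H), ?_, ?_, ?_, ?_, ?_⟩
  · rw [Sylow.card_eq_index_normalizer P]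
    exact M.card_mul_index
  · have := card_sylow_modEq_one p H
    rw [Nat.ModEq, Nat.one_mod_eq_one.2 hp.one_lt.ne'] at this
    exact this
  · refine dvd_trans (dvd_of_eq ?_) (Subgroup.card_dvd_of_le (Subgroup.le_normalizer (H := (P : Subgroup H))))
    show p = Nat.card (Subgroup.zpowers (⟨e, he⟩ : H))
    rw [Nat.card_zpowers, hordH]
  · simpa using Nat.card_le_card_of_injective f hinj
  · intro hle T hT
    obtain ⟨i, hi, rfl⟩ := List.getElem_of_mem hT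
    have hb : Function.Bijective f := (Nat.bijective_iff_injective_and_card f).2 ⟨hinj,
      le_antisymm (Nat.card_le_card_of_injective f hinj) (by simpa using hle)⟩
    obtain ⟨h, hfi⟩ := hb.2 ⟨i, hi⟩
    exact ⟨((h : H) : chain 2), (h : H).2, by rw [hf h, hfi]; rfl⟩

theorem no_subgroup_a {H : Subgroup (chain 2)} (ha : aElt ∈ H) : Nat.card H ≠ 7920 ∧ Nat.card H ≠ 2112 := by
  have hL11 : ∀ g : chain 2, ∀ k, 1 ≤ k → k < 11 → g * aElt = aElt ^ k * g →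
      ∃ T ∈ norEleven, (g : Equiv.Perm GolayPt) = tperm T := fun g k h1 h2 h =>
    norm_eleven g.2 h1 (by omega) (congrArg Subtype.val h)
  constructor <;> intro hc
  · obtain ⟨N, n, hNn, hmod, hdvd, hle, hfull⟩ := norm_count ha (p := 11) (by norm_num) order_ab.1
      (by rw [hc]; norm_num) (by rw [hc]; norm_num) hL11
    rw [nor_ok.2.2.1] at hle hfull
    have hN : N = 55 := by
      obtain ⟨c, rfl⟩ := hdvd
      rw [hc] at hNn
      have : c ≤ 5 := by omega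
      interval_cases c <;> omega
    obtain ⟨hb, hbH, hbe⟩ := hfull (by omega) tabB tabs_ok.2.2.2.1
    obtain rfl : hb = bElt := Subtype.ext hbe
    obtain ⟨M, m, hMm, hmod5, hdvd5, hle5, hfull5⟩ := norm_count hbH (p := 5) (by norm_num) order_ab.2
      (by rw [hc]; norm_num) (by rw [hc]; norm_num) (L := norFive) fun g k h1 h2 h =>
        norm_five g.2 h1 (by omega) (congrArg Subtype.val h)
    rw [nor_ok.2.2.2] at hle5 hfull5
    have hM : M = 20 := by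
      obtain ⟨c, rfl⟩ := hdvd5
      rw [hc] at hMm
      have : c ≤ 4 := by omega
      interval_cases c <;> omega
    obtain ⟨ht, htH, hte⟩ := hfull5 (by omega) tabT tabs_ok.2.2.2.2.2.1
    have hK : chain 2 ≤ H.map (chain 2).subtype := top_of_gens fun i => by
      fin_cases i
      · exact ⟨aElt, ha, rfl⟩
      · exact ⟨bElt, hbH, rfl⟩
      · exact ⟨ht, htH, hte⟩
    have htop : H = ⊤ := eq_top_iff.2 fun x _ => by
      obtain ⟨y, hy, e⟩ := hK x.2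
      rwa [Subtype.ext e] at hy
    rw [htop, Subgroup.card_top, card_two] at hc
    omega
  · obtain ⟨N, n, hNn, hmod, hdvd, hle, -⟩ := norm_count ha (p := 11) (by norm_num) order_ab.1
      (by rw [hc]; norm_num) (by rw [hc]; norm_num) hL11
    rw [nor_ok.2.2.1] at hle
    obtain ⟨c, rfl⟩ := hdvd
    rw [hc] at hNn
    have : c ≤ 5 := by omega
    interval_cases c <;> omega

theorem no_subgroup (H : Subgroup (chain 2)) : Nat.card H ≠ 7920 ∧ Nat.card H ≠ 2112 := by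
  haveI : Fact (Nat.Prime 11) := ⟨by norm_num⟩
  by_cases h11 : 11 ∣ Nat.card H
  swap
  · constructor <;> intro hc <;> rw [hc] at h11 <;> norm_num at h11
  obtain ⟨h, hh⟩ := exists_prime_orderOf_dvd_card' 11 h11
  have hh' : orderOf (h : chain 2) = 11 := by rw [Subgroup.orderOf_coe]; exact hh
  let P : Sylow 11 (chain 2) := Sylow.ofCard (Subgroup.zpowers aElt) (by
    rw [Nat.card_zpowers, order_ab.1, card_two]
    have : (443520 : ℕ).factorization 11 = 1 := by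
      rw [show (443520 : ℕ) = 11 ^ 1 * 40320 by norm_num, Nat.factorization_mul (by norm_num) (by norm_num),
        Finsupp.add_apply, Nat.factorization_eq_zero_of_not_dvd (show ¬ 11 ∣ 40320 by norm_num),
        Nat.Prime.factorization_pow (by norm_num), Finsupp.single_eq_same]
    rw [this, pow_one])
  obtain ⟨R, hR⟩ := (IsPGroup.of_card (n := 1) (show Nat.card (Subgroup.zpowers (h : chain 2)) = 11 ^ 1 by
    rw [Nat.card_zpowers, hh', pow_one])).exists_le_sylow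
  obtain ⟨g, hg⟩ := MulAction.exists_smul_eq (chain 2) R P
  have h1 : MulAut.conj g • (h : chain 2) ∈ ((g • R : Sylow 11 (chain 2)) : Subgroup (chain 2)) :=
    Subgroup.smul_mem_pointwise_smul _ (MulAut.conj g) _ (hR (Subgroup.mem_zpowers _))
  rw [hg] at h1
  have h2 : Subgroup.zpowers (MulAut.conj g (h : chain 2)) = Subgroup.zpowers aElt := by
    refine Subgroup.eq_of_le_of_card_ge (Subgroup.zpowers_le.2 h1) ?_
    rw [Nat.card_zpowers, Nat.card_zpowers, order_ab.1, MulEquiv.orderOf_eq, hh']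
  have ha : aElt ∈ H.map (MulAut.conj g).toMonoidHom := by
    have : Subgroup.zpowers (MulAut.conj g (h : chain 2)) ≤ H.map (MulAut.conj g).toMonoidHom :=
      Subgroup.zpowers_le.2 ⟨_, h.2, rfl⟩
    exact this (h2 ▸ Subgroup.mem_zpowers aElt)
  have hc : Nat.card (H.map (MulAut.conj g).toMonoidHom) = Nat.card H :=
    (Nat.card_congr (H.equivMapOfInjective _ (MulAut.conj g).injective).toEquiv).symm
  rw [← hc]
  exact no_subgroup_a ha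

theorem stab_two_iso {p q : GolayPt} (hpq : p ≠ q) :
    Nonempty (↥(MulAction.stabilizer M24 p ⊓ MulAction.stabilizer M24 q) ≃* chain 2) := by
  obtain ⟨σ, hσ, hz⟩ := exists_map_points (N := 2) (by norm_num) ⟨![p, q], fun i j h => by
    fin_cases i <;> fin_cases j <;> simp_all [eq_comm]⟩
  have h0 : σ (pt (bpt 0)) = p := hz 0
  have h1 : σ (pt (bpt 1)) = q := hz 1
  have hc : ∀ (g : Equiv.Perm GolayPt) (a b : GolayPt), σ a = b → (g b = b ↔ (σ⁻¹ * g * σ) a = a) := by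
    rintro g a _ rfl
    rw [Equiv.Perm.mul_apply, Equiv.Perm.mul_apply, Equiv.Perm.coe_inv, Equiv.symm_apply_eq]
  have key : ∀ g : Equiv.Perm GolayPt, (g ∈ M24 ∧ g p = p ∧ g q = q) ↔ σ⁻¹ * g * σ ∈ chain 2 := by
    intro g
    constructor
    · rintro ⟨hg, gp, gq⟩
      refine ⟨mul_mem (mul_mem (inv_mem hσ) hg) hσ, fun i hi => ?_⟩
      interval_cases i
      · exact (hc g _ _ h0).1 gp
      · exact (hc g _ _ h1).1 gq
    · rintro ⟨hg, hfix⟩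
      refine ⟨?_, (hc g _ _ h0).2 (hfix 0 (by norm_num)), (hc g _ _ h1).2 (hfix 1 (by norm_num))⟩
      have := mul_mem (mul_mem hσ hg) (inv_mem hσ)
      simpa [mul_assoc] using this
  exact ⟨
    { toFun := fun g => ⟨σ⁻¹ * ((g : M24) : Equiv.Perm GolayPt) * σ, (key _).1 ⟨(g : M24).2, g.2.1, g.2.2⟩⟩
      invFun := fun h =>
        have hk := (key (σ * (h : Equiv.Perm GolayPt) * σ⁻¹)).2 (by simp [mul_assoc, h.2])
        ⟨⟨_, hk.1⟩, ⟨hk.2.1, hk.2.2⟩⟩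
      left_inv := fun g => by apply Subtype.ext; apply Subtype.ext; simp [mul_assoc]
      right_inv := fun h => by apply Subtype.ext; simp [mul_assoc]
      map_mul' := fun a b => by apply Subtype.ext; simp [mul_assoc] }⟩

theorem index_bound {G : Type*} [Group G] (e : G ≃* chain 2) (H : Subgroup G) : H.index ≠ 56 ∧ H.index ≠ 210 := by
  have h := no_subgroup (H.map e.toMonoidHom)
  have hcard : Nat.card (H.map e.toMonoidHom) = Nat.card H :=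
    (Nat.card_congr (H.equivMapOfInjective _ e.injective).toEquiv).symm
  rw [hcard] at h
  have hG : Nat.card G = 443520 := (Nat.card_congr e.toEquiv).trans card_two
  have hm := H.card_mul_index
  rw [hG] at hm
  constructor <;> intro hi <;> rw [hi] at hm
  · exact h.1 (by omega)
  · exact h.2 (by omega)

end Cfsg.Agent.Golay.NoIndex22
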