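import Cfsg.Agent.Lib.Golay.OctStab
import Cfsg.Agent.Lib.Golay.ChainFive
import Mathlib.GroupTheory.SpecificGroups.Alternating

/-! The action of an octad stabiliser on its octad. -/

set_option autoImplicit false

namespace Cfsg.Agent.Golay

open Cfsg
open scoped Pointwise

theorem smul_eq_self_of_fix {g : Equiv.Perm GolayPt} {s : Finset GolayPt} (h : ∀ p ∈ s, g p = p) :
    g • s = s :=
  Finset.eq_of_subset_of_card_le (fun p hp => by
    obtain ⟨q, hq, rfl⟩ := Finset.mem_smul_finset.mp hp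
    rw [Equiv.Perm.smul_def, h q hq]; exact hq) (by rw [Finset.card_smul_finset])

theorem mem_iff_of_smul {g : Equiv.Perm GolayPt} {s : Finset GolayPt} (h : g • s = s) (x : GolayPt) :
    g x ∈ s ↔ x ∈ s := by
  conv_lhs => rw [← h, ← Equiv.Perm.smul_def, Finset.smul_mem_smul_finset_iff]

theorem smul_of_mem_iff {g : Equiv.Perm GolayPt} {s : Finset GolayPt} (h : ∀ x, g x ∈ s ↔ x ∈ s) :
    g • s = s :=
  Finset.eq_of_subset_of_card_le (fun p hp => by
    obtain ⟨q, hq, rfl⟩ := Finset.mem_smul_finset.mp hp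
    exact (h q).mpr hq) (by rw [Finset.card_smul_finset])

theorem chain_five_baseOct {g : Equiv.Perm GolayPt} (hg : g ∈ chain 5) :
    g • supp baseOct = supp baseOct := by
  have h0 : supp baseOct ∈ octads ∧ base5 ⊆ supp baseOct := (base5_unique _).mpr rfl
  refine (base5_unique _).mp ⟨smul_mem_weight hg.1 h0.1, fun p hp => ?_⟩
  have key : ∀ q ∈ base5, ∃ i : Fin 5, q = pt (bpt i.val) := by decide +kernel
  obtain ⟨i, rfl⟩ := key p hp
  rw [← hg.2 i.val i.isLt, ← Equiv.Perm.smul_def]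
  exact Finset.smul_mem_smul_finset (h0.2 hp)

theorem chain_five_transitive {q : GolayPt} (hq : q ∉ supp baseOct) :
    ∃ w ∈ chain 5, w (pt (bpt 5)) = q := by
  obtain ⟨e, he, hx⟩ := List.mem_map.mp (lev_five (idx q) (by
    simpa [mem_supp] using hq))
  obtain ⟨hw, hb⟩ := wordPerm_mem_chain ⟨5, by omega⟩ he
  exact ⟨wordPerm e.2, hw, by rw [hb, hx, pt_idx]⟩

theorem bpt_six_mem : pt (bpt 6) ∈ supp baseOct := by decide +kernel

/-- The octad stabiliser is transitive outside. -/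
theorem outside_transitive {o : Finset GolayPt} (ho : o ∈ octads) {p q : GolayPt} (hp : p ∉ o)
    (hq : q ∉ o) : ∃ g ∈ M24, g • o = o ∧ g p = q := by
  obtain ⟨σ, hσ, rfl⟩ := octad_transitive ((base5_unique _).mpr rfl).1 ho
  have h' : ∀ x : GolayPt, x ∉ σ • supp baseOct → σ.symm x ∉ supp baseOct := fun x hx h => hx (by
    have := Finset.smul_mem_smul_finset (a := σ) h
    rwa [Equiv.Perm.smul_def, Equiv.apply_symm_apply] at this)
  obtain ⟨u, hu, hup⟩ := chain_five_transitive (h' p hp)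
  obtain ⟨w, hw, hwq⟩ := chain_five_transitive (h' q hq)
  refine ⟨σ * (w * u⁻¹) * σ⁻¹, mul_mem (mul_mem hσ (mul_mem hw.1 (inv_mem hu.1))) (inv_mem hσ),
    conj_fix (chain_five_baseOct (mul_mem hw (inv_mem hu))), ?_⟩
  have hu' : u⁻¹ (σ⁻¹ p) = pt (bpt 5) := by
    rw [Equiv.Perm.coe_inv, Equiv.Perm.coe_inv, Equiv.symm_apply_eq, hup]
  simp only [Equiv.Perm.mul_apply]
  rw [hu', hwq, Equiv.apply_symm_apply]

/-- An element fixing an octad pointwise and one further point is trivial. -/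
theorem fix_octad_point {o : Finset GolayPt} (ho : o ∈ octads) {g : Equiv.Perm GolayPt} (hg : g ∈ M24)
    (hfix : ∀ x ∈ o, g x = x) {p : GolayPt} (hp : p ∉ o) (hgp : g p = p) : g = 1 := by
  obtain ⟨σ, hσ, rfl⟩ := octad_transitive ((base5_unique _).mpr rfl).1 ho
  have hp' : σ⁻¹ p ∉ supp baseOct := fun h => hp (by
    have := Finset.smul_mem_smul_finset (a := σ) h
    rwa [Equiv.Perm.smul_def, Equiv.Perm.coe_inv, Equiv.apply_symm_apply] at this)
  obtain ⟨w, hw, hwp⟩ := chain_five_transitive hp'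
  set h := (σ * w)⁻¹ * g * (σ * w) with hh
  have hfix' : ∀ x ∈ supp baseOct, h x = x := by
    intro x hx
    have h1 : (σ * w) x ∈ σ • supp baseOct := by
      rw [Equiv.Perm.mul_apply, ← Equiv.Perm.smul_def σ]
      refine Finset.smul_mem_smul_finset ?_
      rw [mem_iff_of_smul (chain_five_baseOct hw)]; exact hx
    rw [hh, Equiv.Perm.mul_apply, Equiv.Perm.mul_apply, hfix _ h1, Equiv.Perm.coe_inv,
      Equiv.symm_apply_apply]
  have h5 : h (pt (bpt 5)) = pt (bpt 5) := by
    have e : (σ * w) (pt (bpt 5)) = p := by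
      rw [Equiv.Perm.mul_apply, hwp, Equiv.Perm.coe_inv, Equiv.apply_symm_apply]
    rw [hh, Equiv.Perm.mul_apply, Equiv.Perm.mul_apply, e, hgp, Equiv.Perm.coe_inv, Equiv.symm_apply_eq, e]
  have h7 : h ∈ chain 7 := by
    refine ⟨mul_mem (mul_mem (inv_mem (mul_mem hσ hw.1)) hg) (mul_mem hσ hw.1), fun i hi => ?_⟩
    by_cases hi5 : i < 5
    · exact hfix' _ (canon_octad.2.1 ⟨i, hi5⟩)
    · obtain rfl | rfl : i = 5 ∨ i = 6 := by omega
      · exact h5
      · exact hfix' _ bpt_six_mem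
  rw [chain_seven, Subgroup.mem_bot] at h7
  have : g = (σ * w) * h * (σ * w)⁻¹ := by rw [hh]; simp [mul_assoc]
  rw [this, h7]; simp

/-- The pointwise stabiliser of an octad has order 16. -/
theorem card_fix_octad {o : Finset GolayPt} (ho : o ∈ octads) :
    Nat.card {g : Equiv.Perm GolayPt // g ∈ M24 ∧ ∀ x ∈ o, g x = x} = 16 := by
  obtain ⟨σ, hσ, rfl⟩ := octad_transitive ((base5_unique _).mpr rfl).1 ho
  rw [← card_fix_baseOct.1]
  refine Nat.card_congr (Equiv.subtypeEquiv (MulAut.conj σ⁻¹).toEquiv fun g => ?_)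
  show _ ↔ σ⁻¹ * g * σ⁻¹⁻¹ ∈ M24 ∧ _
  rw [inv_inv]
  constructor
  · rintro ⟨hg, hfix⟩
    refine ⟨mul_mem (mul_mem (inv_mem hσ) hg) hσ, fun x hx => ?_⟩
    show (σ⁻¹ * g * σ) x = x
    have := hfix (σ x) (Finset.smul_mem_smul_finset hx)
    simp [this]
  · rintro ⟨hg, hfix⟩
    refine ⟨?_, fun x hx => ?_⟩
    · have := mul_mem (mul_mem hσ hg) (inv_mem hσ)
      simpa [mul_assoc] using this
    · obtain ⟨y, hy, rfl⟩ := Finset.mem_smul_finset.mp hx
      have := congrArg σ (show (σ⁻¹ * g * σ) y = y from hfix y hy)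
      simpa using this

/-- Restriction of the octad stabiliser to the octad. -/
def onOctad (o : Finset GolayPt) :
    ↥(MulAction.stabilizer M24 o) →* Equiv.Perm ↥o where
  toFun g := (g.1 : Equiv.Perm GolayPt).subtypePerm fun x => mem_iff_of_smul g.2 x
  map_one' := Equiv.ext fun _ => rfl
  map_mul' _ _ := Equiv.ext fun _ => rfl

theorem onOctad_ker {o : Finset GolayPt} (ho : o ∈ octads) :
    Nat.card (onOctad o).ker = 16 := by
  rw [← card_fix_octad ho]
  refine Nat.card_congr ⟨fun g => ⟨g.1.1.1, g.1.1.2, fun x hx =>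
      congrArg Subtype.val (DFunLike.congr_fun (MonoidHom.mem_ker.mp g.2) (⟨x, hx⟩ : ↥o))⟩,
    fun g => ⟨⟨⟨g.1, g.2.1⟩, smul_eq_self_of_fix g.2.2⟩,
      MonoidHom.mem_ker.mpr (Equiv.ext fun x => Subtype.ext (g.2.2 x.1 x.2))⟩,
    fun g => rfl, fun g => rfl⟩

/-- The octad stabiliser induces the alternating group. -/
theorem onOctad_range {o : Finset GolayPt} (ho : o ∈ octads) :
    (onOctad o).range = alternatingGroup ↥o := by
  have h1 : Nat.card (onOctad o).range * 16 = 322560 := by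
    have := Subgroup.index_mul_card (onOctad o).ker
    rw [Subgroup.index_ker, onOctad_ker ho, card_stab_octad ho] at this
    exact this
  refine Equiv.Perm.eq_alternatingGroup_of_index_eq_two ?_
  have h2 := Subgroup.index_mul_card (onOctad o).range
  rw [Nat.card_perm, Nat.card_eq_finsetCard, ho.2, show Nat.card (onOctad o).range = 20160 by omega,
    show Nat.factorial 8 = 40320 by decide] at h2
  omega

end Cfsg.Agent.Golay
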