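import Cfsg.Agent.Lib.Golay.OctFix

/-! Two octads meeting in two points. -/

set_option autoImplicit false

namespace Cfsg.Agent.Golay

open Cfsg
open scoped Pointwise

/-- An octad meeting the standard one in two points. -/
def octTwo : ℕ := 15777

theorem octTwo_lt : octTwo < 2 ^ 24 := by decide +kernel

theorem octTwo_mem : supp octTwo ∈ octads := supp_mem_wt octTwo_lt (by decide +kernel)

theorem baseOct_inter_octTwo : (supp baseOct ∩ supp octTwo).card = 2 := by decide +kernel

theorem words_pair_fix : ∀ w ∈ words48,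
    (∀ i : Fin 24, (baseOct.testBit i.val = true → ev w i = i) ∧
      octTwo.testBit (ev w i).val = octTwo.testBit i.val) → ∀ i : Fin 24, ev w i = i := by
  decide +kernel

theorem fix_pair_trivial {o o' : Finset GolayPt} (ho : o ∈ octads) (ho' : o' ∈ octads)
    (h2 : (o ∩ o').card = 2) {g : Equiv.Perm GolayPt} (hg : g ∈ M24)
    (hfix : ∀ x ∈ o, g x = x) (hgo' : g • o' = o') : g = 1 := by
  have hb : supp baseOct ∈ octads := ((base5_unique _).mpr rfl).1
  obtain ⟨σ₁, hσ₁, e1⟩ := octad_transitive hb ho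
  obtain ⟨τ, hτ, hτo, hτ'⟩ := octad_suborbit hb octTwo_mem (smul_mem_weight (inv_mem hσ₁) ho')
    (by rw [baseOct_inter_octTwo, ← card_smul_inter σ₁ (supp baseOct), smul_inv_smul, e1, h2])
  obtain ⟨σ, hσ, ea, eb⟩ : ∃ σ ∈ M24, σ • supp baseOct = o ∧ σ • supp octTwo = o' :=
    ⟨σ₁ * τ, mul_mem hσ₁ hτ, by rw [mul_smul, hτo, e1], by rw [mul_smul, hτ', smul_inv_smul]⟩
  subst ea eb
  set h := σ⁻¹ * g * σ with hh
  have hM : h ∈ M24 := mul_mem (mul_mem (inv_mem hσ) hg) hσ
  have hf : ∀ x ∈ supp baseOct, h x = x := fun x hx => by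
    have := hfix (σ x) (Finset.smul_mem_smul_finset hx)
    rw [hh, Equiv.Perm.mul_apply, Equiv.Perm.mul_apply, this, Equiv.Perm.coe_inv, Equiv.symm_apply_apply]
  have hs : h • supp octTwo = supp octTwo := by
    rw [hh, mul_smul, mul_smul, hgo', inv_smul_smul]
  obtain ⟨w, hw, e⟩ := chain_five_words (σ := h) ⟨hM, fun i hi => hf _ (canon_octad.2.1 ⟨i, hi⟩)⟩
  rw [← e] at hf hs
  have h1 : wordPerm w = 1 := by
    refine wordPerm_eq_one (words_pair_fix w hw fun i => ⟨fun hi => ?_, ?_⟩)
    · exact (fixes_pt_iff w i).mpr (hf _ (by rw [mem_supp, idx_pt]; exact hi))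
    · have := mem_iff_of_smul hs (pt i)
      rw [wordPerm_apply, mem_supp, mem_supp, idx_pt, idx_pt] at this
      exact Bool.eq_iff_iff.mpr this
  rw [e, hh] at h1
  have hg1 : g = σ * 1 * σ⁻¹ := by rw [← h1]; simp [mul_assoc]
  simpa using hg1

theorem pair_stab_equiv {o o' : Finset GolayPt} (ho : o ∈ octads) (ho' : o' ∈ octads)
    (h2 : (o ∩ o').card = 2) :
    Nonempty (↥(MulAction.stabilizer M24 o ⊓ MulAction.stabilizer M24 o') ≃* Equiv.Perm (Fin 6)) := by
  classical
  have hd : (o \ o').card = 6 := by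
    have := Finset.card_sdiff_add_card_inter o o'
    rw [h2, ho.2] at this; omega
  have hH : Nat.card ↥(MulAction.stabilizer M24 o ⊓ MulAction.stabilizer M24 o') = 720 := by
    have := card_stab_pair ho ho' h2 (n := 448) (by simp)
    omega
  have hsd : ∀ g : ↥(MulAction.stabilizer M24 o ⊓ MulAction.stabilizer M24 o'), ∀ x,
      ((g.1 : M24) : Equiv.Perm GolayPt) x ∈ o \ o' ↔ x ∈ o \ o' := fun g x => by
    rw [Finset.mem_sdiff, Finset.mem_sdiff, mem_iff_of_smul g.2.1 x, mem_iff_of_smul g.2.2 x]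
  let φ : ↥(MulAction.stabilizer M24 o ⊓ MulAction.stabilizer M24 o') →* Equiv.Perm ↥(o \ o') :=
    { toFun := fun g => ((g.1 : M24) : Equiv.Perm GolayPt).subtypePerm (hsd g)
      map_one' := Equiv.ext fun _ => rfl
      map_mul' := fun _ _ => Equiv.ext fun _ => rfl }
  have hinj : Function.Injective φ := by
    rw [injective_iff_map_eq_one]
    intro g hg
    have h6 : ∀ x ∈ o \ o', ((g.1 : M24) : Equiv.Perm GolayPt) x = x := fun x hx =>
      congrArg Subtype.val (DFunLike.congr_fun hg (⟨x, hx⟩ : ↥(o \ o')))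
    set e : Equiv.Perm ↥o := onOctad o ⟨g.1, g.2.1⟩ with he
    have heA : e ∈ alternatingGroup ↥o := by rw [← onOctad_range ho]; exact ⟨_, rfl⟩
    have hsup : e.support.card ≤ 2 := by
      refine le_trans (Finset.card_le_card_of_injOn Subtype.val (t := o ∩ o') (fun x hx => ?_)
        Subtype.val_injective.injOn) h2.le
      rw [Finset.mem_coe, Equiv.Perm.mem_support] at hx
      rw [Finset.mem_coe, Finset.mem_inter]
      refine ⟨x.2, ?_⟩
      by_contra hxo
      exact hx (Subtype.ext (h6 x.1 (Finset.mem_sdiff.mpr ⟨x.2, hxo⟩)))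
    have he1 : e = 1 := by
      rw [← Equiv.Perm.card_support_le_one]
      by_contra hcon
      have h22 : e.support.card = 2 := by omega
      rw [Equiv.Perm.mem_alternatingGroup, (Equiv.Perm.card_support_eq_two.mp h22).sign_eq] at heA
      exact absurd heA (by decide)
    refine Subtype.ext (Subtype.ext (fix_pair_trivial ho ho' h2 g.1.2 (fun x hx => ?_) g.2.2))
    exact congrArg Subtype.val (DFunLike.congr_fun he1 (⟨x, hx⟩ : ↥o))
  have hbij : Function.Bijective φ := hinj.bijective_of_nat_card_le (by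
    rw [Nat.card_perm, Nat.card_eq_finsetCard, hd, hH]; decide)
  exact ⟨(MulEquiv.ofBijective φ hbij).trans ((o \ o').equivFinOfCardEq hd).permCongrHom⟩

end Cfsg.Agent.Golay
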