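import Cfsg.Agent.Lib.Golay.OctFix

/-! A complement in the octad stabiliser. -/

set_option autoImplicit false

namespace Cfsg.Agent.Golay

open Cfsg
open scoped Pointwise

theorem octad_split {o : Finset GolayPt} (ho : o ∈ octads) {p : GolayPt} (hp : p ∉ o) :
    ((M24 ⊓ fixingSubgroup (Equiv.Perm GolayPt) (o : Set GolayPt)) ⊓
      (M24 ⊓ MulAction.stabilizer (Equiv.Perm GolayPt) o ⊓
        MulAction.stabilizer (Equiv.Perm GolayPt) p) = ⊥ ∧
    (M24 ⊓ fixingSubgroup (Equiv.Perm GolayPt) (o : Set GolayPt)) ⊔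
      (M24 ⊓ MulAction.stabilizer (Equiv.Perm GolayPt) o ⊓
        MulAction.stabilizer (Equiv.Perm GolayPt) p) =
      M24 ⊓ MulAction.stabilizer (Equiv.Perm GolayPt) o) ∧
    Nonempty (↥(M24 ⊓ MulAction.stabilizer (Equiv.Perm GolayPt) o ⊓
        MulAction.stabilizer (Equiv.Perm GolayPt) p) ≃* alternatingGroup (Fin 8)) := by
  classical
  set P := M24 ⊓ fixingSubgroup (Equiv.Perm GolayPt) (o : Set GolayPt) with hPdef
  set S := M24 ⊓ MulAction.stabilizer (Equiv.Perm GolayPt) o with hSdef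
  set H := S ⊓ MulAction.stabilizer (Equiv.Perm GolayPt) p with hHdef
  have hPfix : ∀ g ∈ P, ∀ x ∈ o, g x = x := fun g hg x hx =>
    (mem_fixingSubgroup_iff _).mp hg.2 x hx
  have hPS : P ≤ S := fun g hg => ⟨hg.1, smul_eq_self_of_fix (hPfix g hg)⟩
  have hdis : P ⊓ H = ⊥ := by
    rw [eq_bot_iff]
    rintro g ⟨hgP, hgH⟩
    exact Subgroup.mem_bot.mpr (fix_octad_point ho hgP.1 (hPfix g hgP) hp hgH.2)
  have hS : Nat.card S = 322560 := by
    rw [← card_stab_octad ho]
    exact Nat.card_congr ⟨fun g => ⟨⟨g.1, g.2.1⟩, g.2.2⟩, fun g => ⟨g.1.1, g.1.2, g.2⟩,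
      fun g => rfl, fun g => rfl⟩
  have hP : Nat.card P = 16 := by
    rw [← card_fix_octad ho]
    exact Nat.card_congr (Equiv.subtypeEquivRight fun g => ⟨fun h => ⟨h.1, hPfix g h⟩,
      fun h => ⟨h.1, (mem_fixingSubgroup_iff _).mpr h.2⟩⟩)
  have horb : MulAction.orbit S p = ↑oᶜ := by
    ext q
    rw [Finset.mem_coe, Finset.mem_compl]
    constructor
    · rintro ⟨g, rfl⟩ h
      exact hp ((mem_iff_of_smul g.2.2 p).mp h)
    · intro hq
      obtain ⟨g, hg, hgo, hgp⟩ := outside_transitive ho hp hq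
      exact ⟨⟨g, hg, hgo⟩, hgp⟩
  have hH : Nat.card H = 20160 := by
    have h : Nat.card S = (MulAction.orbit S p).ncard * Nat.card H := card_inf_stabilizer S p
    rw [hS, horb, Set.ncard_coe_finset, Finset.card_compl, ho.2, show Fintype.card GolayPt = 24 from by decide +kernel] at h
    omega
  have hsup : P ⊔ H = S := by
    refine Subgroup.eq_of_le_of_card_ge (sup_le hPS inf_le_left) ?_
    have hinj : Function.Injective fun x : P × H =>
        (⟨(x.1 : Equiv.Perm GolayPt) * x.2, Subgroup.mul_mem_sup x.1.2 x.2.2⟩ : ↥(P ⊔ H)) := by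
      intro a b e
      exact Subgroup.mul_injective_of_disjoint (disjoint_iff.mpr hdis) (congrArg Subtype.val e)
    have := Nat.card_le_card_of_injective _ hinj
    rw [Nat.card_prod, hP, hH] at this
    rw [hS]; omega
  refine ⟨⟨hdis, hsup⟩, ?_⟩
  let emb : H →* MulAction.stabilizer M24 o :=
    { toFun := fun g => ⟨⟨g.1, g.2.1.1⟩, g.2.1.2⟩
      map_one' := rfl
      map_mul' := fun _ _ => rfl }
  let φ : H →* alternatingGroup ↥o := ((onOctad o).comp emb).codRestrict _ fun g => by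
    rw [← onOctad_range ho]
    exact ⟨_, rfl⟩
  have hinj : Function.Injective φ := by
    rw [injective_iff_map_eq_one]
    intro g hg
    refine Subtype.ext (fix_octad_point ho g.2.1.1 (fun x hx => ?_) hp g.2.2)
    have := DFunLike.congr_fun (congrArg Subtype.val hg) (⟨x, hx⟩ : ↥o)
    exact congrArg Subtype.val this
  have hcard : Nat.card (alternatingGroup ↥o) = 20160 := by
    haveI : Nontrivial ↥o := Fintype.one_lt_card_iff_nontrivial.mp (by rw [Fintype.card_coe, ho.2]; norm_num)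
    have := nat_card_alternatingGroup (α := ↥o)
    rw [this, Nat.card_eq_finsetCard, ho.2]
    decide
  have hbij : Function.Bijective φ := hinj.bijective_of_nat_card_le (by rw [hcard, hH])
  exact ⟨(MulEquiv.ofBijective φ hbij).trans
    (Equiv.altCongrHom (o.equivFinOfCardEq ho.2))⟩

end Cfsg.Agent.Golay
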