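import Cfsg.Agent.Lib.Golay.OrbStd

/-! Orders of stabilisers of octads and of pairs of octads. -/

set_option autoImplicit false

namespace Cfsg.Agent.Golay

open Cfsg
open scoped Pointwise

theorem card_eq_orbit_mul {G X : Type*} [Group G] [MulAction G X] (x : X) :
    Nat.card G = (MulAction.orbit G x).ncard * Nat.card (MulAction.stabilizer G x) := by
  rw [← MulAction.index_stabilizer, Subgroup.index_mul_card]

theorem card_inf_stabilizer {G X : Type*} [Group G] [MulAction G X] (H : Subgroup G) (x : X) :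
    Nat.card H = (MulAction.orbit H x).ncard * Nat.card ↥(H ⊓ MulAction.stabilizer G x) := by
  rw [card_eq_orbit_mul (G := H) x]
  congr 1
  refine Nat.card_congr ⟨fun g => ⟨g.1.1, g.1.2, g.2⟩, fun g => ⟨⟨g.1, g.2.1⟩, g.2.2⟩,
    fun g => rfl, fun g => rfl⟩

theorem orbit_octads {o : Finset GolayPt} (ho : o ∈ octads) : MulAction.orbit M24 o = octads := by
  ext y
  refine ⟨fun ⟨g, hg⟩ => hg ▸ smul_mem_weight g.2 ho, fun hy => ?_⟩
  obtain ⟨σ, hσ, h⟩ := octad_transitive ho hy
  exact ⟨⟨σ, hσ⟩, h⟩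

theorem ncard_octads : octads.ncard = 759 := by
  rw [octads, ncard_wordsOfWeight]
  decide +kernel

theorem card_stab_octad {o : Finset GolayPt} (ho : o ∈ octads) :
    Nat.card (MulAction.stabilizer M24 o) = 322560 := by
  have h := card_eq_orbit_mul (G := M24) o
  rw [orbit_octads ho, ncard_octads, card_M24] at h
  omega

theorem orbit_stab_octad {o o' : Finset GolayPt} (ho : o ∈ octads) (ho' : o' ∈ octads) :
    MulAction.orbit (MulAction.stabilizer M24 o) o' =
      {s : Finset GolayPt | s ∈ octads ∧ (o ∩ s).card = (o ∩ o').card} := by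
  ext s
  constructor
  · rintro ⟨g, rfl⟩
    refine ⟨smul_mem_weight g.1.2 ho', ?_⟩
    have hg : (g.1 : Equiv.Perm GolayPt) • o = o := g.2
    show (o ∩ (g.1 : Equiv.Perm GolayPt) • o').card = _
    exact ((congrArg (fun z => (z ∩ (g.1 : Equiv.Perm GolayPt) • o').card) hg).symm.trans
      (card_smul_inter _ _ _))
  · rintro ⟨hs, e⟩
    obtain ⟨g, hg, hgo, hgs⟩ := octad_suborbit ho ho' hs e.symm
    exact ⟨⟨⟨g, hg⟩, hgo⟩, hgs⟩

theorem card_stab_pair {o o' : Finset GolayPt} (ho : o ∈ octads) (ho' : o' ∈ octads) {j n : ℕ}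
    (hj : (o ∩ o').card = j) (he : (j, n) ∈ [(4, 280), (2, 448), (0, 30)]) :
    n * Nat.card ↥(MulAction.stabilizer M24 o ⊓ MulAction.stabilizer M24 o') = 322560 := by
  rw [← card_stab_octad ho, card_inf_stabilizer (MulAction.stabilizer M24 o) o',
    orbit_stab_octad ho ho', hj, octad_meet o ho (j, n) he]

end Cfsg.Agent.Golay
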