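import Cfsg.Agent.Lib.Golay.FamOctT
import Cfsg.Agent.Lib.Golay.FamTr
import Cfsg.Agent.Lib.Golay.FamGlue
import Cfsg.Agent.Lib.Golay.OctPairFix

/-! The fifteen trios through an octad. -/

set_option autoImplicit false
set_option maxRecDepth 100000

namespace Cfsg.Agent.Golay

open Cfsg Cfsg.Agent.Sextet
open scoped Pointwise

/-- Generators fixing an octad and a trio through it. -/
def gensOT : List Tab := [([2, 3, 5, 23, 7, 1, 22, 19, 11, 21, 4, 6, 16, 12, 14, 18, 20, 0, 15, 9, 10, 8, 13, 17], [17, 5, 0, 1, 10, 2, 11, 4, 21, 19, 20, 8, 13, 22, 14, 18, 12, 23, 15, 7, 16, 9, 6, 3]), ([23, 1, 2, 0, 19, 14, 8, 7, 10, 18, 6, 11, 21, 13, 17, 15, 9, 5, 16, 20, 4, 22, 12, 3], [3, 1, 2, 23, 20, 17, 10, 7, 6, 16, 8, 11, 22, 13, 5, 15, 18, 14, 9, 4, 19, 12, 21, 0])]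

/-- The other trios through the octad. -/
def orbOT : FOrb := ⟨[628112, 7612992, 8536111], [(0, 0, [1903248, 6337856, 8536111]), (0, 0, [3704512, 4536592, 8536111]), (0, 0, [1161408, 7079696, 8536111]), (0, 0, [2141072, 6100032, 8536111]), (0, 0, [2890176, 5350928, 8536111]), (0, 0, [3421328, 4819776, 8536111]), (0, 1, [1351424, 6889680, 8536111]), (0, 0, [2460752, 5780352, 8536111]), (0, 0, [2702848, 5538256, 8536111]), (0, 0, [3216208, 5024896, 8536111]), (0, 0, [832080, 7409024, 8536111]), (0, 0, [1584464, 6656640, 8536111]), (0, 0, [4038912, 4202192, 8536111])]⟩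

theorem orbOT_ok : (certOK gensOT orbOT &&
    decide (∀ T ∈ gensOT, (TabInv T ∧ ∀ x ∈ basis, inC (pullMask (tabFn T.1) x.2) = true) ∧
      tabSmall T = true ∧ imgF T famTr = famTr ∧ imgL T.1 baseOct = baseOct) &&
    orbOT.members.all (fun L => trB L && L.contains baseOct && L != famTr) &&
    decide (orbOT.members.length = 14)) = true := by decide +kernel

theorem octT0_inv : invM famOct famOctT_0.root = [0, 0, 8] ∧ famOctT_0.members.length = 15 ∧
    famTr = famOctT_0.root ∧
    [famOctT_0, famOctT_1, famOctT_2].all (fun c => trB c.root) = true := by decide +kernel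

theorem translations_swap : ∀ w ∈ words48, (∀ i : Fin 24, baseOct.testBit i.val = true → ev w i = i) →
    ((wtList 8).filter fun m => baseOct &&& m == 0).all (fun m =>
      pullMask (ev w) m == m || pullMask (ev w) m == 16777215 ^^^ (baseOct ||| m)) = true := by
  decide +kernel

theorem compl_union_supp : ∀ m ∈ (wtList 8).filter (fun m => baseOct &&& m == 0),
    (supp baseOct ∪ supp m)ᶜ = supp (16777215 ^^^ (baseOct ||| m)) := by decide +kernel

/-- A pointwise stabiliser of an octad fixes every trio through it. -/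
theorem fix_trios {o : Finset GolayPt} (ho : o ∈ octads) {g : Equiv.Perm GolayPt} (hg : g ∈ M24)
    (hfix : ∀ x ∈ o, g x = x) {T : Finset (Finset GolayPt)} (hT : T ∈ trios) (hoT : o ∈ T) :
    g • T = T := by
  obtain ⟨σ, hσ, rfl⟩ := octad_transitive ((base5_unique _).mpr rfl).1 ho
  have hgo : g • σ • supp baseOct = σ • supp baseOct := smul_eq_self_of_fix hfix
  obtain ⟨a, ha, hao⟩ : ∃ a ∈ T, a ≠ σ • supp baseOct := by
    by_contra hcon
    push Not at hcon
    have h1 : T.card ≤ 1 := Finset.card_le_one.mpr fun x hx y hy => by rw [hcon x hx, hcon y hy]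
    rw [hT.1] at h1
    omega
  have hd : Disjoint (σ • supp baseOct) a := hT.2.2 _ hoT _ ha hao.symm
  set m := maskF (σ⁻¹ • a) with hm
  have hm8 : m ∈ (wtList 8).filter (fun m => baseOct &&& m == 0) := by
    rw [List.mem_filter, beq_iff_eq]
    refine ⟨(mem_octads _).mp (smul_mem_weight (inv_mem hσ) (hT.2.1 a ha)), ?_⟩
    have hd' : Disjoint (supp baseOct) (σ⁻¹ • a) := by
      rw [Finset.disjoint_iff_inter_eq_empty, ← Finset.card_eq_zero] at hd ⊢
      rw [← card_smul_inter σ, smul_inv_smul]; exact hd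
    rw [disjoint_iff_mask, maskF_supp baseOct_lt] at hd'
    exact hd'
  have hsa : σ • supp m = a := by rw [hm, supp_maskF, smul_inv_smul]
  set h := σ⁻¹ * g⁻¹ * σ with hh
  have hhf : ∀ x ∈ supp baseOct, h x = x := fun x hx => by
    have h1 := hfix (σ x) (Finset.smul_mem_smul_finset hx)
    rw [hh, Equiv.Perm.mul_apply, Equiv.Perm.mul_apply]
    simp only [Equiv.Perm.coe_inv]
    rw [show g.symm (σ x) = σ x from by rw [Equiv.symm_apply_eq, h1], Equiv.symm_apply_apply]
  obtain ⟨w, hw, e⟩ := chain_five_words (σ := h)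
    ⟨mul_mem (mul_mem (inv_mem hσ) (inv_mem hg)) hσ, fun i hi => hhf _ (canon_octad.2.1 ⟨i, hi⟩)⟩
  have hev := List.all_eq_true.mp (translations_swap w hw fun i hi => by
    rw [fixes_pt_iff, e]; exact hhf _ (by rw [mem_supp, idx_pt]; exact hi)) m hm8
  simp only [Bool.or_eq_true, beq_iff_eq] at hev
  have himg : g • a = σ • supp (pullMask (ev w) m) := by
    rw [← supp_pullMask (σ := h⁻¹) (fun i => by rw [inv_inv, ← e, fn_wordPerm]), hh, ← mul_smul, ← hsa,
      ← mul_smul]
    congr 1
    simp [mul_assoc]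
  have hTe := trio_third hT hoT ha hao.symm
  have hgT := smul_trio hg hT
  have hgo' : σ • supp baseOct ∈ g • T := by
    have := Finset.smul_mem_smul_finset (a := g) hoT
    rwa [hgo] at this
  have hga : g • a ∈ g • T := Finset.smul_mem_smul_finset ha
  rcases hev with e1 | e1
  · rw [e1, hsa] at himg
    rw [trio_third hgT hgo' (himg ▸ hga) hao.symm, ← hTe]
  · have hc : g • a = (σ • supp baseOct ∪ a)ᶜ := by
      rw [himg, e1, ← compl_union_supp m hm8]
      conv_rhs => rw [← hsa]
      rw [Finset.compl_eq_univ_sdiff, Finset.compl_eq_univ_sdiff, Finset.smul_finset_sdiff,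
        Finset.smul_finset_univ, Finset.smul_finset_union]
    have hcT : (σ • supp baseOct ∪ a)ᶜ ∈ T := by rw [hTe]; simp
    have hne : σ • supp baseOct ≠ (σ • supp baseOct ∪ a)ᶜ := by
      intro he
      rw [← hc] at he
      exact hao (MulAction.injective g (he.symm.trans hgo.symm))
    rw [trio_third hgT hgo' (hc ▸ hga) hne, ← trio_third hT hoT hcT hne]

theorem trios_through {o : Finset GolayPt} (ho : o ∈ octads) :
    {T : Finset (Finset GolayPt) | T ∈ trios ∧ o ∈ T}.ncard = 15 ∧
    (∀ T₁ T₂ T₁' T₂' : Finset (Finset GolayPt), T₁ ∈ trios → T₂ ∈ trios → T₁' ∈ trios → T₂' ∈ trios →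
      o ∈ T₁ → o ∈ T₂ → o ∈ T₁' → o ∈ T₂' → T₁ ≠ T₂ → T₁' ≠ T₂' →
      ∃ g ∈ M24, g • o = o ∧ g • T₁ = T₁' ∧ g • T₂ = T₂') ∧
    ∀ g ∈ M24, g • o = o → ((∀ T ∈ trios, o ∈ T → g • T = T) ↔ ∀ p ∈ o, g p = p) := by
  classical
  obtain ⟨hinvc, hlen0, hroot0, hroots⟩ := octT0_inv
  obtain ⟨σ, hσ, rfl⟩ := octad_transitive baseOct_mem ho
  have hs : σ • fam famOct = ({σ • supp baseOct} : Finset (Finset GolayPt)) := by
    rw [show fam famOct = {supp baseOct} from fam_single _, Finset.smul_finset_singleton]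
  obtain ⟨hA, -⟩ := fam_orbits famOctT_ok hinv_trios
    (fun c hc => trio_of_check (List.all_eq_true.mp hroots c hc)) (ncard_trios.trans (by decide)) hσ
  have hset : {T : Finset (Finset GolayPt) | T ∈ trios ∧ σ • supp baseOct ∈ T} =
      MulAction.orbit ↥(MulAction.stabilizer M24 (σ • fam famOct)) (σ • fam famOctT_0.root) := by
    rw [(hA famOctT_0 (by simp)).2.2]
    ext T
    refine and_congr_right fun hT => ?_
    rw [hinvc, hs, famInv, Finset.singleton_product, Finset.map_val, Multiset.map_map]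
    constructor
    · intro hoT
      obtain ⟨a, ha, hao⟩ : ∃ a ∈ T, a ≠ σ • supp baseOct := by
        by_contra hcon
        push Not at hcon
        have h1 : T.card ≤ 1 := Finset.card_le_one.mpr fun x hx y hy => by rw [hcon x hx, hcon y hy]
        rw [hT.1] at h1
        omega
      rw [trio_third hT hoT ha hao.symm]
      have hd := hT.2.2 _ hoT _ ha hao.symm
      have hd2 : Disjoint (σ • supp baseOct) (σ • supp baseOct ∪ a)ᶜ :=
        disjoint_compl_right.mono_left Finset.subset_union_left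
      have n1 : σ • supp baseOct ∉ ({a, (σ • supp baseOct ∪ a)ᶜ} : Finset (Finset GolayPt)) := by
        simp only [Finset.mem_insert, Finset.mem_singleton, not_or]
        refine ⟨hao.symm, fun e => ?_⟩
        have := Finset.disjoint_left.mp hd2
        have h8 : (σ • supp baseOct).Nonempty := Finset.card_pos.mp (by rw [ho.2]; norm_num)
        obtain ⟨x, hx⟩ := h8
        exact this hx (e ▸ hx)
      have n2 : a ∉ ({(σ • supp baseOct ∪ a)ᶜ} : Finset (Finset GolayPt)) := by
        rw [Finset.mem_singleton]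
        intro e
        obtain ⟨x, hx⟩ : a.Nonempty := Finset.card_pos.mp (by rw [(hT.2.1 a ha).2]; norm_num)
        have := e ▸ hx
        simp [hx] at this
      rw [Finset.insert_val_of_notMem n1, Finset.insert_val_of_notMem n2, Finset.singleton_val]
      simp only [Multiset.map_cons, Multiset.map_singleton, Function.comp_apply,
        Function.Embedding.coeFn_mk, Finset.inter_self, ho.2,
        Finset.disjoint_iff_inter_eq_empty.mp hd, Finset.disjoint_iff_inter_eq_empty.mp hd2,
        Finset.card_empty]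
      decide
    · intro h
      have h8 : (8 : ℕ) ∈ (↑([0, 0, 8] : List ℕ) : Multiset ℕ) := by simp
      rw [← h, Multiset.mem_map] at h8
      obtain ⟨t, ht, he⟩ := h8
      simp only [Function.comp_apply, Function.Embedding.coeFn_mk] at he
      exact octad_eq_of_meet ho.2 (hT.2.1 t ht).2 he ▸ ht
  have hcard : {T : Finset (Finset GolayPt) | T ∈ trios ∧ σ • supp baseOct ∈ T}.ncard = 15 := by
    rw [hset, (hA famOctT_0 (by simp)).2.1, hlen0]
  have hT0 : fam famTr ∈ trios ∧ supp baseOct ∈ fam famTr :=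
    ⟨trio_of_check (by decide +kernel), mem_fam.mpr ⟨baseOct, by decide +kernel, rfl⟩⟩
  -- transitivity on the trios through the octad
  have hone : ∀ T ∈ trios, σ • supp baseOct ∈ T →
      ∃ g ∈ M24, g • σ • supp baseOct = σ • supp baseOct ∧ g • σ • fam famTr = T := by
    intro T hT hoT
    have : T ∈ MulAction.orbit ↥(MulAction.stabilizer M24 (σ • fam famOct)) (σ • fam famOctT_0.root) :=
      hset ▸ ⟨hT, hoT⟩
    obtain ⟨g, hg⟩ := this
    have key : ∀ g' : Equiv.Perm GolayPt, g' • (σ • fam famOct) = σ • fam famOct →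
        g' • σ • supp baseOct = σ • supp baseOct := fun g' h => by
      rwa [hs, Finset.smul_finset_singleton, Finset.singleton_inj] at h
    exact ⟨(g.1 : Equiv.Perm GolayPt), g.1.2, key _ g.2, by rw [hroot0]; exact hg⟩
  have hok := orbOT_ok
  simp only [Bool.and_eq_true, decide_eq_true_eq, List.all_eq_true, bne_iff_ne,
    List.contains_iff_mem] at hok
  obtain ⟨⟨⟨hc, hg⟩, hmem⟩, hlen⟩ := hok
  obtain ⟨hokm, hw, hdist⟩ := members_ok (fun T hT => ⟨(hg T hT).1.1, (hg T hT).2.1⟩) hc
  let K := M24 ⊓ MulAction.stabilizer (Equiv.Perm GolayPt) (fam famTr) ⊓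
    MulAction.stabilizer (Equiv.Perm GolayPt) (supp baseOct)
  have hreach : ∀ L ∈ orbOT.members, ∃ τ ∈ K, τ • fam orbOT.root = fam L :=
    reached_sound fam (fun T hT => by
      obtain ⟨⟨hi, hb⟩, hsm, hf, hf'⟩ := hg T hT
      refine ⟨tperm T, ⟨⟨mem_M24_of_basis
        (by rw [show fn (tperm T) = tabFn T.1 from funext (fn_tperm hi)]; exact hb), ?_⟩, ?_⟩,
        smul_fam_tab hi hsm⟩
      · show tperm T • fam famTr = fam famTr
        rw [smul_fam_tab hi hsm, hf]
      · show tperm T • supp baseOct = supp baseOct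
        rw [supp_imgM hi, ← imgL_eq hi hsm, hf']) hw
  have htwo : ∀ T ∈ trios, supp baseOct ∈ T → T ≠ fam famTr →
      ∃ τ ∈ K, τ • fam orbOT.root = T := by
    intro T hT hoT hne
    have hsub : (↑(orbOT.members.map fam).toFinset : Set (Finset (Finset GolayPt))) =
        {T | T ∈ trios ∧ supp baseOct ∈ T} \ {fam famTr} := by
      refine Set.eq_of_subset_of_ncard_le ?_ ?_ (Set.toFinite _)
      · intro x hx
        simp only [List.coe_toFinset, List.mem_map, Set.mem_ofPred_eq] at hx
        obtain ⟨L, hL, rfl⟩ := hx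
        obtain ⟨⟨h1, h2⟩, h3⟩ := hmem L hL
        exact ⟨⟨trio_of_check h1, mem_fam.mpr ⟨_, h2, rfl⟩⟩, fun e => h3 (fam_inj (hokm L hL)
          (by decide +kernel) e)⟩
      · have h15 : {T : Finset (Finset GolayPt) | T ∈ trios ∧ supp baseOct ∈ T}.ncard = 15 := by
          rw [← hcard, ← Set.ncard_image_of_injective _ (MulAction.injective σ)]
          refine congrArg Set.ncard (Set.ext fun y => ?_)
          constructor
          · rintro ⟨x, ⟨hx, hox⟩, rfl⟩
            exact ⟨smul_trio hσ hx, Finset.smul_mem_smul_finset hox⟩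
          · rintro ⟨hy, hoy⟩
            exact ⟨σ⁻¹ • y, ⟨smul_trio (inv_mem hσ) hy, by
              rwa [Finset.mem_inv_smul_finset_iff]⟩, smul_inv_smul _ _⟩
        rw [Set.ncard_coe_finset, List.toFinset_card_of_nodup, List.length_map, hlen,
          Set.ncard_diff_singleton_of_mem (show fam famTr ∈ {T | T ∈ trios ∧ supp baseOct ∈ T} from hT0), h15]
        exact List.Nodup.map_on (fun x hx y hy e => fam_inj (hokm x hx) (hokm y hy) e)
          (List.Nodup.of_map _ hdist)
    have : T ∈ (↑(orbOT.members.map fam).toFinset : Set (Finset (Finset GolayPt))) := by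
      rw [hsub]; exact ⟨⟨hT, hoT⟩, hne⟩
    simp only [List.coe_toFinset, List.mem_map, Set.mem_ofPred_eq] at this
    obtain ⟨L, hL, rfl⟩ := this
    exact hreach L hL
  have hpair : ∀ T₁ T₂, T₁ ∈ trios → T₂ ∈ trios → σ • supp baseOct ∈ T₁ → σ • supp baseOct ∈ T₂ →
      T₁ ≠ T₂ → ∃ g ∈ M24, g • supp baseOct = σ • supp baseOct ∧ g • fam famTr = T₁ ∧
        g • fam orbOT.root = T₂ := by
    intro T₁ T₂ h1 h2 ho1 ho2 hne
    obtain ⟨a, ha, hao, hat⟩ := hone T₁ h1 ho1
    have hb : (a * σ) • supp baseOct = σ • supp baseOct := by rw [mul_smul, hao]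
    obtain ⟨τ, ⟨⟨hτ, hτT⟩, hτo⟩, hτ2⟩ := htwo ((a * σ)⁻¹ • T₂)
      (smul_trio (inv_mem (mul_mem ha hσ)) h2)
      (by rw [Finset.mem_inv_smul_finset_iff, hb]; exact ho2)
      (fun e => hne (by rw [← hat, ← mul_smul, ← e, smul_inv_smul]))
    refine ⟨a * σ * τ, mul_mem (mul_mem ha hσ) hτ, ?_, ?_, ?_⟩
    · rw [mul_smul, show τ • supp baseOct = supp baseOct from hτo, hb]
    · rw [mul_smul, show τ • fam famTr = fam famTr from hτT, mul_smul, hat]
    · rw [mul_smul, hτ2, smul_inv_smul]
  refine ⟨hcard, fun T₁ T₂ T₁' T₂' h1 h2 h3 h4 o1 o2 o3 o4 n1 n2 => ?_, fun g hg hgo => ?_⟩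
  · obtain ⟨a, ha, a0, a1, a2⟩ := hpair T₁ T₂ h1 h2 o1 o2 n1
    obtain ⟨b, hb, b0, b1, b2⟩ := hpair T₁' T₂' h3 h4 o3 o4 n2
    refine ⟨b * a⁻¹, mul_mem hb (inv_mem ha), ?_, ?_, ?_⟩
    · conv_lhs => rw [← a0]
      rw [mul_smul, inv_smul_smul, b0]
    · rw [← a1, mul_smul, inv_smul_smul, b1]
    · rw [← a2, mul_smul, inv_smul_smul, b2]
  · refine ⟨fun hall => ?_, fun hfix T hT hoT => fix_trios ho hg hfix hT hoT⟩
    set o := σ • supp baseOct with hodef
    let N : Subgroup ↥(MulAction.stabilizer M24 o) :=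
      { carrier := {x | ∀ T ∈ trios, o ∈ T → ((x : M24) : Equiv.Perm GolayPt) • T = T}
        one_mem' := fun T _ _ => one_smul _ T
        mul_mem' := fun {x y} hx hy T hT hoT => by
          show (((x : M24) : Equiv.Perm GolayPt) * ((y : M24) : Equiv.Perm GolayPt)) • T = T
          rw [mul_smul, hy T hT hoT, hx T hT hoT]
        inv_mem' := fun {x} hx T hT hoT => by
          show ((x : M24) : Equiv.Perm GolayPt)⁻¹ • T = T
          rw [inv_smul_eq_iff, hx T hT hoT] }
    haveI hNn : N.Normal := ⟨fun x hx y T hT hoT => by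
      show (((y : M24) : Equiv.Perm GolayPt) * ((x : M24) : Equiv.Perm GolayPt) *
        ((y : M24) : Equiv.Perm GolayPt)⁻¹) • T = T
      have hy : ((y : M24) : Equiv.Perm GolayPt) • o = o := y.2
      rw [mul_smul, mul_smul, hx _ (smul_trio (inv_mem y.1.2) hT) (by
        rw [Finset.mem_inv_smul_finset_iff, hy]; exact hoT), smul_inv_smul]⟩
    let A := alternatingGroup ↥o
    let f : ↥(MulAction.stabilizer M24 o) →* ↥A := (onOctad o).codRestrict _ fun x => by
      show onOctad o x ∈ alternatingGroup ↥o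
      rw [← onOctad_range ho]; exact ⟨x, rfl⟩
    have hf : Function.Surjective f := fun e => by
      have he : (e : Equiv.Perm ↥o) ∈ (onOctad o).range := by rw [onOctad_range ho]; exact e.2
      obtain ⟨x, hx⟩ := he
      exact ⟨x, Subtype.ext hx⟩
    haveI : IsSimpleGroup ↥A := alternatingGroup.isSimpleGroup (by
      rw [Nat.card_eq_finsetCard, ho.2]; norm_num)
    rcases IsSimpleGroup.eq_bot_or_eq_top_of_normal (N.map f) (hNn.map f hf) with hb | ht
    · intro p hp
      have : f ⟨⟨g, hg⟩, hgo⟩ = 1 := Subgroup.mem_bot.mp (hb ▸ Subgroup.mem_map_of_mem f hall)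
      exact congrArg Subtype.val (DFunLike.congr_fun (congrArg Subtype.val this) (⟨p, hp⟩ : ↥o))
    · exfalso
      have htop : ∀ x : ↥(MulAction.stabilizer M24 o), x ∈ N := by
        intro x
        have : f x ∈ N.map f := ht ▸ Subgroup.mem_top _
        obtain ⟨y, hy, hyx⟩ := this
        have hk : y⁻¹ * x ∈ N := by
          intro T hT hoT
          refine fix_trios ho (y⁻¹ * x).1.2 (fun p hp => ?_) hT hoT
          have h1 : f (y⁻¹ * x) = 1 := by rw [map_mul, map_inv, hyx, inv_mul_cancel]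
          exact congrArg Subtype.val (DFunLike.congr_fun (congrArg Subtype.val h1) (⟨p, hp⟩ : ↥o))
        have := mul_mem hy hk
        rwa [mul_inv_cancel_left] at this
      obtain ⟨T, ⟨hT, hoT⟩, hne⟩ : ∃ T ∈ {T : Finset (Finset GolayPt) | T ∈ trios ∧ o ∈ T},
          T ≠ σ • fam famTr :=
        Set.exists_ne_of_one_lt_ncard (by rw [hcard]; norm_num) _
      obtain ⟨a, ha, hao, hat⟩ := hone T hT hoT
      exact hne (hat.symm.trans (htop ⟨⟨a, ha⟩, hao⟩ _ (smul_trio hσ hT0.1)
        (Finset.smul_mem_smul_finset hT0.2)))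

end Cfsg.Agent.Golay
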