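import Cfsg.Agent.Lib.Golay.OrbPQ

/-! Suborbits on the octads through two points. -/

set_option autoImplicit false
set_option maxRecDepth 100000

namespace Cfsg.Agent.Golay

open Cfsg
open scoped Pointwise

/-- An octad through the two marked positions. -/
def repOb : ℕ := 8391797

/-- An orbit certificate. -/
def orb_pqb : Orb := ⟨8391797, [(0, 0, 8688833), (0, 0, 8922769), (0, 0, 10557585), (0, 0, 8966165), (0, 0, 13121601), (0, 0, 11046145), (0, 0, 8431757), (0, 0, 11575377), (0, 0, 10630149), (0, 0, 11010247), (0, 1, 9440193), (0, 0, 8619033), (0, 0, 9465987), (0, 0, 15335473), (0, 0, 8657159), (0, 0, 8946281), (0, 0, 9776129), (0, 0, 10666625), (0, 0, 12656663), (0, 0, 10506593), (0, 0, 13370381), (0, 1, 12747077), (0, 0, 8398155), (0, 0, 11535529), (0, 0, 9830549), (0, 0, 8524371), (0, 0, 8983587), (0, 0, 9193633), (0, 0, 12880401), (0, 0, 8499969), (0, 0, 11100169), (0, 0, 15747077), (0, 2, 14950785),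 (0, 0, 10486557), (0, 0, 9506893), (0, 0, 10110017), (0, 0, 12717187), (0, 0, 8421811), (0, 0, 8663097), (0, 0, 12325377), (0, 0, 9112069), (0, 0, 8505411), (0, 0, 12641313), (1, 1, 8412681), (0, 0, 14254209), (0, 0, 8546577), (0, 0, 14716939), (0, 0, 9969957), (0, 0, 10881097), (0, 0, 9471495), (0, 0, 8593633), (0, 0, 10765331), (0, 0, 12587685), (0, 0, 9240913), (0, 1, 12650793), (0, 0, 9748745), (0, 0, 13771273), (0, 0, 11731203), (0, 0, 8536111), (0, 0, 13893731), (0, 0, 8783649), (0, 0, 8716939), (0, 0, 9519665), (0, 0, 13062145), (0, 0, 13124355), (5, 2, 9048457), (0, 0, 9963547), (0, 0, 9607201), (0, 0, 9347075), (0, 0, 10496547), (0, 0, 10846245), (0, 0, 8675909), (0, 0, 14747201), (0, 0, 8471941), (0, 0, 12599513), (0, 0, 13636881)]⟩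

/-- Generators of a stabiliser. -/
def gens_pqb : List Tab := [([0, 13, 11, 1, 10, 5, 4, 14, 22, 7, 2, 6, 19, 16, 21, 15, 20, 9, 12, 8, 3, 17, 18, 23], [0, 3, 10, 20, 6, 5, 11, 9, 19, 17, 4, 2, 18, 1, 7, 15, 13, 21, 22, 12, 16, 14, 8, 23]), ([0, 16, 6, 15, 4, 11, 5, 7, 21, 20, 2, 10, 9, 18, 1, 12, 19, 14, 22, 17, 3, 13, 8, 23], [0, 14, 10, 20, 4, 6, 2, 7, 22, 12, 11, 5, 15, 21, 17, 3, 1, 19, 13, 16, 9, 8, 18, 23]), ([0, 20, 10, 18, 5, 11, 4, 12, 17, 9, 2, 6, 14, 7, 13, 15, 21, 16, 19, 22, 1, 8, 3, 23], [0, 20, 10, 22, 6, 4, 11, 13, 21, 9, 2, 5, 7, 14, 12, 15, 17, 8, 3, 18, 1, 16, 19, 23])]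

/-- An orbit certificate. -/
def orb_pqb_2 : Orb := ⟨8499969, [(0, 0, 14254209), (0, 0, 9748745), (0, 0, 14716939), (0, 0, 9347075), (0, 1, 13062145), (0, 0, 12325377), (0, 0, 9048457), (0, 0, 13124355), (0, 0, 14950785), (1, 1, 11731203), (0, 0, 13771273), (0, 0, 8716939), (0, 0, 9465987), (0, 0, 11100169), (6, 1, 10666625)]⟩

/-- An orbit certificate. -/
def orb_pqb_4 : Orb := ⟨8398155, [(0, 0, 12656663), (0, 0, 9776129), (0, 0, 9506893), (0, 0, 9963547), (0, 1, 8619033), (0, 0, 9471495), (0, 0, 8431757), (0, 0, 8505411), (0, 0, 11575377), (0, 1, 8663097), (0, 0, 8983587), (0, 0, 9969957), (0, 0, 12650793), (0, 0, 13893731), (1, 1, 11046145), (0, 0, 12747077), (0, 0, 12880401), (0, 0, 8688833), (0, 0, 8966165), (0, 1, 8524371), (0, 0, 8922769), (0, 0, 8471941), (0, 0, 15747077), (0, 0, 10881097), (0, 1, 12641313), (0, 0, 10846245), (0, 0, 9607201), (0, 0, 8946281), (0, 0, 8421811), (0, 1, 10557585),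 (0, 0, 10110017), (0, 0, 10486557), (0, 0, 12717187), (0, 0, 8675909), (2, 2, 8783649), (0, 0, 12587685), (0, 0, 9193633), (0, 0, 10506593), (0, 0, 15335473), (0, 1, 8546577), (0, 0, 14747201), (0, 0, 9830549), (0, 0, 8412681), (0, 0, 11010247), (0, 1, 8593633), (0, 0, 9519665), (0, 0, 11535529), (0, 0, 8536111), (0, 0, 10496547), (0, 2, 9440193), (0, 0, 12599513), (0, 0, 10765331), (0, 0, 10630149), (0, 0, 9112069), (7, 2, 8657159), (0, 0, 13121601), (0, 0, 9240913), (0, 0, 13636881), (0, 0, 13370381)]⟩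

/-- Octads through both marked positions. -/
def pqbP (m : ℕ) : Bool := codeW 8 m && m.testBit (23 : Fin 24).val && m.testBit (0 : Fin 24).val

theorem pqb_iff {σ : Equiv.Perm GolayPt} (hσ : σ ∈ M24) (t : Finset GolayPt) :
    (σ • t ∈ octads ∧ σ (pt 23) ∈ σ • t ∧ σ (pt 0) ∈ σ • t) ↔ pqbP (maskF t) = true := by
  have h : σ • t ∈ octads ↔ codeW 8 (maskF t) = true :=
    (smul_weight_iff hσ 8 t).trans (maskF_mem_wt 8 t)
  rw [h, mem_smul_iff, mem_smul_iff]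
  simp only [pqbP, Bool.and_eq_true, and_assoc]

theorem pqbP_mem (t : Finset GolayPt) (h : pqbP (maskF t) = true) : maskF t ∈ wtList 8 := by
  simp only [pqbP, Bool.and_eq_true] at h
  exact (mem_wordsOfWeight 8 t).mp ((maskF_mem_wt 8 t).mpr h.1.1)

theorem gens_pqb_ok : gensFix [bitM 23, bitM 0, repOb] gens_pqb := by decide +kernel

theorem pqb_ok : (classOK (wtList 8) gens_pq orb_pqb pqbP 77 &&
    classOK (wtList 8) gens_pqb orb_pqb_2 (fun m => pqbP m && popc (repOb &&& m) == 2) 16 &&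
    classOK (wtList 8) gens_pqb orb_pqb_4 (fun m => pqbP m && popc (repOb &&& m) == 4) 60) = true := by
  decide +kernel

theorem repOb_lt : repOb < 2 ^ 24 := by decide +kernel

theorem repOb_mem : pqbP repOb = true := by decide +kernel

theorem pqb_suborbits (p q : GolayPt) (hpq : p ≠ q) (o : Finset GolayPt)
    (ho : o ∈ octads ∧ p ∈ o ∧ q ∈ o) :
    {x : Finset GolayPt | x ∈ octads ∧ p ∈ x ∧ q ∈ x ∧ (o ∩ x).card = 2}.ncard = 16 ∧
    {x : Finset GolayPt | x ∈ octads ∧ p ∈ x ∧ q ∈ x ∧ (o ∩ x).card = 4}.ncard = 60 ∧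
    ∀ o' o'' : Finset GolayPt, (o' ∈ octads ∧ p ∈ o' ∧ q ∈ o') →
      (o'' ∈ octads ∧ p ∈ o'' ∧ q ∈ o'') → (o ∩ o').card = (o ∩ o'').card →
      ∃ g : Equiv.Perm GolayPt, g ∈ M24 ∧ g p = p ∧ g q = q ∧ g • o = o ∧ g • o' = o'' := by
  obtain ⟨σ, hσ, rfl, rfl⟩ := exists_map_two hpq
  have hok := pqb_ok
  simp only [Bool.and_eq_true] at hok
  have h1 := cfg_class hσ gens_pq_ok hok.1.1 (fun _ hm => wtList_lt hm) pqbP_mem
    (fun x => x ∈ octads ∧ σ (pt 23) ∈ x ∧ σ (pt 0) ∈ x) (pqb_iff hσ)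
  obtain ⟨g, hg, hf, hgo⟩ := h1.2 (σ • supp repOb) o
    ((pqb_iff hσ _).mpr (by rw [maskF_supp repOb_lt]; exact repOb_mem)) ho
  have hgp := fix_pt (hf _ List.mem_cons_self)
  have hgq := fix_pt (hf _ (List.mem_cons_of_mem _ List.mem_cons_self))
  set τ := g * σ with hτdef
  have hτ : τ ∈ M24 := mul_mem hg hσ
  have ep : σ (pt 23) = τ (pt 23) := by rw [hτdef, Equiv.Perm.mul_apply, hgp]
  have eq' : σ (pt 0) = τ (pt 0) := by rw [hτdef, Equiv.Perm.mul_apply, hgq]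
  have eo : o = τ • supp repOb := by rw [hτdef, mul_smul, hgo]
  rw [ep, eq'] at ho ⊢
  subst eo
  have key : ∀ (j n : ℕ) (c : Orb),
      classOK (wtList 8) gens_pqb c (fun m => pqbP m && popc (repOb &&& m) == j) n = true →
      {x : Finset GolayPt | x ∈ octads ∧ τ (pt 23) ∈ x ∧ τ (pt 0) ∈ x ∧
        (τ • supp repOb ∩ x).card = j}.ncard = n ∧
      ∀ a b : Finset GolayPt, (a ∈ octads ∧ τ (pt 23) ∈ a ∧ τ (pt 0) ∈ a) →
        (b ∈ octads ∧ τ (pt 23) ∈ b ∧ τ (pt 0) ∈ b) →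
        (τ • supp repOb ∩ a).card = j → (τ • supp repOb ∩ b).card = j →
        ∃ g : Equiv.Perm GolayPt, g ∈ M24 ∧ g (τ (pt 23)) = τ (pt 23) ∧ g (τ (pt 0)) = τ (pt 0) ∧
          g • τ • supp repOb = τ • supp repOb ∧ g • a = b := by
    intro j n c hcl
    have h := cfg_class hτ gens_pqb_ok hcl (fun _ hm => wtList_lt hm)
      (fun t ht => pqbP_mem t (Bool.and_eq_true_iff.mp ht).1)
      (fun x => x ∈ octads ∧ τ (pt 23) ∈ x ∧ τ (pt 0) ∈ x ∧ (τ • supp repOb ∩ x).card = j)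
      (fun t => by
        rw [← and_assoc (b := τ (pt 0) ∈ τ • t), ← and_assoc, pqb_iff hτ, card_smul_inter,
          popc_inter, maskF_supp repOb_lt]
        simp)
    refine ⟨h.1, fun a b ha hb h1 h2 => ?_⟩
    obtain ⟨g, hg, hf, e⟩ := h.2 a b ⟨ha.1, ha.2.1, ha.2.2, h1⟩ ⟨hb.1, hb.2.1, hb.2.2, h2⟩
    exact ⟨g, hg, fix_pt (hf _ List.mem_cons_self),
      fix_pt (hf _ (List.mem_cons_of_mem _ List.mem_cons_self)), hf _ (by simp), e⟩
  have k2 := key 2 16 _ hok.1.2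
  have k4 := key 4 60 _ hok.2
  refine ⟨k2.1, k4.1, fun a b ha hb h => ?_⟩
  by_cases hoa : τ • supp repOb = a
  · refine ⟨1, one_mem _, rfl, rfl, one_smul _ _, ?_⟩
    rw [one_smul, ← hoa]
    exact octad_eq_of_meet ho.1.2 hb.1.2 (by rw [← h, ← hoa, Finset.inter_self, ho.1.2])
  rcases Steiner.inter_24 (by decide) octads_steiner ho.1 ha.1 hoa with e | e | e
  · exfalso
    exact Finset.notMem_empty _ (Finset.card_eq_zero.mp e ▸ Finset.mem_inter.mpr ⟨ho.2.1, ha.2.1⟩)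
  · exact k2.2 a b ha hb e (h ▸ e)
  · exact k4.2 a b ha hb e (h ▸ e)

end Cfsg.Agent.Golay
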