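import Cfsg.Agent.Lib.Golay.OrbPts

/-! Suborbits with two marked points; octad and dodecad counts. -/

set_option autoImplicit false

namespace Cfsg.Agent.Golay

open Cfsg
open scoped Pointwise

theorem exists_map_two {p q : GolayPt} (hpq : p ≠ q) :
    ∃ σ ∈ M24, σ (pt 23) = p ∧ σ (pt 0) = q := by
  obtain ⟨σ, hσ, h⟩ := exists_map_points (N := 2) (by norm_num)
    ⟨![p, q], by intro i j; fin_cases i <;> fin_cases j <;> simp [hpq, hpq.symm]⟩
  exact ⟨σ, hσ, h 0, h 1⟩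

/-- Octads through the first marked position avoiding the second. -/
def pqP (m : ℕ) : Bool := codeW 8 m && m.testBit (23 : Fin 24).val && !m.testBit (0 : Fin 24).val

theorem pq_iff {σ : Equiv.Perm GolayPt} (hσ : σ ∈ M24) (t : Finset GolayPt) :
    (σ • t ∈ octads ∧ σ (pt 23) ∈ σ • t ∧ σ (pt 0) ∉ σ • t) ↔ pqP (maskF t) = true := by
  have h : σ • t ∈ octads ↔ codeW 8 (maskF t) = true :=
    (smul_weight_iff hσ 8 t).trans (maskF_mem_wt 8 t)
  rw [h, mem_smul_iff, mem_smul_iff]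
  simp only [pqP, Bool.and_eq_true, Bool.not_eq_true', Bool.not_eq_true, and_assoc]

theorem pqP_mem (t : Finset GolayPt) (h : pqP (maskF t) = true) : maskF t ∈ wtList 8 := by
  simp only [pqP, Bool.and_eq_true] at h
  exact (mem_wordsOfWeight 8 t).mp ((maskF_mem_wt 8 t).mpr h.1.1)

theorem gens_pq_ok : gensFix [bitM 23, bitM 0] gens_pq := by decide +kernel

theorem gens_pqo_ok : gensFix [bitM 23, bitM 0, repO0] gens_pqo := by decide +kernel

theorem pq_ok : (classOK (wtList 8) gens_pq orb_pq_1 pqP 176 &&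
    classOK (wtList 8) gens_pqo orb_pqo_2 (fun m => pqP m && popc (repO0 &&& m) == 2) 70 &&
    classOK (wtList 8) gens_pqo orb_pqo_4 (fun m => pqP m && popc (repO0 &&& m) == 4) 105) = true := by
  decide +kernel

theorem repO0_mem : pqP repO0 = true := by decide +kernel

theorem repO0_lt : repO0 < 2 ^ 24 := by decide +kernel

theorem pq_all {σ : Equiv.Perm GolayPt} (hσ : σ ∈ M24) :
    {x : Finset GolayPt | x ∈ octads ∧ σ (pt 23) ∈ x ∧ σ (pt 0) ∉ x}.ncard = 176 ∧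
    ∀ o o' : Finset GolayPt, (o ∈ octads ∧ σ (pt 23) ∈ o ∧ σ (pt 0) ∉ o) →
      (o' ∈ octads ∧ σ (pt 23) ∈ o' ∧ σ (pt 0) ∉ o') →
      ∃ g : Equiv.Perm GolayPt, g ∈ M24 ∧ g (σ (pt 23)) = σ (pt 23) ∧
        g (σ (pt 0)) = σ (pt 0) ∧ g • o = o' := by
  have hok := pq_ok
  simp only [Bool.and_eq_true] at hok
  have h := cfg_class hσ gens_pq_ok hok.1.1 (fun _ hm => wtList_lt hm) pqP_mem
    (fun x => x ∈ octads ∧ σ (pt 23) ∈ x ∧ σ (pt 0) ∉ x) (pq_iff hσ)
  refine ⟨h.1, fun o o' ho ho' => ?_⟩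
  obtain ⟨g, hg, hf, e⟩ := h.2 o o' ho ho'
  exact ⟨g, hg, fix_pt (hf _ List.mem_cons_self),
    fix_pt (hf _ (List.mem_cons_of_mem _ List.mem_cons_self)), e⟩

theorem pq_suborbits (p q : GolayPt) (hpq : p ≠ q) :
    {x : Finset GolayPt | (x ∈ octads ∧ p ∈ x ∧ q ∉ x)}.ncard = 176 ∧
    (∀ o o' : Finset GolayPt, (o ∈ octads ∧ p ∈ o ∧ q ∉ o) → (o' ∈ octads ∧ p ∈ o' ∧ q ∉ o') →
      ∃ g : Equiv.Perm GolayPt, g ∈ M24 ∧ g p = p ∧ g q = q ∧ g • o = o') ∧
    ∀ o : Finset GolayPt, (o ∈ octads ∧ p ∈ o ∧ q ∉ o) →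
      {x : Finset GolayPt | (x ∈ octads ∧ p ∈ x ∧ q ∉ x) ∧ (o ∩ x).card = 2}.ncard = 70 ∧
      {x : Finset GolayPt | (x ∈ octads ∧ p ∈ x ∧ q ∉ x) ∧ (o ∩ x).card = 4}.ncard = 105 ∧
      ∀ o' o'' : Finset GolayPt, (o' ∈ octads ∧ p ∈ o' ∧ q ∉ o') →
        (o'' ∈ octads ∧ p ∈ o'' ∧ q ∉ o'') → (o ∩ o').card = (o ∩ o'').card →
        ∃ g : Equiv.Perm GolayPt, g ∈ M24 ∧ g p = p ∧ g q = q ∧ g • o = o ∧ g • o' = o'' := by
  obtain ⟨σ, hσ, rfl, rfl⟩ := exists_map_two hpq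
  obtain ⟨hc, htr⟩ := pq_all hσ
  refine ⟨hc, htr, fun o ho => ?_⟩
  obtain ⟨g, hg, hgp, hgq, hgo⟩ := htr (σ • supp repO0) o
    ((pq_iff hσ _).mpr (by rw [maskF_supp repO0_lt]; exact repO0_mem)) ho
  set τ := g * σ with hτdef
  have hτ : τ ∈ M24 := mul_mem hg hσ
  have ep : σ (pt 23) = τ (pt 23) := by rw [hτdef, Equiv.Perm.mul_apply, hgp]
  have eq' : σ (pt 0) = τ (pt 0) := by rw [hτdef, Equiv.Perm.mul_apply, hgq]
  have eo : o = τ • supp repO0 := by rw [hτdef, mul_smul, hgo]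
  rw [ep, eq'] at ho ⊢
  subst eo
  have hok := pq_ok
  simp only [Bool.and_eq_true] at hok
  have key : ∀ (j n : ℕ) (c : Orb),
      classOK (wtList 8) gens_pqo c (fun m => pqP m && popc (repO0 &&& m) == j) n = true →
      {x : Finset GolayPt | (x ∈ octads ∧ τ (pt 23) ∈ x ∧ τ (pt 0) ∉ x) ∧
        (τ • supp repO0 ∩ x).card = j}.ncard = n ∧
      ∀ a b : Finset GolayPt, (a ∈ octads ∧ τ (pt 23) ∈ a ∧ τ (pt 0) ∉ a) →
        (b ∈ octads ∧ τ (pt 23) ∈ b ∧ τ (pt 0) ∉ b) →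
        (τ • supp repO0 ∩ a).card = j → (τ • supp repO0 ∩ b).card = j →
        ∃ g : Equiv.Perm GolayPt, g ∈ M24 ∧ g (τ (pt 23)) = τ (pt 23) ∧ g (τ (pt 0)) = τ (pt 0) ∧
          g • τ • supp repO0 = τ • supp repO0 ∧ g • a = b := by
    intro j n c hcl
    have h := cfg_class hτ gens_pqo_ok hcl (fun _ hm => wtList_lt hm)
      (fun t ht => pqP_mem t (Bool.and_eq_true_iff.mp ht).1)
      (fun x => (x ∈ octads ∧ τ (pt 23) ∈ x ∧ τ (pt 0) ∉ x) ∧ (τ • supp repO0 ∩ x).card = j)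
      (fun t => by
        rw [pq_iff hτ, card_smul_inter, popc_inter, maskF_supp repO0_lt]
        simp)
    refine ⟨h.1, fun a b ha hb h1 h2 => ?_⟩
    obtain ⟨g, hg, hf, e⟩ := h.2 a b ⟨ha, h1⟩ ⟨hb, h2⟩
    exact ⟨g, hg, fix_pt (hf _ List.mem_cons_self),
      fix_pt (hf _ (List.mem_cons_of_mem _ List.mem_cons_self)), hf _ (by simp), e⟩
  have k2 := key 2 70 _ hok.1.2
  have k4 := key 4 105 _ hok.2
  refine ⟨k2.1, k4.1, fun a b ha hb h => ?_⟩
  by_cases hoa : τ • supp repO0 = a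
  · refine ⟨1, one_mem _, rfl, rfl, one_smul _ _, ?_⟩
    rw [one_smul, ← hoa]
    exact octad_eq_of_meet ho.1.2 hb.1.2 (by rw [← h, ← hoa, Finset.inter_self, ho.1.2])
  rcases Steiner.inter_24 (by decide) octads_steiner ho.1 ha.1 hoa with e | e | e
  · exfalso
    exact Finset.notMem_empty _ (Finset.card_eq_zero.mp e ▸ Finset.mem_inter.mpr ⟨ho.2.1, ha.2.1⟩)
  · exact k2.2 a b ha hb e (h ▸ e)
  · exact k4.2 a b ha hb e (h ▸ e)

/-! ### A pair avoiding two marked points -/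

/-- The positions `23`, `0` and the base pair. -/
def repPQS : ℕ := repP ||| repQ ||| repS2

theorem repPQS_facts : repPQS < 2 ^ 24 ∧ repS2 < 2 ^ 24 ∧ supp repT3 ⊆ supp repPQS ∧
    supp repPQS = {pt 23, pt 0} ∪ supp repS2 ∧ supp repS2 = {pt 1, pt 2} := by decide +kernel

/-- Pairs avoiding the marked positions, meeting the base pair in `j` positions. -/
def pqsP (j : ℕ) (m : ℕ) : Bool :=
  meetK 2 repS2 j m && !m.testBit (23 : Fin 24).val && !m.testBit (0 : Fin 24).val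

theorem gens_pqs_ok : gensFix [bitM 23, bitM 0, repS2] gens_pqs := by decide +kernel

theorem pqs_ok :
    (classOK (genK 24 2) gens_pqs orb_pqs_0y (fun m => pqsP 0 m && inOctB (repPQS ||| m)) 30 &&
    classOK (genK 24 2) gens_pqs orb_pqs_0n (fun m => pqsP 0 m && !inOctB (repPQS ||| m)) 160 &&
    classOK (genK 24 2) gens_pqs orb_pqs_1y (pqsP 1) 40) = true := by
  decide +kernel

theorem pqsP_mem {j : ℕ} (t : Finset GolayPt) (h : pqsP j (maskF t) = true) :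
    maskF t ∈ genK 24 2 := by
  simp only [pqsP, Bool.and_eq_true] at h
  exact maskF_mem_genK ((meetK_set 2 j repPQS_facts.2.1 t).mpr h.1.1).1

theorem genK2_lt : ∀ m ∈ genK 24 2, m < 2 ^ 24 := fun m hm =>
  of_decide_eq_true (List.all_eq_true.mp (List.all_eq_true.mp genK_lt 2 (by simp)) m hm)

theorem pqs_iff {σ : Equiv.Perm GolayPt} (j : ℕ) (t : Finset GolayPt) :
    (((σ • t).card = 2 ∧ σ (pt 23) ∉ σ • t ∧ σ (pt 0) ∉ σ • t) ∧
      (σ • supp repS2 ∩ σ • t).card = j) ↔ pqsP j (maskF t) = true := by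
  rw [Finset.card_smul_finset, mem_smul_iff, mem_smul_iff, card_smul_inter]
  simp only [pqsP, Bool.and_eq_true, Bool.not_eq_true', Bool.not_eq_true,
    ← meetK_set 2 j repPQS_facts.2.1 t]
  tauto

theorem pqs_oct {σ : Equiv.Perm GolayPt} (hσ : σ ∈ M24) (t : Finset GolayPt) :
    (∃ o ∈ octads, σ (pt 23) ∈ o ∧ σ (pt 0) ∈ o ∧ σ • supp repS2 ∪ σ • t ⊆ o) ↔
      inOctB (repPQS ||| maskF t) = true := by
  rw [← maskF_supp repPQS_facts.1, ← maskF_union,
    ← exists_octad_iff _ (repPQS_facts.2.2.1.trans Finset.subset_union_left),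
    ← exists_octad_smul hσ, repPQS_facts.2.2.2.1]
  simp only [Finset.smul_finset_union, Finset.smul_finset_insert, Finset.smul_finset_singleton,
    Equiv.Perm.smul_def, Finset.union_subset_iff, Finset.insert_subset_iff,
    Finset.singleton_subset_iff, and_assoc]

theorem exists_map_pqs {p q : GolayPt} (hpq : p ≠ q) {s : Finset GolayPt}
    (hs : s.card = 2 ∧ p ∉ s ∧ q ∉ s) :
    ∃ σ ∈ M24, σ (pt 23) = p ∧ σ (pt 0) = q ∧ σ • supp repS2 = s := by
  obtain ⟨h2, hp, hq⟩ := hs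
  obtain ⟨a, b, hab, rfl⟩ := Finset.card_eq_two.mp h2
  simp only [Finset.mem_insert, Finset.mem_singleton, not_or] at hp hq
  obtain ⟨σ, hσ, h⟩ := exists_map_points (N := 4) (by norm_num)
    ⟨![p, q, a, b], by
      intro i j
      fin_cases i <;> fin_cases j <;>
        simp [hpq, hpq.symm, hab, hab.symm, hp.1, hp.2, hq.1, hq.2, Ne.symm hp.1, Ne.symm hp.2,
          Ne.symm hq.1, Ne.symm hq.2]⟩
  refine ⟨σ, hσ, h 0, h 1, ?_⟩
  rw [repPQS_facts.2.2.2.2, Finset.smul_finset_insert, Finset.smul_finset_singleton]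
  show ({σ (pt 1), σ (pt 2)} : Finset GolayPt) = {a, b}
  rw [show σ (pt 1) = a from h 2, show σ (pt 2) = b from h 3]

theorem pqs_suborbits (p q : GolayPt) (hpq : p ≠ q) (s : Finset GolayPt)
    (hs : (s.card = 2 ∧ p ∉ s ∧ q ∉ s)) :
    {t : Finset GolayPt | (t.card = 2 ∧ p ∉ t ∧ q ∉ t) ∧ Disjoint s t ∧
      (∃ o ∈ octads, p ∈ o ∧ q ∈ o ∧ s ∪ t ⊆ o)}.ncard = 30 ∧
    {t : Finset GolayPt | (t.card = 2 ∧ p ∉ t ∧ q ∉ t) ∧ Disjoint s t ∧
      ¬ (∃ o ∈ octads, p ∈ o ∧ q ∈ o ∧ s ∪ t ⊆ o)}.ncard = 160 ∧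
    ∀ t t' : Finset GolayPt, (t.card = 2 ∧ p ∉ t ∧ q ∉ t) → (t'.card = 2 ∧ p ∉ t' ∧ q ∉ t') →
      t ≠ s → t' ≠ s → (s ∩ t).card = (s ∩ t').card →
      ((∃ o ∈ octads, p ∈ o ∧ q ∈ o ∧ s ∪ t ⊆ o) ↔ (∃ o ∈ octads, p ∈ o ∧ q ∈ o ∧ s ∪ t' ⊆ o)) →
      ∃ g : Equiv.Perm GolayPt, g ∈ M24 ∧ g p = p ∧ g q = q ∧ g • s = s ∧ g • t = t' := by
  obtain ⟨σ, hσ, rfl, rfl, rfl⟩ := exists_map_pqs hpq hs
  have hok := pqs_ok
  simp only [Bool.and_eq_true] at hok
  have hdis : ∀ t : Finset GolayPt,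
      Disjoint (σ • supp repS2) t ↔ (σ • supp repS2 ∩ t).card = 0 :=
    fun t => by rw [Finset.card_eq_zero, Finset.disjoint_iff_inter_eq_empty]
  have fin : ∀ {g : Equiv.Perm GolayPt}, (∀ f ∈ [bitM 23, bitM 0, repS2], g • σ • supp f = σ • supp f) →
      g (σ (pt 23)) = σ (pt 23) ∧ g (σ (pt 0)) = σ (pt 0) ∧
        g • σ • supp repS2 = σ • supp repS2 := fun hf =>
    ⟨fix_pt (hf _ List.mem_cons_self), fix_pt (hf _ (List.mem_cons_of_mem _ List.mem_cons_self)),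
      hf _ (by simp)⟩
  have hy := cfg_class hσ gens_pqs_ok hok.1.1 genK2_lt
    (fun t ht => pqsP_mem t (Bool.and_eq_true_iff.mp ht).1)
    (fun t => (t.card = 2 ∧ σ (pt 23) ∉ t ∧ σ (pt 0) ∉ t) ∧ Disjoint (σ • supp repS2) t ∧
      ∃ o ∈ octads, σ (pt 23) ∈ o ∧ σ (pt 0) ∈ o ∧ σ • supp repS2 ∪ t ⊆ o)
    (fun t => by rw [hdis, ← and_assoc, pqs_iff, pqs_oct hσ]; simp)
  have hn := cfg_class hσ gens_pqs_ok hok.1.2 genK2_lt
    (fun t ht => pqsP_mem t (Bool.and_eq_true_iff.mp ht).1)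
    (fun t => (t.card = 2 ∧ σ (pt 23) ∉ t ∧ σ (pt 0) ∉ t) ∧ Disjoint (σ • supp repS2) t ∧
      ¬ ∃ o ∈ octads, σ (pt 23) ∈ o ∧ σ (pt 0) ∈ o ∧ σ • supp repS2 ∪ t ⊆ o)
    (fun t => by rw [hdis, ← and_assoc, pqs_iff, pqs_oct hσ]; simp)
  have h1 := cfg_class hσ gens_pqs_ok hok.2 genK2_lt pqsP_mem
    (fun t => (t.card = 2 ∧ σ (pt 23) ∉ t ∧ σ (pt 0) ∉ t) ∧ (σ • supp repS2 ∩ t).card = 1)
    (fun t => pqs_iff 1 t)
  refine ⟨hy.1, hn.1, fun t t' ht ht' hts hts' hcard hiff => ?_⟩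
  have h2 : (σ • supp repS2 ∩ t).card ≠ 2 := fun e =>
    hts (octad_eq_of_meet hs.1 ht.1 e).symm
  have hle : (σ • supp repS2 ∩ t).card ≤ 2 := hs.1 ▸ Finset.card_le_card Finset.inter_subset_left
  by_cases h0 : (σ • supp repS2 ∩ t).card = 0
  · have hd := (hdis t).mpr h0
    have hd' := (hdis t').mpr (hcard ▸ h0)
    by_cases hi : ∃ o ∈ octads, σ (pt 23) ∈ o ∧ σ (pt 0) ∈ o ∧ σ • supp repS2 ∪ t ⊆ o
    · obtain ⟨g, hg, hf, e⟩ := hy.2 t t' ⟨ht, hd, hi⟩ ⟨ht', hd', hiff.mp hi⟩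
      exact ⟨g, hg, (fin hf).1, (fin hf).2.1, (fin hf).2.2, e⟩
    · obtain ⟨g, hg, hf, e⟩ := hn.2 t t' ⟨ht, hd, hi⟩ ⟨ht', hd', fun h => hi (hiff.mpr h)⟩
      exact ⟨g, hg, (fin hf).1, (fin hf).2.1, (fin hf).2.2, e⟩
  · have e1 : (σ • supp repS2 ∩ t).card = 1 := by omega
    obtain ⟨g, hg, hf, e⟩ := h1.2 t t' ⟨ht, e1⟩ ⟨ht', hcard ▸ e1⟩
    exact ⟨g, hg, (fin hf).1, (fin hf).2.1, (fin hf).2.2, e⟩

/-! ### Octads meeting an octad in a given subset -/

theorem maskF_inter (a b : Finset GolayPt) : maskF (a ∩ b) = maskF a &&& maskF b := by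
  apply Nat.eq_of_testBit_eq
  intro i
  rw [Nat.testBit_and]
  by_cases hi : i < 24
  · have hc := testBit_maskF (a ∩ b) (pt ⟨i, hi⟩)
    have ha := testBit_maskF a (pt ⟨i, hi⟩)
    have hb := testBit_maskF b (pt ⟨i, hi⟩)
    rw [idx_pt] at hc ha hb
    simp only at hc ha hb
    rw [hc, ha, hb]
    simp
  · have hlt : ∀ s : Finset GolayPt, (maskF s).testBit i = false := fun s =>
      Nat.testBit_lt_two_pow (lt_of_lt_of_le (maskF_lt s) (Nat.pow_le_pow_right (by norm_num) (not_lt.mp hi)))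
    rw [hlt, hlt, hlt]; rfl

theorem octad_trace_count : (List.all [(2, 16), (4, 4)] fun e =>
    ((genK 24 e.1).filter fun m => m &&& baseOct == m).all fun m =>
      distinctB 24 ((wtList 8).filter fun o => baseOct &&& o == m) &&
        decide (((wtList 8).filter fun o => baseOct &&& o == m).length = e.2)) = true := by
  decide +kernel

theorem octad_trace {o : Finset GolayPt} (ho : o ∈ octads) {s : Finset GolayPt} (hs : s ⊆ o) :
    ∀ e ∈ [(2, 16), (4, 4)], s.card = e.1 →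
      {o' : Finset GolayPt | o' ∈ octads ∧ o ∩ o' = s}.ncard = e.2 := by
  intro e he hk
  obtain ⟨σ, hσ, rfl⟩ := octad_transitive baseOct_mem ho
  have hs' : σ⁻¹ • s ⊆ supp baseOct := by
    simpa using Finset.smul_finset_subset_smul_finset (a := σ⁻¹) hs
  have hm : maskF (σ⁻¹ • s) ∈ (genK 24 e.1).filter fun m => m &&& baseOct == m := by
    refine List.mem_filter.mpr ⟨maskF_mem_genK (by rw [Finset.card_smul_finset, hk]), beq_iff_eq.mpr ?_⟩
    have := (subset_iff_mask _ _).mp hs'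
    rwa [maskF_supp baseOct_lt] at this
  have hc := List.all_eq_true.mp (List.all_eq_true.mp octad_trace_count e he) _ hm
  rw [ncard_transport σ]
  refine ncard_filter_masks (fun _ h => wtList_lt h) hc fun t => ?_
  show (σ • t ∈ octads ∧ _) ↔ _
  have h1 : σ • t ∈ octads ↔ maskF t ∈ wtList 8 := (smul_weight_iff hσ 8 t).trans (mem_wordsOfWeight 8 t)
  have h2 : σ • supp baseOct ∩ σ • t = s ↔ (baseOct &&& maskF t == maskF (σ⁻¹ • s)) = true := by
    rw [← Finset.smul_finset_inter, ← eq_inv_smul_iff, beq_iff_eq, ← maskF_supp baseOct_lt,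
      ← maskF_inter]
    rw [maskF_supp baseOct_lt]
    constructor
    · intro h; rw [h]
    · intro h; rw [← supp_maskF (supp baseOct ∩ t), h, supp_maskF]
  exact and_congr h1 h2

/-! ### Octads and a dodecad -/

theorem dodecad_octad_count : (List.all [(6, 132), (2, 132), (4, 495)] fun e =>
    distinctB 24 ((wtList 8).filter fun m => popc (dMask &&& m) == e.1) &&
      decide (((wtList 8).filter fun m => popc (dMask &&& m) == e.1).length = e.2)) = true := by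
  decide +kernel

theorem dodecad_octad_only :
    ((wtList 8).all fun m => [2, 4, 6].contains (popc (dMask &&& m))) = true := by decide +kernel

theorem dodecad_octads {d : Finset GolayPt} (hd : d ∈ dodecads) :
    ∀ e ∈ [(6, 132), (2, 132), (4, 495)],
      {o : Finset GolayPt | o ∈ octads ∧ (o ∩ d).card = e.1}.ncard = e.2 := by
  intro e he
  obtain ⟨σ, hσ, h⟩ := dodecad_transitive hd
  have := ncard_meet_any 8 e.1 hσ h
    (ncard_meet 8 e.1 dMask e.2 dMask_lt (List.all_eq_true.mp dodecad_octad_count e he))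
  rw [← this]
  congr 1; ext o
  simp only [Set.mem_ofPred_eq, Finset.inter_comm o d]
  rfl

theorem dodecad_hexads {d : Finset GolayPt} (hd : d ∈ dodecads) :
    IsSteinerSystem 5 6 {h : Finset {p : GolayPt // p ∈ d} |
      ∃ o ∈ octads, (o ∩ d).card = 6 ∧ h = Finset.subtype (fun p => p ∈ d) o} := by
  classical
  have hinter : ∀ o ∈ octads, (o ∩ d).card = 2 ∨ (o ∩ d).card = 4 ∨ (o ∩ d).card = 6 := by
    intro o ho
    obtain ⟨σ, hσ, he⟩ := dodecad_transitive hd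
    have hm := List.all_eq_true.mp dodecad_octad_only _
      ((mem_octads _).mp (smul_mem_weight (inv_mem hσ) ho))
    have e : (o ∩ d).card = popc (dMask &&& maskF (σ⁻¹ • o)) := by
      rw [Finset.inter_comm, ← he, ← card_smul_inter σ⁻¹, inv_smul_smul, popc_inter,
        show D0 = supp dMask from rfl, maskF_supp dMask_lt]
    rw [← e] at hm
    simpa only [List.contains_eq_mem, List.mem_cons, List.not_mem_nil, or_false,
      decide_eq_true_eq] using hm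
  have hmap : ∀ o : Finset GolayPt,
      (Finset.subtype (fun p => p ∈ d) o).map (Function.Embedding.subtype _) = o ∩ d := fun o => by
    rw [Finset.subtype_map, ← Finset.filter_mem_eq_inter]
  refine ⟨?_, fun s hs => ?_⟩
  · rintro _ ⟨o, -, h6, rfl⟩
    rw [← Finset.card_map (Function.Embedding.subtype _), hmap, h6]
  · set s' := s.map (Function.Embedding.subtype _) with hs'
    have hs'5 : s'.card = 5 := by rw [hs', Finset.card_map, hs]
    obtain ⟨o, ⟨ho, hso⟩, huniq⟩ := octads_steiner.2 s' hs'5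
    have hsd : s' ⊆ d := fun p hp => by
      obtain ⟨x, -, rfl⟩ := Finset.mem_map.mp hp
      exact x.2
    have h6 : (o ∩ d).card = 6 := by
      have := Finset.card_le_card (Finset.subset_inter hso hsd)
      rcases hinter o ho with h | h | h <;> omega
    refine ⟨Finset.subtype (fun p => p ∈ d) o, ⟨⟨o, ho, h6, rfl⟩, fun x hx =>
      Finset.mem_subtype.mpr (hso (Finset.mem_map_of_mem _ hx))⟩, ?_⟩
    rintro _ ⟨⟨o', ho', -, rfl⟩, hsub⟩
    rw [huniq o' ⟨ho', fun p hp => by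
      obtain ⟨x, hx, rfl⟩ := Finset.mem_map.mp hp
      exact Finset.mem_subtype.mp (hsub hx)⟩]

end Cfsg.Agent.Golay
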