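import Cfsg.Agent.Lib.Golay.OrbMore

/-! Suborbits for triads and for configurations with marked points. -/

set_option autoImplicit false

namespace Cfsg.Agent.Golay

open Cfsg
open scoped Pointwise

/-- One class of a certified configuration: the certificate is valid and has all the class. -/
def classOK (L : List ℕ) (gens : List Tab) (c : Orb) (P : ℕ → Bool) (n : ℕ) : Bool :=
  c.valid gens P n && (distinctB 24 (L.filter P) && decide ((L.filter P).length = n))

/-- Count and transitivity of a class, transported along an element of `M24`. -/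
theorem cfg_class {fix : List ℕ} {gens : List Tab} {c : Orb} {L : List ℕ} {P : ℕ → Bool} {n : ℕ}
    {σ : Equiv.Perm GolayPt} (hσ : σ ∈ M24) (hg : gensFix fix gens)
    (hok : classOK L gens c P n = true) (hlt : ∀ m ∈ L, m < 2 ^ 24)
    (hL : ∀ t : Finset GolayPt, P (maskF t) = true → maskF t ∈ L)
    (Q : Finset GolayPt → Prop) (hQ : ∀ t : Finset GolayPt, Q (σ • t) ↔ P (maskF t) = true) :
    {t : Finset GolayPt | Q t}.ncard = n ∧ ∀ a b : Finset GolayPt, Q a → Q b →
      ∃ g : Equiv.Perm GolayPt, g ∈ M24 ∧ (∀ f ∈ fix, g • σ • supp f = σ • supp f) ∧ g • a = b := by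
  rw [classOK, Bool.and_eq_true] at hok
  obtain ⟨hv, hc⟩ := hok
  have hn : {t : Finset GolayPt | P (maskF t) = true}.ncard = n :=
    ncard_filter_masks hlt hc fun t => ⟨fun h => ⟨hL t h, h⟩, fun h => h.2⟩
  refine ⟨?_, fun a b ha hb => ?_⟩
  · rw [ncard_transport σ, ← hn]
    congr 1; ext t; exact hQ t
  · exact trans_any hσ hg hv {t : Finset GolayPt | P (maskF t) = true} {t | Q t}
      (fun m hm hp => show P (maskF (supp m)) = true by rw [maskF_supp hm]; exact hp) hn
      (fun x hx => (hQ _).mp (by rw [smul_inv_smul]; exact hx)) ha hb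

theorem fix_pt {g σ : Equiv.Perm GolayPt} {i : Fin 24}
    (h : g • σ • supp (bitM i) = σ • supp (bitM i)) : g (σ (pt i)) = σ (pt i) := by
  rw [supp_bitM, Finset.smul_finset_singleton, Equiv.Perm.smul_def] at h
  exact smul_singleton_iff.mp h

/-- An element fixing the sets in `fix` moves the root of a certificate to each member. -/
theorem orb_reach {fix : List ℕ} {gens : List Tab} {c : Orb} (hg : gensFix fix gens)
    (hw : walk imgM gens c.root [c.root] c.ops = true) {m : ℕ} (hm : m ∈ c.members) :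
    ∃ τ ∈ M24, (∀ f ∈ fix, τ • supp f = supp f) ∧ τ • supp c.root = supp m := by
  obtain ⟨τ, ⟨h1, h2⟩, h3⟩ := reached_sound supp
    (fun T hT => ⟨tperm T, gens_mem hg T hT, supp_imgM (hg T hT).1.1⟩) hw m hm
  exact ⟨τ, h1, h2, h3⟩

/-- The octads through three base points. -/
def octT3 : List ℕ := [9347075, 11731203, 9465987, 8505411, 13893731, 12717187, 8983587, 13124355, 10496547, 8421811, 10765331, 8524371, 14716939, 8398155, 8716939, 9963547, 8657159, 11010247, 9471495, 12656663, 8536111]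

theorem octT3_eq : (((wtList 8).filter fun o => repT3 &&& o == repT3) == octT3) = true := by
  decide +kernel

/-- Some octad through the three base points contains the positions of the mask. -/
def inOctB (u : ℕ) : Bool := octT3.any fun o => u &&& o == u

theorem repT3_lt : repT3 < 2 ^ 24 := by decide +kernel

theorem exists_octad_iff (s : Finset GolayPt) (hs : supp repT3 ⊆ s) :
    (∃ o ∈ octads, s ⊆ o) ↔ inOctB (maskF s) = true := by
  simp only [inOctB, List.any_eq_true, beq_iff_eq]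
  rw [← eq_of_beq octT3_eq]
  constructor
  · rintro ⟨o, ho, h⟩
    have h3 := (subset_iff_mask _ o).mp (hs.trans h)
    rw [maskF_supp repT3_lt] at h3
    exact ⟨_, List.mem_filter.mpr ⟨(mem_octads o).mp ho, beq_iff_eq.mpr h3⟩,
      (subset_iff_mask s o).mp h⟩
  · rintro ⟨m, hm, h⟩
    replace hm := (List.mem_filter.mp hm).1
    refine ⟨supp m, (mem_octads _).mpr (by rw [maskF_supp (wtList_lt hm)]; exact hm),
      (subset_iff_mask _ _).mpr ?_⟩
    rw [maskF_supp (wtList_lt hm)]; exact h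

theorem exists_octad_smul {σ : Equiv.Perm GolayPt} (hσ : σ ∈ M24) (s : Finset GolayPt) :
    (∃ o ∈ octads, σ • s ⊆ o) ↔ ∃ o ∈ octads, s ⊆ o := by
  constructor
  · rintro ⟨o, ho, h⟩
    refine ⟨σ⁻¹ • o, smul_mem_weight (inv_mem hσ) ho, ?_⟩
    simpa using Finset.smul_finset_subset_smul_finset (a := σ⁻¹) h
  · rintro ⟨o, ho, h⟩
    exact ⟨σ • o, smul_mem_weight hσ ho, Finset.smul_finset_subset_smul_finset h⟩

theorem mem_smul_iff (σ : Equiv.Perm GolayPt) (i : Fin 24) (t : Finset GolayPt) :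
    σ (pt i) ∈ σ • t ↔ (maskF t).testBit i.val = true := by
  rw [← Equiv.Perm.smul_def, Finset.smul_mem_smul_finset_iff]
  conv_rhs => rw [← idx_pt i, testBit_maskF, decide_eq_true_iff]

/-! ### A point and an octad -/

theorem bit_mem_supp {i : Fin 24} {f : ℕ} (h : f.testBit i.val = true) : pt i ∈ supp f :=
  mem_supp.mpr (by rw [idx_pt]; exact h)

theorem not_bit_mem_supp {i : Fin 24} {f : ℕ} (h : f.testBit i.val = false) : pt i ∉ supp f :=
  fun hp => by rw [mem_supp, idx_pt, h] at hp; exact Bool.false_ne_true hp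

/-- An element of `M24` moving a marked position and a set to a given point and set. -/
theorem exists_map_pointed {fix : ℕ} {i0 : Fin 24} {gens : List Tab} {c : Orb} {σ0 : Equiv.Perm GolayPt}
    {o : Finset GolayPt} {x : GolayPt} (hσ : σ0 ∈ M24) (he : σ0 • supp fix = o)
    (hg : gensFix [fix] gens) (hroot : c.root = bitM i0)
    (hw : walk imgM gens c.root [c.root] c.ops = true) (hmem : bitM (idx (σ0⁻¹ x)) ∈ c.members) :
    ∃ σ ∈ M24, σ • supp fix = o ∧ σ (pt i0) = x := by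
  obtain ⟨τ, hτ, hf, h⟩ := orb_reach hg hw hmem
  rw [hroot, supp_bitM, supp_bitM, smul_singleton_iff, pt_idx] at h
  exact ⟨σ0 * τ, mul_mem hσ hτ, by rw [mul_smul, hf fix List.mem_cons_self, he],
    by rw [Equiv.Perm.mul_apply, h]; exact σ0.apply_symm_apply x⟩

theorem gens_ptO_ok : gensFix [baseOct] gens_ptO := by decide +kernel

theorem gens_ptD_ok : gensFix [dMask] gens_ptD := by decide +kernel

theorem ptO_walk : (walk imgM gens_ptO orb_ptO_1.root [orb_ptO_1.root] orb_ptO_1.ops &&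
    walk imgM gens_ptO orb_ptO_0.root [orb_ptO_0.root] orb_ptO_0.ops &&
    walk imgM gens_ptD orb_ptD_1.root [orb_ptD_1.root] orb_ptD_1.ops) = true := by decide +kernel

theorem ptO_members : ∀ i : Fin 24, (baseOct.testBit i.val = true → bitM i ∈ orb_ptO_1.members) ∧
    (baseOct.testBit i.val = false → bitM i ∈ orb_ptO_0.members) ∧
    (dMask.testBit i.val = true → bitM i ∈ orb_ptD_1.members) := by decide +kernel

theorem exists_map_pt_in_octad {x : GolayPt} {o : Finset GolayPt} (ho : o ∈ octads) (hx : x ∈ o) :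
    ∃ σ ∈ M24, σ • supp baseOct = o ∧ σ (pt 0) = x := by
  obtain ⟨σ0, hσ0, h⟩ := octad_transitive baseOct_mem ho
  have hw := ptO_walk
  simp only [Bool.and_eq_true] at hw
  refine exists_map_pointed hσ0 h gens_ptO_ok rfl hw.1.1 ((ptO_members _).1 ?_)
  rw [← mem_supp, ← Finset.smul_mem_smul_finset_iff σ0, h, Equiv.Perm.smul_def]
  simpa using hx

theorem exists_map_pt_out_octad {x : GolayPt} {o : Finset GolayPt} (ho : o ∈ octads) (hx : x ∉ o) :
    ∃ σ ∈ M24, σ • supp baseOct = o ∧ σ (pt 4) = x := by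
  obtain ⟨σ0, hσ0, h⟩ := octad_transitive baseOct_mem ho
  have hw := ptO_walk
  simp only [Bool.and_eq_true] at hw
  refine exists_map_pointed hσ0 h gens_ptO_ok rfl hw.1.2 ((ptO_members _).2.1 ?_)
  rw [← Bool.not_eq_true, ← mem_supp, ← Finset.smul_mem_smul_finset_iff σ0, h, Equiv.Perm.smul_def]
  simpa using hx

theorem exists_map_pt_in_dodecad {x : GolayPt} {d : Finset GolayPt} (hd : d ∈ dodecads) (hx : x ∈ d) :
    ∃ σ ∈ M24, σ • supp dMask = d ∧ σ (pt 0) = x := by
  obtain ⟨σ0, hσ0, h⟩ := dodecad_transitive hd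
  have hw := ptO_walk
  simp only [Bool.and_eq_true] at hw
  refine exists_map_pointed hσ0 h gens_ptD_ok rfl hw.2 ((ptO_members _).2.2 ?_)
  rw [← mem_supp, ← Finset.smul_mem_smul_finset_iff σ0, show supp dMask = D0 from rfl, h,
    Equiv.Perm.smul_def]
  simpa using hx

/-- Weight-`n` words through or avoiding a position, meeting `f` in `j` positions. -/
def ptP (n f j : ℕ) (i : Fin 24) (b : Bool) (m : ℕ) : Bool := meetP n f j m && (m.testBit i.val == b)

theorem ptP_mem {n f j : ℕ} {i : Fin 24} {b : Bool} (hf : f < 2 ^ 24) (t : Finset GolayPt)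
    (h : ptP n f j i b (maskF t) = true) : maskF t ∈ wtList n :=
  (mem_wordsOfWeight n t).mp ((meet_set n j hf t).mpr (Bool.and_eq_true_iff.mp h).1).1

theorem ptP_iff {σ : Equiv.Perm GolayPt} (hσ : σ ∈ M24) {n f j : ℕ} (hf : f < 2 ^ 24) (i : Fin 24)
    (t : Finset GolayPt) :
    (((σ • t ∈ wordsOfWeight (golayCode : Set (GolayPt → ZMod 2)) n) ∧ σ (pt i) ∈ σ • t ∧
      (σ • supp f ∩ σ • t).card = j) ↔ ptP n f j i true (maskF t) = true) ∧
    (((σ • t ∈ wordsOfWeight (golayCode : Set (GolayPt → ZMod 2)) n) ∧ σ (pt i) ∉ σ • t ∧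
      (σ • supp f ∩ σ • t).card = j) ↔ ptP n f j i false (maskF t) = true) := by
  rw [smul_weight_iff hσ, card_smul_inter, mem_smul_iff]
  constructor <;>
  · simp only [ptP, Bool.and_eq_true, beq_iff_eq, ← meet_set n j hf t, Bool.not_eq_true]
    tauto

theorem gens_heptad_ok : gensFix [bitM 0, baseOct] gens_heptad := by decide +kernel

theorem gens_avoid_ok : gensFix [bitM 4, baseOct] gens_avoid := by decide +kernel

theorem gens_dodx_ok : gensFix [bitM 0, dMask] gens_dodx := by decide +kernel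

theorem heptad_ok : (classOK (wtList 8) gens_heptad orb_heptad_2 (ptP 8 baseOct 2 0 true) 112 &&
    classOK (wtList 8) gens_heptad orb_heptad_4 (ptP 8 baseOct 4 0 true) 140) = true := by
  decide +kernel

theorem avoid_ok : (classOK (wtList 8) gens_avoid orb_avoid_0 (ptP 8 baseOct 0 4 false) 15 &&
    classOK (wtList 8) gens_avoid orb_avoid_4 (ptP 8 baseOct 4 4 false) 210 &&
    classOK (wtList 8) gens_avoid orb_avoid_2 (ptP 8 baseOct 2 4 false) 280) = true := by
  decide +kernel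

theorem dodx_ok : (classOK (wtList 12) gens_dodx orb_dodx_4 (ptP 12 dMask 4 0 true) 165 &&
    classOK (wtList 12) gens_dodx orb_dodx_8 (ptP 12 dMask 8 0 true) 330 &&
    classOK (wtList 12) gens_dodx orb_dodx_6 (ptP 12 dMask 6 0 true) 792) = true := by
  decide +kernel

/-- The shape of the three statements on a point and a word of weight `n`. -/
theorem pointed_class {n f j k : ℕ} {i : Fin 24} {gens : List Tab} {c : Orb}
    {σ : Equiv.Perm GolayPt} (hσ : σ ∈ M24) (hf : f < 2 ^ 24) (hg : gensFix [bitM i, f] gens)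
    (b : Bool) (hok : classOK (wtList n) gens c (ptP n f j i b) k = true) :
    let Q := fun t : Finset GolayPt => t ∈ wordsOfWeight (golayCode : Set (GolayPt → ZMod 2)) n ∧
      (if b then σ (pt i) ∈ t else σ (pt i) ∉ t) ∧ (σ • supp f ∩ t).card = j
    {t : Finset GolayPt | Q t}.ncard = k ∧ ∀ a a' : Finset GolayPt, Q a → Q a' →
      ∃ g : Equiv.Perm GolayPt, g ∈ M24 ∧ g (σ (pt i)) = σ (pt i) ∧
        g • σ • supp f = σ • supp f ∧ g • a = a' := by
  intro Q
  have h := cfg_class hσ hg hok (fun _ hm => wtList_lt hm) (fun t ht => ptP_mem hf t ht) Q (fun t => by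
    cases b
    · exact (ptP_iff hσ hf i t).2
    · exact (ptP_iff hσ hf i t).1)
  refine ⟨h.1, fun a a' ha ha' => ?_⟩
  obtain ⟨g, hg', hgf, e⟩ := h.2 a a' ha ha'
  exact ⟨g, hg', fix_pt (hgf _ List.mem_cons_self),
    hgf f (List.mem_cons_of_mem _ List.mem_cons_self), e⟩

theorem heptad_suborbits (x : GolayPt) (o : Finset GolayPt) (ho : o ∈ octads) (hx : x ∈ o) :
    {o' : Finset GolayPt | o' ∈ octads ∧ x ∈ o' ∧ (o ∩ o').card = 2}.ncard = 112 ∧
    {o' : Finset GolayPt | o' ∈ octads ∧ x ∈ o' ∧ (o ∩ o').card = 4}.ncard = 140 ∧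
    ∀ o' o'' : Finset GolayPt, o' ∈ octads → o'' ∈ octads → x ∈ o' → x ∈ o'' →
      (o ∩ o').card = (o ∩ o'').card →
      ∃ g : Equiv.Perm GolayPt, g ∈ M24 ∧ g x = x ∧ g • o = o ∧ g • o' = o'' := by
  obtain ⟨σ, hσ, rfl, rfl⟩ := exists_map_pt_in_octad ho hx
  have hok := heptad_ok
  simp only [Bool.and_eq_true] at hok
  have h2 := pointed_class hσ baseOct_lt gens_heptad_ok true hok.1
  have h4 := pointed_class hσ baseOct_lt gens_heptad_ok true hok.2
  refine ⟨h2.1, h4.1, fun a b ha hb hxa hxb h => ?_⟩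
  by_cases hoa : σ • supp baseOct = a
  · refine ⟨1, one_mem _, rfl, one_smul _ _, ?_⟩
    rw [one_smul, ← hoa]
    exact octad_eq_of_meet ho.2 hb.2 (by rw [← h, ← hoa, Finset.inter_self, ho.2])
  rcases Steiner.inter_24 (by decide) octads_steiner ho ha hoa with e | e | e
  · exfalso
    exact Finset.notMem_empty _ (Finset.card_eq_zero.mp e ▸ Finset.mem_inter.mpr ⟨hx, hxa⟩)
  · exact h2.2 a b ⟨ha, hxa, e⟩ ⟨hb, hxb, h ▸ e⟩
  · exact h4.2 a b ⟨ha, hxa, e⟩ ⟨hb, hxb, h ▸ e⟩

theorem avoid_suborbits (x : GolayPt) (o : Finset GolayPt) (ho : o ∈ octads) (hx : x ∉ o) :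
    {o' : Finset GolayPt | o' ∈ octads ∧ x ∉ o' ∧ (o ∩ o').card = 0}.ncard = 15 ∧
    {o' : Finset GolayPt | o' ∈ octads ∧ x ∉ o' ∧ (o ∩ o').card = 4}.ncard = 210 ∧
    {o' : Finset GolayPt | o' ∈ octads ∧ x ∉ o' ∧ (o ∩ o').card = 2}.ncard = 280 ∧
    ∀ o' o'' : Finset GolayPt, o' ∈ octads → o'' ∈ octads → x ∉ o' → x ∉ o'' →
      (o ∩ o').card = (o ∩ o'').card →
      ∃ g : Equiv.Perm GolayPt, g ∈ M24 ∧ g x = x ∧ g • o = o ∧ g • o' = o'' := by
  obtain ⟨σ, hσ, rfl, rfl⟩ := exists_map_pt_out_octad ho hx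
  have hok := avoid_ok
  simp only [Bool.and_eq_true] at hok
  have h0 := pointed_class hσ baseOct_lt gens_avoid_ok false hok.1.1
  have h4 := pointed_class hσ baseOct_lt gens_avoid_ok false hok.1.2
  have h2 := pointed_class hσ baseOct_lt gens_avoid_ok false hok.2
  refine ⟨h0.1, h4.1, h2.1, fun a b ha hb hxa hxb h => ?_⟩
  by_cases hoa : σ • supp baseOct = a
  · refine ⟨1, one_mem _, rfl, one_smul _ _, ?_⟩
    rw [one_smul, ← hoa]
    exact octad_eq_of_meet ho.2 hb.2 (by rw [← h, ← hoa, Finset.inter_self, ho.2])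
  rcases Steiner.inter_24 (by decide) octads_steiner ho ha hoa with e | e | e
  · exact h0.2 a b ⟨ha, hxa, e⟩ ⟨hb, hxb, h ▸ e⟩
  · exact h2.2 a b ⟨ha, hxa, e⟩ ⟨hb, hxb, h ▸ e⟩
  · exact h4.2 a b ⟨ha, hxa, e⟩ ⟨hb, hxb, h ▸ e⟩

theorem dodx_suborbits (x : GolayPt) (d : Finset GolayPt) (hd : d ∈ dodecads) (hx : x ∈ d) :
    {d' : Finset GolayPt | d' ∈ dodecads ∧ x ∈ d' ∧ (d ∩ d').card = 4}.ncard = 165 ∧
    {d' : Finset GolayPt | d' ∈ dodecads ∧ x ∈ d' ∧ (d ∩ d').card = 8}.ncard = 330 ∧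
    {d' : Finset GolayPt | d' ∈ dodecads ∧ x ∈ d' ∧ (d ∩ d').card = 6}.ncard = 792 ∧
    ∀ d' d'' : Finset GolayPt, d' ∈ dodecads → d'' ∈ dodecads → x ∈ d' → x ∈ d'' →
      (d ∩ d').card = (d ∩ d'').card →
      ∃ g : Equiv.Perm GolayPt, g ∈ M24 ∧ g x = x ∧ g • d = d ∧ g • d' = d'' := by
  obtain ⟨σ, hσ, rfl, rfl⟩ := exists_map_pt_in_dodecad hd hx
  have hok := dodx_ok
  simp only [Bool.and_eq_true] at hok
  have h4 := pointed_class hσ dMask_lt gens_dodx_ok true hok.1.1
  have h8 := pointed_class hσ dMask_lt gens_dodx_ok true hok.1.2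
  have h6 := pointed_class hσ dMask_lt gens_dodx_ok true hok.2
  refine ⟨h4.1, h8.1, h6.1, fun a b ha hb hxa hxb h => ?_⟩
  by_cases hoa : a = σ • supp dMask
  · refine ⟨1, one_mem _, rfl, one_smul _ _, ?_⟩
    rw [one_smul, hoa]
    exact octad_eq_of_meet hd.2 hb.2 (by rw [← h, hoa, Finset.inter_self, hd.2])
  rcases dodecad_inter hd ha hoa with e | e | e | e
  · exfalso
    exact Finset.notMem_empty _ (Finset.card_eq_zero.mp e ▸ Finset.mem_inter.mpr ⟨hx, hxa⟩)
  · exact h4.2 a b ⟨ha, hxa, e⟩ ⟨hb, hxb, h ▸ e⟩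
  · exact h6.2 a b ⟨ha, hxa, e⟩ ⟨hb, hxb, h ▸ e⟩
  · exact h8.2 a b ⟨ha, hxa, e⟩ ⟨hb, hxb, h ▸ e⟩

end Cfsg.Agent.Golay
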