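import Cfsg.Agent.Lib.Golay.OrbPts

/-! Suborbits of triads and maximality of their stabilisers. -/

set_option autoImplicit false

namespace Cfsg.Agent.Golay

open Cfsg
open scoped Pointwise

/-! ### Triads -/

/-- The triad classes. -/
def triP (j : ℕ) (y : Bool) (m : ℕ) : Bool :=
  meetK 3 repT3 j m && (inOctB (repT3 ||| m) == y)

theorem gens_triT_ok : gensFix [repT3] gens_triT := by decide +kernel

theorem triT_0y : classOK (genK 24 3) gens_triT orb_triT_0y (triP 0 true) 210 = true := by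
  decide +kernel

theorem triT_0n : classOK (genK 24 3) gens_triT orb_triT_0n (triP 0 false) 1120 = true := by
  decide +kernel

theorem triT_1 : classOK (genK 24 3) gens_triT orb_triT_1n (meetK 3 repT3 1) 630 = true := by
  decide +kernel

theorem triT_2 : classOK (genK 24 3) gens_triT orb_triT_2n (meetK 3 repT3 2) 63 = true := by
  decide +kernel

theorem repT3_supp : supp repT3 = (Finset.univ : Finset (Fin 3)).image fun i => pt (bpt i.val) := by
  decide +kernel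

theorem genK3_mem {j : ℕ} (t : Finset GolayPt) (h : meetK 3 repT3 j (maskF t) = true) :
    maskF t ∈ genK 24 3 :=
  maskF_mem_genK ((meetK_set 3 j repT3_lt t).mpr h).1

theorem genK3_lt : ∀ m ∈ genK 24 3, m < 2 ^ 24 := fun m hm =>
  of_decide_eq_true (List.all_eq_true.mp (List.all_eq_true.mp genK_lt 3 (by simp)) m hm)

theorem triad_oct {σ : Equiv.Perm GolayPt} (hσ : σ ∈ M24) (t : Finset GolayPt) :
    (∃ o ∈ octads, σ • supp repT3 ∪ σ • t ⊆ o) ↔ inOctB (repT3 ||| maskF t) = true := by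
  rw [← Finset.smul_finset_union, exists_octad_smul hσ,
    exists_octad_iff _ Finset.subset_union_left, maskF_union, maskF_supp repT3_lt]

theorem triad_classes (T : Finset GolayPt) (hT : T.card = 3) :
    ({U : Finset GolayPt | U.card = 3 ∧ Disjoint T U ∧ (∃ o ∈ octads, T ∪ U ⊆ o)}.ncard = 210 ∧
    {U : Finset GolayPt | U.card = 3 ∧ Disjoint T U ∧ ¬ (∃ o ∈ octads, T ∪ U ⊆ o)}.ncard = 1120 ∧
    ∀ U U' : Finset GolayPt, U.card = 3 → U'.card = 3 → Disjoint T U → Disjoint T U' →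
      ((∃ o ∈ octads, T ∪ U ⊆ o) ↔ (∃ o ∈ octads, T ∪ U' ⊆ o)) →
      ∃ g : Equiv.Perm GolayPt, g ∈ M24 ∧ g • T = T ∧ g • U = U') ∧
    ∀ j n, (j, n) = (1, 630) ∨ (j, n) = (2, 63) →
      {U : Finset GolayPt | U.card = 3 ∧ (T ∩ U).card = j}.ncard = n ∧
      ∀ U U' : Finset GolayPt, U.card = 3 → U'.card = 3 → (T ∩ U).card = j → (T ∩ U').card = j →
        ∃ g : Equiv.Perm GolayPt, g ∈ M24 ∧ g • T = T ∧ g • U = U' := by
  obtain ⟨σ, hσ, h⟩ := exists_map_set T (by norm_num) hT repT3 repT3_supp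
  subst h
  have hdis : ∀ t : Finset GolayPt, Disjoint (σ • supp repT3) (σ • t) ↔ (supp repT3 ∩ t).card = 0 :=
    fun t => by rw [Finset.card_eq_zero, ← Finset.disjoint_iff_inter_eq_empty,
      Finset.smul_finset_def, Finset.smul_finset_def,
      Finset.disjoint_image (MulAction.injective σ)]
  have hy := cfg_class hσ gens_triT_ok triT_0y genK3_lt
    (fun t ht => genK3_mem t (Bool.and_eq_true_iff.mp ht).1)
    (fun U => U.card = 3 ∧ Disjoint (σ • supp repT3) U ∧ ∃ o ∈ octads, σ • supp repT3 ∪ U ⊆ o)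
    (fun t => by
      rw [Finset.card_smul_finset, hdis, ← and_assoc, meetK_set 3 0 repT3_lt, triad_oct hσ]
      simp [triP])
  have hn := cfg_class hσ gens_triT_ok triT_0n genK3_lt
    (fun t ht => genK3_mem t (Bool.and_eq_true_iff.mp ht).1)
    (fun U => U.card = 3 ∧ Disjoint (σ • supp repT3) U ∧ ¬ ∃ o ∈ octads, σ • supp repT3 ∪ U ⊆ o)
    (fun t => by
      rw [Finset.card_smul_finset, hdis, ← and_assoc, meetK_set 3 0 repT3_lt, triad_oct hσ]
      simp [triP])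
  refine ⟨⟨hy.1, hn.1, fun U U' hU hU' hd hd' hiff => ?_⟩, fun j n hj => ?_⟩
  · by_cases hi : ∃ o ∈ octads, σ • supp repT3 ∪ U ⊆ o
    · obtain ⟨g, hg, hf, e⟩ := hy.2 U U' ⟨hU, hd, hi⟩ ⟨hU', hd', hiff.mp hi⟩
      exact ⟨g, hg, hf _ List.mem_cons_self, e⟩
    · obtain ⟨g, hg, hf, e⟩ := hn.2 U U' ⟨hU, hd, hi⟩ ⟨hU', hd', fun h => hi (hiff.mpr h)⟩
      exact ⟨g, hg, hf _ List.mem_cons_self, e⟩
  · have key : ∀ (c : Orb), classOK (genK 24 3) gens_triT c (meetK 3 repT3 j) n = true →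
        {U : Finset GolayPt | U.card = 3 ∧ (σ • supp repT3 ∩ U).card = j}.ncard = n ∧
        ∀ U U' : Finset GolayPt, U.card = 3 → U'.card = 3 → (σ • supp repT3 ∩ U).card = j →
          (σ • supp repT3 ∩ U').card = j →
          ∃ g : Equiv.Perm GolayPt, g ∈ M24 ∧ g • σ • supp repT3 = σ • supp repT3 ∧ g • U = U' := by
      intro c hc
      have h := cfg_class hσ gens_triT_ok hc genK3_lt (fun t ht => genK3_mem t ht)
        (fun U => U.card = 3 ∧ (σ • supp repT3 ∩ U).card = j)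
        (fun t => by rw [Finset.card_smul_finset, card_smul_inter, meetK_set 3 j repT3_lt])
      refine ⟨h.1, fun U U' hU hU' h1 h2 => ?_⟩
      obtain ⟨g, hg, hf, e⟩ := h.2 U U' ⟨hU, h1⟩ ⟨hU', h2⟩
      exact ⟨g, hg, hf _ List.mem_cons_self, e⟩
    rcases hj with hj | hj <;> obtain ⟨rfl, rfl⟩ := Prod.mk.inj hj
    · exact key _ triT_1
    · exact key _ triT_2

theorem maximal_triad {s : Finset GolayPt} (hs : s.card = 3) :
    IsCoatom (MulAction.stabilizer M24 s) := by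
  classical
  have horb : MulAction.orbit M24 s = {t : Finset GolayPt | t.card = 3} := by
    ext t
    refine ⟨fun ⟨g, hg⟩ => hg ▸ (Finset.card_smul_finset _ _).trans hs, fun ht => ?_⟩
    obtain ⟨σ, hσ, h⟩ := exists_map_set s (by norm_num) hs repT3 repT3_supp
    obtain ⟨τ, hτ, h'⟩ := exists_map_set t (by norm_num) ht repT3 repT3_supp
    exact exists_M24 (g := τ * σ⁻¹) (mul_mem hτ (inv_mem hσ)) (by rw [mul_smul, ← h, inv_smul_smul, h'])
  obtain ⟨⟨hy, hn, htr⟩, hcl⟩ := triad_classes s hs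
  have hle : ∀ t : Finset GolayPt, t.card = 3 → t ≠ s → (s ∩ t).card ≤ 2 := by
    intro t ht hne
    have h1 : (s ∩ t).card ≤ 3 := hs ▸ Finset.card_le_card Finset.inter_subset_left
    have h2 : (s ∩ t).card ≠ 3 := fun h => hne (octad_eq_of_meet hs ht h).symm
    omega
  have h0 : ∀ t : Finset GolayPt, (s ∩ t).card = 0 ↔ Disjoint s t := fun t => by
    rw [Finset.card_eq_zero, Finset.disjoint_iff_inter_eq_empty]
  let cls : Finset GolayPt → Fin 4 := fun t => if (s ∩ t).card = 1 then 0 else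
    if (s ∩ t).card = 2 then 1 else if ∃ o ∈ octads, s ∪ t ⊆ o then 2 else 3
  have c0 : ∀ t : Finset GolayPt, cls t = 0 ↔ (s ∩ t).card = 1 := fun t => by
    simp only [cls]; split_ifs <;> simp_all
  have c1 : ∀ t : Finset GolayPt, cls t = 1 ↔ (s ∩ t).card = 2 := fun t => by
    simp only [cls]; split_ifs <;> simp_all
  have hd : ∀ t : Finset GolayPt, t.card = 3 → t ≠ s →
      (¬ (s ∩ t).card = 1 ∧ ¬ (s ∩ t).card = 2 ↔ Disjoint s t) := fun t ht hne => by
    have := hle t ht hne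
    rw [← h0]; omega
  have c2 : ∀ t : Finset GolayPt, t.card = 3 → t ≠ s →
      (cls t = 2 ↔ Disjoint s t ∧ ∃ o ∈ octads, s ∪ t ⊆ o) := fun t ht hne => by
    rw [← hd t ht hne]; simp only [cls]; split_ifs <;> simp_all
  have c3 : ∀ t : Finset GolayPt, t.card = 3 → t ≠ s →
      (cls t = 3 ↔ Disjoint s t ∧ ¬ ∃ o ∈ octads, s ∪ t ⊆ o) := fun t ht hne => by
    rw [← hd t ht hne]; simp only [cls]; split_ifs <;> simp_all
  have hne : ∀ t : Finset GolayPt, (s ∩ t).card < 3 → t ≠ s := fun t ht e => by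
    rw [e, Finset.inter_self, hs] at ht; omega
  refine coatom_of_classes s cls ![630, 63, 210, 1120] (by norm_num) (by decide) ?_ ?_ ?_
  · intro i
    rw [horb]
    fin_cases i
    · show _ = 630
      rw [← (hcl 1 630 (Or.inl rfl)).1]
      congr 1; ext t
      exact ⟨fun ⟨h1, _, h3⟩ => ⟨h1, (c0 t).mp h3⟩,
        fun ⟨h1, h2⟩ => ⟨h1, hne t (by omega), (c0 t).mpr h2⟩⟩
    · show _ = 63
      rw [← (hcl 2 63 (Or.inr rfl)).1]
      congr 1; ext t
      exact ⟨fun ⟨h1, _, h3⟩ => ⟨h1, (c1 t).mp h3⟩,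
        fun ⟨h1, h2⟩ => ⟨h1, hne t (by omega), (c1 t).mpr h2⟩⟩
    · show _ = 210
      rw [← hy]
      congr 1; ext t
      exact ⟨fun ⟨h1, h2, h3⟩ => ⟨h1, (c2 t h1 h2).mp h3⟩, fun ⟨h1, h2⟩ =>
        have hd := hne t (by rw [(h0 t).mpr h2.1]; omega)
        ⟨h1, hd, (c2 t h1 hd).mpr h2⟩⟩
    · show _ = 1120
      rw [← hn]
      congr 1; ext t
      exact ⟨fun ⟨h1, h2, h3⟩ => ⟨h1, (c3 t h1 h2).mp h3⟩, fun ⟨h1, h2⟩ =>
        have hd := hne t (by rw [(h0 t).mpr h2.1]; omega)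
        ⟨h1, hd, (c3 t h1 hd).mpr h2⟩⟩
  · intro a ha b hb hao hbo hab
    rw [horb] at ha hb
    have fin : (∃ g : Equiv.Perm GolayPt, g ∈ M24 ∧ g • s = s ∧ g • a = b) →
        ∃ g ∈ MulAction.stabilizer M24 s, g • a = b := fun ⟨g, hg, h1, h2⟩ =>
      ⟨⟨g, hg⟩, h1, h2⟩
    apply fin
    by_cases h1 : (s ∩ a).card = 1
    · exact (hcl 1 630 (Or.inl rfl)).2 a b ha hb h1 ((c0 b).mp (hab ▸ (c0 a).mpr h1))
    by_cases h2 : (s ∩ a).card = 2
    · exact (hcl 2 63 (Or.inr rfl)).2 a b ha hb h2 ((c1 b).mp (hab ▸ (c1 a).mpr h2))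
    have hd : Disjoint s a := (h0 a).mp (by have := hle a ha hao; omega)
    by_cases hi : ∃ o ∈ octads, s ∪ a ⊆ o
    · have hb' := (c2 b hb hbo).mp (hab ▸ (c2 a ha hao).mpr ⟨hd, hi⟩)
      exact htr a b ha hb hd hb'.1 (iff_of_true hi hb'.2)
    · have hb' := (c3 b hb hbo).mp (hab ▸ (c3 a ha hao).mpr ⟨hd, hi⟩)
      exact htr a b ha hb hd hb'.1 (iff_of_false hi hb'.2)
  · decide +kernel

end Cfsg.Agent.Golay
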