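import Cfsg.Agent.Lib.Golay.OutSmall

/-! The three outer automorphism groups. -/

set_option autoImplicit false

namespace Cfsg.Agent.Golay

open Cfsg
open scoped Pointwise

/-- The twelve residues forming the standard square set. -/
def sqList : List ℕ := [0, 1, 2, 3, 4, 6, 8, 9, 12, 13, 16, 18]

/-- Colouring by two fixed points. -/
def cls22 (i : Fin 24) : ℕ := if i.val = 23 then 1 else if i.val = 0 then 2 else 0

/-- Colouring by the square set. -/
def cls12 (i : Fin 24) : ℕ := if i.val ∈ sqList then 1 else 0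

/-- Colouring by the square set and one of its points. -/
def cls11 (i : Fin 24) : ℕ := if i.val = 0 then 2 else if i.val ∈ sqList then 1 else 0

/-- The data of the two-point stabiliser. -/
def spec22 : OutSpec where
  cls := cls22
  m₁ := 2
  m₂ := 2
  g := tabG22
  g₂ := tabK22
  cs := cent22
  rels := outRels22
  wit := outWit22
  tau := tabTau22
  base := outBase22
  levels := outLevels22

/-- The data of the square set stabiliser. -/
def spec12 : OutSpec where
  cls := cls12
  m₁ := 2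
  m₂ := 1
  g := tabG12
  g₂ := tabK12
  cs := cent12
  rels := outRels12
  wit := outWit12
  tau := tabTau12
  base := outBase12
  levels := outLevels12

/-- The data of the stabiliser of the square set and a point. -/
def spec11 : OutSpec where
  cls := cls11
  m₁ := 2
  m₂ := 2
  g := tabG11
  g₂ := tabK11
  cs := cent11
  rels := outRels11
  wit := outWit11
  tau := tabTau11
  base := outBase11
  levels := outLevels11

theorem mem_M22_iff (σ : Equiv.Perm GolayPt) : σ ∈ Cfsg.Spor.M22 ↔ σ ∈ clsGroup cls22 := by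
  have hu : ∀ x : Fin 24, (cls22 x = 1 → x = 23) ∧ (cls22 x = 2 → x = 0) ∧
      (x ≠ 23 → x ≠ 0 → cls22 x = 0) := by decide +kernel
  have h23 : pt 23 = none := by decide +kernel
  have h0 : pt 0 = some 0 := by decide +kernel
  constructor
  · rintro ⟨⟨hM, hn⟩, hz⟩
    have e23 : fn σ 23 = 23 := by
      show idx (σ (pt 23)) = 23
      rw [h23, show σ none = none from hn]; rfl
    have e0 : fn σ 0 = 0 := by
      show idx (σ (pt 0)) = 0
      rw [h0, show σ (some 0) = some 0 from hz, ← h0, idx_pt]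
    refine ⟨hM, fun i => ?_⟩
    by_cases h1 : i = 23
    · rw [h1, e23]
    by_cases h2 : i = 0
    · rw [h2, e0]
    rw [(hu i).2.2 h1 h2, (hu _).2.2 (fun h => h1 (fn_inj σ (h.trans e23.symm)))
      (fun h => h2 (fn_inj σ (h.trans e0.symm)))]
  · rintro ⟨hM, h⟩
    have e23 := (hu _).1 ((h 23).trans (by decide +kernel))
    have e0 := (hu _).2.1 ((h 0).trans (by decide +kernel))
    refine ⟨⟨hM, ?_⟩, ?_⟩
    · show σ none = none
      rw [← h23]; exact idx_injective' (by rw [idx_pt]; exact e23)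
    · show σ (some 0) = some 0
      rw [← h0]; exact idx_injective' (by rw [idx_pt]; exact e0)

theorem mem_squares : ∀ p : GolayPt, p ∈ Cfsg.Spor.squareDodecad ↔ cls12 (idx p) = 1 := by
  decide +kernel

theorem mem_M12_iff (σ : Equiv.Perm GolayPt) : σ ∈ Cfsg.Spor.M12 ↔ σ ∈ clsGroup cls12 := by
  have hu : ∀ x : Fin 24, cls12 x = 0 ∨ cls12 x = 1 := by decide +kernel
  refine and_congr Iff.rfl ?_
  show σ • Cfsg.Spor.squareDodecad = Cfsg.Spor.squareDodecad ↔ _
  constructor
  · intro h i
    have := (Finset.smul_mem_smul_finset_iff σ (b := pt i) (s := Cfsg.Spor.squareDodecad))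
    rw [h, Equiv.Perm.smul_def, mem_squares, mem_squares, idx_pt] at this
    change (cls12 (fn σ i) = 1 ↔ cls12 i = 1) at this
    rcases hu i with hi | hi <;> rcases hu (fn σ i) with hj | hj
    · rw [hi, hj]
    · exact absurd (this.mp hj) (by rw [hi]; decide)
    · exact absurd (this.mpr hi) (by rw [hj]; decide)
    · rw [hi, hj]
  · intro h
    ext q
    obtain ⟨p, rfl⟩ := σ.surjective q
    rw [← Equiv.Perm.smul_def, Finset.smul_mem_smul_finset_iff, mem_squares, Equiv.Perm.smul_def,
      mem_squares, ← h (idx p)]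
    simp [fn, pt_idx]

theorem mem_M11_iff (σ : Equiv.Perm GolayPt) : σ ∈ Cfsg.Spor.M11 ↔ σ ∈ clsGroup cls11 := by
  have hu : ∀ x : Fin 24, (cls11 x = 2 → x = 0) ∧ (x ≠ 0 → cls11 x = cls12 x) ∧ (cls12 x ≠ 2) := by
    decide +kernel
  have h0 : pt 0 = some 0 := by decide +kernel
  show σ ∈ Cfsg.Spor.M12 ∧ σ (some 0) = some 0 ↔ _
  rw [mem_M12_iff]
  constructor
  · rintro ⟨⟨hM, h⟩, hz⟩
    have e0 : fn σ 0 = 0 := by
      show idx (σ (pt 0)) = 0
      rw [h0, hz, ← h0, idx_pt]
    refine ⟨hM, fun i => ?_⟩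
    by_cases h2 : i = 0
    · rw [h2, e0]
    rw [(hu i).2.1 h2, (hu _).2.1 (fun e => h2 (fn_inj σ (e.trans e0.symm))), h i]
  · rintro ⟨hM, h⟩
    have e0 := (hu _).1 ((h 0).trans (by decide +kernel))
    refine ⟨⟨hM, fun i => ?_⟩, ?_⟩
    · by_cases h2 : i = 0
      · rw [h2, e0]
      · have hne : fn σ i ≠ 0 := fun e => h2 (fn_inj σ (e.trans e0.symm))
        rw [← (hu i).2.1 h2, ← (hu _).2.1 hne]; exact h i
    · rw [← h0]; exact idx_injective' (by rw [idx_pt]; exact e0)

theorem M22_eq : Cfsg.Spor.M22 = clsGroup cls22 := Subgroup.ext mem_M22_iff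

theorem M12_eq : Cfsg.Spor.M12 = clsGroup cls12 := Subgroup.ext mem_M12_iff

theorem M11_eq : Cfsg.Spor.M11 = clsGroup cls11 := Subgroup.ext mem_M11_iff

theorem card_cls22 : Nat.card (clsGroup cls22) = 443520 := by
  rw [← M22_eq, ← card_chain.2.2]
  have h23 : pt (bpt 0) = none := by decide +kernel
  have h0 : pt (bpt 1) = some 0 := by decide +kernel
  have e : Cfsg.Spor.M22 = chain 2 := by
    ext σ
    constructor
    · rintro ⟨⟨hM, hn⟩, hz⟩
      refine ⟨hM, fun i hi => ?_⟩
      obtain rfl | rfl : i = 0 ∨ i = 1 := by omega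
      · rw [h23]; exact hn
      · rw [h0]; exact hz
    · rintro ⟨hM, h⟩
      have a := h 0 (by norm_num)
      have b := h 1 (by norm_num)
      rw [h23] at a; rw [h0] at b
      exact ⟨⟨hM, a⟩, b⟩
  rw [e]

theorem squares_dodecad : Cfsg.Spor.squareDodecad ∈ dodecads := by
  rw [mem_dodecads]; decide +kernel

theorem card_cls12 : Nat.card (clsGroup cls12) = 95040 := by
  rw [← M12_eq, ← card_stabD.1]
  obtain ⟨σ, hσ, h⟩ := dodecad_transitive squares_dodecad
  exact (Nat.card_congr ((subEquiv _ Cfsg.Spor.M12 (map_stabilizer M24 _)).toEquiv)).symm.trans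
    (Nat.card_congr (stabDEquiv hσ h).toEquiv)

theorem card_cls11 : Nat.card (clsGroup cls11) = 7920 := by
  rw [← M11_eq, ← card_stabD.2]
  obtain ⟨σ, hσ, h, h'⟩ := exists_dodecad_point squares_dodecad
    (show (some 0 : GolayPt) ∈ Cfsg.Spor.squareDodecad by rw [mem_squares]; decide +kernel)
  refine (Nat.card_congr ((subEquiv _ Cfsg.Spor.M11 ?_).toEquiv)).symm.trans
    (Nat.card_congr (stabD1Equiv hσ h h').toEquiv)
  rw [Subgroup.map_inf _ _ _ Subtype.val_injective, map_stabilizer, map_stabilizer]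
  ext x
  exact ⟨fun h => ⟨h.1, h.2.2⟩, fun h => ⟨h.1, h.1.1, h.2⟩⟩

theorem basic22 : spec22.BasicOk := by unfold OutSpec.BasicOk; decide +kernel

theorem levels22' : spec22.LevelsOk := by unfold OutSpec.LevelsOk; decide +kernel

theorem dfs22 : dfs (centOk cls22) (centLeaf cls22 cent22) 7 0 (fun i => i) = true := by
  decide +kernel

theorem cases22 : ∀ k : Fin 11, 1 ≤ k.val → ∀ n : Fin spec22.cs.length, ∀ n₂ : Fin spec22.cs.length,
    spec22.caseOk k.val n.val n₂.val = true := by
  decide +kernel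

theorem basic12 : spec12.BasicOk := by unfold OutSpec.BasicOk; decide +kernel

theorem levels12' : spec12.LevelsOk := by unfold OutSpec.LevelsOk; decide +kernel

theorem dfs12 : dfs (centOk cls12) (centLeaf cls12 cent12) 7 0 (fun i => i) = true := by
  decide +kernel

theorem cases12 : ∀ k : Fin 11, 1 ≤ k.val → ∀ n : Fin spec12.cs.length, ∀ n₂ : Fin spec12.cs.length,
    spec12.caseOk k.val n.val n₂.val = true := by
  decide +kernel

theorem basic11 : spec11.BasicOk := by unfold OutSpec.BasicOk; decide +kernel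

theorem levels11' : spec11.LevelsOk := by unfold OutSpec.LevelsOk; decide +kernel

theorem dfs11 : dfs (centOk cls11) (centLeaf cls11 cent11) 7 0 (fun i => i) = true := by
  decide +kernel

theorem cases11 : ∀ k : Fin 11, 1 ≤ k.val → ∀ n : Fin spec11.cs.length, ∀ n₂ : Fin spec11.cs.length,
    spec11.caseOk k.val n.val n₂.val = true := by
  decide +kernel

theorem out_two {d : OutSpec} (hd : d.BasicOk) (hl : d.LevelsOk) {N : ℕ}
    (hN : Nat.card (clsGroup d.cls) = N) (hlev : (d.levels.map List.length).prod = N)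
    (h11 : ¬ 11 ^ 2 ∣ N) (hdfs : dfs (centOk d.cls) (centLeaf d.cls d.cs) 7 0 (fun i => i) = true)
    (hcases : ∀ k : Fin 11, 1 ≤ k.val → ∀ n : Fin d.cs.length, ∀ n₂ : Fin d.cs.length,
      d.caseOk k.val n.val n₂.val = true)
    (hne : ∃ i, d.cls (tabFn d.tau.1 i) ≠ d.cls i) :
    Nat.card (Cfsg.Out (clsGroup d.cls)) = 2 := by
  have hψ : normAut _ (tperm d.tau) (OutSpec.tau_normalizes hd) ∉ Cfsg.Inn (clsGroup d.cls) := by
    rintro ⟨x, hx⟩
    obtain ⟨hmem, -, hti, -, htm, -⟩ := id hd
    have hA : tperm tabA ∈ clsGroup d.cls := tperm_mem (hmem _ List.mem_cons_self)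
    have h := congrArg Subtype.val (DFunLike.congr_fun hx (⟨tperm tabA, hA⟩ : clsGroup d.cls))
    change x.1 * tperm tabA * x.1⁻¹ = tperm d.tau * tperm tabA * (tperm d.tau)⁻¹ at h
    have hM : tperm d.tau ∈ M24 :=
      mem_M24_of_basis (by rw [show fn (tperm d.tau) = tabFn d.tau.1 from funext (fn_tperm hti)]; exact htm)
    have hc : Commute (x.1⁻¹ * tperm d.tau) (tperm tabA) := by
      rw [Commute, SemiconjBy]
      calc x.1⁻¹ * tperm d.tau * tperm tabA
          = x.1⁻¹ * (tperm d.tau * tperm tabA * (tperm d.tau)⁻¹) * tperm d.tau := by simp [mul_assoc]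
        _ = x.1⁻¹ * (x.1 * tperm tabA * x.1⁻¹) * tperm d.tau := by rw [h]
        _ = tperm tabA * (x.1⁻¹ * tperm d.tau) := by simp [mul_assoc]
    rw [OutSpec.tabA_eq] at hc hA
    have hz := centralizer_double (M24.mul_mem (M24.inv_mem x.2.1) hM) hc
    have hH : x.1⁻¹ * tperm d.tau ∈ clsGroup d.cls := Subgroup.zpowers_le.mpr hA hz
    have ht : tperm d.tau ∈ clsGroup d.cls := by
      have := mul_mem x.2 hH
      rwa [mul_inv_cancel_left] at this
    obtain ⟨i, hi⟩ := hne
    refine hi ?_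
    rw [← fn_tperm hti]
    exact ht.2 i
  show Nat.card (MulAut (clsGroup d.cls) ⧸ Cfsg.Inn (clsGroup d.cls)) = 2
  set ψ := normAut _ (tperm d.tau) (OutSpec.tau_normalizes hd)
  rw [← Subgroup.index, Subgroup.index_eq_two_iff]
  refine ⟨ψ⁻¹, fun φ => ?_⟩
  haveI hN' : (Cfsg.Inn (clsGroup d.cls)).Normal := inferInstance
  have hcom : φ * ψ⁻¹ ∈ Cfsg.Inn (clsGroup d.cls) ↔ ψ⁻¹ * φ ∈ Cfsg.Inn (clsGroup d.cls) :=
    hN'.mem_comm_iff
  rcases OutSpec.aut_cases hd hl hN hlev h11 hdfs hcases φ with h | h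
  · refine Or.inr ⟨h, fun h' => hψ ?_⟩
    have := mul_mem h (inv_mem (hcom.mp h'))
    simpa using this
  · refine Or.inl ⟨hcom.mpr h, fun h' => hψ ?_⟩
    have := mul_mem h' (inv_mem h)
    simpa using this

theorem out_M22 : Nat.card (Cfsg.Out Cfsg.Spor.M22) = 2 := by
  rw [M22_eq]
  exact out_two (d := spec22) basic22 levels22' card_cls22 (by decide +kernel) (by norm_num) dfs22 cases22
    (by decide +kernel)

theorem out_M12 : Nat.card (Cfsg.Out Cfsg.Spor.M12) = 2 := by
  rw [M12_eq]
  exact out_two (d := spec12) basic12 levels12' card_cls12 (by decide +kernel) (by norm_num) dfs12 cases12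
    (by decide +kernel)

theorem out_M11 : Nat.card (Cfsg.Out Cfsg.Spor.M11) = 1 := by
  rw [M11_eq]
  refine card_out_one fun φ => ?_
  rcases OutSpec.aut_cases (d := spec11) basic11 levels11' card_cls11 (by decide +kernel) (by norm_num)
    dfs11 cases11 φ with h | h
  · exact h
  · have : normAut (clsGroup spec11.cls) (tperm spec11.tau) (OutSpec.tau_normalizes basic11) = 1 := by
      have e : tperm tabTau11 = 1 := fn_ext fun i => by
        rw [fn_tperm (by decide +kernel), fn_one]
        exact (show ∀ i : Fin 24, tabFn tabTau11.1 i = i by decide +kernel) i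
      ext x : 1
      apply Subtype.ext
      show tperm tabTau11 * x.1 * (tperm tabTau11)⁻¹ = x.1
      simp [e]
    have e2 : (normAut (clsGroup spec11.cls) (tperm spec11.tau) (OutSpec.tau_normalizes basic11))⁻¹ = 1 := by
      rw [this]; exact inv_one
    exact (congrArg (· ∈ Cfsg.Inn (clsGroup spec11.cls)) ((congrArg (· * _) e2).trans (one_mul _))).mp h

end Cfsg.Agent.Golay
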