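import Cfsg.Agent.Lib.Golay.OrbMore
import Cfsg.Agent.Lib.Classical.FieldFour
import Cfsg.Agent.S0243

/-!
The pointwise stabiliser of three points in the automorphism group of the length-24 code acts on
the other twenty-one points as the linear group of the projective plane of order four.
-/

set_option autoImplicit false
set_option maxRecDepth 100000

namespace Cfsg.Agent.Golay.Plane21

open Cfsg Cfsg.Agent.Golay Cfsg.Agent.Classical
open scoped LinearAlgebra.Projectivization MatrixGroups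

/-- The labels of the twenty-one points. -/
def labPts : List (Fin 24) := [4, 3, 19, 20, 11, 2, 13, 16, 22, 17, 6, 9, 12, 5, 8, 7, 15, 14, 10, 18, 21]

/-- Representatives of the points of the plane. -/
def labVecs : List (List F4) := [[.zero,.zero,.one], [.zero,.one,.zero], [.zero,.one,.one], [.zero,.one,.w], [.zero,.one,.v], [.one,.zero,.zero], [.one,.zero,.one], [.one,.zero,.w], [.one,.zero,.v], [.one,.one,.zero], [.one,.one,.one], [.one,.one,.w], [.one,.one,.v], [.one,.w,.zero], [.one,.w,.one], [.one,.w,.w], [.one,.w,.v], [.one,.v,.zero], [.one,.v,.one], [.one,.v,.w], [.one,.v,.v]]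

/-- A matrix for each transversal element. -/
def levMats : List (List (List F4)) := [
  [[.one,.zero,.zero,.zero,.one,.zero,.zero,.zero,.one], [.zero,.w,.one,.one,.zero,.w,.zero,.zero,.v], [.zero,.zero,.one,.zero,.one,.v,.one,.v,.zero], [.one,.one,.one,.w,.one,.v,.zero,.zero,.w], [.one,.w,.w,.one,.zero,.v,.one,.one,.v], [.one,.one,.w,.w,.w,.w,.w,.v,.one], [.one,.w,.one,.w,.one,.w,.one,.w,.w], [.one,.zero,.zero,.one,.v,.w,.w,.w,.v], [.one,.zero,.v,.v,.v,.w,.one,.w,.one], [.zero,.one,.zero,.one,.zero,.w,.v,.v,.zero], [.one,.w,.v,.one,.one,.v,.v,.zero,.zero], [.one,.one,.zero,.zero,.one,.w,.one,.zero,.v], [.one,.one,.zero,.v,.v,.w,.zero,.v,.v], [.one,.one,.zero,.w,.zero,.v,.v,.one,.zero], [.one,.w,.zero,.zero,.one,.zero,.w,.zero,.one], [.one,.w,.zero,.one,.one,.zero,.zero,.w,.w], [.one,.w,.w,.v,.zero,.w,.w,.v,.w], [.zero,.v,.zero,.one,.one,.zero,.one,.w,.w], [.zero,.v,.zero,.one,.w,.v,.w,.zero,.v], [.one,.v,.zero,.v,.v,.one,.v,.one,.w], [.one,.v,.one,.zero,.w,.one,.v,.one,.w]],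
  [[.one,.zero,.zero,.zero,.one,.zero,.zero,.zero,.one], [.one,.zero,.zero,.zero,.zero,.one,.zero,.one,.zero], [.one,.w,.one,.zero,.v,.one,.zero,.zero,.w], [.one,.w,.w,.zero,.w,.w,.zero,.w,.one], [.one,.v,.w,.zero,.one,.one,.zero,.one,.zero], [.one,.w,.v,.zero,.v,.one,.zero,.w,.one], [.one,.w,.one,.zero,.w,.zero,.zero,.v,.v], [.one,.v,.w,.zero,.w,.one,.zero,.v,.one], [.one,.zero,.w,.zero,.v,.v,.zero,.w,.zero], [.one,.one,.v,.zero,.one,.w,.zero,.v,.zero], [.one,.one,.v,.zero,.zero,.one,.zero,.one,.v], [.one,.v,.one,.zero,.w,.w,.zero,.zero,.v], [.one,.v,.zero,.zero,.one,.v,.zero,.w,.zero], [.one,.one,.v,.zero,.zero,.v,.zero,.w,.one], [.one,.w,.one,.zero,.w,.v,.zero,.zero,.v], [.one,.w,.w,.zero,.one,.v,.zero,.v,.v], [.one,.zero,.one,.zero,.v,.zero,.zero,.v,.w], [.one,.zero,.zero,.zero,.w,.v,.zero,.v,.w], [.one,.w,.w,.zero,.one,.w,.zero,.one,.v], [.one,.w,.w,.zero,.zero,.one,.zero,.one,.w]],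
  [[.one,.zero,.zero,.zero,.one,.zero,.zero,.zero,.one], [.one,.zero,.w,.zero,.v,.w,.zero,.zero,.w], [.one,.zero,.one,.zero,.v,.w,.zero,.zero,.w], [.one,.zero,.v,.zero,.w,.one,.zero,.zero,.v], [.one,.zero,.w,.zero,.w,.w,.zero,.zero,.v], [.one,.zero,.one,.zero,.one,.v,.zero,.zero,.one], [.one,.zero,.zero,.zero,.v,.v,.zero,.zero,.w], [.one,.zero,.v,.zero,.v,.v,.zero,.zero,.w], [.one,.zero,.one,.zero,.one,.zero,.zero,.zero,.one], [.one,.zero,.v,.zero,.v,.one,.zero,.zero,.w], [.one,.zero,.one,.zero,.v,.zero,.zero,.zero,.w], [.one,.zero,.v,.zero,.one,.w,.zero,.zero,.one], [.one,.zero,.zero,.zero,.w,.v,.zero,.zero,.v], [.one,.zero,.zero,.zero,.one,.v,.zero,.zero,.one], [.one,.zero,.w,.zero,.one,.one,.zero,.zero,.one], [.one,.zero,.v,.zero,.v,.zero,.zero,.zero,.w]],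
  [[.one,.zero,.zero,.zero,.one,.zero,.zero,.zero,.one], [.one,.zero,.zero,.zero,.w,.zero,.zero,.zero,.v], [.one,.zero,.zero,.zero,.v,.zero,.zero,.zero,.w]]]

/-- The vector of a label. -/
def vecAt (j : Fin 21) : Fin 3 → F4 := fun i => (labVecs.getD j.val []).getD i.val .zero

/-- The position of a label. -/
def ptAt (j : Fin 21) : Fin 24 := labPts.getD j.val 0

theorem vec_facts : (∀ j, vecAt j ≠ 0) ∧ (∀ j k, ∀ r : F4, r • vecAt k = vecAt j → j = k) ∧
    ∀ a b c : F4, ![a, b, c] ≠ 0 → ∃ j, ∃ r : F4, r • vecAt j = ![a, b, c] := by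
  decide +kernel

theorem pt_facts : (∀ j, ∀ i : Fin 3, ptAt j ≠ bpt i.val) ∧ Function.Injective ptAt ∧
    ∀ x : Fin 24, (∀ i : Fin 3, x ≠ bpt i.val) → ∃ j, ptAt j = x := by
  decide +kernel

/-- The plane. -/
abbrev P21 := ℙ F4 (Fin 3 → F4)

/-- The labelled point of the plane. -/
def labP (j : Fin 21) : P21 := Projectivization.mk F4 (vecAt j) (vec_facts.1 j)

theorem labP_bijective : Function.Bijective labP := by
  refine ⟨fun j k h => ?_, fun x => ?_⟩
  · obtain ⟨r, hr⟩ := (Projectivization.mk_eq_mk_iff' _ _ _ _ _).1 h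
    exact vec_facts.2.1 j k r hr
  · induction x using Projectivization.ind with | _ v hv =>
    have e : ![v 0, v 1, v 2] = v := by ext i; fin_cases i <;> rfl
    obtain ⟨j, r, hr⟩ := vec_facts.2.2 (v 0) (v 1) (v 2) (by rw [e]; exact hv)
    rw [e] at hr
    exact ⟨j, ((Projectivization.mk_eq_mk_iff' _ _ _ _ _).2 ⟨r, hr⟩).symm⟩

/-- The points outside the first three base points. -/
abbrev Rest := {x : GolayPt // ∀ i : Fin 3, x ≠ pt (bpt i.val)}

/-- The labelled point among the rest. -/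
def labG (j : Fin 21) : Rest := ⟨pt (ptAt j), fun i h => pt_facts.1 j i (by simpa [idx_pt] using congrArg idx h)⟩

theorem labG_bijective : Function.Bijective labG := by
  refine ⟨fun j k h => pt_facts.2.1 (by simpa [labG, idx_pt] using congrArg (fun x : Rest => idx x.1) h), fun x => ?_⟩
  obtain ⟨j, hj⟩ := pt_facts.2.2 (idx x.1) fun i h => x.2 i (by rw [← h, pt_idx])
  exact ⟨j, Subtype.ext (show pt (ptAt j) = x.1 by rw [hj, pt_idx])⟩

/-- The labelling. -/
noncomputable def labEquiv : P21 ≃ Rest :=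
  (Equiv.ofBijective labP labP_bijective).symm.trans (Equiv.ofBijective labG labG_bijective)

theorem labEquiv_labP (j : Fin 21) : labEquiv (labP j) = labG j := by
  rw [labEquiv, Equiv.trans_apply]
  exact congrArg (Equiv.ofBijective labG labG_bijective) ((Equiv.ofBijective labP labP_bijective).symm_apply_apply j)

theorem rest_inv (g : chain 3) (x : GolayPt) :
    (∀ i : Fin 3, (g : Equiv.Perm GolayPt) x ≠ pt (bpt i.val)) ↔ ∀ i : Fin 3, x ≠ pt (bpt i.val) := by
  refine forall_congr' fun i => not_congr ⟨fun h => ?_, fun h => h ▸ g.2.2 i.val i.isLt⟩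
  exact (g : Equiv.Perm GolayPt).injective (h.trans (g.2.2 i.val i.isLt).symm)

/-- The action on the rest. -/
def restHom : chain 3 →* Equiv.Perm Rest where
  toFun g := (g : Equiv.Perm GolayPt).subtypePerm fun x => rest_inv g x
  map_one' := Equiv.ext fun x => Subtype.ext rfl
  map_mul' a b := Equiv.ext fun x => Subtype.ext rfl

/-- The action on the plane. -/
noncomputable def planeHom : chain 3 →* Equiv.Perm P21 :=
  labEquiv.symm.permCongrHom.toMonoidHom.comp restHom

theorem planeHom_injective : Function.Injective planeHom := by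
  refine (Equiv.permCongrHom _).injective.comp ((injective_iff_map_eq_one _).2 fun g hg => ?_)
  refine Subtype.ext (Equiv.ext fun x => ?_)
  by_cases hx : ∀ i : Fin 3, x ≠ pt (bpt i.val)
  · exact congrArg Subtype.val (Equiv.Perm.congr_fun hg ⟨x, hx⟩)
  · push_neg at hx
    obtain ⟨i, rfl⟩ := hx
    exact g.2.2 i.val i.isLt

/-- The matrix of the transversal element number `n` of level `3 + k`. -/
def matAt (k n : ℕ) : Matrix (Fin 3) (Fin 3) F4 :=
  Matrix.of fun i j => ((levMats.getD k []).getD n []).getD (3 * i.val + j.val) .zero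

theorem det_ok : ∀ k : Fin 4, ∀ n : Fin (lev (3 + k.val)).length, (matAt k.val n.val).det = 1 := by
  simp only [Matrix.det_fin_three]
  decide +kernel

/-- The matrix as an element of the special linear group. -/
def slAt (k : Fin 4) (n : Fin (lev (3 + k.val)).length) : SL(3, F4) := ⟨matAt k.val n.val, det_ok k n⟩

theorem move_ok : ∀ k : Fin 4, ∀ n : Fin (lev (3 + k.val)).length, ∀ j : Fin 21, ∃ i : Fin 21,
    ev (lev (3 + k.val))[n].2 (ptAt j) = ptAt i ∧
      ∃ r : F4, r • vecAt i = (matAt k.val n.val).mulVec (vecAt j) := by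
  decide +kernel

/-- The linear group on the plane. -/
noncomputable abbrev linRange : Subgroup (Equiv.Perm P21) :=
  (MulAction.toPermHom (Matrix.ProjectiveSpecialLinearGroup (Fin 3) F4) P21).range

theorem trans_mem (k : Fin 4) {e : Fin 24 × List (Fin 5)} (he : e ∈ lev (3 + k.val))
    (h : wordPerm e.2 ∈ chain 3) : planeHom ⟨wordPerm e.2, h⟩ ∈ linRange := by
  obtain ⟨n, hn, rfl⟩ := List.getElem_of_mem he
  refine ⟨QuotientGroup.mk (slAt k ⟨n, hn⟩), Equiv.ext fun x => ?_⟩
  obtain ⟨j, rfl⟩ := labP_bijective.2 x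
  obtain ⟨i, h1, r, hr⟩ := move_ok k ⟨n, hn⟩ j
  have hL : planeHom ⟨wordPerm (lev (3 + k.val))[n].2, h⟩ (labP j) = labP i := by
    show labEquiv.symm (restHom ⟨wordPerm (lev (3 + k.val))[n].2, h⟩ (labEquiv (labP j))) = labP i
    rw [Equiv.symm_apply_eq, labEquiv_labP, labEquiv_labP]
    refine Subtype.ext ?_
    show wordPerm (lev (3 + k.val))[n].2 (pt (ptAt j)) = pt (ptAt i)
    rw [wordPerm_apply]
    exact congrArg pt h1
  rw [hL]
  show (slAt k ⟨n, hn⟩) • labP j = labP i
  rw [labP, labP]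
  exact (Projectivization.mk_eq_mk_iff' _ _ _ _ _).2 ⟨r, hr⟩

theorem chain_range : ∀ n i : ℕ, n + i = 7 → 3 ≤ i → ∀ σ : chain 3, (σ : Equiv.Perm GolayPt) ∈ chain i →
    planeHom σ ∈ linRange := by
  intro n
  induction n with
  | zero =>
    intro i hi _ σ hσ
    rw [Nat.zero_add] at hi; subst hi
    rw [chain_seven, Subgroup.mem_bot] at hσ
    obtain rfl : σ = 1 := Subtype.ext hσ
    rw [map_one]; exact one_mem _
  | succ n ih =>
    intro i hi h3 σ hσ
    obtain ⟨e, he, h⟩ := chain_step ⟨i, by omega⟩ hσ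
    have hw : wordPerm e.2 ∈ chain 3 := by
      have hm := (wordPerm_mem_chain ⟨i, by omega⟩ he).1
      exact ⟨hm.1, fun j hj => hm.2 j (by show j < i; omega)⟩
    obtain ⟨k, rfl⟩ : ∃ k, i = 3 + k := ⟨i - 3, by omega⟩
    have h1 := trans_mem ⟨k, by omega⟩ he hw
    have h2 := ih (3 + k + 1) (by omega) (by omega) (⟨wordPerm e.2, hw⟩⁻¹ * σ) h
    have := mul_mem h1 h2
    rwa [← map_mul, mul_inv_cancel_left] at this

theorem card_chain_three : Nat.card (chain 3) = 20160 := by
  have h := card_chain_step ⟨2, by omega⟩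
  have h2 : Nat.card (chain 2) = (lev 2).length * Nat.card (chain 3) := h
  rw [card_chain.2.2, show (lev 2).length = 22 by decide +kernel] at h2
  omega

theorem card_linear : Nat.card (Matrix.ProjectiveSpecialLinearGroup (Fin 3) F4) = 20160 := by
  have h := Cfsg.Agent.S0243.result (F := F4) F4.card_eq 3 (by norm_num)
  rw [Fin.prod_univ_three] at h
  norm_num at h
  simp only [Nat.card_eq_fintype_card] at h ⊢
  omega

theorem nonempty_iso : Nonempty (chain 3 ≃* Matrix.ProjectiveSpecialLinearGroup (Fin 3) F4) := by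
  let f : chain 3 →* linRange := planeHom.codRestrict linRange fun σ => chain_range 4 3 rfl le_rfl σ σ.2
  have hinj : Function.Injective (MulAction.toPermHom (Matrix.ProjectiveSpecialLinearGroup (Fin 3) F4) P21) :=
    MulAction.toPerm_injective
  have hf : Function.Bijective f := (Nat.bijective_iff_injective_and_card f).2
    ⟨fun a b e => planeHom_injective (congrArg Subtype.val e), by
      rw [card_chain_three, ← Nat.card_congr (MonoidHom.ofInjective hinj).toEquiv, card_linear]⟩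
  exact ⟨(MulEquiv.ofBijective f hf).trans (MonoidHom.ofInjective hinj).symm⟩

theorem stab_iso (p q r : GolayPt) (hpq : p ≠ q) (hpr : p ≠ r) (hqr : q ≠ r) :
    Nonempty (↥(MulAction.stabilizer M24 p ⊓ MulAction.stabilizer M24 q ⊓ MulAction.stabilizer M24 r) ≃* chain 3) := by
  obtain ⟨σ, hσ, hz⟩ := exists_map_points (N := 3) (by norm_num) ⟨![p, q, r], fun i j h => by
    fin_cases i <;> fin_cases j <;> simp_all [eq_comm]⟩
  have h0 : σ (pt (bpt 0)) = p := hz 0
  have h1 : σ (pt (bpt 1)) = q := hz 1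
  have h2 : σ (pt (bpt 2)) = r := hz 2
  have hc : ∀ (g : Equiv.Perm GolayPt) (a b : GolayPt), σ a = b → (g b = b ↔ (σ⁻¹ * g * σ) a = a) := by
    rintro g a _ rfl
    rw [Equiv.Perm.mul_apply, Equiv.Perm.mul_apply, Equiv.Perm.coe_inv, Equiv.symm_apply_eq]
  have key : ∀ g : Equiv.Perm GolayPt, (g ∈ M24 ∧ g p = p ∧ g q = q ∧ g r = r) ↔ σ⁻¹ * g * σ ∈ chain 3 := by
    intro g
    constructor
    · rintro ⟨hg, gp, gq, gr⟩
      refine ⟨mul_mem (mul_mem (inv_mem hσ) hg) hσ, fun i hi => ?_⟩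
      interval_cases i
      · exact (hc g _ _ h0).1 gp
      · exact (hc g _ _ h1).1 gq
      · exact (hc g _ _ h2).1 gr
    · rintro ⟨hg, hfix⟩
      refine ⟨?_, (hc g _ _ h0).2 (hfix 0 (by norm_num)), (hc g _ _ h1).2 (hfix 1 (by norm_num)),
        (hc g _ _ h2).2 (hfix 2 (by norm_num))⟩
      have := mul_mem (mul_mem hσ hg) (inv_mem hσ)
      simpa [mul_assoc] using this
  exact ⟨
    { toFun := fun g => ⟨σ⁻¹ * ((g : M24) : Equiv.Perm GolayPt) * σ,
        (key _).1 ⟨(g : M24).2, g.2.1.1, g.2.1.2, g.2.2⟩⟩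
      invFun := fun h =>
        have hk := (key (σ * (h : Equiv.Perm GolayPt) * σ⁻¹)).2 (by simp [mul_assoc, h.2])
        ⟨⟨_, hk.1⟩, ⟨hk.2.1, hk.2.2.1⟩, hk.2.2.2⟩
      left_inv := fun g => by apply Subtype.ext; apply Subtype.ext; simp [mul_assoc]
      right_inv := fun h => by apply Subtype.ext; simp [mul_assoc]
      map_mul' := fun a b => by apply Subtype.ext; simp [mul_assoc] }⟩

end Cfsg.Agent.Golay.Plane21
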