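import Cfsg.Agent.Lib.Golay.QuartetStab

/-! The orbits of a quartet stabiliser on the quartets. -/

set_option autoImplicit false
set_option maxRecDepth 100000

namespace Cfsg.Agent.Golay.QuartetStab

open Cfsg Cfsg.Agent.Golay Cfsg.Agent.Golay.Small Cfsg.Agent.Golay.Quartets
open scoped Pointwise

/-- An orbit on quartets. -/
def orbQ12 : List (List ℕ) := [[14, 4225, 17152, 8421440], [73, 17152, 32898, 8392708], [196, 265, 4610, 8437760], [196, 16394, 33281, 8392960], [196, 20481, 33026, 8389128], [321, 16390, 36872, 8389248], [328, 20608, 33284, 8388611], [386, 517, 36872, 8405056], [578, 16513, 36872, 8388868], [648, 4356, 49216, 8388611], [4162, 17152, 32773, 8388744], [4672, 16396, 33152, 8388611]]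

/-- An orbit on quartets. -/
def orbQ27 : List (List ℕ) := [[7, 20992, 33032, 8388800], [11, 580, 16768, 8425472], [67, 20488, 33536, 8388740], [69, 4864, 49160, 8388738], [70, 4360, 49664, 8388737], [76, 515, 36992, 8405248], [131, 16648, 37376, 8388676], [133, 16904, 37120, 8388674], [134, 20736, 33288, 8388673], [140, 16897, 36928, 8388866], [193, 4616, 49408, 8388614], [194, 776, 53248, 8388613], [200, 770, 36868, 8404993], [259, 4288, 32780, 8405504], [324, 4106, 17024, 8421377], [388, 16960, 36865, 8388618], [448, 4099, 16900, 8421384], [644, 16704, 32778, 8392705], [704, 4105, 16644, 8421378], [769, 4164, 32904, 8404994], [772, 16576, 36866, 8388617], [832, 16516, 32771, 8392712], [896, 16452, 32777, 8392706], [4108, 16641, 32960, 8389122], [4168, 16387, 32900, 8389376], [4228, 16642, 32840, 8389121], [4232, 16898, 32836, 8388865]]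

/-- An orbit on quartets. -/
def orbQ72 : List (List ℕ) := [[7, 896, 36928, 8405000], [7, 4232, 16704, 8421888], [11, 4228, 49664, 8388928], [11, 4864, 32960, 8404996], [13, 448, 37376, 8404994], [67, 16644, 32904, 8393216], [67, 17024, 36868, 8388872], [69, 392, 36866, 8405504], [69, 16642, 33408, 8392712], [70, 4736, 16641, 8421384], [70, 16520, 36865, 8389376], [74, 16516, 37376, 8388865], [76, 385, 20992, 8421378], [76, 16514, 33536, 8392705], [131, 772, 32840, 8409088], [131, 4108, 16960, 8421632], [133, 770, 20544, 8421384], [133, 4106, 33344, 8405248], [134, 769, 16456, 8425472], [134, 4105, 33088, 8405504], [137, 324, 53248, 8389122], [138, 16452, 37120, 8389121], [140, 4099, 49408, 8389184], [140, 4864, 16450, 8421377], [193, 268, 16898, 8425472], [193, 20484, 32778, 8389376], [194, 4612, 32777, 8405248], [194, 16897, 33028, 8392712], [200, 261, 49664, 8392706], [200, 20736, 32771, 8389124], [259, 644, 53248, 8388680], [259, 4616, 16452, 8421504], [262, 16904, 32960, 8392705],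 [266, 16900, 36992, 8388673], [322, 20992, 32900, 8388617], [324, 16387, 33288, 8392832], [388, 515, 49160, 8392768], [388, 4616, 32834, 8404993], [448, 20488, 32774, 8389121], [515, 4360, 16576, 8421380], [518, 4288, 16648, 8421377], [521, 16704, 36868, 8388738], [522, 16644, 36928, 8388737], [524, 16642, 36865, 8388800], [577, 16648, 32900, 8392706], [580, 4226, 33032, 8404993], [580, 20488, 32897, 8388866], [584, 16641, 36866, 8388740], [641, 20736, 32836, 8388618], [642, 4164, 49408, 8388617], [644, 4360, 32833, 8404994], [704, 4102, 49160, 8388865], [704, 16387, 37120, 8388620], [769, 4106, 49156, 8388800], [770, 4105, 49280, 8388676], [772, 4232, 49153, 8388674], [776, 4099, 32836, 8405120], [776, 4228, 16449, 8421378], [832, 16393, 36992, 8388614], [832, 20482, 32780, 8388737], [896, 4108, 49154, 8388673], [4101, 16576, 33288, 8388866], [4161, 16516, 33032, 8389122], [4164, 16904, 32771, 8388992], [4168, 16768, 33282, 8388613], [4168, 16900, 33025, 8388738], [4288, 16389, 33536,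 8388618], [4353, 17024, 32840, 8388614], [4354, 16960, 32904, 8388613], [4416, 16898, 32777, 8388740], [4480, 16897, 32778, 8388676], [4609, 16768, 32780, 8388674]]

/-- An orbit on quartets. -/
def orbQ108 : List (List ℕ) := [[7, 584, 49280, 8392960], [11, 20544, 33028, 8389248], [13, 578, 20736, 8421504], [13, 4226, 49216, 8389376], [13, 17024, 33026, 8392768], [14, 577, 53248, 8388992], [14, 4416, 33408, 8404993], [14, 16576, 33025, 8393216], [67, 524, 4480, 8437760], [69, 522, 20608, 8421632], [70, 521, 33152, 8409088], [73, 388, 20482, 8421888], [73, 518, 37120, 8405120], [73, 4736, 49156, 8388866], [74, 517, 49408, 8392832], [74, 896, 20481, 8421380], [74, 4356, 32897, 8405504], [76, 4354, 49153, 8389248], [131, 4416, 49156, 8389128], [133, 328, 49154, 8393216], [134, 4672, 49153, 8388872], [137, 4102, 33536, 8405056], [137, 4672, 16642, 8421380], [137, 16900, 32834, 8392960], [138, 832, 4101, 8437760], [138, 16641, 33284, 8392768], [138, 20992, 32833, 8388868], [140, 321, 33282,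 8409088], [193, 4354, 33284, 8405000], [194, 4353, 16396, 8421888], [200, 4609, 16390, 8421632], [259, 16520, 33344, 8392708], [261, 642, 20488, 8421440], [261, 4672, 32778, 8405120], [261, 16450, 36992, 8389128], [262, 641, 4168, 8437760], [262, 16449, 37376, 8388744], [262, 20608, 32777, 8389184], [265, 16514, 36928, 8389124], [265, 16960, 32774, 8392832], [265, 20484, 33408, 8388674], [266, 704, 32773, 8409088], [266, 4164, 16513, 8421888], [266, 4609, 49216, 8388740], [268, 4162, 49280, 8389121], [268, 4736, 32771, 8405056], [268, 20481, 33344, 8388738], [321, 4226, 16904, 8421380], [321, 4612, 49280, 8388618], [322, 648, 16389, 8425472], [322, 4108, 33281, 8405120], [322, 4225, 49160, 8389124], [324, 4609, 32898, 8405000], [328, 642, 36865, 8404996], [328, 4102, 16897, 8421504], [385, 518, 49216, 8392712], [385, 4162, 33288, 8404996], [385, 16394, 36868, 8389184], [386, 584, 20484, 8421377], [386, 4161, 49664, 8388620], [386, 16393, 32836, 8393216], [392, 578, 49156, 8392705], [392,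 4612, 16387, 8421440], [392, 20544, 33281, 8388614], [448, 522, 49153, 8392708], [515, 20484, 33088, 8388744], [517, 4416, 16520, 8421378], [517, 20482, 32960, 8388872], [518, 20481, 32904, 8388928], [521, 4288, 49154, 8388868], [521, 4354, 16516, 8421440], [522, 4353, 32900, 8405056], [524, 16513, 33088, 8392706], [524, 20544, 32898, 8388865], [577, 4232, 33026, 8404996], [577, 4356, 16514, 8421384], [578, 4228, 33025, 8405000], [580, 4353, 49154, 8388744], [584, 4225, 33028, 8404994], [641, 16396, 36866, 8388928], [641, 16450, 33032, 8392708], [642, 16449, 32780, 8392960], [644, 4162, 16393, 8421632], [648, 4161, 32774, 8405248], [648, 20482, 33025, 8388676], [769, 20608, 32834, 8388620], [770, 16396, 32833, 8392832], [772, 4161, 16394, 8421504], [776, 16390, 32897, 8392768], [4099, 16456, 33408, 8388868], [4101, 16648, 32834, 8389248], [4101, 16898, 33152, 8388680], [4102, 16768, 32833, 8389128], [4105, 16450, 33284, 8388992], [4106, 16449, 33152, 8389124], [4225, 16452, 33282, 8388872],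 [4226, 16644, 33281, 8388680], [4356, 16393, 33282, 8388800], [4360, 16389, 32898, 8389184], [4480, 16390, 33344, 8388617], [4480, 16456, 32773, 8389122], [4610, 16389, 32840, 8388992], [4610, 16520, 33028, 8388673], [4610, 16704, 32897, 8388620], [4612, 16456, 33026, 8388737], [4616, 16514, 32773, 8388928], [4736, 16394, 33088, 8388613], [4864, 16513, 32774, 8388680]]

/-- Witnesses for the orbit. -/
def witQ12 : List (Fin 9 × ℕ) := [(0, 12), (2, 12), (2, 13), (0, 13), (1, 13), (0, 46), (2, 14), (3, 46), (6, 46), (1, 14), (1, 12), (0, 14)]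

/-- Witnesses for the orbit. -/
def witQ27 : List (Fin 9 × ℕ) := [(3, 14), (7, 13), (0, 14), (4, 14), (2, 14), (8, 12), (6, 14), (7, 14), (5, 14), (6, 12), (1, 14), (8, 14), (7, 12), (5, 12), (0, 13), (8, 13), (4, 13), (3, 13), (2, 13), (3, 12), (6, 13), (1, 13), (5, 13), (0, 12), (2, 12), (4, 12), (1, 12)]

/-- Witnesses for the orbit. -/
def witQ72 : List (Fin 9 × ℕ) := [(4, 23), (1, 12), (2, 38), (0, 37), (5, 21), (1, 23), (7, 12), (3, 22), (1, 13), (1, 22), (8, 13), (6, 14), (3, 38), (8, 37), (4, 12), (7, 23), (4, 13), (6, 22), (4, 22), (2, 13), (8, 14), (3, 21), (6, 37), (4, 38), (7, 13), (0, 22), (5, 13), (7, 22), (7, 37), (5, 38), (4, 21), (1, 14), (7, 38), (3, 23), (2, 37), (1, 21), (4, 14), (6, 21), (0, 14), (7, 21), (5, 37), (5, 23), (6, 12), (5, 22), (6, 38), (3, 14), (8, 21), (6, 13), (1, 37), (1, 38), (2, 14), (0, 21), (7, 14), (0, 13), (8, 22), (8, 23), (8, 38), (4, 37), (8, 12), (0, 23), (0, 12), (5, 14), (2, 21), (3, 37), (6, 23), (2, 12), (0, 38), (2, 23), (3, 12), (2,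 22), (3, 13), (5, 12)]

/-- Witnesses for the orbit. -/
def witQ108 : List (Fin 9 × ℕ) := [(0, 28), (0, 37), (7, 39), (7, 31), (8, 32), (8, 14), (4, 29), (4, 34), (6, 28), (2, 35), (6, 35), (3, 34), (7, 14), (3, 29), (3, 39), (1, 32), (1, 31), (0, 42), (3, 28), (5, 35), (0, 35), (5, 39), (0, 31), (0, 32), (6, 32), (8, 31), (8, 39), (1, 42), (8, 35), (3, 35), (2, 42), (2, 29), (0, 14), (3, 13), (8, 12), (2, 12), (6, 14), (5, 13), (6, 12), (4, 32), (4, 28), (6, 34), (7, 42), (7, 35), (1, 29), (3, 37), (1, 28), (0, 39), (1, 37), (7, 13), (0, 12), (4, 14), (7, 34), (8, 13), (5, 31), (1, 13), (5, 14), (7, 12), (5, 37), (4, 39), (5, 42), (8, 37), (8, 29), (7, 28), (2, 34), (5, 29), (4, 37), (4, 42), (3, 12), (6, 42), (8, 34), (3, 42), (7, 37), (7, 29), (1, 12), (4, 13), (8, 42), (5, 34), (0, 29), (6, 13), (3, 14), (5, 12), (1, 34), (4, 31), (4, 35), (2, 31), (3, 31), (5, 32), (1, 39), (6, 37), (2, 39), (6, 31), (3, 32), (2, 13), (0, 13), (0, 34), (7, 32), (1, 35), (2, 14), (2, 37), (6, 29), (4,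 12), (2, 28), (2, 32), (8, 28), (1, 14), (5, 28), (6, 39)]

/-- The listed members are exactly the images of the first under the stabiliser. -/
def orbOK (L : List (List ℕ)) (W : List (Fin 9 × ℕ)) : Bool :=
  decide (L.length = W.length) &&
  (L.zip W).all (fun e => glCodes.contains e.2.2 &&
    (qImg (tA e.2.1.val) (qImg (tK e.2.2) (L.headD []))) == e.1) &&
  glCodes.all (fun b => let y := qImg (tK b) (L.headD []);
    (List.finRange 9).all fun x => L.contains (qImg (tA x.val) y))

theorem orbs_ok : (orbOK orbQ12 witQ12 && orbOK orbQ27 witQ27 && orbOK orbQ72 witQ72 &&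
    orbOK orbQ108 witQ108) = true := by
  decide +kernel

theorem exists_code {a : Multiplicative (ZMod 3 × ZMod 3)} : ∃ x : Fin 9, homA a = tperm (tA x.val) :=
  ⟨⟨_, aCode_lt a⟩, homA_apply a⟩

theorem smul_code (x : Fin 9) {b : ℕ} (hb : b ∈ glCodes) (l : List ℕ) :
    (tperm (tA x.val) * tperm (tK b)) • qI l = qI (qImg (tA x.val) (qImg (tK b) l)) := by
  rw [mul_smul, smul_qI (tK_ok b hb).1.1, smul_qI (tA_ok x).1.1]

theorem orbit_eq {L : List (List ℕ)} {W : List (Fin 9 × ℕ)} (h : orbOK L W = true) :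
    MulAction.orbit H0 (qI (L.headD [])) = qI '' {l | l ∈ L} := by
  simp only [orbOK, Bool.and_eq_true, decide_eq_true_eq, List.all_eq_true, List.contains_eq_mem,
    beq_iff_eq] at h
  obtain ⟨⟨hlen, hw⟩, hc⟩ := h
  ext Q
  constructor
  · rintro ⟨⟨g, hg⟩, rfl⟩
    obtain ⟨a, y, rfl⟩ := factor hg
    obtain ⟨x, hx⟩ := exists_code (a := a)
    refine ⟨_, hc _ (glCode_mem y) x (List.mem_finRange x), ?_⟩
    show _ = (homA a * homK y) • qI (L.headD [])
    rw [hx, homK_apply, smul_code x (glCode_mem y)]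
  · rintro ⟨l, hl, rfl⟩
    obtain ⟨i, hi, rfl⟩ := List.getElem_of_mem hl
    have hi' : i < W.length := hlen ▸ hi
    obtain ⟨hb, e⟩ := hw (L[i], W[i]) (List.mem_iff_getElem.2 ⟨i, by simp [hi, hi'], by simp⟩)
    refine ⟨⟨_, mul_mem (tab_H0 (tA_ok W[i].1).1 (tA_ok W[i].1).2) (tab_H0 (tK_ok _ hb).1 (tK_ok _ hb).2)⟩, ?_⟩
    show (tperm (tA W[i].1.val) * tperm (tK W[i].2)) • qI (L.headD []) = qI L[i]
    rw [smul_code _ hb, e]

/-- All the quartets, orbit by orbit. -/
def allQ : List (List ℕ) := q0L :: (orbQ12 ++ orbQ27 ++ orbQ72 ++ orbQ108)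

theorem all_sep : (allQ.all fun l => allQ.all fun l' =>
    !(l.all fun m => l'.contains m) || l == l') = true := by
  decide +kernel

theorem all_lt : ∀ l ∈ allQ, ∀ m ∈ l, m < 2 ^ 24 := by decide +kernel

theorem all_nodup : allQ.Nodup := by decide +kernel

theorem qI_inj : Set.InjOn qI {l | l ∈ allQ} := by
  intro l hl l' hl' e
  have h := List.all_eq_true.1 (List.all_eq_true.1 all_sep l hl) l' hl'
  simp only [Bool.or_eq_true, Bool.not_eq_true', beq_iff_eq] at h
  refine h.resolve_left ?_
  rw [Bool.not_eq_false, List.all_eq_true]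
  intro m hm
  rw [List.contains_eq_mem, decide_eq_true_eq]
  have : supp m ∈ qI l' := e ▸ List.mem_toFinset.2 (List.mem_map_of_mem hm)
  obtain ⟨n, hn, hnm⟩ := List.mem_map.1 (List.mem_toFinset.1 this)
  have := congrArg maskF hnm
  rw [maskF_supp (all_lt l' hl' n hn), maskF_supp (all_lt l hl m hm)] at this
  exact this ▸ hn

/-- A listed root is a quartet. -/
def rootOK (l : List ℕ) : Bool :=
  decide (l.length = 4 ∧ l.Nodup) && l.all fun m => decide (m < 2 ^ 24) && popc m == 3 && m &&& dMask == m &&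
    l.all fun n => m == n || hexL.contains (m ||| n)

theorem roots_ok : ([orbQ12, orbQ27, orbQ72, orbQ108].all fun L => rootOK (L.headD [])) = true := by
  decide +kernel

theorem root_mem {l : List ℕ} (h : rootOK l = true) : qI l ∈ quartets D0 := by
  simp only [rootOK, Bool.and_eq_true, decide_eq_true_eq, List.all_eq_true, beq_iff_eq, Bool.or_eq_true,
    List.contains_eq_mem] at h
  obtain ⟨⟨hlen, hnd⟩, hm⟩ := h
  refine ⟨?_, ?_, ?_⟩
  · rw [qI, List.toFinset_card_of_nodup, List.length_map, hlen]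
    exact List.Nodup.map_on (fun x hx y hy e => by
      rw [← maskF_supp (hm x hx).1.1.1, e, maskF_supp (hm y hy).1.1.1]) hnd
  · intro t ht
    obtain ⟨m, hml, rfl⟩ := List.mem_map.1 (List.mem_toFinset.1 ht)
    obtain ⟨⟨⟨hlt, h3⟩, hsub⟩, -⟩ := hm m hml
    refine ⟨by rw [← popc_eq]; exact h3, (subset_iff_mask _ _).2 ?_⟩
    rw [maskF_supp hlt, D0, maskF_supp dMask_lt', hsub]
  · intro t ht u hu hne
    obtain ⟨m, hml, rfl⟩ := List.mem_map.1 (List.mem_toFinset.1 ht)
    obtain ⟨n, hnl, rfl⟩ := List.mem_map.1 (List.mem_toFinset.1 hu)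
    rw [hexad_iff, maskF_union, maskF_supp (hm m hml).1.1.1, maskF_supp (hm n hnl).1.1.1]
    exact ((hm m hml).2 n hnl).resolve_left fun h => hne (by rw [h])

theorem orbit_card {L : List (List ℕ)} {W : List (Fin 9 × ℕ)} (h : orbOK L W = true)
    (hs : ∀ l ∈ L, l ∈ allQ) (hn : L.Nodup) : (MulAction.orbit H0 (qI (L.headD []))).ncard = L.length := by
  rw [orbit_eq h, Set.ncard_image_of_injOn (s := {l | l ∈ L}) (qI_inj.mono fun l hl => hs l hl)]
  rw [show {l | l ∈ L} = (↑L.toFinset : Set (List ℕ)) by ext; simp, Set.ncard_coe_finset,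
    List.toFinset_card_of_nodup hn]

theorem orbit_sub {L : List (List ℕ)} (hr : rootOK (L.headD []) = true) :
    MulAction.orbit H0 (qI (L.headD [])) ⊆ quartets D0 := by
  rintro _ ⟨⟨g, hg⟩, rfl⟩
  have := smul_quartet hg.1.1 (root_mem hr)
  rwa [show g • D0 = D0 from hg.1.2] at this

theorem orbit_cover : quartets D0 = {Q0} ∪ MulAction.orbit H0 (qI (orbQ12.headD [])) ∪
    MulAction.orbit H0 (qI (orbQ27.headD [])) ∪ MulAction.orbit H0 (qI (orbQ72.headD [])) ∪
    MulAction.orbit H0 (qI (orbQ108.headD [])) := by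
  have hok := orbs_ok
  simp only [Bool.and_eq_true] at hok
  have hr := List.all_eq_true.1 roots_ok
  have hsub : qI '' {l | l ∈ allQ} ⊆ quartets D0 := by
    rintro _ ⟨l, hl, rfl⟩
    simp only [allQ, List.mem_cons, List.mem_append, Set.mem_ofPred_eq] at hl
    rcases hl with rfl | ((h | h) | h) | h
    · have := Q0_mem; rwa [Q0] at this
    · exact orbit_sub (hr orbQ12 (by simp)) (by rw [orbit_eq hok.1.1.1]; exact ⟨l, h, rfl⟩)
    · exact orbit_sub (hr orbQ27 (by simp)) (by rw [orbit_eq hok.1.1.2]; exact ⟨l, h, rfl⟩)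
    · exact orbit_sub (hr orbQ72 (by simp)) (by rw [orbit_eq hok.1.2]; exact ⟨l, h, rfl⟩)
    · exact orbit_sub (hr orbQ108 (by simp)) (by rw [orbit_eq hok.2]; exact ⟨l, h, rfl⟩)
  have hc : (qI '' {l | l ∈ allQ}).ncard = 220 := by
    rw [Set.ncard_image_of_injOn qI_inj, show {l | l ∈ allQ} = (↑allQ.toFinset : Set (List ℕ)) by ext; simp,
      Set.ncard_coe_finset, List.toFinset_card_of_nodup all_nodup]
    decide +kernel
  rw [← Set.eq_of_subset_of_ncard_le hsub (by rw [hc, Quartets.count D0_dodecad]), orbit_eq hok.1.1.1,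
    orbit_eq hok.1.1.2, orbit_eq hok.1.2, orbit_eq hok.2, Q0]
  ext Q
  simp only [allQ, Set.mem_image, Set.mem_union, Set.mem_singleton_iff, Set.mem_ofPred_eq, List.mem_cons,
    List.mem_append, or_and_right, exists_or, exists_eq_left, or_assoc]
  rw [eq_comm (a := qI q0L)]

theorem lists_ok : (∀ l ∈ orbQ12, l ∈ allQ) ∧ (∀ l ∈ orbQ27, l ∈ allQ) ∧ (∀ l ∈ orbQ72, l ∈ allQ) ∧
    (∀ l ∈ orbQ108, l ∈ allQ) := by
  refine ⟨?_, ?_, ?_, ?_⟩ <;> intro l hl <;> simp [allQ, hl]

theorem orbit_sizes : (MulAction.orbit H0 (qI (orbQ12.headD []))).ncard = 12 ∧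
    (MulAction.orbit H0 (qI (orbQ27.headD []))).ncard = 27 ∧
    (MulAction.orbit H0 (qI (orbQ72.headD []))).ncard = 72 ∧
    (MulAction.orbit H0 (qI (orbQ108.headD []))).ncard = 108 := by
  have hok := orbs_ok
  simp only [Bool.and_eq_true] at hok
  obtain ⟨h1, h2, h3, h4⟩ := lists_ok
  rw [orbit_card hok.1.1.1 h1 (by decide +kernel), orbit_card hok.1.1.2 h2 (by decide +kernel),
    orbit_card hok.1.2 h3 (by decide +kernel), orbit_card hok.2 h4 (by decide +kernel)]
  exact ⟨rfl, rfl, rfl, rfl⟩

theorem orbit_transport {d : Finset GolayPt} {Q : Finset (Finset GolayPt)} {σ : Equiv.Perm GolayPt}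
    (e : HQ d Q ≃* H0)
    (he : ∀ g : HQ d Q, ((g : M24) : Equiv.Perm GolayPt) = σ * (e g : Equiv.Perm GolayPt) * σ⁻¹)
    (X : Finset (Finset GolayPt)) :
    MulAction.orbit (HQ d Q) (σ • X) = (fun Y => σ • Y) '' MulAction.orbit H0 X := by
  have key : ∀ g : HQ d Q, g • σ • X = σ • (e g • X) := fun g => by
    show ((g : M24) : Equiv.Perm GolayPt) • σ • X = σ • (e g : Equiv.Perm GolayPt) • X
    rw [he, mul_smul, mul_smul, inv_smul_smul]
  ext Y
  constructor
  · rintro ⟨g, rfl⟩; exact ⟨_, ⟨e g, rfl⟩, (key g).symm⟩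
  · rintro ⟨_, ⟨h, rfl⟩, rfl⟩
    exact ⟨e.symm h, by show e.symm h • σ • X = _; rw [key, e.apply_symm_apply]⟩

end Cfsg.Agent.Golay.QuartetStab
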