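import Cfsg.Agent.Lib.Golay.NoIndex22
import Cfsg.Prelude.Def_SporadicCombinatorics

/-!
Normalisers and centralisers of subgroups of order seven in the automorphism group of the length-24 code.
-/

set_option autoImplicit false
set_option maxRecDepth 100000

namespace Cfsg.Agent.Golay.SevenLocal

open Cfsg Cfsg.Agent.Golay Cfsg.Agent.Golay.NoIndex22
open scoped Pointwise

/-- The element of order seven. -/
def tabSeven : Tab := ([0, 1, 3, 15, 8, 21, 9, 16, 20, 14, 2, 4, 19, 10, 12, 17, 6, 22, 11, 7, 5, 18, 13, 23], [0, 1, 10, 2, 11, 20, 16, 19, 4, 6, 13, 18, 14, 22, 9, 3, 7, 15, 21, 12, 8, 5, 17, 23])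

/-- The normaliser, each with its exponent. -/
def norSeven : List (ℕ × Tab) := [(1, ([0, 1, 2, 3, 4, 5, 6, 7, 8, 9, 10, 11, 12, 13, 14, 15, 16, 17, 18, 19, 20, 21, 22, 23], [0, 1, 2, 3, 4, 5, 6, 7, 8, 9, 10, 11, 12, 13, 14, 15, 16, 17, 18, 19, 20, 21, 22, 23])),
  (1, ([23, 1, 2, 3, 16, 14, 8, 11, 6, 20, 10, 7, 21, 13, 5, 15, 4, 17, 19, 18, 9, 12, 22, 0], [23, 1, 2, 3, 16, 14, 8, 11, 6, 20, 10, 7, 21, 13, 5, 15, 4, 17, 19, 18, 9, 12, 22, 0])),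
  (1, ([0, 1, 3, 15, 8, 21, 9, 16, 20, 14, 2, 4, 19, 10, 12, 17, 6, 22, 11, 7, 5, 18, 13, 23], [0, 1, 10, 2, 11, 20, 16, 19, 4, 6, 13, 18, 14, 22, 9, 3, 7, 15, 21, 12, 8, 5, 17, 23])),
  (1, ([23, 1, 3, 15, 6, 12, 20, 4, 9, 5, 2, 16, 18, 10, 21, 17, 8, 22, 7, 11, 14, 19, 13, 0], [23, 1, 10, 2, 7, 9, 4, 18, 16, 8, 13, 19, 5, 22, 20, 3, 11, 15, 12, 21, 6, 14, 17, 0])),
  (1, ([1, 0, 4, 8, 10, 15, 12, 9, 2, 19, 11, 13, 16, 18, 7, 20, 14, 5, 22, 6, 3, 17, 21, 23], [1, 0, 8, 20, 2, 17, 19, 14, 3, 7, 4, 10, 6, 11, 16, 5, 12, 21, 13, 9, 15, 22, 18, 23])),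
  (1, ([23, 0, 4, 8, 14, 7, 2, 13, 12, 3, 11, 9, 17, 18, 15, 20, 10, 5, 6, 22, 19, 16, 21, 1], [1, 23, 6, 9, 2, 17, 18, 5, 3, 11, 16, 10, 8, 7, 4, 14, 21, 12, 13, 20, 15, 22, 19, 0])),
  (1, ([1, 0, 5, 21, 15, 13, 16, 19, 17, 6, 20, 3, 14, 8, 9, 18, 7, 11, 2, 12, 22, 10, 4, 23], [1, 0, 18, 11, 22, 2, 9, 16, 13, 14, 21, 17, 19, 5, 12, 4, 6, 8, 15, 7, 10, 3, 20, 23])),
  (1, ([23, 0, 5, 21, 7, 9, 17, 3, 16, 22, 20, 19, 10, 8, 13, 18, 15, 11, 12, 2, 6, 14, 4, 1], [1, 23, 19, 7, 22, 2, 20, 4, 13, 5, 12, 17, 18, 14, 21, 16, 8, 6, 15, 11, 10, 3, 9, 0])),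
  (1, ([0, 23, 6, 9, 21, 4, 3, 10, 18, 15, 16, 5, 22, 7, 17, 14, 2, 12, 20, 13, 11, 8, 19, 1], [0, 23, 16, 6, 5, 11, 2, 13, 21, 3, 7, 20, 17, 19, 15, 9, 10, 14, 8, 22, 18, 4, 12, 1])),
  (1, ([1, 23, 6, 9, 2, 17, 18, 5, 3, 11, 16, 10, 8, 7, 4, 14, 21, 12, 13, 20, 15, 22, 19, 0], [23, 0, 4, 8, 14, 7, 2, 13, 12, 3, 11, 9, 17, 18, 15, 20, 10, 5, 6, 22, 19, 16, 21, 1])),
  (1, ([0, 23, 7, 16, 20, 18, 10, 22, 5, 2, 19, 8, 15, 12, 3, 6, 13, 9, 4, 17, 21, 11, 14, 1], [0, 23, 9, 14, 18, 8, 15, 2, 11, 17, 6, 21, 13, 16, 22, 12, 3, 19, 5, 10, 4, 20, 7, 1])),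
  (1, ([1, 23, 7, 16, 13, 3, 5, 8, 10, 21, 19, 22, 11, 12, 18, 6, 20, 9, 17, 4, 2, 15, 14, 0], [23, 0, 20, 5, 19, 6, 15, 2, 7, 17, 8, 12, 13, 4, 22, 21, 3, 18, 14, 10, 16, 9, 11, 1])),
  (1, ([1, 0, 8, 20, 2, 17, 19, 14, 3, 7, 4, 10, 6, 11, 16, 5, 12, 21, 13, 9, 15, 22, 18, 23], [1, 0, 4, 8, 10, 15, 12, 9, 2, 19, 11, 13, 16, 18, 7, 20, 14, 5, 22, 6, 3, 17, 21, 23])),
  (1, ([23, 0, 8, 20, 12, 16, 3, 10, 19, 15, 4, 14, 22, 11, 17, 5, 2, 21, 9, 13, 7, 6, 18, 1], [1, 23, 16, 6, 10, 15, 21, 20, 2, 18, 7, 13, 4, 19, 11, 9, 5, 14, 22, 8, 3, 17, 12, 0])),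
  (1, ([0, 23, 9, 14, 18, 8, 15, 2, 11, 17, 6, 21, 13, 16, 22, 12, 3, 19, 5, 10, 4, 20, 7, 1], [0, 23, 7, 16, 20, 18, 10, 22, 5, 2, 19, 8, 15, 12, 3, 6, 13, 9, 4, 17, 21, 11, 14, 1])),
  (1, ([1, 23, 9, 14, 3, 22, 11, 21, 15, 4, 6, 2, 20, 16, 8, 12, 18, 19, 10, 5, 17, 13, 7, 0], [23, 0, 11, 4, 9, 19, 10, 22, 14, 2, 18, 6, 15, 21, 3, 8, 13, 20, 16, 17, 12, 7, 5, 1])),
  (1, ([0, 1, 10, 2, 11, 20, 16, 19, 4, 6, 13, 18, 14, 22, 9, 3, 7, 15, 21, 12, 8, 5, 17, 23], [0, 1, 3, 15, 8, 21, 9, 16, 20, 14, 2, 4, 19, 10, 12, 17, 6, 22, 11, 7, 5, 18, 13, 23])),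
  (1, ([23, 1, 10, 2, 7, 9, 4, 18, 16, 8, 13, 19, 5, 22, 20, 3, 11, 15, 12, 21, 6, 14, 17, 0], [23, 1, 3, 15, 6, 12, 20, 4, 9, 5, 2, 16, 18, 10, 21, 17, 8, 22, 7, 11, 14, 19, 13, 0])),
  (1, ([1, 0, 11, 4, 13, 3, 14, 6, 10, 12, 18, 22, 7, 21, 19, 8, 9, 20, 17, 16, 2, 15, 5, 23], [1, 0, 20, 5, 3, 22, 7, 12, 15, 16, 8, 2, 9, 4, 6, 21, 19, 18, 10, 14, 17, 13, 11, 23])),
  (1, ([23, 0, 11, 4, 9, 19, 10, 22, 14, 2, 18, 6, 15, 21, 3, 8, 13, 20, 16, 17, 12, 7, 5, 1], [1, 23, 9, 14, 3, 22, 11, 21, 15, 4, 6, 2, 20, 16, 8, 12, 18, 19, 10, 5, 17, 13, 7, 0])),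
  (1, ([0, 23, 12, 19, 4, 5, 22, 15, 8, 13, 14, 11, 2, 9, 10, 7, 17, 16, 18, 3, 20, 21, 6, 1], [0, 23, 12, 19, 4, 5, 22, 15, 8, 13, 14, 11, 2, 9, 10, 7, 17, 16, 18, 3, 20, 21, 6, 1])),
  (1, ([1, 23, 12, 19, 17, 10, 8, 11, 22, 20, 14, 15, 21, 9, 5, 7, 4, 16, 3, 18, 13, 2, 6, 0], [23, 0, 21, 18, 16, 14, 22, 15, 6, 13, 5, 7, 2, 20, 10, 11, 17, 4, 19, 3, 9, 12, 8, 1])),
  (1, ([0, 1, 13, 10, 18, 8, 7, 12, 11, 16, 22, 21, 9, 17, 6, 2, 19, 3, 5, 14, 4, 20, 15, 23], [0, 1, 15, 17, 20, 18, 14, 6, 5, 12, 3, 8, 7, 2, 19, 22, 9, 13, 4, 16, 21, 11, 10, 23])),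
  (1, ([23, 1, 13, 10, 19, 6, 11, 21, 7, 4, 22, 12, 20, 17, 8, 2, 18, 3, 14, 5, 16, 9, 15, 0], [23, 1, 15, 17, 9, 19, 5, 8, 14, 21, 3, 6, 11, 2, 18, 22, 20, 13, 16, 4, 12, 7, 10, 0])),
  (1, ([0, 23, 14, 12, 11, 20, 17, 3, 4, 22, 9, 18, 10, 6, 13, 19, 15, 7, 21, 2, 8, 5, 16, 1], [0, 23, 19, 7, 8, 21, 13, 17, 20, 10, 12, 4, 3, 14, 2, 16, 22, 6, 11, 15, 5, 18, 9, 1])),
  (1, ([1, 23, 14, 12, 15, 13, 4, 18, 17, 8, 9, 3, 5, 6, 20, 19, 11, 7, 2, 21, 22, 10, 16, 0], [23, 0, 18, 11, 6, 12, 13, 17, 9, 10, 21, 16, 3, 5, 2, 4, 22, 8, 7, 15, 14, 19, 20, 1])),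
  (1, ([0, 1, 15, 17, 20, 18, 14, 6, 5, 12, 3, 8, 7, 2, 19, 22, 9, 13, 4, 16, 21, 11, 10, 23], [0, 1, 13, 10, 18, 8, 7, 12, 11, 16, 22, 21, 9, 17, 6, 2, 19, 3, 5, 14, 4, 20, 15, 23])),
  (1, ([23, 1, 15, 17, 9, 19, 5, 8, 14, 21, 3, 6, 11, 2, 18, 22, 20, 13, 16, 4, 12, 7, 10, 0], [23, 1, 13, 10, 19, 6, 11, 21, 7, 4, 22, 12, 20, 17, 8, 2, 18, 3, 14, 5, 16, 9, 15, 0])),
  (1, ([0, 23, 16, 6, 5, 11, 2, 13, 21, 3, 7, 20, 17, 19, 15, 9, 10, 14, 8, 22, 18, 4, 12, 1], [0, 23, 6, 9, 21, 4, 3, 10, 18, 15, 16, 5, 22, 7, 17, 14, 2, 12, 20, 13, 11, 8, 19, 1])),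
  (1, ([1, 23, 16, 6, 10, 15, 21, 20, 2, 18, 7, 13, 4, 19, 11, 9, 5, 14, 22, 8, 3, 17, 12, 0], [23, 0, 8, 20, 12, 16, 3, 10, 19, 15, 4, 14, 22, 11, 17, 5, 2, 21, 9, 13, 7, 6, 18, 1])),
  (1, ([0, 1, 17, 22, 5, 11, 12, 9, 21, 19, 15, 20, 16, 3, 7, 13, 14, 10, 8, 6, 18, 4, 2, 23], [0, 1, 22, 13, 21, 4, 19, 14, 18, 7, 17, 5, 6, 15, 16, 10, 12, 2, 20, 9, 11, 8, 3, 23])),
  (1, ([23, 1, 17, 22, 14, 7, 21, 20, 12, 18, 15, 9, 4, 3, 11, 13, 5, 10, 6, 8, 19, 16, 2, 0], [23, 1, 22, 13, 12, 16, 18, 5, 19, 11, 17, 14, 8, 15, 4, 10, 21, 2, 9, 20, 7, 6, 3, 0])),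
  (1, ([1, 0, 18, 11, 22, 2, 9, 16, 13, 14, 21, 17, 19, 5, 12, 4, 6, 8, 15, 7, 10, 3, 20, 23], [1, 0, 5, 21, 15, 13, 16, 19, 17, 6, 20, 3, 14, 8, 9, 18, 7, 11, 2, 12, 22, 10, 4, 23])),
  (1, ([23, 0, 18, 11, 6, 12, 13, 17, 9, 10, 21, 16, 3, 5, 2, 4, 22, 8, 7, 15, 14, 19, 20, 1], [1, 23, 14, 12, 15, 13, 4, 18, 17, 8, 9, 3, 5, 6, 20, 19, 11, 7, 2, 21, 22, 10, 16, 0])),
  (1, ([0, 23, 19, 7, 8, 21, 13, 17, 20, 10, 12, 4, 3, 14, 2, 16, 22, 6, 11, 15, 5, 18, 9, 1], [0, 23, 14, 12, 11, 20, 17, 3, 4, 22, 9, 18, 10, 6, 13, 19, 15, 7, 21, 2, 8, 5, 16, 1])),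
  (1, ([1, 23, 19, 7, 22, 2, 20, 4, 13, 5, 12, 17, 18, 14, 21, 16, 8, 6, 15, 11, 10, 3, 9, 0], [23, 0, 5, 21, 7, 9, 17, 3, 16, 22, 20, 19, 10, 8, 13, 18, 15, 11, 12, 2, 6, 14, 4, 1])),
  (1, ([1, 0, 20, 5, 3, 22, 7, 12, 15, 16, 8, 2, 9, 4, 6, 21, 19, 18, 10, 14, 17, 13, 11, 23], [1, 0, 11, 4, 13, 3, 14, 6, 10, 12, 18, 22, 7, 21, 19, 8, 9, 20, 17, 16, 2, 15, 5, 23])),
  (1, ([23, 0, 20, 5, 19, 6, 15, 2, 7, 17, 8, 12, 13, 4, 22, 21, 3, 18, 14, 10, 16, 9, 11, 1], [1, 23, 7, 16, 13, 3, 5, 8, 10, 21, 19, 22, 11, 12, 18, 6, 20, 9, 17, 4, 2, 15, 14, 0])),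
  (1, ([1, 0, 21, 18, 17, 10, 6, 7, 22, 9, 5, 15, 12, 20, 14, 11, 16, 4, 3, 19, 13, 2, 8, 23], [1, 0, 21, 18, 17, 10, 6, 7, 22, 9, 5, 15, 12, 20, 14, 11, 16, 4, 3, 19, 13, 2, 8, 23])),
  (1, ([23, 0, 21, 18, 16, 14, 22, 15, 6, 13, 5, 7, 2, 20, 10, 11, 17, 4, 19, 3, 9, 12, 8, 1], [1, 23, 12, 19, 17, 10, 8, 11, 22, 20, 14, 15, 21, 9, 5, 7, 4, 16, 3, 18, 13, 2, 6, 0])),
  (1, ([0, 1, 22, 13, 21, 4, 19, 14, 18, 7, 17, 5, 6, 15, 16, 10, 12, 2, 20, 9, 11, 8, 3, 23], [0, 1, 17, 22, 5, 11, 12, 9, 21, 19, 15, 20, 16, 3, 7, 13, 14, 10, 8, 6, 18, 4, 2, 23])),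
  (1, ([23, 1, 22, 13, 12, 16, 18, 5, 19, 11, 17, 14, 8, 15, 4, 10, 21, 2, 9, 20, 7, 6, 3, 0], [23, 1, 17, 22, 14, 7, 21, 20, 12, 18, 15, 9, 4, 3, 11, 13, 5, 10, 6, 8, 19, 16, 2, 0])),
  (2, ([0, 1, 2, 15, 5, 20, 19, 6, 18, 16, 13, 8, 12, 17, 9, 22, 14, 10, 11, 7, 4, 21, 3, 23], [0, 1, 2, 22, 20, 4, 7, 19, 11, 14, 17, 18, 12, 10, 16, 3, 9, 13, 8, 6, 5, 21, 15, 23])),
  (2, ([23, 1, 2, 15, 14, 9, 18, 8, 19, 4, 13, 6, 21, 17, 20, 22, 5, 10, 7, 11, 16, 12, 3, 0], [23, 1, 2, 22, 9, 16, 11, 18, 7, 5, 17, 19, 21, 10, 4, 3, 20, 13, 6, 8, 14, 12, 15, 0])),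
  (2, ([0, 1, 3, 17, 21, 5, 7, 9, 11, 6, 10, 20, 19, 22, 14, 13, 12, 2, 4, 16, 8, 18, 15, 23], [0, 1, 17, 2, 18, 5, 9, 6, 20, 7, 10, 8, 16, 15, 14, 22, 19, 3, 21, 12, 11, 4, 13, 23])),
  (2, ([23, 1, 3, 17, 12, 14, 11, 20, 7, 8, 10, 9, 18, 22, 5, 13, 21, 2, 16, 4, 6, 19, 15, 0], [23, 1, 17, 2, 19, 14, 20, 8, 9, 11, 10, 6, 4, 15, 5, 22, 18, 3, 12, 21, 7, 16, 13, 0])),
  (2, ([1, 0, 4, 20, 15, 3, 6, 12, 22, 14, 18, 2, 16, 5, 19, 21, 7, 11, 13, 9, 10, 17, 8, 23], [1, 0, 11, 5, 2, 13, 6, 16, 22, 19, 20, 17, 7, 18, 9, 4, 12, 21, 10, 14, 3, 15, 8, 23])),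
  (2, ([23, 0, 4, 20, 7, 19, 22, 2, 6, 10, 18, 12, 17, 5, 3, 21, 15, 11, 9, 13, 14, 16, 8, 1], [1, 23, 7, 14, 2, 13, 8, 4, 22, 18, 9, 17, 11, 19, 20, 16, 21, 12, 10, 5, 3, 15, 6, 0])),
  (2, ([1, 0, 5, 18, 13, 22, 12, 16, 2, 7, 8, 17, 14, 11, 6, 4, 9, 20, 3, 19, 15, 10, 21, 23], [1, 0, 8, 18, 15, 2, 14, 9, 10, 16, 21, 13, 6, 4, 12, 20, 7, 11, 3, 19, 17, 22, 5, 23])),
  (2, ([23, 0, 5, 18, 9, 6, 2, 17, 12, 15, 8, 16, 10, 11, 22, 4, 13, 20, 19, 3, 7, 14, 21, 1], [1, 23, 6, 19, 15, 2, 5, 20, 10, 4, 12, 13, 8, 16, 21, 9, 11, 7, 3, 18, 17, 22, 14, 0])),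
  (2, ([0, 23, 6, 14, 4, 11, 13, 3, 20, 2, 7, 18, 22, 12, 15, 19, 17, 16, 5, 10, 21, 8, 9, 1], [0, 23, 9, 7, 4, 18, 2, 10, 21, 22, 19, 5, 13, 6, 3, 14, 17, 16, 11, 15, 8, 20, 12, 1])),
  (2, ([1, 23, 6, 14, 17, 15, 20, 18, 13, 21, 7, 3, 8, 12, 11, 19, 4, 16, 10, 5, 2, 22, 9, 0], [23, 0, 20, 11, 16, 19, 2, 10, 12, 22, 18, 14, 13, 8, 3, 5, 17, 4, 7, 15, 6, 9, 21, 1])),
  (2, ([0, 23, 7, 6, 18, 21, 17, 10, 4, 13, 12, 5, 15, 9, 2, 14, 3, 19, 8, 22, 20, 11, 16, 1], [0, 23, 14, 16, 8, 11, 3, 2, 18, 13, 7, 21, 10, 9, 15, 12, 22, 6, 4, 17, 20, 5, 19, 1])),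
  (2, ([1, 23, 7, 6, 3, 2, 4, 5, 17, 20, 12, 10, 11, 9, 21, 14, 18, 19, 22, 8, 13, 15, 16, 0], [23, 0, 5, 4, 6, 7, 3, 2, 19, 13, 11, 12, 10, 20, 15, 21, 22, 8, 16, 17, 9, 14, 18, 1])),
  (2, ([1, 0, 8, 5, 17, 15, 9, 19, 13, 12, 11, 3, 6, 21, 7, 18, 16, 4, 10, 14, 2, 22, 20, 23], [1, 0, 20, 11, 17, 3, 12, 14, 2, 6, 18, 10, 9, 8, 19, 5, 16, 4, 15, 7, 22, 13, 21, 23])),
  (2, ([23, 0, 8, 5, 16, 7, 13, 3, 9, 2, 11, 19, 22, 21, 15, 18, 17, 4, 14, 10, 12, 6, 20, 1], [1, 23, 9, 7, 17, 3, 21, 5, 2, 8, 19, 10, 20, 6, 18, 14, 4, 16, 15, 11, 22, 13, 12, 0])),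
  (2, ([0, 23, 9, 12, 8, 4, 10, 15, 5, 3, 16, 11, 13, 19, 17, 7, 22, 6, 21, 2, 18, 20, 14, 1], [0, 23, 19, 9, 5, 8, 17, 15, 4, 2, 6, 11, 3, 12, 22, 7, 10, 14, 20, 13, 21, 18, 16, 1])),
  (2, ([1, 23, 9, 12, 22, 17, 5, 11, 10, 18, 16, 15, 20, 19, 4, 7, 8, 6, 2, 21, 3, 13, 14, 0], [23, 0, 18, 20, 14, 6, 17, 15, 16, 2, 8, 7, 3, 21, 22, 11, 10, 5, 9, 13, 12, 19, 4, 1])),
  (2, ([0, 1, 10, 3, 20, 8, 12, 16, 21, 7, 22, 4, 14, 15, 6, 17, 9, 13, 18, 19, 11, 5, 2, 23], [0, 1, 22, 3, 11, 21, 14, 9, 5, 16, 2, 20, 6, 17, 12, 13, 7, 15, 18, 19, 4, 8, 10, 23])),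
  (2, ([23, 1, 10, 3, 9, 6, 21, 4, 12, 11, 22, 16, 5, 15, 8, 17, 20, 13, 19, 18, 7, 14, 2, 0], [23, 1, 22, 3, 7, 12, 5, 20, 14, 4, 2, 9, 8, 17, 21, 13, 11, 15, 19, 18, 16, 6, 10, 0])),
  (2, ([1, 0, 11, 8, 3, 2, 16, 14, 17, 9, 21, 10, 7, 20, 12, 5, 19, 18, 22, 6, 13, 15, 4, 23], [1, 0, 5, 4, 22, 15, 19, 12, 3, 9, 11, 2, 14, 20, 7, 21, 6, 8, 17, 16, 13, 10, 18, 23])),
  (2, ([23, 0, 11, 8, 19, 12, 17, 10, 16, 13, 21, 14, 15, 20, 2, 5, 3, 18, 6, 22, 9, 7, 4, 1], [1, 23, 14, 16, 22, 15, 18, 21, 3, 20, 7, 2, 5, 9, 11, 12, 8, 6, 17, 4, 13, 10, 19, 0])),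
  (2, ([0, 23, 12, 7, 5, 20, 3, 22, 18, 17, 9, 8, 2, 16, 13, 6, 10, 14, 11, 15, 4, 21, 19, 1], [0, 23, 12, 6, 20, 4, 15, 3, 11, 10, 16, 18, 2, 14, 17, 19, 13, 9, 8, 22, 5, 21, 7, 1])),
  (2, ([1, 23, 12, 7, 10, 13, 18, 8, 3, 4, 9, 22, 21, 16, 20, 6, 5, 14, 15, 11, 17, 2, 19, 0], [23, 0, 21, 8, 9, 16, 15, 3, 7, 10, 4, 19, 2, 5, 17, 18, 13, 20, 6, 22, 14, 12, 11, 1])),
  (2, ([0, 1, 13, 2, 8, 4, 14, 7, 5, 19, 17, 11, 9, 3, 16, 15, 6, 22, 21, 12, 18, 20, 10, 23], [0, 1, 3, 13, 5, 8, 16, 7, 4, 12, 22, 11, 19, 2, 6, 15, 14, 10, 20, 9, 21, 18, 17, 23])),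
  (2, ([23, 1, 13, 2, 6, 16, 5, 11, 14, 18, 17, 7, 20, 3, 4, 15, 8, 22, 12, 21, 19, 9, 10, 0], [23, 1, 3, 13, 14, 6, 4, 11, 16, 21, 22, 7, 18, 2, 8, 15, 5, 10, 9, 20, 12, 19, 17, 0])),
  (2, ([0, 23, 14, 19, 20, 8, 2, 17, 21, 15, 6, 4, 10, 7, 22, 16, 13, 9, 18, 3, 11, 5, 12, 1], [0, 23, 6, 19, 11, 21, 10, 13, 5, 17, 12, 20, 22, 16, 2, 9, 15, 7, 18, 3, 4, 8, 14, 1])),
  (2, ([1, 23, 14, 19, 13, 22, 21, 4, 2, 11, 6, 17, 5, 7, 8, 16, 20, 9, 3, 18, 15, 10, 12, 0], [23, 0, 8, 18, 7, 12, 10, 13, 14, 17, 21, 9, 22, 4, 2, 20, 15, 11, 19, 3, 16, 6, 5, 1])),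
  (2, ([0, 1, 15, 22, 18, 21, 16, 14, 4, 9, 2, 5, 7, 13, 12, 10, 19, 3, 8, 6, 20, 11, 17, 23], [0, 1, 10, 17, 8, 11, 19, 12, 18, 9, 15, 21, 14, 13, 7, 2, 6, 22, 4, 16, 20, 5, 3, 23])),
  (2, ([23, 1, 15, 22, 19, 12, 4, 5, 16, 20, 2, 14, 11, 13, 21, 10, 18, 3, 6, 8, 9, 7, 17, 0], [23, 1, 10, 17, 6, 7, 18, 21, 19, 20, 15, 12, 5, 13, 11, 2, 8, 22, 16, 4, 9, 14, 3, 0])),
  (2, ([0, 23, 16, 9, 11, 18, 22, 2, 8, 10, 19, 21, 17, 14, 3, 12, 15, 7, 20, 13, 5, 4, 6, 1], [0, 23, 7, 14, 21, 20, 22, 17, 8, 3, 9, 4, 15, 19, 13, 16, 2, 12, 5, 10, 18, 11, 6, 1])),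
  (2, ([1, 23, 16, 9, 15, 3, 8, 21, 22, 5, 19, 2, 4, 14, 18, 12, 11, 7, 13, 20, 10, 17, 6, 0], [23, 0, 11, 5, 12, 9, 22, 17, 6, 3, 20, 16, 15, 18, 13, 4, 2, 21, 14, 10, 19, 7, 8, 1])),
  (2, ([0, 1, 17, 13, 11, 18, 6, 12, 8, 14, 3, 21, 16, 10, 19, 2, 7, 15, 20, 9, 5, 4, 22, 23], [0, 1, 15, 10, 21, 20, 6, 16, 8, 19, 13, 4, 7, 3, 9, 17, 12, 2, 5, 14, 18, 11, 22, 23])),
  (2, ([23, 1, 17, 13, 7, 19, 8, 21, 6, 5, 3, 12, 4, 10, 18, 2, 11, 15, 9, 20, 14, 16, 22, 0], [23, 1, 15, 10, 12, 9, 8, 4, 6, 18, 13, 16, 11, 3, 20, 17, 21, 2, 14, 5, 19, 7, 22, 0])),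
  (2, ([1, 0, 18, 4, 2, 10, 7, 9, 15, 6, 5, 13, 19, 8, 14, 20, 12, 21, 17, 16, 22, 3, 11, 23], [1, 0, 4, 21, 3, 10, 9, 6, 13, 7, 5, 22, 16, 11, 14, 8, 19, 18, 2, 12, 15, 17, 20, 23])),
  (2, ([23, 0, 18, 4, 12, 14, 15, 13, 7, 22, 5, 9, 3, 8, 10, 20, 2, 21, 16, 17, 6, 19, 11, 1], [1, 23, 16, 12, 3, 10, 20, 8, 13, 11, 14, 22, 4, 7, 5, 6, 18, 19, 2, 21, 15, 17, 9, 0])),
  (2, ([0, 23, 19, 16, 21, 5, 15, 13, 11, 22, 14, 20, 3, 6, 10, 9, 2, 12, 4, 17, 8, 18, 7, 1], [0, 23, 16, 12, 18, 5, 13, 22, 20, 15, 14, 8, 17, 7, 10, 6, 3, 19, 21, 2, 11, 4, 9, 1])),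
  (2, ([1, 23, 19, 16, 2, 10, 11, 20, 15, 8, 14, 13, 18, 6, 5, 9, 21, 12, 17, 4, 22, 3, 7, 0], [23, 0, 4, 21, 19, 14, 13, 22, 9, 15, 5, 6, 17, 11, 10, 8, 3, 18, 12, 2, 7, 16, 20, 1])),
  (2, ([1, 0, 20, 21, 22, 17, 14, 7, 10, 19, 4, 15, 9, 18, 16, 11, 6, 8, 2, 12, 3, 13, 5, 23], [1, 0, 18, 20, 10, 22, 16, 7, 17, 12, 8, 15, 19, 21, 6, 11, 14, 5, 13, 9, 2, 3, 4, 23])),
  (2, ([23, 0, 20, 21, 6, 16, 10, 15, 14, 3, 4, 7, 13, 18, 17, 11, 22, 8, 12, 2, 19, 9, 5, 1], [1, 23, 19, 9, 10, 22, 4, 11, 17, 21, 6, 15, 18, 12, 8, 7, 5, 14, 13, 20, 2, 3, 16, 0])),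
  (2, ([1, 0, 21, 11, 10, 13, 19, 6, 3, 16, 20, 22, 12, 4, 9, 8, 14, 5, 15, 7, 17, 2, 18, 23], [1, 0, 21, 8, 13, 17, 7, 19, 15, 14, 4, 3, 12, 5, 16, 18, 9, 20, 22, 6, 10, 2, 11, 23])),
  (2, ([23, 0, 21, 11, 14, 9, 3, 22, 19, 17, 20, 6, 2, 4, 13, 8, 10, 5, 7, 15, 16, 12, 18, 1], [1, 23, 12, 6, 13, 17, 11, 18, 15, 5, 16, 3, 21, 14, 4, 19, 20, 9, 22, 8, 10, 2, 7, 0])),
  (2, ([0, 1, 22, 10, 4, 11, 9, 19, 20, 12, 15, 18, 6, 2, 7, 3, 16, 17, 5, 14, 21, 8, 13, 23], [0, 1, 13, 15, 4, 18, 12, 14, 21, 6, 3, 5, 9, 22, 19, 10, 16, 17, 11, 7, 8, 20, 2, 23])),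
  (2, ([23, 1, 22, 10, 16, 7, 20, 18, 9, 21, 15, 19, 8, 2, 11, 3, 4, 17, 14, 5, 12, 6, 13, 0], [23, 1, 13, 15, 16, 19, 21, 5, 12, 8, 3, 14, 20, 22, 18, 10, 4, 17, 7, 11, 6, 9, 2, 0])),
  (4, ([0, 1, 2, 22, 20, 4, 7, 19, 11, 14, 17, 18, 12, 10, 16, 3, 9, 13, 8, 6, 5, 21, 15, 23], [0, 1, 2, 15, 5, 20, 19, 6, 18, 16, 13, 8, 12, 17, 9, 22, 14, 10, 11, 7, 4, 21, 3, 23])),
  (4, ([23, 1, 2, 22, 9, 16, 11, 18, 7, 5, 17, 19, 21, 10, 4, 3, 20, 13, 6, 8, 14, 12, 15, 0], [23, 1, 2, 15, 14, 9, 18, 8, 19, 4, 13, 6, 21, 17, 20, 22, 5, 10, 7, 11, 16, 12, 3, 0])),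
  (4, ([0, 1, 3, 13, 5, 8, 16, 7, 4, 12, 22, 11, 19, 2, 6, 15, 14, 10, 20, 9, 21, 18, 17, 23], [0, 1, 13, 2, 8, 4, 14, 7, 5, 19, 17, 11, 9, 3, 16, 15, 6, 22, 21, 12, 18, 20, 10, 23])),
  (4, ([23, 1, 3, 13, 14, 6, 4, 11, 16, 21, 22, 7, 18, 2, 8, 15, 5, 10, 9, 20, 12, 19, 17, 0], [23, 1, 13, 2, 6, 16, 5, 11, 14, 18, 17, 7, 20, 3, 4, 15, 8, 22, 12, 21, 19, 9, 10, 0])),
  (4, ([1, 0, 4, 21, 3, 10, 9, 6, 13, 7, 5, 22, 16, 11, 14, 8, 19, 18, 2, 12, 15, 17, 20, 23], [1, 0, 18, 4, 2, 10, 7, 9, 15, 6, 5, 13, 19, 8, 14, 20, 12, 21, 17, 16, 22, 3, 11, 23])),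
  (4, ([23, 0, 4, 21, 19, 14, 13, 22, 9, 15, 5, 6, 17, 11, 10, 8, 3, 18, 12, 2, 7, 16, 20, 1], [1, 23, 19, 16, 2, 10, 11, 20, 15, 8, 14, 13, 18, 6, 5, 9, 21, 12, 17, 4, 22, 3, 7, 0])),
  (4, ([1, 0, 5, 4, 22, 15, 19, 12, 3, 9, 11, 2, 14, 20, 7, 21, 6, 8, 17, 16, 13, 10, 18, 23], [1, 0, 11, 8, 3, 2, 16, 14, 17, 9, 21, 10, 7, 20, 12, 5, 19, 18, 22, 6, 13, 15, 4, 23])),
  (4, ([23, 0, 5, 4, 6, 7, 3, 2, 19, 13, 11, 12, 10, 20, 15, 21, 22, 8, 16, 17, 9, 14, 18, 1], [1, 23, 7, 6, 3, 2, 4, 5, 17, 20, 12, 10, 11, 9, 21, 14, 18, 19, 22, 8, 13, 15, 16, 0])),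
  (4, ([0, 23, 6, 19, 11, 21, 10, 13, 5, 17, 12, 20, 22, 16, 2, 9, 15, 7, 18, 3, 4, 8, 14, 1], [0, 23, 14, 19, 20, 8, 2, 17, 21, 15, 6, 4, 10, 7, 22, 16, 13, 9, 18, 3, 11, 5, 12, 1])),
  (4, ([1, 23, 6, 19, 15, 2, 5, 20, 10, 4, 12, 13, 8, 16, 21, 9, 11, 7, 3, 18, 17, 22, 14, 0], [23, 0, 5, 18, 9, 6, 2, 17, 12, 15, 8, 16, 10, 11, 22, 4, 13, 20, 19, 3, 7, 14, 21, 1])),
  (4, ([0, 23, 7, 14, 21, 20, 22, 17, 8, 3, 9, 4, 15, 19, 13, 16, 2, 12, 5, 10, 18, 11, 6, 1], [0, 23, 16, 9, 11, 18, 22, 2, 8, 10, 19, 21, 17, 14, 3, 12, 15, 7, 20, 13, 5, 4, 6, 1])),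
  (4, ([1, 23, 7, 14, 2, 13, 8, 4, 22, 18, 9, 17, 11, 19, 20, 16, 21, 12, 10, 5, 3, 15, 6, 0], [23, 0, 4, 20, 7, 19, 22, 2, 6, 10, 18, 12, 17, 5, 3, 21, 15, 11, 9, 13, 14, 16, 8, 1])),
  (4, ([1, 0, 8, 18, 15, 2, 14, 9, 10, 16, 21, 13, 6, 4, 12, 20, 7, 11, 3, 19, 17, 22, 5, 23], [1, 0, 5, 18, 13, 22, 12, 16, 2, 7, 8, 17, 14, 11, 6, 4, 9, 20, 3, 19, 15, 10, 21, 23])),
  (4, ([23, 0, 8, 18, 7, 12, 10, 13, 14, 17, 21, 9, 22, 4, 2, 20, 15, 11, 19, 3, 16, 6, 5, 1], [1, 23, 14, 19, 13, 22, 21, 4, 2, 11, 6, 17, 5, 7, 8, 16, 20, 9, 3, 18, 15, 10, 12, 0])),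
  (4, ([0, 23, 9, 7, 4, 18, 2, 10, 21, 22, 19, 5, 13, 6, 3, 14, 17, 16, 11, 15, 8, 20, 12, 1], [0, 23, 6, 14, 4, 11, 13, 3, 20, 2, 7, 18, 22, 12, 15, 19, 17, 16, 5, 10, 21, 8, 9, 1])),
  (4, ([1, 23, 9, 7, 17, 3, 21, 5, 2, 8, 19, 10, 20, 6, 18, 14, 4, 16, 15, 11, 22, 13, 12, 0], [23, 0, 8, 5, 16, 7, 13, 3, 9, 2, 11, 19, 22, 21, 15, 18, 17, 4, 14, 10, 12, 6, 20, 1])),
  (4, ([0, 1, 10, 17, 8, 11, 19, 12, 18, 9, 15, 21, 14, 13, 7, 2, 6, 22, 4, 16, 20, 5, 3, 23], [0, 1, 15, 22, 18, 21, 16, 14, 4, 9, 2, 5, 7, 13, 12, 10, 19, 3, 8, 6, 20, 11, 17, 23])),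
  (4, ([23, 1, 10, 17, 6, 7, 18, 21, 19, 20, 15, 12, 5, 13, 11, 2, 8, 22, 16, 4, 9, 14, 3, 0], [23, 1, 15, 22, 19, 12, 4, 5, 16, 20, 2, 14, 11, 13, 21, 10, 18, 3, 6, 8, 9, 7, 17, 0])),
  (4, ([1, 0, 11, 5, 2, 13, 6, 16, 22, 19, 20, 17, 7, 18, 9, 4, 12, 21, 10, 14, 3, 15, 8, 23], [1, 0, 4, 20, 15, 3, 6, 12, 22, 14, 18, 2, 16, 5, 19, 21, 7, 11, 13, 9, 10, 17, 8, 23])),
  (4, ([23, 0, 11, 5, 12, 9, 22, 17, 6, 3, 20, 16, 15, 18, 13, 4, 2, 21, 14, 10, 19, 7, 8, 1], [1, 23, 16, 9, 15, 3, 8, 21, 22, 5, 19, 2, 4, 14, 18, 12, 11, 7, 13, 20, 10, 17, 6, 0])),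
  (4, ([0, 23, 12, 6, 20, 4, 15, 3, 11, 10, 16, 18, 2, 14, 17, 19, 13, 9, 8, 22, 5, 21, 7, 1], [0, 23, 12, 7, 5, 20, 3, 22, 18, 17, 9, 8, 2, 16, 13, 6, 10, 14, 11, 15, 4, 21, 19, 1])),
  (4, ([1, 23, 12, 6, 13, 17, 11, 18, 15, 5, 16, 3, 21, 14, 4, 19, 20, 9, 22, 8, 10, 2, 7, 0], [23, 0, 21, 11, 14, 9, 3, 22, 19, 17, 20, 6, 2, 4, 13, 8, 10, 5, 7, 15, 16, 12, 18, 1])),
  (4, ([0, 1, 13, 15, 4, 18, 12, 14, 21, 6, 3, 5, 9, 22, 19, 10, 16, 17, 11, 7, 8, 20, 2, 23], [0, 1, 22, 10, 4, 11, 9, 19, 20, 12, 15, 18, 6, 2, 7, 3, 16, 17, 5, 14, 21, 8, 13, 23])),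
  (4, ([23, 1, 13, 15, 16, 19, 21, 5, 12, 8, 3, 14, 20, 22, 18, 10, 4, 17, 7, 11, 6, 9, 2, 0], [23, 1, 22, 10, 16, 7, 20, 18, 9, 21, 15, 19, 8, 2, 11, 3, 4, 17, 14, 5, 12, 6, 13, 0])),
  (4, ([0, 23, 14, 16, 8, 11, 3, 2, 18, 13, 7, 21, 10, 9, 15, 12, 22, 6, 4, 17, 20, 5, 19, 1], [0, 23, 7, 6, 18, 21, 17, 10, 4, 13, 12, 5, 15, 9, 2, 14, 3, 19, 8, 22, 20, 11, 16, 1])),
  (4, ([1, 23, 14, 16, 22, 15, 18, 21, 3, 20, 7, 2, 5, 9, 11, 12, 8, 6, 17, 4, 13, 10, 19, 0], [23, 0, 11, 8, 19, 12, 17, 10, 16, 13, 21, 14, 15, 20, 2, 5, 3, 18, 6, 22, 9, 7, 4, 1])),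
  (4, ([0, 1, 15, 10, 21, 20, 6, 16, 8, 19, 13, 4, 7, 3, 9, 17, 12, 2, 5, 14, 18, 11, 22, 23], [0, 1, 17, 13, 11, 18, 6, 12, 8, 14, 3, 21, 16, 10, 19, 2, 7, 15, 20, 9, 5, 4, 22, 23])),
  (4, ([23, 1, 15, 10, 12, 9, 8, 4, 6, 18, 13, 16, 11, 3, 20, 17, 21, 2, 14, 5, 19, 7, 22, 0], [23, 1, 17, 13, 7, 19, 8, 21, 6, 5, 3, 12, 4, 10, 18, 2, 11, 15, 9, 20, 14, 16, 22, 0])),
  (4, ([0, 23, 16, 12, 18, 5, 13, 22, 20, 15, 14, 8, 17, 7, 10, 6, 3, 19, 21, 2, 11, 4, 9, 1], [0, 23, 19, 16, 21, 5, 15, 13, 11, 22, 14, 20, 3, 6, 10, 9, 2, 12, 4, 17, 8, 18, 7, 1])),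
  (4, ([1, 23, 16, 12, 3, 10, 20, 8, 13, 11, 14, 22, 4, 7, 5, 6, 18, 19, 2, 21, 15, 17, 9, 0], [23, 0, 18, 4, 12, 14, 15, 13, 7, 22, 5, 9, 3, 8, 10, 20, 2, 21, 16, 17, 6, 19, 11, 1])),
  (4, ([0, 1, 17, 2, 18, 5, 9, 6, 20, 7, 10, 8, 16, 15, 14, 22, 19, 3, 21, 12, 11, 4, 13, 23], [0, 1, 3, 17, 21, 5, 7, 9, 11, 6, 10, 20, 19, 22, 14, 13, 12, 2, 4, 16, 8, 18, 15, 23])),
  (4, ([23, 1, 17, 2, 19, 14, 20, 8, 9, 11, 10, 6, 4, 15, 5, 22, 18, 3, 12, 21, 7, 16, 13, 0], [23, 1, 3, 17, 12, 14, 11, 20, 7, 8, 10, 9, 18, 22, 5, 13, 21, 2, 16, 4, 6, 19, 15, 0])),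
  (4, ([1, 0, 18, 20, 10, 22, 16, 7, 17, 12, 8, 15, 19, 21, 6, 11, 14, 5, 13, 9, 2, 3, 4, 23], [1, 0, 20, 21, 22, 17, 14, 7, 10, 19, 4, 15, 9, 18, 16, 11, 6, 8, 2, 12, 3, 13, 5, 23])),
  (4, ([23, 0, 18, 20, 14, 6, 17, 15, 16, 2, 8, 7, 3, 21, 22, 11, 10, 5, 9, 13, 12, 19, 4, 1], [1, 23, 9, 12, 22, 17, 5, 11, 10, 18, 16, 15, 20, 19, 4, 7, 8, 6, 2, 21, 3, 13, 14, 0])),
  (4, ([0, 23, 19, 9, 5, 8, 17, 15, 4, 2, 6, 11, 3, 12, 22, 7, 10, 14, 20, 13, 21, 18, 16, 1], [0, 23, 9, 12, 8, 4, 10, 15, 5, 3, 16, 11, 13, 19, 17, 7, 22, 6, 21, 2, 18, 20, 14, 1])),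
  (4, ([1, 23, 19, 9, 10, 22, 4, 11, 17, 21, 6, 15, 18, 12, 8, 7, 5, 14, 13, 20, 2, 3, 16, 0], [23, 0, 20, 21, 6, 16, 10, 15, 14, 3, 4, 7, 13, 18, 17, 11, 22, 8, 12, 2, 19, 9, 5, 1])),
  (4, ([1, 0, 20, 11, 17, 3, 12, 14, 2, 6, 18, 10, 9, 8, 19, 5, 16, 4, 15, 7, 22, 13, 21, 23], [1, 0, 8, 5, 17, 15, 9, 19, 13, 12, 11, 3, 6, 21, 7, 18, 16, 4, 10, 14, 2, 22, 20, 23])),
  (4, ([23, 0, 20, 11, 16, 19, 2, 10, 12, 22, 18, 14, 13, 8, 3, 5, 17, 4, 7, 15, 6, 9, 21, 1], [1, 23, 6, 14, 17, 15, 20, 18, 13, 21, 7, 3, 8, 12, 11, 19, 4, 16, 10, 5, 2, 22, 9, 0])),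
  (4, ([1, 0, 21, 8, 13, 17, 7, 19, 15, 14, 4, 3, 12, 5, 16, 18, 9, 20, 22, 6, 10, 2, 11, 23], [1, 0, 21, 11, 10, 13, 19, 6, 3, 16, 20, 22, 12, 4, 9, 8, 14, 5, 15, 7, 17, 2, 18, 23])),
  (4, ([23, 0, 21, 8, 9, 16, 15, 3, 7, 10, 4, 19, 2, 5, 17, 18, 13, 20, 6, 22, 14, 12, 11, 1], [1, 23, 12, 7, 10, 13, 18, 8, 3, 4, 9, 22, 21, 16, 20, 6, 5, 14, 15, 11, 17, 2, 19, 0])),
  (4, ([0, 1, 22, 3, 11, 21, 14, 9, 5, 16, 2, 20, 6, 17, 12, 13, 7, 15, 18, 19, 4, 8, 10, 23], [0, 1, 10, 3, 20, 8, 12, 16, 21, 7, 22, 4, 14, 15, 6, 17, 9, 13, 18, 19, 11, 5, 2, 23])),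
  (4, ([23, 1, 22, 3, 7, 12, 5, 20, 14, 4, 2, 9, 8, 17, 21, 13, 11, 15, 19, 18, 16, 6, 10, 0], [23, 1, 10, 3, 9, 6, 21, 4, 12, 11, 22, 16, 5, 15, 8, 17, 20, 13, 19, 18, 7, 14, 2, 0]))]

/-- The orders of the three fixed positions. -/
def fixOrders : List (Fin 24 × Fin 24 × Fin 24) := [(0, 1, 23), (0, 23, 1), (1, 0, 23), (1, 23, 0), (23, 0, 1), (23, 1, 0)]

/-- Blocking words for the candidates. -/
def witSeven : List ℕ := [0, 0, 0, 0, 0, 0, 0, 0, 0, 0, 0, 0, 0, 13771273, 13771273, 13771273, 13771273, 0, 0, 13771273, 13771273, 13771273, 13771273, 0, 13771273, 13771273, 0, 13771273, 0, 13771273, 13771273, 13771273, 0, 13771273, 0, 13771273, 13771273, 0, 13771273, 0, 13771273, 13771273, 13771273, 0, 13771273, 0, 13771273, 13771273, 13771273, 13771273, 0, 13771273, 0, 13771273, 13771273, 0, 13771273, 0, 13771273, 13771273, 0, 13771273, 13771273,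 13771273, 13771273, 0, 13771273, 13771273, 0, 13771273, 0, 13771273, 13771273, 0, 13771273, 0, 13771273, 13771273, 0, 13771273, 13771273, 13771273, 13771273, 0, 13771273, 0, 13771273, 0, 13771273, 13771273, 0, 13771273, 13771273, 13771273, 13771273, 0, 13771273, 0, 13771273, 0, 13771273, 13771273, 0, 13771273, 13771273, 13771273, 13771273, 0, 13771273, 13771273, 0, 13771273, 0, 13771273, 13771273, 0, 13771273, 0, 13771273, 13771273, 13771273, 13771273, 0, 13771273, 0, 13771273, 13771273, 13771273, 0, 13771273, 0, 13771273, 0, 13771273, 13771273, 13771273, 13771273, 0, 0, 0, 0, 0, 0, 0, 0, 0, 0, 0, 0, 0, 0, 0, 0, 0, 0, 0, 0, 13771273, 13771273, 13771273, 13771273, 0, 0, 13771273, 13771273, 13771273, 13771273, 0, 13771273, 13771273, 0, 13771273, 0, 13771273, 13771273, 13771273, 0, 13771273, 0, 13771273, 13771273, 0, 13771273, 0, 13771273,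 13771273, 13771273, 0, 13771273, 0, 13771273, 13771273, 13771273, 13771273, 0, 13771273, 0, 13771273, 13771273, 0, 13771273, 0, 13771273, 13771273, 0, 13771273, 13771273, 13771273, 13771273, 0, 13771273, 13771273, 0, 13771273, 0, 13771273, 13771273, 0, 13771273, 0, 13771273, 13771273, 0, 13771273, 13771273, 13771273, 13771273, 0, 13771273, 0, 13771273, 0, 13771273, 13771273, 0, 13771273, 13771273, 13771273, 13771273, 0, 13771273, 0, 13771273, 0, 13771273, 13771273, 0, 13771273, 13771273, 13771273, 13771273, 0, 13771273, 13771273, 0, 13771273, 0, 13771273, 13771273, 0, 13771273, 0, 13771273, 13771273, 13771273, 13771273, 0, 13771273, 0, 13771273, 13771273, 13771273, 0, 13771273, 0, 13771273, 0, 13771273, 13771273, 13771273, 13771273, 0, 0, 0, 0, 0, 0, 0, 0, 0, 0, 0, 0, 0, 0, 0, 0, 0, 0, 0, 9347075, 9347075, 9347075, 9347075, 9347075,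 9347075, 9347075, 9347075, 9347075, 9347075, 9347075, 9347075, 9347075, 9347075, 9347075, 9347075, 9347075, 9347075, 9347075, 9347075, 9347075, 9347075, 9347075, 9347075, 9347075, 9347075, 9347075, 9347075, 9347075, 9347075, 9347075, 9347075, 9347075, 9347075, 9347075, 9347075, 9347075, 9347075, 9347075, 9347075, 9347075, 9347075, 9347075, 9347075, 9347075, 9347075, 9347075, 9347075, 9347075, 9347075, 9347075, 9347075, 9347075, 9347075, 9347075, 9347075, 9347075, 9347075, 9347075, 9347075, 9347075, 9347075, 9347075, 9347075, 9347075, 9347075, 9347075, 9347075, 9347075, 9347075, 9347075, 9347075, 9347075, 9347075, 9347075, 9347075, 9347075, 9347075, 9347075, 9347075, 9347075, 9347075, 9347075, 9347075, 9347075, 9347075, 9347075, 9347075, 9347075, 9347075, 9347075, 9347075, 9347075, 9347075, 9347075, 9347075, 9347075, 9347075, 9347075,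 9347075, 9347075, 9347075, 9347075, 9347075, 9347075, 9347075, 9347075, 9347075, 9347075, 9347075, 9347075, 9347075, 9347075, 9347075, 9347075, 9347075, 9347075, 9347075, 9347075, 9347075, 9347075, 9347075, 9347075, 9347075, 9347075, 9347075, 0, 0, 0, 0, 0, 0, 0, 0, 0, 0, 0, 0, 0, 0, 0, 0, 0, 0, 0, 13771273, 13771273, 13771273, 13771273, 0, 0, 13771273, 13771273, 13771273, 13771273, 0, 13771273, 13771273, 0, 13771273, 0, 13771273, 13771273, 13771273, 0, 13771273, 0, 13771273, 13771273, 0, 13771273, 0, 13771273, 13771273, 13771273, 0, 13771273, 0, 13771273, 13771273, 13771273, 13771273, 0, 13771273, 0, 13771273, 13771273, 0, 13771273, 0, 13771273, 13771273, 0, 13771273, 13771273, 13771273, 13771273, 0, 13771273, 13771273, 0, 13771273, 0, 13771273, 13771273, 0, 13771273, 0, 13771273, 13771273, 0, 13771273, 13771273, 13771273, 13771273,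 0, 13771273, 0, 13771273, 0, 13771273, 13771273, 0, 13771273, 13771273, 13771273, 13771273, 0, 13771273, 0, 13771273, 0, 13771273, 13771273, 0, 13771273, 13771273, 13771273, 13771273, 0, 13771273, 13771273, 0, 13771273, 0, 13771273, 13771273, 0, 13771273, 0, 13771273, 13771273, 13771273, 13771273, 0, 13771273, 0, 13771273, 13771273, 13771273, 0, 13771273, 0, 13771273, 0, 13771273, 13771273, 13771273, 13771273, 0, 0, 0, 0, 0, 0, 0, 0, 0, 0, 0, 0, 0, 0, 0, 0, 0, 0, 0, 9347075, 9347075, 9347075, 9347075, 9347075, 9347075, 9347075, 9347075, 9347075, 9347075, 9347075, 9347075, 9347075, 9347075, 9347075, 9347075, 9347075, 9347075, 9347075, 9347075, 9347075, 9347075, 9347075, 9347075, 9347075, 9347075, 9347075, 9347075, 9347075, 9347075, 9347075, 9347075, 9347075, 9347075, 9347075, 9347075, 9347075, 9347075, 9347075, 9347075, 9347075, 9347075,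 9347075, 9347075, 9347075, 9347075, 9347075, 9347075, 9347075, 9347075, 9347075, 9347075, 9347075, 9347075, 9347075, 9347075, 9347075, 9347075, 9347075, 9347075, 9347075, 9347075, 9347075, 9347075, 9347075, 9347075, 9347075, 9347075, 9347075, 9347075, 9347075, 9347075, 9347075, 9347075, 9347075, 9347075, 9347075, 9347075, 9347075, 9347075, 9347075, 9347075, 9347075, 9347075, 9347075, 9347075, 9347075, 9347075, 9347075, 9347075, 9347075, 9347075, 9347075, 9347075, 9347075, 9347075, 9347075, 9347075, 9347075, 9347075, 9347075, 9347075, 9347075, 9347075, 9347075, 9347075, 9347075, 9347075, 9347075, 9347075, 9347075, 9347075, 9347075, 9347075, 9347075, 9347075, 9347075, 9347075, 9347075, 9347075, 9347075, 9347075, 9347075, 9347075, 9347075, 9347075, 0, 0, 0, 0, 0, 0, 0, 0, 0, 0, 0, 0, 0, 0, 0, 0, 0, 0, 9347075, 9347075, 9347075, 9347075,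 9347075, 9347075, 9347075, 9347075, 9347075, 9347075, 9347075, 9347075, 9347075, 9347075, 9347075, 9347075, 9347075, 9347075, 9347075, 9347075, 9347075, 9347075, 9347075, 9347075, 9347075, 9347075, 9347075, 9347075, 9347075, 9347075, 9347075, 9347075, 9347075, 9347075, 9347075, 9347075, 9347075, 9347075, 9347075, 9347075, 9347075, 9347075, 9347075, 9347075, 9347075, 9347075, 9347075, 9347075, 9347075, 9347075, 9347075, 9347075, 9347075, 9347075, 9347075, 9347075, 9347075, 9347075, 9347075, 9347075, 9347075, 9347075, 9347075, 9347075, 9347075, 9347075, 9347075, 9347075, 9347075, 9347075, 9347075, 9347075, 9347075, 9347075, 9347075, 9347075, 9347075, 9347075, 9347075, 9347075, 9347075, 9347075, 9347075, 9347075, 9347075, 9347075, 9347075, 9347075, 9347075, 9347075, 9347075, 9347075, 9347075, 9347075, 9347075, 9347075, 9347075, 9347075,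 9347075, 9347075, 9347075, 9347075, 9347075, 9347075, 9347075, 9347075, 9347075, 9347075, 9347075, 9347075, 9347075, 9347075, 9347075, 9347075, 9347075, 9347075, 9347075, 9347075, 9347075, 9347075, 9347075, 9347075, 9347075, 9347075, 9347075, 9347075, 0, 0, 0, 0, 0, 0]

/-- The three invariant words. -/
def trioSeven : List ℕ := [4367374, 8999616, 3410225]

/-- The list of tables. -/
def norTabs : List Tab := norSeven.map Prod.snd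

theorem tabs_nor : NorOK norTabs := by unfold NorOK norTabs; decide +kernel

theorem seven_facts : TabInv tabSeven ∧ (∀ i, (tabFn tabSeven.1)^[7] i = i) ∧ tabFn tabSeven.1 2 ≠ 2 ∧
    (∀ x ∈ basis, inC (pullMask (tabFn tabSeven.1) x.2) = true) ∧ tabFn tabSeven.1 0 = 0 ∧ tabFn tabSeven.1 1 = 1 ∧
    tabFn tabSeven.1 23 = 23 := by
  decide +kernel

theorem fixed_cases : ∀ z : Fin 24, ∀ k : Fin 6, (tabFn tabSeven.1)^[k.val + 1] z = z → z ∈ [0, 1, 23] := by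
  decide +kernel

theorem order_cases : ∀ p ∈ ([0, 1, 23] : List (Fin 24)), ∀ q ∈ ([0, 1, 23] : List (Fin 24)),
    ∀ r ∈ ([0, 1, 23] : List (Fin 24)), p ≠ q → p ≠ r → q ≠ r →
    ∃ i : Fin 6, fixOrders.getD i.val (0, 0, 0) = (p, q, r) := by
  decide +kernel

/-- The prescribed pairs of a candidate. -/
def sevenPairs (k : ℕ) (y : Fin 24) (pi : Fin 24 × Fin 24 × Fin 24) : List (Fin 24 × Fin 24) :=
  [(0, pi.1), (1, pi.2.1), (23, pi.2.2)] ++ cycPairs tabSeven 7 k 2 y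

theorem cand_seven : ∀ k : Fin 6, ∀ y : Fin 24, ∀ i : Fin 6,
    settled norTabs (sevenPairs (k.val + 1) y (fixOrders.getD i.val (0, 0, 0)))
      (witSeven.getD (6 * (24 * k.val + y.val) + i.val) 0) = true := by
  decide +kernel

theorem nodup_seven : ((sevenPairs 0 0 (0, 0, 0)).map Prod.fst).Nodup := by decide +kernel

theorem norm_seven {g : Equiv.Perm GolayPt} (hg : g ∈ M24) {k : ℕ} (hk : 1 ≤ k) (hk' : k ≤ 6)
    (h : g * tperm tabSeven = tperm tabSeven ^ k * g) : ∃ T ∈ norTabs, g = tperm T := by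
  obtain ⟨j, rfl⟩ : ∃ j, k = j + 1 := ⟨k - 1, by omega⟩
  have hfix : ∀ r : Fin 24, tabFn tabSeven.1 r = r → fn g r ∈ [0, 1, 23] := fun r hr => by
    refine fixed_cases _ ⟨j, by omega⟩ ?_
    have := congrArg (fun q => fn q r) h
    simp only [fn_mul, fn_pow', fn_tperm seven_facts.1 r, hr] at this
    rw [show fn (tperm tabSeven) = tabFn tabSeven.1 from funext (fn_tperm seven_facts.1)] at this
    exact this.symm
  obtain ⟨i, hi⟩ := order_cases _ (hfix 0 seven_facts.2.2.2.2.1) _ (hfix 1 seven_facts.2.2.2.2.2.1) _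
    (hfix 23 seven_facts.2.2.2.2.2.2) (fun e => absurd (fn_inj g e) (by decide))
    (fun e => absurd (fn_inj g e) (by decide)) (fun e => absurd (fn_inj g e) (by decide))
  have hc := cand_seven ⟨j, by omega⟩ (fn g 2) i
  rw [hi] at hc
  refine settled_sound tabs_nor hg ?_ ?_ ?_ hc
  · intro e he
    rcases List.mem_append.1 he with he | he
    · simp only [List.mem_cons, List.not_mem_nil, or_false] at he
      rcases he with rfl | rfl | rfl <;> rfl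
    · exact cyc_sound seven_facts.1 h 7 2 e he
  · have e : (sevenPairs (j + 1) (fn g 2) (fn g 0, fn g 1, fn g 23)).map Prod.fst =
        (sevenPairs 0 0 (0, 0, 0)).map Prod.fst := by
      simp [sevenPairs, cycPairs, Function.comp_def]
    rw [e]; exact nodup_seven
  · simp [sevenPairs, cycPairs]

/-- A key of a table. -/
def keySeven (e : ℕ × Tab) : ℕ :=
  (tabFn e.2.1 0).val + 24 * (tabFn e.2.1 1).val + 576 * (tabFn e.2.1 2).val + 13824 * (tabFn e.2.1 3).val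

theorem list_facts : norSeven.length = 126 ∧ distinctB 19 (norSeven.map keySeven) = true ∧
    (norSeven.filter fun e => e.1 == 1).length = 42 ∧
    (norSeven.all fun e => decide (1 ≤ e.1 ∧ e.1 ≤ 6) && (List.finRange 24).all fun i =>
      tabFn e.2.1 (tabFn tabSeven.1 i) == (tabFn tabSeven.1)^[e.1] (tabFn e.2.1 i)) = true := by
  decide +kernel

theorem noncomm_pair : tabFn (norSeven.getD 1 (0, [], [])).2.1 (tabFn (norSeven.getD 4 (0, [], [])).2.1 2) ≠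
      tabFn (norSeven.getD 4 (0, [], [])).2.1 (tabFn (norSeven.getD 1 (0, [], [])).2.1 2) ∨
    ∃ i : Fin 24, tabFn (norSeven.getD 1 (0, [], [])).2.1 (tabFn (norSeven.getD 4 (0, [], [])).2.1 i) ≠
      tabFn (norSeven.getD 4 (0, [], [])).2.1 (tabFn (norSeven.getD 1 (0, [], [])).2.1 i) := by
  decide +kernel

theorem pair_exps : (norSeven.getD 1 (0, [], [])).1 = 1 ∧ (norSeven.getD 4 (0, [], [])).1 = 1 ∧
    (norSeven.getD 1 (0, [], [])) ∈ norSeven ∧ (norSeven.getD 4 (0, [], [])) ∈ norSeven := by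
  decide +kernel

theorem trio_facts : trioSeven.length = 3 ∧ trioSeven.Nodup ∧
    (∀ m ∈ trioSeven, m ∈ wtList 8 ∧ ∀ n ∈ trioSeven, m ≠ n → m &&& n = 0) ∧
    (norSeven.all fun e => trioSeven.all fun m => trioSeven.contains (imgM e.2 m)) = true := by
  decide +kernel

/-- The element of order seven in the group. -/
def sevenElt : ↥M24 := ⟨tperm tabSeven, mem_M24_of_basis (by
  rw [show fn (tperm tabSeven) = tabFn tabSeven.1 from funext (fn_tperm seven_facts.1)]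
  exact seven_facts.2.2.2.1)⟩

theorem order_seven : orderOf sevenElt = 7 := by
  haveI : Fact (Nat.Prime 7) := ⟨by norm_num⟩
  refine orderOf_eq_prime (Subtype.ext (fn_ext fun i => ?_)) fun h => seven_facts.2.2.1 ?_
  · rw [Subgroup.coe_pow, sevenElt, fn_pow', show fn (tperm tabSeven) = tabFn tabSeven.1 from funext (fn_tperm seven_facts.1),
      seven_facts.2.1]
    simp [fn, idx_pt]
  · rw [← fn_tperm seven_facts.1 2]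
    show fn (sevenElt : Equiv.Perm GolayPt) 2 = 2
    rw [h]
    simp [fn, idx_pt]

theorem tab_rel {e : ℕ × Tab} (he : e ∈ norSeven) :
    1 ≤ e.1 ∧ e.1 ≤ 6 ∧ tperm e.2 * tperm tabSeven = tperm tabSeven ^ e.1 * tperm e.2 ∧ tperm e.2 ∈ M24 := by
  obtain ⟨hi, hb⟩ := tabs_nor e.2 (List.mem_map.2 ⟨e, he, rfl⟩)
  have h := List.all_eq_true.1 list_facts.2.2.2 e he
  simp only [Bool.and_eq_true, decide_eq_true_eq, List.all_eq_true, beq_iff_eq] at h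
  refine ⟨h.1.1, h.1.2, fn_ext fun i => ?_, mem_M24_of_basis
    (by rw [show fn (tperm e.2) = tabFn e.2.1 from funext (fn_tperm hi)]; exact hb)⟩
  rw [fn_mul, fn_mul, fn_pow', show fn (tperm tabSeven) = tabFn tabSeven.1 from funext (fn_tperm seven_facts.1),
    fn_tperm hi, fn_tperm hi]
  exact h.2 i (List.mem_finRange i)

theorem mem_normalizer_iff' (g : ↥M24) :
    g ∈ Subgroup.normalizer ((Subgroup.zpowers sevenElt : Subgroup ↥M24) : Set ↥M24) ↔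
      ∃ e ∈ norSeven, (g : Equiv.Perm GolayPt) = tperm e.2 := by
  constructor
  · intro hg
    have h1 := (Subgroup.mem_normalizer_iff.1 hg sevenElt).1 (Subgroup.mem_zpowers _)
    obtain ⟨k, hk, hk'⟩ := Finset.mem_image.1 (mem_zpowers_iff_mem_range_orderOf.1 h1)
    rw [order_seven, Finset.mem_range] at hk
    have h2 : g * sevenElt * g⁻¹ = sevenElt ^ k := hk'.symm
    have hk1 : 1 ≤ k := by
      by_contra hk0
      obtain rfl : k = 0 := by omega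
      rw [pow_zero, mul_inv_eq_one] at h2
      have := order_seven
      rw [mul_left_cancel (h2.trans (mul_one _).symm), orderOf_one] at this
      omega
    obtain ⟨T, hT, hgT⟩ := norm_seven g.2 hk1 (by omega) (congrArg Subtype.val (mul_inv_eq_iff_eq_mul.1 h2))
    obtain ⟨e, he, rfl⟩ := List.mem_map.1 hT
    exact ⟨e, he, hgT⟩
  · rintro ⟨e, he, hge⟩
    obtain ⟨-, -, hr, -⟩ := tab_rel he
    have h2 : g * sevenElt * g⁻¹ = sevenElt ^ e.1 := mul_inv_eq_iff_eq_mul.2 (Subtype.ext (by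
      rw [Subgroup.coe_mul, Subgroup.coe_mul, Subgroup.coe_pow, hge]; exact hr))
    have hmap : (Subgroup.zpowers sevenElt).map (MulAut.conj g).toMonoidHom = Subgroup.zpowers sevenElt := by
      refine Subgroup.eq_of_le_of_card_ge ?_ ?_
      · rw [MonoidHom.map_zpowers, Subgroup.zpowers_le]
        show g * sevenElt * g⁻¹ ∈ _
        rw [h2]; exact Subgroup.pow_mem _ (Subgroup.mem_zpowers _) _
      · rw [Nat.card_congr ((Subgroup.zpowers sevenElt).equivMapOfInjective (MulAut.conj g).toMonoidHom (MulAut.conj g).injective).toEquiv]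
    rw [Subgroup.mem_normalizer_iff]
    intro x
    constructor
    · intro hx
      rw [← hmap]; exact ⟨x, hx, rfl⟩
    · intro hx
      obtain ⟨y, hy, hy'⟩ := hmap.ge hx
      have : x = y := (MulAut.conj g).injective hy'.symm
      rw [this]; exact hy

theorem mem_centralizer_iff' (g : ↥M24) :
    g ∈ Subgroup.centralizer ((Subgroup.zpowers sevenElt : Subgroup ↥M24) : Set ↥M24) ↔
      ∃ e ∈ norSeven.filter (fun e => e.1 == 1), (g : Equiv.Perm GolayPt) = tperm e.2 := by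
  constructor
  · intro hg
    obtain ⟨e, he, hge⟩ := (mem_normalizer_iff' g).1 (Subgroup.centralizer_le_normalizer _ hg)
    refine ⟨e, List.mem_filter.2 ⟨he, beq_iff_eq.2 ?_⟩, hge⟩
    obtain ⟨h1, h6, hr, -⟩ := tab_rel he
    have hcomm := congrArg Subtype.val (Subgroup.mem_centralizer_iff.1 hg sevenElt (Subgroup.mem_zpowers _))
    rw [Subgroup.coe_mul, Subgroup.coe_mul, hge] at hcomm
    have h3 : tperm tabSeven ^ e.1 = tperm tabSeven ^ 1 := by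
      rw [pow_one]
      exact mul_right_cancel (hr.symm.trans hcomm.symm)
    have h4 : sevenElt ^ e.1 = sevenElt ^ 1 := Subtype.ext h3
    exact pow_injOn_Iio_orderOf (by rw [order_seven]; exact Set.mem_Iio.2 (by omega))
      (by rw [order_seven]; exact Set.mem_Iio.2 (by omega)) h4
  · rintro ⟨e, he, hge⟩
    obtain ⟨he, h1⟩ := List.mem_filter.1 he
    obtain ⟨-, -, hr, -⟩ := tab_rel he
    rw [beq_iff_eq.1 h1, pow_one] at hr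
    refine Subgroup.mem_centralizer_iff.2 fun x hx => ?_
    obtain ⟨n, rfl⟩ := Subgroup.mem_zpowers_iff.1 hx
    have hc : Commute g sevenElt := Subtype.ext (by rw [Subgroup.coe_mul, Subgroup.coe_mul, hge]; exact hr)
    exact ((hc.zpow_right n).eq).symm

theorem card_of_list {L : List (ℕ × Tab)} (hL : ∀ e ∈ L, e ∈ norSeven) (hnd : (L.map keySeven).Nodup)
    {H : Subgroup ↥M24} (hH : ∀ g : ↥M24, g ∈ H ↔ ∃ e ∈ L, (g : Equiv.Perm GolayPt) = tperm e.2) :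
    Nat.card H = L.length := by
  let f : Fin L.length → H := fun i =>
    ⟨⟨tperm L[i].2, (tab_rel (hL _ (List.getElem_mem i.isLt))).2.2.2⟩, (hH _).2 ⟨L[i], List.getElem_mem i.isLt, rfl⟩⟩
  have hb : Function.Bijective f := by
    refine ⟨fun i j e => ?_, fun g => ?_⟩
    · have e' : tperm L[i].2 = tperm L[j].2 := congrArg (fun q : H => ((q : ↥M24) : Equiv.Perm GolayPt)) e
      have hi := (tabs_nor _ (List.mem_map.2 ⟨_, hL _ (List.getElem_mem i.isLt), rfl⟩)).1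
      have hj := (tabs_nor _ (List.mem_map.2 ⟨_, hL _ (List.getElem_mem j.isLt), rfl⟩)).1
      have hk : keySeven L[i] = keySeven L[j] := by
        simp only [keySeven, Fin.getElem_fin] at e' hi hj ⊢
        rw [← fn_tperm hi, ← fn_tperm hi, ← fn_tperm hi, ← fn_tperm hi, e', fn_tperm hj, fn_tperm hj, fn_tperm hj,
          fn_tperm hj]
      exact Fin.ext ((List.Nodup.getElem_inj_iff hnd (hi := by simp) (hj := by simp)).1 (by simpa using hk))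
    · obtain ⟨e, he, hge⟩ := (hH g).1 g.2
      obtain ⟨i, hi, rfl⟩ := List.getElem_of_mem he
      exact ⟨⟨i, hi⟩, Subtype.ext (Subtype.ext hge.symm)⟩
  rw [← Nat.card_congr (Equiv.ofBijective f hb), Nat.card_eq_fintype_card, Fintype.card_fin]

theorem base_seven :
    Nat.card ↥(Subgroup.normalizer ((Subgroup.zpowers sevenElt : Subgroup ↥M24) : Set ↥M24)) = 126 ∧
    Nat.card ↥(Subgroup.centralizer ((Subgroup.zpowers sevenElt : Subgroup ↥M24) : Set ↥M24)) = 42 ∧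
    (∃ x ∈ Subgroup.centralizer ((Subgroup.zpowers sevenElt : Subgroup ↥M24) : Set ↥M24),
      ∃ y ∈ Subgroup.centralizer ((Subgroup.zpowers sevenElt : Subgroup ↥M24) : Set ↥M24), x * y ≠ y * x) ∧
    ∃ T ∈ trios, ∀ n ∈ Subgroup.normalizer ((Subgroup.zpowers sevenElt : Subgroup ↥M24) : Set ↥M24),
      ((n : ↥M24) : Equiv.Perm GolayPt) • T = T := by
  have hnd : (norSeven.map keySeven).Nodup := distinctB_sound _ _ list_facts.2.1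
  refine ⟨(card_of_list (fun e he => he) hnd mem_normalizer_iff').trans list_facts.1,
    (card_of_list (fun e he => List.mem_of_mem_filter he) (hnd.sublist (List.filter_sublist.map _))
      mem_centralizer_iff').trans list_facts.2.2.1, ?_, ?_⟩
  · obtain ⟨h1, h4, m1, m4⟩ := pair_exps
    refine ⟨⟨_, (tab_rel m1).2.2.2⟩, (mem_centralizer_iff' _).2 ⟨_, List.mem_filter.2 ⟨m1, beq_iff_eq.2 h1⟩, rfl⟩,
      ⟨_, (tab_rel m4).2.2.2⟩, (mem_centralizer_iff' _).2 ⟨_, List.mem_filter.2 ⟨m4, beq_iff_eq.2 h4⟩, rfl⟩, fun e => ?_⟩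
    have i1 := (tabs_nor _ (List.mem_map.2 ⟨_, m1, rfl⟩)).1
    have i4 := (tabs_nor _ (List.mem_map.2 ⟨_, m4, rfl⟩)).1
    have hv : ∀ i, tabFn (norSeven.getD 1 (0, [], [])).2.1 (tabFn (norSeven.getD 4 (0, [], [])).2.1 i) =
        tabFn (norSeven.getD 4 (0, [], [])).2.1 (tabFn (norSeven.getD 1 (0, [], [])).2.1 i) := fun i => by
      rw [← fn_tperm i4, ← fn_tperm i1, ← fn_mul, ← fn_tperm i1, ← fn_tperm i4, ← fn_mul]
      exact congrArg (fun q : ↥M24 => fn (q : Equiv.Perm GolayPt) i) e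
    rcases noncomm_pair with h | ⟨i, h⟩
    · exact h (hv 2)
    · exact h (hv i)
  · obtain ⟨hl, hnd', hm, himg⟩ := trio_facts
    have hinj : ∀ m ∈ trioSeven, ∀ n ∈ trioSeven, supp m = supp n → m = n := fun m hm' n hn' e => by
      rw [← maskF_supp (wtList_lt (hm m hm').1), e, maskF_supp (wtList_lt (hm n hn').1)]
    refine ⟨(trioSeven.map supp).toFinset, ⟨?_, ?_, ?_⟩, fun g hg => ?_⟩
    · rw [List.toFinset_card_of_nodup (List.Nodup.map_on hinj hnd'), List.length_map, hl]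
    · intro o ho
      obtain ⟨m, hm', rfl⟩ := List.mem_map.1 (List.mem_toFinset.1 ho)
      exact (mem_octads _).2 (by rw [maskF_supp (wtList_lt (hm m hm').1)]; exact (hm m hm').1)
    · intro o ho o' ho' hne
      obtain ⟨m, hm', rfl⟩ := List.mem_map.1 (List.mem_toFinset.1 ho)
      obtain ⟨n, hn', rfl⟩ := List.mem_map.1 (List.mem_toFinset.1 ho')
      rw [disjoint_iff_mask, maskF_supp (wtList_lt (hm m hm').1), maskF_supp (wtList_lt (hm n hn').1)]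
      exact (hm m hm').2 n hn' fun e => hne (by rw [e])
    · obtain ⟨e, he, hge⟩ := (mem_normalizer_iff' g).1 hg
      rw [hge]
      refine Finset.eq_of_subset_of_card_le (fun x hx => ?_) (le_of_eq (Finset.card_smul_finset _ _).symm)
      obtain ⟨y, hy, rfl⟩ := Finset.mem_smul_finset.1 hx
      obtain ⟨m, hm', rfl⟩ := List.mem_map.1 (List.mem_toFinset.1 hy)
      rw [supp_imgM (tabs_nor _ (List.mem_map.2 ⟨e, he, rfl⟩)).1]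
      have := List.all_eq_true.1 (List.all_eq_true.1 himg e he) m hm'
      rw [List.contains_eq_mem, decide_eq_true_eq] at this
      exact List.mem_toFinset.2 (List.mem_map_of_mem this)

theorem transport (S : Subgroup ↥M24) (hS : Nat.card S = 7) :
    Nat.card ↥(Subgroup.normalizer (S : Set ↥M24)) = 126 ∧
    Nat.card ↥(Subgroup.centralizer (S : Set ↥M24)) = 42 ∧
    (∃ x ∈ Subgroup.centralizer (S : Set ↥M24), ∃ y ∈ Subgroup.centralizer (S : Set ↥M24), x * y ≠ y * x) ∧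
    ∃ T ∈ trios, ∀ n ∈ Subgroup.normalizer (S : Set ↥M24), ((n : ↥M24) : Equiv.Perm GolayPt) • T = T := by
  haveI : Fact (Nat.Prime 7) := ⟨by norm_num⟩
  have hf : (Nat.card ↥M24).factorization 7 = 1 := by
    rw [card_M24, show (244823040 : ℕ) = 7 ^ 1 * 34974720 by norm_num, Nat.factorization_mul (by norm_num) (by norm_num),
      Finsupp.add_apply, Nat.factorization_eq_zero_of_not_dvd (show ¬ 7 ∣ 34974720 by norm_num),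
      Nat.Prime.factorization_pow (by norm_num), Finsupp.single_eq_same]
  let P : Sylow 7 ↥M24 := Sylow.ofCard (Subgroup.zpowers sevenElt) (by rw [Nat.card_zpowers, order_seven, hf, pow_one])
  let Q : Sylow 7 ↥M24 := Sylow.ofCard S (by rw [hS, hf, pow_one])
  obtain ⟨g, hg⟩ := MulAction.exists_smul_eq ↥M24 P Q
  let c : ↥M24 ≃* ↥M24 := MulAut.conj g
  have hcS : ∀ x, x ∈ S ↔ c.symm x ∈ Subgroup.zpowers sevenElt := fun x => by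
    have e : (S : Subgroup ↥M24) = MulAut.conj g • Subgroup.zpowers sevenElt := (congrArg Sylow.toSubgroup hg).symm
    rw [e, Subgroup.mem_pointwise_smul_iff_inv_smul_mem]
    exact Iff.rfl
  have hN : ∀ n, n ∈ Subgroup.normalizer (S : Set ↥M24) ↔
      c.symm n ∈ Subgroup.normalizer ((Subgroup.zpowers sevenElt : Subgroup ↥M24) : Set ↥M24) := fun n => by
    rw [Subgroup.mem_normalizer_iff, Subgroup.mem_normalizer_iff]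
    constructor
    · intro h x
      have := h (c x)
      rw [hcS, hcS, map_mul, map_mul, map_inv, c.symm_apply_apply] at this
      exact this
    · intro h x
      rw [hcS, hcS, map_mul, map_mul, map_inv]
      exact h (c.symm x)
  have hC : ∀ n, n ∈ Subgroup.centralizer (S : Set ↥M24) ↔
      c.symm n ∈ Subgroup.centralizer ((Subgroup.zpowers sevenElt : Subgroup ↥M24) : Set ↥M24) := fun n => by
    rw [Subgroup.mem_centralizer_iff, Subgroup.mem_centralizer_iff]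
    constructor
    · intro h x hx
      have := congrArg c.symm (h (c x) ((hcS _).2 (by rwa [c.symm_apply_apply])))
      rwa [map_mul, map_mul, c.symm_apply_apply] at this
    · intro h x hx
      apply c.symm.injective
      rw [map_mul, map_mul]
      exact h _ ((hcS x).1 hx)
  obtain ⟨b1, b2, ⟨x, hx, y, hy, hxy⟩, T, hT, hfix⟩ := base_seven
  refine ⟨?_, ?_, ⟨c x, (hC _).2 (by rwa [c.symm_apply_apply]), c y, (hC _).2 (by rwa [c.symm_apply_apply]),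
    fun e => hxy (c.injective (by rw [map_mul, map_mul, e]))⟩, (g : Equiv.Perm GolayPt) • T, ?_, ?_⟩
  · rw [← b1]
    exact Nat.card_congr (Equiv.subtypeEquiv c.symm.toEquiv hN)
  · rw [← b2]
    exact Nat.card_congr (Equiv.subtypeEquiv c.symm.toEquiv hC)
  · obtain ⟨t1, t2, t3⟩ := hT
    refine ⟨by rw [Finset.card_smul_finset]; exact t1, fun o ho => ?_, fun o ho o' ho' hne => ?_⟩
    · obtain ⟨o, h1, rfl⟩ := Finset.mem_smul_finset.1 ho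
      exact smul_mem_weight g.2 (t2 o h1)
    · obtain ⟨o, h1, rfl⟩ := Finset.mem_smul_finset.1 ho
      obtain ⟨o', h1', rfl⟩ := Finset.mem_smul_finset.1 ho'
      rw [Finset.disjoint_iff_inter_eq_empty, ← Finset.smul_finset_inter,
        Finset.disjoint_iff_inter_eq_empty.1 (t3 o h1 o' h1' fun e => hne (by rw [e])), Finset.smul_finset_empty]
  · intro n hn
    have h := hfix _ ((hN n).1 hn)
    have e : ((c.symm n : ↥M24) : Equiv.Perm GolayPt) =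
        (g : Equiv.Perm GolayPt)⁻¹ * (n : Equiv.Perm GolayPt) * (g : Equiv.Perm GolayPt) := by
      simp [c, MulAut.conj_symm_apply]
    rw [e, mul_smul, mul_smul, inv_smul_eq_iff] at h
    exact h

end Cfsg.Agent.Golay.SevenLocal
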