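import Mathlib.GroupTheory.Sylow
import Mathlib.GroupTheory.Subgroup.Simple
import Mathlib.GroupTheory.GroupAction.Quotient
import Mathlib.GroupTheory.Perm.Basic
import Mathlib.Data.Set.Card

/-! Two simplicity criteria for doubly transitive groups of permutations. -/

set_option autoImplicit false

namespace Cfsg.Agent.Golay

variable {α : Type*}

/-- `G` maps `s` to itself and is doubly transitive on it. -/
def TwoTrans (G : Subgroup (Equiv.Perm α)) (s : Finset α) : Prop :=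
  (∀ g ∈ G, ∀ a ∈ s, g a ∈ s) ∧
    ∀ a ∈ s, ∀ b ∈ s, a ≠ b → ∀ c ∈ s, ∀ d ∈ s, c ≠ d → ∃ g ∈ G, g a = c ∧ g b = d

theorem twoTrans_of_base {G : Subgroup (Equiv.Perm α)} {s : Finset α} {b₀ b₁ : α}
    (hinv : ∀ g ∈ G, ∀ a ∈ s, g a ∈ s) (h0 : ∀ a ∈ s, ∃ g ∈ G, g b₀ = a)
    (h1 : ∀ b ∈ s, b ≠ b₀ → ∃ g ∈ G, g b₀ = b₀ ∧ g b₁ = b) : TwoTrans G s := by
  have key : ∀ a ∈ s, ∀ b ∈ s, a ≠ b → ∃ g ∈ G, g b₀ = a ∧ g b₁ = b := by
    intro a ha b hb hab
    obtain ⟨g, hg, rfl⟩ := h0 a ha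
    obtain ⟨h, hh, e0, e1⟩ := h1 (g.symm b) (hinv _ (inv_mem hg) b hb) (by
      intro e; exact hab (by rw [← e, Equiv.apply_symm_apply]))
    exact ⟨g * h, mul_mem hg hh, by rw [Equiv.Perm.mul_apply, e0],
      by rw [Equiv.Perm.mul_apply, e1, Equiv.apply_symm_apply]⟩
  refine ⟨hinv, fun a ha b hb hab c hc d hd hcd => ?_⟩
  obtain ⟨g, hg, rfl, rfl⟩ := key a ha b hb hab
  obtain ⟨h, hh, rfl, rfl⟩ := key c hc d hd hcd
  exact ⟨h * g⁻¹, mul_mem hh (inv_mem hg), by simp, by simp⟩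

variable {G : Subgroup (Equiv.Perm α)} {s : Finset α}

theorem exists_normal_map (h2 : TwoTrans G s) (N : Subgroup G) [N.Normal] {a : α} (ha : a ∈ s)
    {n : G} (hn : n ∈ N) (hna : (n : Equiv.Perm α) a ≠ a) {c : α} (hc : c ∈ s) :
    ∃ m ∈ N, ((m : G) : Equiv.Perm α) a = c := by
  by_cases hca : c = a
  · exact ⟨1, one_mem N, by simp [hca]⟩
  obtain ⟨g, hg, e0, e1⟩ := h2.2 a ha _ (h2.1 _ n.2 a ha) (Ne.symm hna) a ha c hc (Ne.symm hca)
  refine ⟨⟨g, hg⟩ * n * (⟨g, hg⟩ : G)⁻¹, Subgroup.Normal.conj_mem inferInstance n hn _, ?_⟩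
  have : g⁻¹ a = a := by rw [Equiv.Perm.coe_inv, Equiv.symm_apply_eq, e0]
  simp only [Subgroup.coe_mul, InvMemClass.coe_inv, Equiv.Perm.mul_apply, this, e1]

theorem exists_moved (hfaith : ∀ g ∈ G, (∀ a ∈ s, g a = a) → g = 1) {N : Subgroup G} (hN : N ≠ ⊥) :
    ∃ n ∈ N, ∃ a ∈ s, ((n : G) : Equiv.Perm α) a ≠ a := by
  by_contra h
  push Not at h
  exact hN ((Subgroup.eq_bot_iff_forall N).mpr fun n hn => Subtype.ext (hfaith n n.2 (h n hn)))

theorem exists_normal_trans (h2 : TwoTrans G s) (hfaith : ∀ g ∈ G, (∀ a ∈ s, g a = a) → g = 1)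
    (N : Subgroup G) [N.Normal] (hN : N ≠ ⊥) {a : α} (ha : a ∈ s) {c : α} (hc : c ∈ s) :
    ∃ m ∈ N, ((m : G) : Equiv.Perm α) a = c := by
  obtain ⟨n, hn, b, hb, hnb⟩ := exists_moved hfaith hN
  obtain ⟨m, hm, rfl⟩ := exists_normal_map h2 N hb hn hnb ha
  obtain ⟨k, hk, rfl⟩ := exists_normal_map h2 N hb hn hnb hc
  exact ⟨k * m⁻¹, mul_mem hk (inv_mem hm), by simp⟩

theorem card_dvd_of_trans (hinv : ∀ g ∈ G, ∀ a ∈ s, g a ∈ s) (N : Subgroup G) {a : α} (ha : a ∈ s)
    (htr : ∀ c ∈ s, ∃ m ∈ N, ((m : G) : Equiv.Perm α) a = c) : s.card ∣ Nat.card N := by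
  have horb : MulAction.orbit N a = (s : Set α) := by
    ext c
    constructor
    · rintro ⟨m, rfl⟩; exact hinv _ m.1.2 a ha
    · intro hc
      obtain ⟨m, hm, e⟩ := htr c hc
      exact ⟨⟨m, hm⟩, e⟩
  have h := MulAction.index_stabilizer N a
  rw [horb, Set.ncard_coe_finset] at h
  rw [← h]
  exact Subgroup.index_dvd_card _

/-- A doubly transitive group with a prime `p` dividing the degree, dividing the order exactly once,
and generated by its elements of order dividing `p`, is simple. -/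
theorem isSimple_of_prime_generated [Finite α] [Nontrivial G] (h2 : TwoTrans G s)
    (hfaith : ∀ g ∈ G, (∀ a ∈ s, g a = a) → g = 1) (p : ℕ) [Fact p.Prime] (hps : p ∣ s.card)
    (hp2 : ¬ p ^ 2 ∣ Nat.card G)
    (hgen : G ≤ Subgroup.closure {x | x ∈ G ∧ x ^ p = 1}) : IsSimpleGroup G := by
  refine ⟨fun N hN => or_iff_not_imp_left.mpr fun hne => ?_⟩
  obtain ⟨n, -, a, ha, -⟩ := exists_moved hfaith hne
  have hpN : p ∣ Nat.card N :=
    hps.trans (card_dvd_of_trans h2.1 N ha fun c hc => exists_normal_trans h2 hfaith N hne ha hc)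
  obtain ⟨q, hq⟩ := exists_prime_orderOf_dvd_card' p hpN
  have hq' : orderOf (q : G) = p := by rw [Subgroup.orderOf_coe]; exact hq
  have hSy : ∀ P : Sylow p G, Nat.card P = p := by
    intro P
    have hle : (Nat.card G).factorization p ≤ 1 := by
      by_contra h
      exact hp2 (dvd_trans (pow_dvd_pow p (by omega)) (Nat.ordProj_dvd _ p))
    have hpos : (Nat.card G).factorization p ≠ 0 :=
      (Nat.Prime.factorization_pos_of_dvd Fact.out Nat.card_pos.ne'
        (hpN.trans (Subgroup.card_subgroup_dvd_card N))).ne'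
    rw [P.card_eq_multiplicity, show (Nat.card G).factorization p = 1 by omega, pow_one]
  have hall : ∀ x : G, x ^ p = 1 → x ∈ N := by
    intro x hx
    by_cases hx1 : x = 1
    · rw [hx1]; exact one_mem N
    obtain ⟨P, hP⟩ := (IsPGroup.of_card (n := 1) (G := Subgroup.zpowers (q : G))
      (by rw [Nat.card_zpowers, hq', pow_one])).exists_le_sylow
    obtain ⟨Q, hQ⟩ := (IsPGroup.of_card (n := 1) (G := Subgroup.zpowers x)
      (by rw [Nat.card_zpowers, orderOf_eq_prime hx hx1, pow_one])).exists_le_sylow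
    have hPeq : Subgroup.zpowers (q : G) = P :=
      Subgroup.eq_of_le_of_card_ge hP (by rw [Nat.card_zpowers, hq', hSy])
    have hPN : (P : Subgroup G) ≤ N := by
      rw [← hPeq, Subgroup.zpowers_le]; exact q.2
    obtain ⟨g, rfl⟩ := MulAction.exists_smul_eq G P Q
    have hx' := hQ (Subgroup.mem_zpowers x)
    rw [Sylow.coe_subgroup_smul, Subgroup.mem_pointwise_smul_iff_inv_smul_mem] at hx'
    have := Subgroup.Normal.conj_mem hN _ (hPN hx') g
    simpa [MulAut.smul_def, ← map_inv, MulAut.conj_apply, mul_assoc] using this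
  rw [eq_top_iff]
  intro x _
  have hmem := hgen x.2
  have hle : Subgroup.closure {y | y ∈ G ∧ y ^ p = 1} ≤ N.map G.subtype := by
    rw [Subgroup.closure_le]
    rintro y ⟨hy, hyp⟩
    exact ⟨⟨y, hy⟩, hall _ (Subtype.ext (by simpa using hyp)), rfl⟩
  obtain ⟨y, hy, e⟩ := hle hmem
  rwa [← Subtype.ext e]

/-- A doubly transitive group whose degree is not a prime power, with a simple point stabiliser,
is simple. -/
theorem isSimple_of_stabilizer_simple [Finite α] [Nontrivial G] (h2 : TwoTrans G s)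
    (hfaith : ∀ g ∈ G, (∀ a ∈ s, g a = a) → g = 1) {a : α} (ha : a ∈ s)
    [IsSimpleGroup (MulAction.stabilizer G a)]
    (hd : ∃ p q : ℕ, p.Prime ∧ q.Prime ∧ p ≠ q ∧ p ∣ s.card ∧ q ∣ s.card) : IsSimpleGroup G := by
  refine ⟨fun N hN => or_iff_not_imp_left.mpr fun hne => ?_⟩
  have htr := fun {c} (hc : c ∈ s) => exists_normal_trans h2 hfaith N hne ha hc
  rcases (hN.subgroupOf (MulAction.stabilizer G a)).eq_bot_or_eq_top with h | h
  · exfalso
    have hinj : ∀ m ∈ N, ((m : G) : Equiv.Perm α) a = a → m = 1 := by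
      intro m hm e
      have : (⟨m, e⟩ : MulAction.stabilizer G a) ∈ N.subgroupOf (MulAction.stabilizer G a) := hm
      rw [h, Subgroup.mem_bot] at this
      exact congrArg Subtype.val this
    obtain ⟨p, q, hp, hq, hpq, hps, hqs⟩ := hd
    have hdvd := card_dvd_of_trans h2.1 N ha fun c hc => htr hc
    haveI := Fact.mk hp
    haveI := Fact.mk hq
    obtain ⟨x, hx⟩ := exists_prime_orderOf_dvd_card' p (hps.trans hdvd)
    obtain ⟨y, hy⟩ := exists_prime_orderOf_dvd_card' q (hqs.trans hdvd)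
    have hne1 : ∀ (z : N), z ≠ 1 → ((z.1 : G) : Equiv.Perm α) a ≠ a := fun z hz e =>
      hz (Subtype.ext (hinj _ z.2 e))
    have hx1 : x ≠ 1 := fun e => hp.ne_one (by rw [← hx, e, orderOf_one])
    have hy1 : y ≠ 1 := fun e => hq.ne_one (by rw [← hy, e, orderOf_one])
    obtain ⟨g, hg, e0, e1⟩ := h2.2 a ha _ (h2.1 _ x.1.2 a ha) (Ne.symm (hne1 x hx1))
      a ha _ (h2.1 _ y.1.2 a ha) (Ne.symm (hne1 y hy1))
    have hginv : g⁻¹ a = a := by rw [Equiv.Perm.coe_inv, Equiv.symm_apply_eq, e0]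
    have hmem := hN.conj_mem x.1 x.2 ⟨g, hg⟩
    have heq : (⟨g, hg⟩ : G) * x.1 * (⟨g, hg⟩ : G)⁻¹ = y.1 := by
      have h1 := hinj _ (mul_mem (inv_mem y.2) hmem) (by
        simp only [Subgroup.coe_mul, InvMemClass.coe_inv, Equiv.Perm.mul_apply, hginv, e1]
        exact Equiv.symm_apply_apply _ _)
      exact (eq_of_inv_mul_eq_one h1).symm
    refine hpq ?_
    rw [← hx, ← hy, ← Subgroup.orderOf_coe x, ← Subgroup.orderOf_coe y, ← heq]
    exact (MulEquiv.orderOf_eq (MulAut.conj (⟨g, hg⟩ : G)) _).symm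
  · rw [eq_top_iff]
    intro x _
    obtain ⟨m, hm, e⟩ := htr (h2.1 _ x.2 a ha)
    have hst : m⁻¹ * x ∈ MulAction.stabilizer G a := by
      show ((m⁻¹ * x : G) : Equiv.Perm α) a = a
      simp only [Subgroup.coe_mul, InvMemClass.coe_inv, Equiv.Perm.mul_apply, Equiv.Perm.coe_inv,
        Equiv.symm_apply_eq, e]
    have : (⟨m⁻¹ * x, hst⟩ : MulAction.stabilizer G a) ∈ N.subgroupOf (MulAction.stabilizer G a) := by
      rw [h]; trivial
    have := mul_mem hm (show m⁻¹ * x ∈ N from this)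
    rwa [mul_inv_cancel_left] at this

end Cfsg.Agent.Golay
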