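import Cfsg.Agent.Lib.Golay.SxKerData
import Cfsg.Agent.Lib.Golay.FamGlue
import Cfsg.Agent.Lib.Golay.OctStab

/-! The structure of a sextet stabiliser. -/

set_option autoImplicit false
set_option maxRecDepth 100000

namespace Cfsg.Agent.Golay

open Cfsg Cfsg.Agent.Sextet
open scoped Pointwise

/-- On `t`, the map is trivial or a fixed-point-free involution. -/
def V4On {α : Type*} (t : Finset α) (g : Equiv.Perm α) : Prop :=
  ∀ x ∈ t, g (g x) = x ∧ (g x = x → ∀ y ∈ t, g y = y)

theorem fin4_v4 : ∀ f g : Equiv.Perm (Fin 4),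
    (∀ x, f (f x) = x ∧ (f x = x → ∀ y, f y = y)) → (∀ x, g (g x) = x ∧ (g x = x → ∀ y, g y = y)) →
      ∀ x, (f * g) ((f * g) x) = x ∧ ((f * g) x = x → ∀ y, (f * g) y = y) := by decide +kernel

theorem v4On_mul {α : Type*} [DecidableEq α] {t : Finset α} (ht : t.card = 4) {f g : Equiv.Perm α}
    (hf : ∀ x, f x ∈ t ↔ x ∈ t) (hg : ∀ x, g x ∈ t ↔ x ∈ t) (h1 : V4On t f) (h2 : V4On t g) :
    V4On t (f * g) := by
  let e := t.equivFinOfCardEq ht
  let F : Equiv.Perm (Fin 4) := e.permCongr (f.subtypePerm hf)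
  let G : Equiv.Perm (Fin 4) := e.permCongr (g.subtypePerm hg)
  have key : ∀ (p : Equiv.Perm α) (hp : ∀ x, p x ∈ t ↔ x ∈ t), V4On t p →
      ∀ x, (e.permCongr (p.subtypePerm hp)) ((e.permCongr (p.subtypePerm hp)) x) = x ∧
        ((e.permCongr (p.subtypePerm hp)) x = x → ∀ y, (e.permCongr (p.subtypePerm hp)) y = y) := by
    intro p hp h x
    refine ⟨?_, fun hx y => ?_⟩
    · simp only [Equiv.permCongr_apply, Equiv.symm_apply_apply]
      refine (congrArg e (Subtype.ext ?_)).trans (e.apply_symm_apply x)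
      exact (h _ (e.symm x).2).1
    · simp only [Equiv.permCongr_apply] at hx ⊢
      rw [← Equiv.eq_symm_apply] at hx
      refine (congrArg e (Subtype.ext ?_)).trans (e.apply_symm_apply y)
      exact (h _ (e.symm x).2).2 (congrArg Subtype.val hx) _ (e.symm y).2
  intro x hx
  have h := fin4_v4 F G (key f hf h1) (key g hg h2) (e ⟨x, hx⟩)
  simp only [F, G, Equiv.Perm.mul_apply, Equiv.permCongr_apply, Equiv.symm_apply_apply] at h ⊢
  refine ⟨congrArg Subtype.val (e.injective h.1), fun he y hy => ?_⟩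
  have := h.2 (congrArg e (Subtype.ext he)) (e ⟨y, hy⟩)
  simp only [Equiv.symm_apply_apply] at this
  exact congrArg Subtype.val (e.injective this)

theorem sxSwaps_ok : (sxSwaps.all fun e => decide ((TabInv e.2.2 ∧
      ∀ x ∈ basis, inC (pullMask (tabFn e.2.2.1) x.2) = true) ∧ tabSmall e.2.2 = true ∧
      imgF e.2.2 famSx = famSx) &&
    ((List.range 6).all fun k => imgM e.2.2 (famSx.getD k 0) ==
      famSx.getD (if k = e.1 then e.2.1 else if k = e.2.1 then e.1 else k) 0)) = true ∧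
    ∀ i j : Fin 6, i.val < j.val → ∃ e ∈ sxSwaps, e.1 = i.val ∧ e.2.1 = j.val := by decide +kernel

theorem sxKer_ok : (sxKer.all fun T => decide ((TabInv T ∧
      ∀ x ∈ basis, inC (pullMask (tabFn T.1) x.2) = true)) &&
    famSx.all fun m => imgM T m == m) = true ∧ (sxKer.map fun T => T.1).Nodup ∧ sxKer.length = 192 ∧
    (sxKer.filter fun T => (List.finRange 24).all fun i => tabFn T.1 (tabFn T.1 i) == i &&
      (tabFn T.1 i != i || famSx.all fun m => !m.testBit i.val ||
        (List.finRange 24).all fun j => !m.testBit j.val || tabFn T.1 j == j)).length = 64 := by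
  decide +kernel

theorem famSx_sextet : fam famSx ∈ sextets ∧ okFam famSx = true ∧ famSx.length = 6 :=
  ⟨sextet_of_check (by decide +kernel), by decide +kernel, by decide +kernel⟩

theorem sextet_cover {S : Finset (Finset GolayPt)} (hS : S ∈ sextets) (p : GolayPt) :
    ∃ t ∈ S, p ∈ t := by
  classical
  have hd : (S : Set (Finset GolayPt)).PairwiseDisjoint id := fun a ha b hb hne => by
    have h8 := (hS.2.2 a ha b hb hne).2
    have := Finset.card_union_add_card_inter a b
    rw [h8, hS.2.1 a ha, hS.2.1 b hb] at this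
    show Disjoint a b
    exact Finset.disjoint_iff_inter_eq_empty.mpr (Finset.card_eq_zero.mp (by omega))
  have hc : (S.biUnion id).card = 24 := by
    rw [Finset.card_biUnion hd]
    simp only [id_eq]
    rw [Finset.sum_eq_card_nsmul fun a ha => hS.2.1 a ha, hS.1]; rfl
  have hu : S.biUnion id = Finset.univ := Finset.eq_univ_of_card _ (by rw [hc, card_pt])
  have := hu ▸ Finset.mem_univ p
  simpa using this

theorem card_stab_sextet {S : Finset (Finset GolayPt)} (hS : S ∈ sextets) :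
    Nat.card (MulAction.stabilizer M24 S) = 138240 := by
  have h := card_eq_orbit_mul (G := M24) S
  rw [orbit_sextets hS (L := famSx) (by decide +kernel) (m := 8388615) (by decide +kernel)
    (by decide +kernel), ncard_sextets, card_M24] at h
  omega

/-- The action on the tetrads. -/
def onTetrads (S : Finset (Finset GolayPt)) :
    ↥(MulAction.stabilizer M24 S) →* Equiv.Perm ↥S where
  toFun g :=
    { toFun := fun t => ⟨((g.1 : M24) : Equiv.Perm GolayPt) • (t : Finset GolayPt),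
        (show ∀ G : Equiv.Perm GolayPt, G • S = S → G • (t : Finset GolayPt) ∈ S from fun G hG =>
          (iff_of_eq (congrArg (fun Z => G • (t : Finset GolayPt) ∈ Z) hG.symm)).mpr
            (Finset.smul_mem_smul_finset t.2)) _ g.2⟩
      invFun := fun t => ⟨((g.1 : M24) : Equiv.Perm GolayPt)⁻¹ • (t : Finset GolayPt),
        (show ∀ G : Equiv.Perm GolayPt, G • S = S → G⁻¹ • (t : Finset GolayPt) ∈ S from fun G hG =>
          Finset.inv_smul_mem_iff.mpr ((iff_of_eq (congrArg (fun Z => (t : Finset GolayPt) ∈ Z) hG)).mpr t.2)) _ g.2⟩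
      left_inv := fun t => Subtype.ext (inv_smul_smul _ _)
      right_inv := fun t => Subtype.ext (smul_inv_smul _ _) }
  map_one' := Equiv.ext fun _ => Subtype.ext (one_smul _ _)
  map_mul' a b := Equiv.ext fun _ => Subtype.ext (mul_smul _ _ _)

theorem onTetrads_apply {S : Finset (Finset GolayPt)} (g : ↥(MulAction.stabilizer M24 S)) (t : ↥S) :
    ((onTetrads S g t : ↥S) : Finset GolayPt) = ((g.1 : M24) : Equiv.Perm GolayPt) • (t : Finset GolayPt) :=
  rfl

theorem onTetrads_surjective {σ : Equiv.Perm GolayPt} (hσ : σ ∈ M24) :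
    (onTetrads (σ • fam famSx)).range = ⊤ := by
  classical
  rw [eq_top_iff, ← Equiv.Perm.closure_isSwap, Subgroup.closure_le]
  rintro _ ⟨x, y, hxy, rfl⟩
  obtain ⟨hok, hall⟩ := sxSwaps_ok
  obtain ⟨-, hokF, hlen⟩ := famSx_sextet
  let tet : Fin 6 → Finset GolayPt := fun k => σ • supp (famSx.getD k.val 0)
  have htet : ∀ z : ↥(σ • fam famSx), ∃ k : Fin 6, tet k = (z : Finset GolayPt) := fun z => by
    obtain ⟨w, hw, e⟩ := Finset.mem_smul_finset.mp z.2
    obtain ⟨m, hm, rfl⟩ := mem_fam.mp hw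
    obtain ⟨k, hk, rfl⟩ := List.getElem_of_mem hm
    exact ⟨⟨k, hlen ▸ hk⟩, by simp only [tet]; rw [List.getD_eq_getElem _ _ hk]; exact e⟩
  have hinj : ∀ a b : Fin 6, tet a = tet b → a = b := fun a b e => by
    have e' := MulAction.injective σ e
    have hmem : ∀ k : Fin 6, famSx.getD k.val 0 < 2 ^ 24 := by decide +kernel
    have := congrArg maskF e'
    rw [maskF_supp (hmem a), maskF_supp (hmem b)] at this
    have key : ∀ a b : Fin 6, famSx.getD a.val 0 = famSx.getD b.val 0 → a = b := by decide +kernel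
    exact key a b this
  obtain ⟨i, hi⟩ := htet x
  obtain ⟨j, hj⟩ := htet y
  obtain ⟨e, he, hij⟩ : ∃ e ∈ sxSwaps, (e.1 = i.val ∧ e.2.1 = j.val) ∨ (e.1 = j.val ∧ e.2.1 = i.val) := by
    rcases lt_trichotomy i.val j.val with h | h | h
    · obtain ⟨e, he, h'⟩ := hall i j h; exact ⟨e, he, Or.inl h'⟩
    · exact absurd (Subtype.ext (by rw [← hi, ← hj, Fin.ext h])) hxy
    · obtain ⟨e, he, h'⟩ := hall j i h; exact ⟨e, he, Or.inr h'⟩
  have h := List.all_eq_true.mp hok e he
  simp only [Bool.and_eq_true, decide_eq_true_eq, List.all_eq_true, beq_iff_eq, List.mem_range] at h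
  obtain ⟨⟨⟨hi', hb⟩, hs, hf⟩, hk⟩ := h
  have hM : tperm e.2.2 ∈ M24 :=
    mem_M24_of_basis (by rw [show fn (tperm e.2.2) = tabFn e.2.2.1 from funext (fn_tperm hi')]; exact hb)
  have hfix : (σ * tperm e.2.2 * σ⁻¹) • σ • fam famSx = σ • fam famSx :=
    conj_fix (by rw [smul_fam_tab hi' hs, hf])
  refine ⟨⟨⟨σ * tperm e.2.2 * σ⁻¹, mul_mem (mul_mem hσ hM) (inv_mem hσ)⟩, hfix⟩,
    Equiv.ext fun z => Subtype.ext ?_⟩
  rw [onTetrads_apply]
  obtain ⟨k, hk'⟩ := htet z
  show (σ * tperm e.2.2 * σ⁻¹) • (z : Finset GolayPt) = _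
  rw [← hk', show (σ * tperm e.2.2 * σ⁻¹) • tet k = σ • supp (imgM e.2.2 (famSx.getD k.val 0)) from
    conj_fix (supp_imgM hi' _), hk k.val k.isLt]
  by_cases hzx : z = x
  · subst hzx
    obtain rfl : k = i := hinj _ _ (hk'.trans hi.symm)
    rw [Equiv.swap_apply_left, ← hj]
    rcases hij with ⟨h1, h2⟩ | ⟨h1, h2⟩
    · rw [if_pos h1.symm, h2]
    · rw [if_pos h2.symm, if_neg, h1]
      rw [h1]
      exact fun e' => hxy (Subtype.ext (by rw [← hi, ← hj, Fin.ext e']))
  by_cases hzy : z = y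
  · subst hzy
    obtain rfl : k = j := hinj _ _ (hk'.trans hj.symm)
    rw [Equiv.swap_apply_right, ← hi]
    rcases hij with ⟨h1, h2⟩ | ⟨h1, h2⟩
    · rw [if_pos h2.symm, if_neg, h1]
      rw [h1]
      exact fun e' => hxy (Subtype.ext (by rw [← hi, ← hj, Fin.ext e']))
    · rw [if_pos h1.symm, h2]
  have hki : k.val ≠ i.val := fun h => hzx (Subtype.ext (by rw [← hk', Fin.ext h, hi]))
  have hkj : k.val ≠ j.val := fun h => hzy (Subtype.ext (by rw [← hk', Fin.ext h, hj]))
  rw [Equiv.swap_apply_of_ne_of_ne hzx hzy, ← hk']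
  rcases hij with ⟨h1, h2⟩ | ⟨h1, h2⟩ <;> rw [if_neg (by omega), if_neg (by omega)]

/-- The elements fixing every tetrad of the standard sextet. -/
theorem sxKer_iff (g : Equiv.Perm GolayPt) :
    (g ∈ M24 ∧ ∀ t ∈ fam famSx, g • t = t) ↔ ∃ T ∈ sxKer, tperm T = g := by
  classical
  obtain ⟨hok, hnd, hlen, -⟩ := sxKer_ok
  simp only [Bool.and_eq_true, decide_eq_true_eq, List.all_eq_true, beq_iff_eq] at hok
  have hsub : ∀ T ∈ sxKer, tperm T ∈ M24 ∧ ∀ t ∈ fam famSx, tperm T • t = t := fun T hT => by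
    obtain ⟨⟨hi, hb⟩, hf⟩ := hok T hT
    refine ⟨mem_M24_of_basis (by rw [show fn (tperm T) = tabFn T.1 from funext (fn_tperm hi)]; exact hb),
      fun t ht => ?_⟩
    obtain ⟨m, hm, rfl⟩ := mem_fam.mp ht
    rw [supp_imgM hi, hf m hm]
  refine ⟨fun hg => ?_, fun ⟨T, hT, e⟩ => e ▸ hsub T hT⟩
  have hker : Nat.card {g : Equiv.Perm GolayPt // g ∈ M24 ∧ ∀ t ∈ fam famSx, g • t = t} = 192 := by
    have h := Subgroup.index_mul_card (onTetrads (fam famSx)).ker
    have hsurj : (onTetrads (fam famSx)).range = ⊤ := by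
      have := onTetrads_surjective (one_mem M24)
      rwa [one_smul] at this
    rw [Subgroup.index_ker, hsurj, Subgroup.card_top, Nat.card_perm, Nat.card_eq_finsetCard,
      famSx_sextet.1.1, card_stab_sextet famSx_sextet.1, show Nat.factorial 6 = 720 by decide] at h
    have e : Nat.card (onTetrads (fam famSx)).ker =
        Nat.card {g : Equiv.Perm GolayPt // g ∈ M24 ∧ ∀ t ∈ fam famSx, g • t = t} :=
      Nat.card_congr ⟨fun g => ⟨g.1.1.1, g.1.1.2, fun t ht =>
          congrArg Subtype.val (DFunLike.congr_fun (MonoidHom.mem_ker.mp g.2) (⟨t, ht⟩ : ↥(fam famSx)))⟩,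
        fun g => ⟨⟨⟨g.1, g.2.1⟩, (by
          show g.1 • fam famSx = fam famSx
          exact Finset.eq_of_subset_of_card_le (fun u hu => by
            obtain ⟨t, ht, rfl⟩ := Finset.mem_smul_finset.mp hu
            rw [g.2.2 t ht]; exact ht) (by rw [Finset.card_smul_finset]))⟩,
          MonoidHom.mem_ker.mpr (Equiv.ext fun t => Subtype.ext (g.2.2 t.1 t.2))⟩,
        fun g => rfl, fun g => rfl⟩
    omega
  have heq : (↑(sxKer.map tperm).toFinset : Set (Equiv.Perm GolayPt)) =
      {g | g ∈ M24 ∧ ∀ t ∈ fam famSx, g • t = t} := by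
    refine Set.eq_of_subset_of_ncard_le ?_ ?_ (Set.toFinite _)
    · intro x hx
      simp only [List.coe_toFinset, List.mem_map, Set.mem_ofPred_eq] at hx
      obtain ⟨T, hT, rfl⟩ := hx
      exact hsub T hT
    · rw [← Nat.card_coe_set_eq, Set.ncard_coe_finset, List.toFinset_card_of_nodup, List.length_map, hlen]
      · exact hker.le
      · refine List.Nodup.map_on (fun x hx y hy e => ?_) (List.Nodup.of_map _ hnd)
        refine List.inj_on_of_nodup_map hnd hx hy ?_
        have hl : ∀ T ∈ sxKer, (List.finRange 24).map (fun i => (tabFn T.1 i).val) = T.1 := by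
          decide +kernel
        rw [← hl x hx, ← hl y hy]
        refine List.map_congr_left fun i _ => ?_
        rw [← fn_tperm (hok x hx).1.1, e, fn_tperm (hok y hy).1.1]
  have : g ∈ (↑(sxKer.map tperm).toFinset : Set (Equiv.Perm GolayPt)) := by rw [heq]; exact hg
  simpa using this

theorem v4_count : Nat.card {g : Equiv.Perm GolayPt // (g ∈ M24 ∧ ∀ t ∈ fam famSx, g • t = t) ∧
    ∀ t ∈ fam famSx, V4On t g} = 64 := by
  classical
  obtain ⟨hok, hnd, -, h64⟩ := sxKer_ok
  simp only [Bool.and_eq_true, decide_eq_true_eq, List.all_eq_true, beq_iff_eq] at hok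
  set q : Tab → Bool := fun T => (List.finRange 24).all fun i => tabFn T.1 (tabFn T.1 i) == i &&
    (tabFn T.1 i != i || famSx.all fun m => !m.testBit i.val ||
      (List.finRange 24).all fun j => !m.testBit j.val || tabFn T.1 j == j) with hq
  have hqiff : ∀ T ∈ sxKer, (q T = true ↔ ∀ t ∈ fam famSx, V4On t (tperm T)) := by
    intro T hT
    have hi := (hok T hT).1.1
    have happ : ∀ i, tperm T (pt i) = pt (tabFn T.1 i) := fun i => by
      rw [← fn_tperm hi, fn, pt_idx]
    have hptinj : ∀ i j : Fin 24, pt i = pt j → i = j := fun i j h => by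
      rw [← idx_pt i, h, idx_pt]
    simp only [hq, List.all_eq_true, List.mem_finRange, true_implies, Bool.and_eq_true, beq_iff_eq,
      Bool.or_eq_true, bne_iff_ne, Bool.not_eq_true']
    constructor
    · intro h t ht x hx
      obtain ⟨m, hm, rfl⟩ := mem_fam.mp ht
      obtain ⟨h1, h2⟩ := h (idx x)
      have hxi : tperm T x = pt (tabFn T.1 (idx x)) := by rw [← happ, pt_idx]
      refine ⟨by rw [hxi, happ, h1, pt_idx], fun hfx y hy => ?_⟩
      rcases h2 with h2 | h2
      · exact absurd (by rw [← idx_pt (tabFn T.1 (idx x)), ← hxi, hfx]) h2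
      · rcases h2 m hm with h3 | h3
        · rw [mem_supp] at hx; rw [hx] at h3; exact absurd h3 (by decide)
        · rw [mem_supp] at hy
          rcases h3 (idx y) with h4 | h4
          · rw [hy] at h4; exact absurd h4 (by decide)
          · rw [← pt_idx y, happ, h4]
    · intro h i
      obtain ⟨t, ht, hit⟩ := sextet_cover famSx_sextet.1 (pt i)
      obtain ⟨h1, h2⟩ := h t ht (pt i) hit
      refine ⟨hptinj _ _ (by rw [← happ, ← happ, h1]), ?_⟩
      by_cases hfix : tabFn T.1 i = i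
      · right
        intro m hm
        cases hb : m.testBit i.val with
        | false => exact Or.inl rfl
        | true =>
          right
          intro j
          cases hbj : m.testBit j.val with
          | false => exact Or.inl rfl
          | true =>
            right
            have h' := (h (supp m) (mem_fam.mpr ⟨m, hm, rfl⟩) (pt i) (by rw [mem_supp, idx_pt]; exact hb)).2
              (by rw [happ, hfix]) (pt j) (by rw [mem_supp, idx_pt]; exact hbj)
            exact hptinj _ _ (by rw [← happ]; exact h')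
      · exact Or.inl hfix
  have e : {g : Equiv.Perm GolayPt | (g ∈ M24 ∧ ∀ t ∈ fam famSx, g • t = t) ∧
      ∀ t ∈ fam famSx, V4On t g} = ↑((sxKer.filter q).map tperm).toFinset := by
    ext g
    simp only [Set.mem_setOf_eq, List.coe_toFinset, List.mem_map, List.mem_filter]
    constructor
    · rintro ⟨h1, h2⟩
      obtain ⟨T, hT, rfl⟩ := (sxKer_iff g).mp h1
      exact ⟨T, ⟨hT, (hqiff T hT).mpr h2⟩, rfl⟩
    · rintro ⟨T, ⟨hT, hqT⟩, rfl⟩
      exact ⟨(sxKer_iff _).mpr ⟨T, hT, rfl⟩, (hqiff T hT).mp hqT⟩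
  show Nat.card ({g : Equiv.Perm GolayPt | (g ∈ M24 ∧ ∀ t ∈ fam famSx, g • t = t) ∧
      ∀ t ∈ fam famSx, V4On t g} : Set _) = 64
  rw [Nat.card_coe_set_eq, e, Set.ncard_coe_finset, List.toFinset_card_of_nodup, List.length_map]
  · exact h64
  · refine List.Nodup.map_on (fun x hx y hy e => ?_) ((List.Nodup.of_map _ hnd).filter _)
    refine List.inj_on_of_nodup_map hnd (List.mem_filter.mp hx).1 (List.mem_filter.mp hy).1 ?_
    have hl : ∀ T ∈ sxKer, (List.finRange 24).map (fun i => (tabFn T.1 i).val) = T.1 := by decide +kernel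
    rw [← hl x (List.mem_filter.mp hx).1, ← hl y (List.mem_filter.mp hy).1]
    refine List.map_congr_left fun i _ => ?_
    rw [← fn_tperm (hok x (List.mem_filter.mp hx).1).1.1, e,
      fn_tperm (hok y (List.mem_filter.mp hy).1).1.1]

theorem v4On_conj {σ g : Equiv.Perm GolayPt} {t : Finset GolayPt} :
    V4On (σ • t) (σ * g * σ⁻¹) ↔ V4On t g := by
  constructor
  · intro h x hx
    have := h (σ x) (Finset.smul_mem_smul_finset hx)
    simp only [Equiv.Perm.mul_apply, Equiv.Perm.coe_inv, Equiv.symm_apply_apply,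
      EmbeddingLike.apply_eq_iff_eq] at this
    exact ⟨this.1, fun hf y hy => by
      have := this.2 hf (σ y) (Finset.smul_mem_smul_finset hy)
      simpa using this⟩
  · intro h x hx
    obtain ⟨a, ha, rfl⟩ := Finset.mem_smul_finset.mp hx
    simp only [Equiv.Perm.smul_def, Equiv.Perm.mul_apply, Equiv.Perm.coe_inv, Equiv.symm_apply_apply,
      EmbeddingLike.apply_eq_iff_eq]
    exact ⟨(h a ha).1, fun hf y hy => by
      obtain ⟨b, hb, rfl⟩ := Finset.mem_smul_finset.mp hy
      simp only [Equiv.Perm.smul_def, Equiv.symm_apply_apply, EmbeddingLike.apply_eq_iff_eq]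
      exact (h a ha).2 hf b hb⟩

theorem sextet_structure {S : Finset (Finset GolayPt)} (hS : S ∈ sextets) :
    (∀ e : Equiv.Perm ↥S, ∃ g ∈ MulAction.stabilizer M24 S, ∀ t : ↥S,
      (g : Equiv.Perm GolayPt) • (t : Finset GolayPt) = ((e t : ↥S) : Finset GolayPt)) ∧
    Nat.card {g : ↥(MulAction.stabilizer M24 S) //
      ∀ t ∈ S, ((g : M24) : Equiv.Perm GolayPt) • t = t} = 192 ∧
    ∃ N : Subgroup ↥(MulAction.stabilizer M24 S), N.Normal ∧ Nat.card N = 64 ∧ ∀ x ∈ N, x * x = 1 := by
  classical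
  obtain ⟨σ, hσ, rfl⟩ := exists_map_sextet (L := famSx) (by decide +kernel) (m := 8388615)
    (by decide +kernel) (by decide +kernel) hS
  refine ⟨fun e => ?_, ?_, ?_⟩
  · obtain ⟨g, rfl⟩ : e ∈ (onTetrads (σ • fam famSx)).range :=
      (onTetrads_surjective hσ).symm ▸ Subgroup.mem_top e
    exact ⟨g.1, g.2, fun t => (onTetrads_apply g t).symm⟩
  · have h := Subgroup.index_mul_card (onTetrads (σ • fam famSx)).ker
    rw [Subgroup.index_ker, onTetrads_surjective hσ, Subgroup.card_top, Nat.card_perm,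
      Nat.card_eq_finsetCard, hS.1, card_stab_sextet hS, show Nat.factorial 6 = 720 by decide] at h
    rw [← show Nat.card (onTetrads (σ • fam famSx)).ker = Nat.card {g : ↥(MulAction.stabilizer M24 (σ • fam famSx)) //
        ∀ t ∈ σ • fam famSx, ((g : M24) : Equiv.Perm GolayPt) • t = t} from
      Nat.card_congr (Equiv.subtypeEquivRight fun g => ⟨fun hg t ht =>
        congrArg Subtype.val (DFunLike.congr_fun (MonoidHom.mem_ker.mp hg) (⟨t, ht⟩ : ↥(σ • fam famSx))),
        fun hg => MonoidHom.mem_ker.mpr (Equiv.ext fun t => Subtype.ext (hg t.1 t.2))⟩)]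
    omega
  set S := σ • fam famSx with hSdef
  have hmem : ∀ g : Equiv.Perm GolayPt, (∀ t ∈ S, g • t = t) → ∀ t ∈ S, ∀ x, g x ∈ t ↔ x ∈ t :=
    fun g hg t ht x => by
      conv_lhs => rw [← hg t ht, ← Equiv.Perm.smul_def, Finset.smul_mem_smul_finset_iff]
  let V : Subgroup ↥(MulAction.stabilizer M24 S) :=
    { carrier := {g | (∀ t ∈ S, ((g : M24) : Equiv.Perm GolayPt) • t = t) ∧
        ∀ t ∈ S, V4On t ((g : M24) : Equiv.Perm GolayPt)}
      one_mem' := ⟨fun t _ => one_smul _ t, fun t _ x _ => ⟨rfl, fun _ y _ => rfl⟩⟩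
      mul_mem' := fun {a b} ha hb => ⟨fun t ht => by
          show (((a : M24) : Equiv.Perm GolayPt) * ((b : M24) : Equiv.Perm GolayPt)) • t = t
          rw [mul_smul, hb.1 t ht, ha.1 t ht],
        fun t ht => v4On_mul (hS.2.1 t ht) (hmem _ ha.1 t ht) (hmem _ hb.1 t ht) (ha.2 t ht) (hb.2 t ht)⟩
      inv_mem' := fun {a} ha => ⟨fun t ht => by
          show ((a : M24) : Equiv.Perm GolayPt)⁻¹ • t = t
          rw [inv_smul_eq_iff, ha.1 t ht],
        fun t ht x hx => by
          have e : ∀ y ∈ t, ((a : M24) : Equiv.Perm GolayPt)⁻¹ y = ((a : M24) : Equiv.Perm GolayPt) y :=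
            fun y hy => by rw [Equiv.Perm.coe_inv, Equiv.symm_apply_eq, (ha.2 t ht y hy).1]
          show ((a : M24) : Equiv.Perm GolayPt)⁻¹ (((a : M24) : Equiv.Perm GolayPt)⁻¹ x) = x ∧ _
          rw [e x hx, e _ ((hmem _ ha.1 t ht x).mpr hx)]
          refine ⟨(ha.2 t ht x hx).1, fun hfix y hy => ?_⟩
          show ((a : M24) : Equiv.Perm GolayPt)⁻¹ y = y
          rw [e y hy]
          exact (ha.2 t ht x hx).2 ((e x hx).symm.trans hfix) y hy⟩ }
  refine ⟨V, ⟨fun g hg x => ?_⟩, ?_, fun g hg => ?_⟩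
  · set X := ((x : M24) : Equiv.Perm GolayPt) with hX
    set G := ((g : M24) : Equiv.Perm GolayPt) with hG
    have hxS : X • S = S := x.2
    have hback : ∀ t ∈ S, X⁻¹ • t ∈ S := fun t ht => by
      rw [← Finset.smul_mem_smul_finset_iff X, smul_inv_smul, hxS]; exact ht
    refine ⟨fun t ht => ?_, fun t ht => ?_⟩
    · show (X * G * X⁻¹) • t = t
      rw [mul_smul, mul_smul, hg.1 _ (hback t ht), smul_inv_smul]
    · show V4On t (X * G * X⁻¹)
      rw [← smul_inv_smul X t, v4On_conj]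
      exact hg.2 _ (hback t ht)
  · rw [← v4_count]
    refine Nat.card_congr ⟨fun g => ⟨σ⁻¹ * ((g.1 : M24) : Equiv.Perm GolayPt) * σ,
        ⟨mul_mem (mul_mem (inv_mem hσ) g.1.1.2) hσ, fun t ht => ?_⟩, fun t ht => ?_⟩,
      fun g => ⟨⟨⟨σ * g.1 * σ⁻¹, mul_mem (mul_mem hσ g.2.1.1) (inv_mem hσ)⟩, ?_⟩, ?_, ?_⟩,
      fun g => by ext : 3; simp [mul_assoc], fun g => by ext : 1; simp [mul_assoc]⟩
    · rw [mul_smul, mul_smul, g.2.1 _ (Finset.smul_mem_smul_finset ht), inv_smul_smul]
    · rw [← v4On_conj (σ := σ)]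
      have e : σ * (σ⁻¹ * ((g.1 : M24) : Equiv.Perm GolayPt) * σ) * σ⁻¹ = ((g.1 : M24) : Equiv.Perm GolayPt) := by
        simp [mul_assoc]
      rw [e]
      exact g.2.2 _ (Finset.smul_mem_smul_finset ht)
    · refine conj_fix (Finset.eq_of_subset_of_card_le (fun u hu => ?_) (by rw [Finset.card_smul_finset]))
      obtain ⟨t, ht, rfl⟩ := Finset.mem_smul_finset.mp hu
      rw [g.2.1.2 t ht]; exact ht
    · intro t ht
      obtain ⟨u, hu, rfl⟩ := Finset.mem_smul_finset.mp ht
      exact conj_fix (g.2.1.2 u hu)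
    · intro t ht
      obtain ⟨u, hu, rfl⟩ := Finset.mem_smul_finset.mp ht
      exact v4On_conj.mpr (g.2.2 u hu)
  · refine Subtype.ext (Subtype.ext (Equiv.ext fun p => ?_))
    obtain ⟨t, ht, hpt⟩ := sextet_cover hS p
    exact (hg.2 t ht p hpt).1

end Cfsg.Agent.Golay
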