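import Cfsg.Agent.Lib.Golay.SylowData11

/-! The checks of the tables. -/

set_option autoImplicit false
set_option maxRecDepth 100000
set_option maxHeartbeats 4000000
set_option Elab.async false

namespace Cfsg.Agent.Golay

theorem syl11_gens : syl11.GenOk cls11 := by
  unfold SylData.GenOk; decide +kernel

theorem syl11_next : syl11.NextOk := by
  unfold SylData.NextOk; decide +kernel

theorem syl11_par : syl11.ParOk := by
  unfold SylData.ParOk; decide +kernel

theorem syl11_inj : syl11.InjOk := by
  unfold SylData.InjOk; decide +kernel

theorem syl11_center : syl11.CenterOk := by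
  unfold SylData.CenterOk; decide +kernel

theorem syl11_col : syl11.ColOk := by
  unfold SylData.ColOk; decide +kernel

theorem syl11_steps : syl11.StepsOk cls11 := by
  unfold SylData.StepsOk; decide +kernel

theorem syl11_srch : dfs (syl11.normOk cls11) (syl11.normLeaf cls11) 7 0 (fun i => i) = true := by
  decide +kernel

theorem syl11_ok : syl11.Ok cls11 :=
  ⟨syl11_gens, syl11_next, syl11_par, syl11_inj, syl11_center, syl11_col, syl11_steps, syl11_srch⟩

end Cfsg.Agent.Golay
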