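import Cfsg.Agent.Lib.Golay.SylowData12

/-! The checks of the tables. -/

set_option autoImplicit false
set_option maxRecDepth 100000
set_option maxHeartbeats 4000000
set_option Elab.async false

namespace Cfsg.Agent.Golay

theorem syl12_gens : syl12.GenOk cls12 := by
  unfold SylData.GenOk; decide +kernel

theorem syl12_next : syl12.NextOk := by
  unfold SylData.NextOk; decide +kernel

theorem syl12_par : syl12.ParOk := by
  unfold SylData.ParOk; decide +kernel

theorem syl12_inj : syl12.InjOk := by
  unfold SylData.InjOk; decide +kernel

theorem syl12_center : syl12.CenterOk := by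
  unfold SylData.CenterOk; decide +kernel

theorem syl12_col : syl12.ColOk := by
  unfold SylData.ColOk; decide +kernel

theorem syl12_steps : syl12.StepsOk cls12 := by
  unfold SylData.StepsOk; decide +kernel

theorem syl12_srch : dfs (syl12.normOk cls12) (syl12.normLeaf cls12) 7 0 (fun i => i) = true := by
  decide +kernel

theorem syl12_ok : syl12.Ok cls12 :=
  ⟨syl12_gens, syl12_next, syl12_par, syl12_inj, syl12_center, syl12_col, syl12_steps, syl12_srch⟩

end Cfsg.Agent.Golay
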