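import Cfsg.Agent.Lib.Golay.SylowData22

/-! The checks of the tables. -/

set_option autoImplicit false
set_option maxRecDepth 100000
set_option maxHeartbeats 4000000
set_option Elab.async false

namespace Cfsg.Agent.Golay

theorem syl22_gens : syl22.GenOk cls22 := by
  unfold SylData.GenOk; decide +kernel

theorem syl22_next : syl22.NextOk := by
  unfold SylData.NextOk; decide +kernel

theorem syl22_par : syl22.ParOk := by
  unfold SylData.ParOk; decide +kernel

theorem syl22_inj : syl22.InjOk := by
  unfold SylData.InjOk; decide +kernel

theorem syl22_center : syl22.CenterOk := by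
  unfold SylData.CenterOk; decide +kernel

theorem syl22_col : syl22.ColOk := by
  unfold SylData.ColOk; decide +kernel

theorem syl22_steps : syl22.StepsOk cls22 := by
  unfold SylData.StepsOk; decide +kernel

theorem syl22_srch : dfs (syl22.normOk cls22) (syl22.normLeaf cls22) 7 0 (fun i => i) = true := by
  decide +kernel

theorem syl22_ok : syl22.Ok cls22 :=
  ⟨syl22_gens, syl22_next, syl22_par, syl22_inj, syl22_center, syl22_col, syl22_steps, syl22_srch⟩

end Cfsg.Agent.Golay
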