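import Cfsg.Agent.Lib.Golay.SylowData23

/-! The checks of the tables. -/

set_option autoImplicit false
set_option maxRecDepth 100000
set_option maxHeartbeats 4000000
set_option Elab.async false

namespace Cfsg.Agent.Golay

/-- Colouring by one fixed point. -/
def cls23 (i : Fin 24) : ℕ := if i.val = 23 then 1 else 0

theorem syl23_gens : syl23.GenOk cls23 := by
  unfold SylData.GenOk; decide +kernel

theorem syl23_next : syl23.NextOk := by
  unfold SylData.NextOk; decide +kernel

theorem syl23_par : syl23.ParOk := by
  unfold SylData.ParOk; decide +kernel

theorem syl23_inj : syl23.InjOk := by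
  unfold SylData.InjOk; decide +kernel

theorem syl23_center : syl23.CenterOk := by
  unfold SylData.CenterOk; decide +kernel

theorem syl23_col : syl23.ColOk := by
  unfold SylData.ColOk; decide +kernel

theorem syl23_steps : syl23.StepsOk cls23 := by
  unfold SylData.StepsOk; decide +kernel

theorem syl23_srch : dfs (syl23.normOk cls23) (syl23.normLeaf cls23) 7 0 (fun i => i) = true := by
  decide +kernel

theorem syl23_ok : syl23.Ok cls23 :=
  ⟨syl23_gens, syl23_next, syl23_par, syl23_inj, syl23_center, syl23_col, syl23_steps, syl23_srch⟩

end Cfsg.Agent.Golay
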