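import Cfsg.Agent.Lib.Golay.SylowData24

/-! The checks of the tables. -/

set_option autoImplicit false
set_option maxRecDepth 100000
set_option maxHeartbeats 4000000
set_option Elab.async false

namespace Cfsg.Agent.Golay

/-- The trivial colouring. -/
def cls24 (_ : Fin 24) : ℕ := 0

theorem syl24_gens : syl24.GenOk cls24 := by
  unfold SylData.GenOk; decide +kernel

theorem syl24_next : syl24.NextOk := by
  unfold SylData.NextOk; decide +kernel

theorem syl24_par : syl24.ParOk := by
  unfold SylData.ParOk; decide +kernel

theorem syl24_inj : syl24.InjOk := by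
  unfold SylData.InjOk; decide +kernel

theorem syl24_center : syl24.CenterOk := by
  unfold SylData.CenterOk; decide +kernel

theorem syl24_col : syl24.ColOk := by
  unfold SylData.ColOk; decide +kernel

theorem syl24_steps : syl24.StepsOk cls24 := by
  unfold SylData.StepsOk; decide +kernel

theorem syl24_srch : dfs (syl24.normOk cls24) (syl24.normLeaf cls24) 7 0 (fun i => i) = true := by
  decide +kernel

theorem syl24_ok : syl24.Ok cls24 :=
  ⟨syl24_gens, syl24_next, syl24_par, syl24_inj, syl24_center, syl24_col, syl24_steps, syl24_srch⟩

end Cfsg.Agent.Golay
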