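import Cfsg.Agent.Lib.Golay.SylowFusion

/-!
Tables of Sylow 2-subgroups of the groups of the length-24 code.
-/

set_option autoImplicit false
set_option maxRecDepth 100000
set_option maxHeartbeats 4000000

namespace Cfsg.Agent.Golay

def sylEl11_0 : List (List ℕ) := [
  [0, 1, 2, 3, 4, 5, 6, 7, 8, 9, 10, 11, 12, 13, 14, 15, 16, 17, 18, 19, 20, 21, 22, 23],
  [0, 8, 4, 3, 2, 5, 6, 21, 1, 12, 23, 11, 9, 13, 14, 22, 18, 19, 16, 17, 20, 7, 15, 10],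
  [0, 4, 8, 13, 1, 11, 6, 21, 2, 9, 19, 5, 12, 3, 14, 15, 18, 23, 16, 10, 20, 7, 22, 17],
  [0, 8, 2, 13, 4, 5, 6, 15, 1, 16, 10, 11, 18, 3, 20, 7, 9, 19, 12, 17, 14, 22, 21, 23],
  [0, 9, 16, 3, 18, 20, 6, 23, 12, 8, 7, 14, 1, 13, 11, 19, 4, 15, 2, 22, 5, 10, 17, 21],
  [0, 2, 1, 13, 8, 11, 6, 7, 4, 12, 17, 5, 9, 3, 14, 22, 16, 10, 18, 23, 20, 21, 15, 19],
  [0, 1, 4, 13, 2, 5, 6, 22, 8, 18, 23, 11, 16, 3, 20, 21, 12, 17, 9, 19, 14, 15, 7, 10],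
  [0, 12, 18, 3, 16, 20, 6, 10, 9, 1, 21, 14, 8, 13, 11, 17, 2, 22, 4, 15, 5, 23, 19, 7],
  [0, 2, 8, 3, 1, 11, 6, 15, 4, 18, 19, 5, 16, 13, 20, 21, 9, 10, 12, 23, 14, 22, 7, 17],
  [0, 9, 18, 13, 16, 20, 6, 17, 12, 2, 21, 14, 4, 3, 5, 10, 1, 15, 8, 22, 11, 19, 23, 7],
  [0, 4, 1, 3, 8, 11, 6, 22, 2, 16, 17, 5, 18, 13, 20, 7, 12, 23, 9, 10, 14, 15, 21, 19],
  [0, 16, 9, 13, 12, 14, 6, 23, 18, 1, 15, 20, 8, 3, 11, 17, 4, 7, 2, 21, 5, 10, 19, 22],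
  [0, 18, 12, 13, 9, 14, 6, 10, 16, 8, 22, 20, 1, 3, 11, 19, 2, 21, 4, 7, 5, 23, 17, 15],
  [0, 12, 16, 13, 18, 20, 6, 19, 9, 4, 7, 14, 2, 3, 5, 23, 8, 22, 1, 15, 11, 17, 10, 21],
  [0, 18, 9, 3, 12, 14, 6, 17, 16, 4, 15, 20, 2, 13, 5, 23, 1, 21, 8, 7, 11, 19, 10, 22],
  [0, 16, 12, 3, 9, 14, 6, 19, 18, 2, 22, 20, 4, 13, 5, 10, 8, 7, 1, 21, 11, 17, 23, 15]]

def sylEl11 : List (List ℕ) := sylEl11_0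

def sylPar11_0 : List (ℕ × ℕ) := [
  (0, 0),
  (0, 0),
  (0, 1),
  (0, 2),
  (0, 3),
  (1, 1),
  (1, 2),
  (1, 3),
  (2, 2),
  (2, 3),
  (3, 1),
  (3, 3),
  (4, 1),
  (4, 2),
  (8, 3),
  (9, 1)]

def sylPar11 : List (ℕ × ℕ) := sylPar11_0

def sylNxt11_0 : List (List ℕ) := [
  [1, 2, 3, 4],
  [0, 5, 6, 7],
  [5, 0, 8, 9],
  [6, 10, 0, 11],
  [7, 12, 13, 1],
  [2, 1, 10, 13],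
  [3, 8, 1, 12],
  [4, 11, 9, 0],
  [10, 6, 2, 14],
  [13, 15, 7, 5],
  [8, 3, 5, 15],
  [12, 7, 14, 6],
  [11, 4, 15, 3],
  [9, 14, 4, 2],
  [15, 13, 11, 10],
  [14, 9, 12, 8]]

def sylNxt11 : List (List ℕ) := sylNxt11_0

def syl11 : SylData where
  known := [([0, 8, 4, 3, 2, 5, 6, 21, 1, 12, 23, 11, 9, 13, 14, 22, 18, 19, 16, 17, 20, 7, 15, 10], [0, 8, 4, 3, 2, 5, 6, 21, 1, 12, 23, 11, 9, 13, 14, 22, 18, 19, 16, 17, 20, 7, 15, 10]),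
    ([0, 4, 8, 13, 1, 11, 6, 21, 2, 9, 19, 5, 12, 3, 14, 15, 18, 23, 16, 10, 20, 7, 22, 17], [0, 4, 8, 13, 1, 11, 6, 21, 2, 9, 19, 5, 12, 3, 14, 15, 18, 23, 16, 10, 20, 7, 22, 17]),
    ([0, 8, 2, 13, 4, 5, 6, 15, 1, 16, 10, 11, 18, 3, 20, 7, 9, 19, 12, 17, 14, 22, 21, 23], [0, 8, 2, 13, 4, 5, 6, 15, 1, 16, 10, 11, 18, 3, 20, 7, 9, 19, 12, 17, 14, 22, 21, 23]),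
    ([0, 9, 16, 3, 18, 20, 6, 23, 12, 8, 7, 14, 1, 13, 11, 19, 4, 15, 2, 22, 5, 10, 17, 21], [0, 12, 18, 3, 16, 20, 6, 10, 9, 1, 21, 14, 8, 13, 11, 17, 2, 22, 4, 15, 5, 23, 19, 7])]
  el := sylEl11
  par := sylPar11
  nxt := sylNxt11
  col := [[16, 2, 2, 8, 2, 4, 16, 2, 2, 2, 2, 4, 2, 8, 4, 2, 2, 2, 2, 2, 4, 2, 2, 2],
    [2, 2, 1, 1, 1, 2, 2, 1, 2, 1, 1, 2, 1, 1, 1, 1, 1, 2, 1, 2, 1, 1, 1, 1],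
    [2, 1, 2, 1, 2, 2, 2, 1, 1, 1, 2, 2, 1, 1, 1, 1, 1, 1, 1, 1, 1, 1, 1, 2],
    [8, 1, 1, 8, 1, 2, 8, 1, 1, 1, 1, 2, 1, 8, 2, 1, 1, 1, 1, 1, 2, 1, 1, 1],
    [2, 1, 2, 1, 2, 2, 2, 1, 1, 1, 2, 2, 1, 1, 1, 1, 1, 1, 1, 1, 1, 1, 1, 2],
    [4, 2, 2, 2, 2, 4, 4, 1, 2, 1, 2, 4, 1, 2, 2, 1, 1, 2, 1, 2, 2, 1, 1, 2],
    [16, 2, 2, 8, 2, 4, 16, 2, 2, 2, 2, 4, 2, 8, 4, 2, 2, 2, 2, 2, 4, 2, 2, 2],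
    [2, 1, 1, 1, 1, 1, 2, 2, 1, 1, 1, 1, 1, 1, 2, 1, 2, 1, 2, 1, 2, 2, 1, 1],
    [2, 2, 1, 1, 1, 2, 2, 1, 2, 1, 1, 2, 1, 1, 1, 1, 1, 2, 1, 2, 1, 1, 1, 1],
    [2, 1, 1, 1, 1, 1, 2, 1, 1, 2, 1, 1, 2, 1, 2, 2, 1, 1, 1, 1, 2, 1, 2, 1],
    [2, 1, 2, 1, 2, 2, 2, 1, 1, 1, 2, 2, 1, 1, 1, 1, 1, 1, 1, 1, 1, 1, 1, 2],
    [4, 2, 2, 2, 2, 4, 4, 1, 2, 1, 2, 4, 1, 2, 2, 1, 1, 2, 1, 2, 2, 1, 1, 2],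
    [2, 1, 1, 1, 1, 1, 2, 1, 1, 2, 1, 1, 2, 1, 2, 2, 1, 1, 1, 1, 2, 1, 2, 1],
    [8, 1, 1, 8, 1, 2, 8, 1, 1, 1, 1, 2, 1, 8, 2, 1, 1, 1, 1, 1, 2, 1, 1, 1],
    [4, 1, 1, 2, 1, 2, 4, 2, 1, 2, 1, 2, 2, 2, 4, 2, 2, 1, 2, 1, 4, 2, 2, 1],
    [2, 1, 1, 1, 1, 1, 2, 1, 1, 2, 1, 1, 2, 1, 2, 2, 1, 1, 1, 1, 2, 1, 2, 1],
    [2, 1, 1, 1, 1, 1, 2, 2, 1, 1, 1, 1, 1, 1, 2, 1, 2, 1, 2, 1, 2, 2, 1, 1],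
    [2, 2, 1, 1, 1, 2, 2, 1, 2, 1, 1, 2, 1, 1, 1, 1, 1, 2, 1, 2, 1, 1, 1, 1],
    [2, 1, 1, 1, 1, 1, 2, 2, 1, 1, 1, 1, 1, 1, 2, 1, 2, 1, 2, 1, 2, 2, 1, 1],
    [2, 2, 1, 1, 1, 2, 2, 1, 2, 1, 1, 2, 1, 1, 1, 1, 1, 2, 1, 2, 1, 1, 1, 1],
    [4, 1, 1, 2, 1, 2, 4, 2, 1, 2, 1, 2, 2, 2, 4, 2, 2, 1, 2, 1, 4, 2, 2, 1],
    [2, 1, 1, 1, 1, 1, 2, 2, 1, 1, 1, 1, 1, 1, 2, 1, 2, 1, 2, 1, 2, 2, 1, 1],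
    [2, 1, 1, 1, 1, 1, 2, 1, 1, 2, 1, 1, 2, 1, 2, 2, 1, 1, 1, 1, 2, 1, 2, 1],
    [2, 1, 2, 1, 2, 2, 2, 1, 1, 1, 2, 2, 1, 1, 1, 1, 1, 1, 1, 1, 1, 1, 1, 2]]
  steps := [(([0, 13, 2, 9, 8, 15, 12, 17, 3, 4, 7, 20, 1, 6, 22, 5, 16, 19, 18, 10, 14, 23, 11, 21], [0, 12, 2, 8, 9, 15, 13, 10, 4, 3, 19, 22, 6, 1, 20, 5, 16, 7, 18, 17, 11, 23, 14, 21]), [0]),
    (([0, 3, 8, 12, 13, 7, 6, 22, 1, 4, 14, 15, 2, 18, 23, 5, 9, 17, 16, 20, 10, 21, 11, 19], [0, 8, 12, 1, 9, 15, 6, 5, 2, 16, 20, 22, 3, 4, 10, 11, 18, 17, 13, 23, 19, 21, 7, 14]), [1]),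
    (([0, 18, 2, 13, 4, 5, 3, 10, 16, 1, 15, 20, 8, 6, 11, 7, 12, 17, 9, 19, 14, 23, 21, 22], [0, 9, 2, 6, 4, 5, 13, 15, 12, 18, 7, 14, 16, 3, 20, 10, 8, 17, 1, 19, 11, 22, 23, 21]), [1, 2])]

end Cfsg.Agent.Golay
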