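import Cfsg.Agent.Lib.Golay.OutSmallSpec
import Cfsg.Agent.Lib.Golay.Orbit
import Cfsg.Agent.Lib.Fusion.Simple
import Cfsg.Agent.Lib.Local.PGroup

/-!
Sylow 2-subgroups of coloured groups of the code given by tables, and their fusion systems.
-/

set_option autoImplicit false

namespace Cfsg.Agent.Golay

open Cfsg

/-- The tables of a 2-subgroup: generators (the first one central), the elements with a parent certificate,
the colours of pairs of positions, and conjugation steps producing the generators from the first one. -/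
structure SylData where
  known : List Tab
  el : List (List ℕ)
  par : List (ℕ × ℕ)
  nxt : List (List ℕ)
  col : List (List ℕ)
  steps : List (Tab × List ℕ)

namespace SylData

variable (d : SylData) (cls : Fin 24 → ℕ)

def gen (k : ℕ) : Tab := d.known.getD k ([], [])

def elem (i : ℕ) : List ℕ := d.el.getD i []

/-- Two tables give the same function. -/
def sameFn (f g : Fin 24 → Fin 24) : Bool := (List.finRange 24).all fun x => f x == g x

/-- Two tables give the same values on the base. -/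
def sameBase (f g : Fin 24 → Fin 24) : Bool := (List.range 7).all fun i => f (bpt i) == g (bpt i)

/-- The composite of the generators of a word. -/
def wordFn : List ℕ → Fin 24 → Fin 24
  | [], x => x
  | k :: w, x => tabFn (d.gen k).1 (wordFn w x)

def colAt (a b : Fin 24) : ℕ := (d.col.getD a.val []).getD b.val 0

def GenOk : Prop :=
  (∀ T ∈ d.known, TabMem cls T) ∧ d.el ≠ [] ∧ (∀ x : Fin 24, tabFn (d.elem 0) x = x)

def NextOk : Prop :=
  d.nxt.length = d.el.length ∧
  ∀ q ∈ d.el.zip d.nxt, q.2.length = d.known.length ∧ ∀ r ∈ d.known.zip q.2,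
    r.2 < d.el.length ∧ sameBase (fun x => tabFn q.1 (tabFn r.1.1 x)) (tabFn (d.elem r.2)) = true

def ParOk : Prop :=
  d.par.length = d.el.length ∧
  ∀ q ∈ (d.el.zip d.par).zipIdx, q.2 = 0 ∨ (q.1.2.1 < q.2 ∧ q.1.2.2 < d.known.length ∧
    sameFn (tabFn q.1.1) (fun x => tabFn (d.elem q.1.2.1) (tabFn (d.gen q.1.2.2).1 x)) = true)

/-- The first seven values as one number. -/
def key (l : List ℕ) : ℕ := (List.range 7).foldl (fun a i => 24 * a + (tabFn l (bpt i)).val) 0

def InjOk : Prop := distinctB 33 (d.el.map key) = true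

def CenterOk : Prop :=
  (d.el.all fun l => !(d.known.all fun T => sameFn (fun x => tabFn l (tabFn T.1 x)) (fun x => tabFn T.1 (tabFn l x)))
    || sameFn (tabFn l) (fun x => x) || sameFn (tabFn l) (tabFn (d.gen 0).1)) = true

def colRow (F : List (List ℕ)) (a : Fin 24) : Bool :=
  (List.finRange 24).all fun b => F.countP (fun l => tabFn l b == b) == d.colAt a b

def ColOk : Prop :=
  ((List.finRange 24).all fun a => d.colRow (d.el.filter fun l => tabFn l a == a) a) = true

def StepsOk : Prop :=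
  d.steps.length + 1 = d.known.length ∧
  ∀ n : Fin d.steps.length, TabMem cls (d.steps.getD n.val (([], []), [])).1 ∧
    (∀ k ∈ (d.steps.getD n.val (([], []), [])).2, k ≤ n.val) ∧
    sameFn (fun x => tabFn (d.gen (n.val + 1)).1 (tabFn (d.steps.getD n.val (([], []), [])).1.1 x))
      (fun x => tabFn (d.steps.getD n.val (([], []), [])).1.1
        (d.wordFn (d.steps.getD n.val (([], []), [])).2 x)) = true

/-- The image of the next base point is least among those reachable by listed elements fixing the previous ones. -/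
def minOk (i : ℕ) (g : Fin 24 → Fin 24) : Bool :=
  d.el.all fun l => !((List.range i).all fun j => tabFn l (g (bpt j)) == g (bpt j)) ||
    decide ((g (bpt i)).val ≤ (tabFn l (g (bpt i))).val)

/-- Pruning for the normaliser search. -/
def normOk (i : ℕ) (g : Fin 24 → Fin 24) : Bool :=
  cls (g (bpt i)) == cls (bpt i) &&
    ((List.range (i + 1)).all fun j => d.colAt (g (bpt i)) (g (bpt j)) == d.colAt (bpt i) (bpt j)) &&
    d.minOk i g

/-- The leaves of the normaliser search. -/
def normLeaf (f : Fin 24 → Fin 24) : Bool :=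
  d.el.any (fun l => sameFn f (tabFn l)) ||
    !((List.finRange 24).all (fun i => cls (f i) == cls i) &&
      d.known.all fun T => d.el.any fun l => sameFn (fun x => f (tabFn T.1 x)) (fun x => tabFn l (f x)))

theorem sameFn_iff {f g : Fin 24 → Fin 24} : sameFn f g = true ↔ ∀ x, f x = g x := by
  simp [sameFn, List.all_eq_true, beq_iff_eq]

/-- The subgroup of the data. -/
def grp : Subgroup (Equiv.Perm GolayPt) := Subgroup.closure {σ | ∃ T ∈ d.known, σ = tperm T}

structure Ok : Prop where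
  gens : d.GenOk cls
  next : d.NextOk
  par : d.ParOk
  inj : d.InjOk
  center : d.CenterOk
  col : d.ColOk
  steps : d.StepsOk cls
  srch : dfs (d.normOk cls) (d.normLeaf cls) 7 0 (fun i => i) = true

variable {d cls}

theorem gen_mem_known {k : ℕ} (hk : k < d.known.length) : d.gen k ∈ d.known := by
  rw [gen, List.getD_eq_getElem _ _ hk]; exact List.getElem_mem _

theorem tperm_gen_mem {k : ℕ} (hk : k < d.known.length) : tperm (d.gen k) ∈ d.grp :=
  Subgroup.subset_closure ⟨_, gen_mem_known hk, rfl⟩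

theorem fn_gen (h : d.Ok cls) {k : ℕ} (hk : k < d.known.length) :
    fn (tperm (d.gen k)) = tabFn (d.gen k).1 :=
  funext (fn_tperm (h.gens.1 _ (gen_mem_known hk)).1)

theorem grp_le (h : d.Ok cls) : d.grp ≤ clsGroup cls := by
  refine (Subgroup.closure_le _).mpr ?_
  rintro _ ⟨T, hT, rfl⟩
  exact tperm_mem (h.gens.1 T hT)

theorem elem_mem_el {i : ℕ} (hi : i < d.el.length) : d.elem i ∈ d.el := by
  rw [elem, List.getD_eq_getElem _ _ hi]; exact List.getElem_mem _

theorem base_ext {σ τ : Equiv.Perm GolayPt} (hσ : σ ∈ M24) (hτ : τ ∈ M24)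
    (h : ∀ i < 7, fn σ (bpt i) = fn τ (bpt i)) : σ = τ := by
  have h7 : τ⁻¹ * σ ∈ chain 7 := by
    refine ⟨mul_mem (inv_mem hτ) hσ, fun i hi => idx_injective' ?_⟩
    show fn (τ⁻¹ * σ) (bpt i) = idx (pt (bpt i))
    rw [idx_pt, fn_mul, h i hi, ← fn_mul, inv_mul_cancel, fn_one]
  rw [chain_seven, Subgroup.mem_bot] at h7
  exact (inv_mul_eq_one.mp h7).symm

theorem exists_perm (h : d.Ok cls) : ∀ i < d.el.length, ∃ σ ∈ d.grp, fn σ = tabFn (d.elem i) := by
  intro i
  induction i using Nat.strong_induction_on with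
  | _ i ih =>
    intro hi
    rcases Nat.eq_zero_or_pos i with rfl | hpos
    · exact ⟨1, one_mem _, funext fun x => by rw [fn_one, h.gens.2.2 x]⟩
    have hi' : i < d.par.length := h.par.1.symm ▸ hi
    have hz : (((d.el[i], d.par[i]) : List ℕ × ℕ × ℕ), i) ∈ (d.el.zip d.par).zipIdx :=
      List.mem_zipIdx_iff_getElem?.mpr (by simp [List.getElem?_zip_eq_some, hi, hi'])
    rcases h.par.2 _ hz with h0 | ⟨hp, hk, hs⟩
    · simp only at h0; omega
    obtain ⟨σ, hσ, e⟩ := ih _ hp (lt_trans hp hi)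
    refine ⟨σ * tperm (d.gen (d.par[i]).2), mul_mem hσ (tperm_gen_mem hk), funext fun x => ?_⟩
    rw [fn_mul, fn_gen h hk, e, elem, elem, List.getD_eq_getElem _ _ hi]
    exact (sameFn_iff.mp hs x).symm

theorem exists_elem {σ : Equiv.Perm GolayPt} (h : d.Ok cls) (hσ : σ ∈ d.grp) :
    ∃ i < d.el.length, fn σ = tabFn (d.elem i) := by
  suffices hP : σ ∈ d.grp ∧ ∃ i < d.el.length, fn σ = tabFn (d.elem i) from hP.2
  let P : Equiv.Perm GolayPt → Prop := fun σ => σ ∈ d.grp ∧ ∃ i < d.el.length, fn σ = tabFn (d.elem i)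
  have hstep : ∀ σ, P σ → ∀ T ∈ d.known, P (σ * tperm T) := by
    rintro σ ⟨hσg, i, hi, e⟩ T hT
    obtain ⟨k, hk, rfl⟩ := List.getElem_of_mem hT
    have hi' : i < d.nxt.length := h.next.1.symm ▸ hi
    have hz : (d.el[i], d.nxt[i]) ∈ d.el.zip d.nxt :=
      List.mem_iff_getElem.mpr ⟨i, by simp [List.length_zip]; exact ⟨hi, hi'⟩, by simp⟩
    obtain ⟨hl, hr⟩ := h.next.2 _ hz
    have hk' : k < d.nxt[i].length := hl.symm ▸ hk
    have hzz : (d.known[k], d.nxt[i][k]) ∈ d.known.zip d.nxt[i] :=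
      List.mem_iff_getElem.mpr ⟨k, by simp [List.length_zip]; exact ⟨hk, hk'⟩, by simp⟩
    obtain ⟨hj, hs⟩ := hr _ hzz
    have hTg := Subgroup.subset_closure (k := {σ | ∃ T ∈ d.known, σ = tperm T}) ⟨_, hT, rfl⟩
    obtain ⟨τ, hτ, eτ⟩ := exists_perm h _ hj
    have heq : σ * tperm d.known[k] = τ := by
      refine base_ext ((grp_le h (mul_mem hσg hTg)).1) ((grp_le h hτ).1) fun b hb => ?_
      rw [fn_mul, fn_tperm (h.gens.1 _ hT).1, e, eτ, elem, List.getD_eq_getElem _ _ hi]
      simp only [sameBase, List.all_eq_true, List.mem_range, beq_iff_eq] at hs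
      exact hs b hb
    exact ⟨mul_mem hσg hTg, _, hj, heq ▸ eτ⟩
  have hone : P 1 := ⟨one_mem _, 0, List.length_pos_iff.mpr h.gens.2.1, funext fun x => by rw [fn_one, h.gens.2.2 x]⟩
  refine Subgroup.closure_induction_right (p := fun σ _ => P σ) hone ?_ ?_ hσ
  · rintro x _ y ⟨T, hT, rfl⟩ hx
    exact hstep x hx T hT
  · rintro x _ y ⟨T, hT, rfl⟩ hx
    have hpow : ∀ n : ℕ, P (x * tperm T ^ n) := by
      intro n
      induction n with
      | zero => simpa using hx
      | succ n ih => rw [pow_succ, ← mul_assoc]; exact hstep _ ih T hT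
    have e : (tperm T)⁻¹ = tperm T ^ (orderOf (tperm T) - 1) := by
      refine inv_eq_of_mul_eq_one_right ?_
      rw [← pow_succ', Nat.sub_add_cancel (orderOf_pos _), pow_orderOf_eq_one]
    rw [e]; exact hpow _

/-- The listed element as a member of the subgroup. -/
noncomputable def enum (h : d.Ok cls) (i : Fin d.el.length) : ↥d.grp :=
  ⟨(exists_perm h i.val i.isLt).choose, (exists_perm h i.val i.isLt).choose_spec.1⟩

theorem fn_enum (h : d.Ok cls) (i : Fin d.el.length) : fn (enum h i).1 = tabFn (d.elem i.val) :=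
  (exists_perm h i.val i.isLt).choose_spec.2

theorem enum_bij (h : d.Ok cls) : Function.Bijective (enum h) := by
  constructor
  · intro i j e
    have e' := fn_enum h i
    rw [e, fn_enum h j] at e'
    have hk : key (d.elem i.val) = key (d.elem j.val) := by unfold key; rw [e']
    refine Fin.ext (((distinctB_sound _ _ h.inj).getElem_inj_iff (hi := by simp) (hj := by simp)).mp ?_)
    simpa [elem, List.getD_eq_getElem _ _ i.isLt, List.getD_eq_getElem _ _ j.isLt] using hk
  · rintro ⟨σ, hσ⟩
    obtain ⟨i, hi, e⟩ := exists_elem h hσ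
    refine ⟨⟨i, hi⟩, Subtype.ext (fn_ext fun x => ?_)⟩
    rw [fn_enum h, e]

theorem card_grp (h : d.Ok cls) : Nat.card ↥d.grp = d.el.length := by
  rw [← Nat.card_eq_of_bijective _ (enum_bij h), Nat.card_fin]

theorem col_eq (h : d.Ok cls) (a b : Fin 24) :
    d.el.countP (fun l => tabFn l a == a && tabFn l b == b) = d.colAt a b := by
  have h1 := h.col
  rw [ColOk, List.all_eq_true] at h1
  have h2 := h1 a (List.mem_finRange a)
  rw [colRow, List.all_eq_true] at h2
  rw [← beq_iff_eq.mp (h2 b (List.mem_finRange b)), List.countP_filter]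
  exact List.countP_congr fun l _ => by simp [and_comm]

theorem card_fix (h : d.Ok cls) (a b : Fin 24) :
    Nat.card {τ : ↥d.grp // fn τ.1 a = a ∧ fn τ.1 b = b} = d.colAt a b := by
  rw [← col_eq h a b]
  have e : d.el = (List.finRange d.el.length).map d.el.get := by rw [← List.ofFn_eq_map]; exact (List.ofFn_get _).symm
  conv_rhs => rw [e, List.countP_map]
  rw [← Nat.card_congr (Equiv.subtypeEquiv (p := fun i => fn (enum h i).1 a = a ∧ fn (enum h i).1 b = b)
    (Equiv.ofBijective _ (enum_bij h)) (fun i => Iff.rfl)), Nat.card_eq_fintype_card, Fintype.card_subtype]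
  rw [List.countP_eq_length_filter]
  have hf : (Finset.univ.filter fun i : Fin d.el.length => fn (enum h i).1 a = a ∧ fn (enum h i).1 b = b) =
      ((List.finRange d.el.length).filter ((fun l => tabFn l a == a && tabFn l b == b) ∘ d.el.get)).toFinset := by
    ext i
    simp [fn_enum h, elem, List.getD_eq_getElem _ _ i.isLt, List.mem_toFinset, List.mem_filter]
  rw [hf, List.toFinset_card_of_nodup ((List.nodup_finRange _).filter _)]

theorem horner_lt (x y : ℕ → ℕ) (hy : ∀ j, y j < 24) {i n : ℕ} (hin : i < n) (heq : ∀ j < i, x j = y j)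
    (hlt : y i < x i) : (List.range n).foldl (fun a j => 24 * a + y j) 0 < (List.range n).foldl (fun a j => 24 * a + x j) 0 := by
  induction n with
  | zero => omega
  | succ n ih =>
    rw [List.range_succ, List.foldl_append, List.foldl_append]
    simp only [List.foldl_cons, List.foldl_nil]
    rcases Nat.lt_succ_iff_lt_or_eq.mp hin with h | rfl
    · have := ih h
      have := hy n
      omega
    · have e : (List.range i).foldl (fun a j => 24 * a + y j) 0 = (List.range i).foldl (fun a j => 24 * a + x j) 0 := by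
        refine List.foldl_ext _ _ _ fun a j hj => ?_
        rw [heq j (List.mem_range.mp hj)]
      omega

/-- The values of a permutation on the base as one number. -/
def permKey (σ : Equiv.Perm GolayPt) : ℕ :=
  (List.range 7).foldl (fun a j => 24 * a + (fn σ (bpt j)).val) 0

theorem normal_min (h : d.Ok cls) {σ : Equiv.Perm GolayPt} (hσ : σ ∈ clsGroup cls)
    (hn : ∀ x, x ∈ d.grp ↔ σ * x * σ⁻¹ ∈ d.grp) (hmin : ∀ τ ∈ d.grp, permKey σ ≤ permKey (τ * σ)) :
    σ ∈ d.grp := by
  have hcol : ∀ a b, d.colAt (fn σ a) (fn σ b) = d.colAt a b := by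
    intro a b
    rw [← card_fix h, ← card_fix h]
    refine (Nat.card_congr (Equiv.subtypeEquiv
      { toFun := fun x => ⟨σ * x.1 * σ⁻¹, (hn _).mp x.2⟩
        invFun := fun x => ⟨σ⁻¹ * x.1 * σ, (hn _).mpr (by simpa [mul_assoc] using x.2)⟩
        left_inv := fun x => Subtype.ext (show σ⁻¹ * (σ * x.1 * σ⁻¹) * σ = x.1 by simp [mul_assoc])
        right_inv := fun x => Subtype.ext (show σ * (σ⁻¹ * x.1 * σ) * σ⁻¹ = x.1 by simp [mul_assoc]) } fun x => ?_)).symm
    have e : ∀ c, fn (σ * x.1 * σ⁻¹) (fn σ c) = fn σ (fn x.1 c) := fun c => by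
      rw [← fn_mul, ← fn_mul, inv_mul_cancel_right]
    show _ ↔ fn (σ * x.1 * σ⁻¹) (fn σ a) = fn σ a ∧ fn (σ * x.1 * σ⁻¹) (fn σ b) = fn σ b
    rw [e, e, (fn_inj σ).eq_iff, (fn_inj σ).eq_iff]
  have hok : ∀ i < 7, ∀ g : Fin 24 → Fin 24, (∀ j ≤ i, g (bpt j) = fn σ (bpt j)) → d.normOk cls i g = true := by
    intro i hi g hg
    simp only [normOk, Bool.and_eq_true, beq_iff_eq, List.all_eq_true, List.mem_range, minOk, Bool.or_eq_true,
      Bool.not_eq_true', decide_eq_true_iff]
    refine ⟨⟨by rw [hg i le_rfl, hσ.2], fun j hj => ?_⟩, fun l hl => ?_⟩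
    · rw [hg i le_rfl, hg j (by omega), hcol]
    · obtain ⟨k, hk, rfl⟩ := List.getElem_of_mem hl
      obtain ⟨τ, hτ, e⟩ := exists_perm h k hk
      rw [or_iff_not_imp_left]
      intro hall
      have hall' : ∀ j < i, fn τ (fn σ (bpt j)) = fn σ (bpt j) := by
        intro j hj
        by_contra hne
        refine hall (List.all_eq_false.mpr ⟨j, List.mem_range.mpr hj, ?_⟩)
        rw [hg j hj.le, beq_iff_eq]
        rwa [e, elem, List.getD_eq_getElem _ _ hk] at hne
      by_contra hlt
      rw [not_le, hg i le_rfl] at hlt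
      have := hmin τ hτ
      refine absurd this (not_le.mpr ?_)
      refine horner_lt (fun j => (fn σ (bpt j)).val) (fun j => (fn (τ * σ) (bpt j)).val) (fun j => Fin.isLt _)
        (i := i) (by assumption) (fun j hj => ?_) ?_
      · simp only [fn_mul, hall' j hj]
      · simp only [fn_mul, e, elem, List.getD_eq_getElem _ _ hk]
        exact hlt
  have hleaf := dfs_sound (d.normOk cls) (d.normLeaf cls) (σ := σ) hok 7 0 rfl 1
    (by rw [inv_one, one_mul, chain_zero]; exact hσ.1)
    (by rw [show fn 1 = fun i => i from funext fn_one]; exact h.srch)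
  simp only [normLeaf, Bool.or_eq_true, List.any_eq_true, Bool.not_eq_true'] at hleaf
  rcases hleaf with ⟨l, hl, hs⟩ | hneg
  · obtain ⟨i, hi, rfl⟩ := List.getElem_of_mem hl
    obtain ⟨τ, hτ, e⟩ := exists_perm h i hi
    have : σ = τ := fn_ext fun x => by
      rw [e, elem, List.getD_eq_getElem _ _ hi]; exact sameFn_iff.mp hs x
    rwa [this]
  · exfalso
    rw [Bool.and_eq_false_iff] at hneg
    rcases hneg with hneg | hneg
    · rw [List.all_eq_false] at hneg
      obtain ⟨i, -, hi⟩ := hneg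
      exact hi (beq_iff_eq.mpr (hσ.2 i))
    · rw [List.all_eq_false] at hneg
      obtain ⟨T, hT, hno⟩ := hneg
      refine hno (List.any_eq_true.mpr ?_)
      obtain ⟨i, hi, e⟩ := exists_elem h ((hn _).mp (Subgroup.subset_closure ⟨T, hT, rfl⟩))
      refine ⟨d.elem i, elem_mem_el hi, sameFn_iff.mpr fun x => ?_⟩
      rw [← fn_tperm (h.gens.1 T hT).1, ← e, ← fn_mul, ← fn_mul, inv_mul_cancel_right]

theorem exists_min_image_grp (h : d.Ok cls) (σ : Equiv.Perm GolayPt) :
    ∃ τ : ↥d.grp, ∀ ρ : ↥d.grp, permKey (τ.1 * σ) ≤ permKey (ρ.1 * σ) := by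
  haveI : Finite ↥d.grp := Finite.of_surjective _ (enum_bij h).2
  exact Finite.exists_min fun τ : ↥d.grp => permKey (τ.1 * σ)

theorem normal_self (h : d.Ok cls) {σ : Equiv.Perm GolayPt} (hσ : σ ∈ clsGroup cls)
    (hn : ∀ x, x ∈ d.grp ↔ σ * x * σ⁻¹ ∈ d.grp) : σ ∈ d.grp := by
  classical
  obtain ⟨⟨τ, hτ⟩, hmin⟩ := exists_min_image_grp h σ
  have hm := normal_min h (σ := τ * σ) (mul_mem (grp_le h hτ) hσ) (fun x => ?_) (fun ρ hρ => ?_)
  · have := mul_mem (inv_mem hτ) hm
    rwa [inv_mul_cancel_left] at this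
  · rw [hn x]
    constructor
    · intro hx
      have := mul_mem (mul_mem hτ hx) (inv_mem hτ)
      simpa [mul_assoc] using this
    · intro hx
      have := mul_mem (mul_mem (inv_mem hτ) hx) hτ
      simpa [mul_assoc] using this
  · rw [← mul_assoc]
    exact hmin ⟨ρ * τ, mul_mem hρ hτ⟩

theorem center_eq (h : d.Ok cls) {σ : Equiv.Perm GolayPt} (hσ : σ ∈ d.grp)
    (hc : ∀ τ ∈ d.grp, σ * τ = τ * σ) (h1 : σ ≠ 1) : σ = tperm (d.gen 0) := by
  obtain ⟨i, hi, e⟩ := exists_elem h hσ
  have hz := h.center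
  rw [CenterOk, List.all_eq_true] at hz
  have hlen : 0 < d.known.length := by have := h.steps.1; omega
  simp only [Bool.or_eq_true, Bool.not_eq_true', or_assoc] at hz
  rcases hz _ (elem_mem_el hi) with hz | hz | hz
  · exfalso
    rw [List.all_eq_false] at hz
    obtain ⟨T, hT, hno⟩ := hz
    refine hno (sameFn_iff.mpr fun x => ?_)
    rw [← e, ← fn_tperm (h.gens.1 T hT).1, ← fn_tperm (h.gens.1 T hT).1, ← fn_mul, ← fn_mul,
      hc _ (Subgroup.subset_closure ⟨T, hT, rfl⟩)]
  · exact absurd (fn_ext fun x => by rw [e, fn_one]; exact sameFn_iff.mp hz x) h1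
  · exact fn_ext fun x => by rw [e, fn_gen h hlen]; exact sameFn_iff.mp hz x

/-- Closed subgroups of the data subgroup are trivial or the whole. -/
theorem closed_eq (h : d.Ok cls) (h2 : IsPGroup 2 ↥d.grp) (T : Subgroup (Equiv.Perm GolayPt)) (hT : T ≤ d.grp)
    (hcl : ∀ x ∈ T, ∀ g ∈ clsGroup cls, g * x * g⁻¹ ∈ d.grp → g * x * g⁻¹ ∈ T) (hT1 : T ≠ ⊥) :
    T = d.grp := by
  haveI : Fact (Nat.Prime 2) := ⟨Nat.prime_two⟩
  set N := T.subgroupOf d.grp with hN
  haveI : N.Normal := ⟨fun x hx g => Subgroup.mem_subgroupOf.mpr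
    (hcl _ (Subgroup.mem_subgroupOf.mp hx) _ (grp_le h g.2) (g * x * g⁻¹).2)⟩
  have hN1 : N ≠ ⊥ := fun e => hT1 (by
    rw [← Subgroup.map_subgroupOf_eq_of_le hT, ← hN, e, Subgroup.map_bot])
  obtain ⟨⟨σ, hσ⟩, hs, hne⟩ := Subgroup.bot_or_exists_ne_one (N ⊓ Subgroup.center ↥d.grp) |>.resolve_left
    (Local.inf_center_ne_bot h2 N hN1)
  have hz : tperm (d.gen 0) ∈ T := by
    rw [← center_eq h hσ (fun τ hτ => congrArg Subtype.val (Subgroup.mem_center_iff.mp hs.2 ⟨τ, hτ⟩).symm)
      (fun e => hne (Subtype.ext e))]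
    exact Subgroup.mem_subgroupOf.mp hs.1
  have hlen := h.steps.1
  have hall : ∀ k < d.known.length, tperm (d.gen k) ∈ T := by
    intro k
    induction k using Nat.strong_induction_on with
    | _ k ih =>
      intro hk
      rcases k with _ | n
      · exact hz
      obtain ⟨hw, hle, hs⟩ := h.steps.2 ⟨n, by omega⟩
      set W := (d.steps.getD n (([], []), [])).1 with hW
      set wd := (d.steps.getD n (([], []), [])).2 with hwd
      have hword : ∀ l : List ℕ, (∀ j ∈ l, j ≤ n) → ∃ x ∈ T, fn x = d.wordFn l := by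
        intro l
        induction l with
        | nil => exact fun _ => ⟨1, one_mem _, funext fun x => by rw [fn_one]; rfl⟩
        | cons j l ihl =>
          intro hl
          obtain ⟨x, hx, e⟩ := ihl fun i hi => hl i (List.mem_cons_of_mem _ hi)
          have hj := hl j List.mem_cons_self
          refine ⟨tperm (d.gen j) * x, mul_mem (ih j (by omega) (by omega)) hx, funext fun y => ?_⟩
          rw [fn_mul, fn_gen h (by omega), e]; rfl
      obtain ⟨x, hx, e⟩ := hword wd hle
      have hWc := tperm_mem hw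
      have eq : tperm W * x * (tperm W)⁻¹ = tperm (d.gen (n + 1)) := by
        rw [mul_inv_eq_iff_eq_mul]
        refine fn_ext fun y => ?_
        rw [fn_mul, fn_mul, fn_tperm hw.1, fn_tperm hw.1, fn_gen h hk, e]
        exact (sameFn_iff.mp hs y).symm
      rw [← eq]
      exact hcl x hx _ hWc (eq.symm ▸ tperm_gen_mem hk)
  refine le_antisymm hT ((Subgroup.closure_le _).mpr ?_)
  rintro _ ⟨T', hT', rfl⟩
  obtain ⟨k, hk, rfl⟩ := List.getElem_of_mem hT'
  have := hall k hk
  rwa [gen, List.getD_eq_getElem _ _ hk] at this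

theorem fusion_simple (h : d.Ok cls) {v m : ℕ} (hlen : d.el.length = 2 ^ v) (hv : v ≠ 0)
    (hcard : Nat.card (clsGroup cls) = 2 ^ v * (2 * m + 1)) (S : Sylow 2 ↥(clsGroup cls)) :
    (Cfsg.groupFusionSystem (S : Subgroup ↥(clsGroup cls))).IsSimple 2 := by
  classical
  haveI : Fact (Nat.Prime 2) := ⟨Nat.prime_two⟩
  revert S
  set H := clsGroup cls with hH
  intro S
  set S0 : Subgroup ↥H := d.grp.subgroupOf H with hS0
  have hc0 : Nat.card ↥S0 = 2 ^ v := by
    rw [Nat.card_congr (Subgroup.subgroupOfEquivOfLe (grp_le h)).toEquiv, card_grp h, hlen]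
  have hfac : (Nat.card ↥H).factorization 2 = v := by
    rw [hcard, Nat.factorization_mul (by positivity) (by omega), Finsupp.add_apply,
      Nat.factorization_eq_zero_of_not_dvd (n := 2 * m + 1) (by omega),
      Nat.Prime.factorization_pow Nat.prime_two, Finsupp.single_eq_same, add_zero]
  have h2 : IsPGroup 2 ↥d.grp := IsPGroup.of_card ((card_grp h).trans hlen)
  let PS : Sylow 2 ↥H := Sylow.ofCard S0 (by rw [hc0, hfac])
  obtain ⟨a, ha⟩ := MulAction.exists_smul_eq ↥H PS S
  have hmem : ∀ x : ↥H, x ∈ (S : Subgroup ↥H) ↔ ((a⁻¹ * x * a : ↥H) : Equiv.Perm GolayPt) ∈ d.grp := by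
    intro x
    rw [← ha, Sylow.coe_subgroup_smul, Subgroup.mem_pointwise_smul_iff_inv_smul_mem]
    show (MulAut.conj a)⁻¹ • x ∈ S0 ↔ _
    rw [hS0, Subgroup.mem_subgroupOf]
    simp [MulAut.smul_def, MulAut.conj_inv_apply]
  have hS1 : (S : Subgroup ↥H) ≠ ⊥ := by
    intro e
    have := S.card_eq_multiplicity
    rw [e, Subgroup.card_bot, hfac] at this
    exact absurd this (Nat.one_lt_two_pow hv).ne
  refine Fusion.isSimple_of_inn S.isPGroup' (Fusion.isSaturated_groupFusionSystem S) hS1 ?_ ?_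
  · rw [Fusion.autGroup_groupFusionSystem le_rfl]
    ext α
    rw [Fusion.mem_autInducedBy]
    constructor
    · rintro ⟨g, -, hg, he⟩
      have hgS : g ∈ (S : Subgroup ↥H) := by
        rw [hmem]
        refine normal_self h (a⁻¹ * g * a).2 fun x => ?_
        constructor
        · intro hx
          have hxH := grp_le h hx
          have h1 : a * ⟨x, hxH⟩ * a⁻¹ ∈ (S : Subgroup ↥H) := by
            rw [hmem]; simpa [mul_assoc] using hx
          have h2' := (hmem _).mp ((Subgroup.mem_normalizer_iff.mp hg _).mp h1)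
          simpa [mul_assoc] using h2'
        · intro hx
          have hxH : x ∈ H := by
            have := mul_mem (mul_mem (inv_mem (a⁻¹ * g * a).2) (grp_le h hx)) (a⁻¹ * g * a).2
            simpa [mul_assoc] using this
          have h1 : g * (a * ⟨x, hxH⟩ * a⁻¹) * g⁻¹ ∈ (S : Subgroup ↥H) := by
            rw [hmem]; simpa [mul_assoc] using hx
          have h2' := (hmem _).mp ((Subgroup.mem_normalizer_iff.mp hg _).mpr h1)
          simpa [mul_assoc] using h2'
      exact ⟨⟨g, hgS⟩, MulEquiv.ext fun x => Subtype.ext (he x).symm⟩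
    · rintro ⟨g, rfl⟩
      exact ⟨g, trivial, Subgroup.le_normalizer g.2, fun x => rfl⟩
  · intro T hT
    rw [or_iff_not_imp_left]
    intro hT1
    set T0 : Subgroup (Equiv.Perm GolayPt) :=
      (T.map (MulAut.conj a⁻¹).toMonoidHom).map H.subtype with hT0
    have hm0 : ∀ x : ↥H, (x : Equiv.Perm GolayPt) ∈ T0 ↔ a * x * a⁻¹ ∈ T := by
      intro x
      rw [hT0, Subgroup.mem_map]
      constructor
      · rintro ⟨y, hy, e⟩
        obtain ⟨t, ht, rfl⟩ := Subgroup.mem_map.mp hy
        obtain rfl : (MulAut.conj a⁻¹).toMonoidHom t = x := Subtype.ext e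
        simpa [mul_assoc] using ht
      · intro hx
        exact ⟨x, Subgroup.mem_map.mpr ⟨_, hx, by simp [mul_assoc]⟩, rfl⟩
    have hle0 : T0 ≤ d.grp := by
      intro y hy
      obtain ⟨y', -, rfl⟩ := Subgroup.mem_map.mp (hT0 ▸ hy)
      have := (hmem _).mp (hT.1 ((hm0 y').mp hy))
      simpa [mul_assoc] using this
    have hcl : ∀ y ∈ T0, ∀ g ∈ H, g * y * g⁻¹ ∈ d.grp → g * y * g⁻¹ ∈ T0 := by
      intro y hy g hg hgy
      lift y to ↥H using grp_le h (hle0 hy)
      lift g to ↥H using hg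
      have hyT := (hm0 y).mp hy
      refine (hm0 (g * y * g⁻¹)).mpr ?_
      set G' : ↥H := a * g * a⁻¹ with hG'
      set R := Subgroup.zpowers (a * y * a⁻¹) with hR
      have hRT : R ≤ T := Subgroup.zpowers_le.mpr hyT
      have hG : G' * (a * y * a⁻¹) * G'⁻¹ ∈ (S : Subgroup ↥H) := by
        rw [hmem]; simpa [hG', mul_assoc] using hgy
      have hφ : (MulAut.conj G').toMonoidHom.comp R.subtype ∈
          (Cfsg.groupFusionSystem (S : Subgroup ↥H)).Hom R := by
        refine ⟨hRT.trans hT.1, ?_, G', fun x => rfl⟩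
        rintro ⟨x, hx⟩
        show G' * x * G'⁻¹ ∈ _
        obtain ⟨n, rfl⟩ := Subgroup.mem_zpowers_iff.mp hx
        rw [← conj_zpow]
        exact zpow_mem hG n
      have := hT.2 R hRT _ hφ ⟨_, Subgroup.mem_zpowers _⟩
      simpa [hG', mul_assoc] using this
    have hne0 : T0 ≠ ⊥ := by
      obtain ⟨t, ht, ht1⟩ := (Subgroup.bot_or_exists_ne_one T).resolve_left hT1
      intro e
      have : ((a⁻¹ * t * a : ↥H) : Equiv.Perm GolayPt) ∈ T0 := (hm0 _).mpr (by simpa [mul_assoc] using ht)
      rw [e, Subgroup.mem_bot] at this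
      refine ht1 ?_
      have h1 : a⁻¹ * t * a = 1 := Subtype.ext this
      have := congrArg (fun q => a * q * a⁻¹) h1
      simpa [mul_assoc] using this
    have e := closed_eq h h2 T0 hle0 hcl hne0
    refine le_antisymm hT.1 fun x hx => ?_
    have h1 := (hmem x).mp hx
    rw [← e] at h1
    have := (hm0 _).mp h1
    simpa [mul_assoc] using this

end SylData

end Cfsg.Agent.Golay
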