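import Cfsg.Agent.Lib.Golay.SylowSpec

/-! Self-normalising Sylow 2-subgroups from the tables. -/

set_option autoImplicit false

namespace Cfsg.Agent.Golay

open Cfsg

namespace SylData

variable {d : SylData} {cls : Fin 24 → ℕ}

theorem normalizer_sylow (h : d.Ok cls) {v m : ℕ} (hlen : d.el.length = 2 ^ v) (hv : v ≠ 0)
    (hcard : Nat.card (clsGroup cls) = 2 ^ v * (2 * m + 1)) (S : Sylow 2 ↥(clsGroup cls)) :
    Subgroup.normalizer ((S : Subgroup ↥(clsGroup cls)) : Set ↥(clsGroup cls)) = (S : Subgroup ↥(clsGroup cls)) := by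
  classical
  haveI : Fact (Nat.Prime 2) := ⟨Nat.prime_two⟩
  revert S
  set H := clsGroup cls with hH
  intro S
  set S0 : Subgroup ↥H := d.grp.subgroupOf H with hS0
  have hc0 : Nat.card ↥S0 = 2 ^ v := by
    rw [Nat.card_congr (Subgroup.subgroupOfEquivOfLe (grp_le h)).toEquiv, card_grp h, hlen]
  have hfac : (Nat.card ↥H).factorization 2 = v := by
    rw [hcard, Nat.factorization_mul (by positivity) (by omega), Finsupp.add_apply,
      Nat.factorization_eq_zero_of_not_dvd (n := 2 * m + 1) (by omega),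
      Nat.Prime.factorization_pow Nat.prime_two, Finsupp.single_eq_same, add_zero]
  have h2 : IsPGroup 2 ↥d.grp := IsPGroup.of_card ((card_grp h).trans hlen)
  let PS : Sylow 2 ↥H := Sylow.ofCard S0 (by rw [hc0, hfac])
  obtain ⟨a, ha⟩ := MulAction.exists_smul_eq ↥H PS S
  have hmem : ∀ x : ↥H, x ∈ (S : Subgroup ↥H) ↔ ((a⁻¹ * x * a : ↥H) : Equiv.Perm GolayPt) ∈ d.grp := by
    intro x
    rw [← ha, Sylow.coe_subgroup_smul, Subgroup.mem_pointwise_smul_iff_inv_smul_mem]
    show (MulAut.conj a)⁻¹ • x ∈ S0 ↔ _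
    rw [hS0, Subgroup.mem_subgroupOf]
    simp [MulAut.smul_def, MulAut.conj_inv_apply]
  refine le_antisymm (fun g hg => ?_) Subgroup.le_normalizer
  have hgS : g ∈ (S : Subgroup ↥H) := by
    rw [hmem]
    refine normal_self h (a⁻¹ * g * a).2 fun x => ?_
    constructor
    · intro hx
      have hxH := grp_le h hx
      have h1 : a * ⟨x, hxH⟩ * a⁻¹ ∈ (S : Subgroup ↥H) := by
        rw [hmem]; simpa [mul_assoc] using hx
      have h2' := (hmem _).mp ((Subgroup.mem_normalizer_iff.mp hg _).mp h1)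
      simpa [mul_assoc] using h2'
    · intro hx
      have hxH : x ∈ H := by
        have := mul_mem (mul_mem (inv_mem (a⁻¹ * g * a).2) (grp_le h hx)) (a⁻¹ * g * a).2
        simpa [mul_assoc] using this
      have h1 : g * (a * ⟨x, hxH⟩ * a⁻¹) * g⁻¹ ∈ (S : Subgroup ↥H) := by
        rw [hmem]; simpa [mul_assoc] using hx
      have h2' := (hmem _).mp ((Subgroup.mem_normalizer_iff.mp hg _).mpr h1)
      simpa [mul_assoc] using h2'
  exact hgS

end SylData

theorem M24_normalizer (S : Sylow 2 Cfsg.M24) :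
    Subgroup.normalizer ((S : Subgroup Cfsg.M24) : Set Cfsg.M24) = (S : Subgroup Cfsg.M24) := by
  revert S
  rw [M24_cls]
  exact fun S => SylData.normalizer_sylow syl24_ok (v := 10) (m := 119542) (by decide +kernel) (by norm_num)
    (by rw [← M24_cls, card_M24]; norm_num) S

end Cfsg.Agent.Golay
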