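import Cfsg.Agent.Lib.Golay.SylowData24

/-!
The quotient of a Sylow 2-subgroup of the automorphism group of the length-24 code by its centre,
modelled by nine-bit codes of unitriangular matrices of size five modulo the corner entry.
-/

set_option autoImplicit false
set_option maxRecDepth 100000
set_option maxHeartbeats 1000000

namespace Cfsg.Agent.Golay.SylowQuot

open Cfsg Cfsg.Agent.Golay

def chunk0 : List ℕ := [0, 0, 128, 4, 2, 5, 345, 128, 4, 2, 5, 345, 132, 130, 133, 473, 6, 1, 285, 38, 39, 91, 23, 284, 473, 477, 331, 476, 132, 130, 133, 6, 1, 285, 38, 39, 91, 23, 284, 477, 331, 476, 134, 129, 413, 166, 167, 219, 151, 412, 349, 459, 348, 34, 35, 31, 19, 344, 413, 409, 271, 408, 36, 3, 319, 53, 318, 219, 255, 73, 254, 179, 178, 14, 412, 408, 286, 409, 349, 459, 348, 463, 344, 196, 367, 366, 274, 478, 197, 134, 129, 166, 167, 151, 34, 35, 31, 19, 271, 36, 3, 319, 53, 318, 255, 73, 254, 179, 178, 14, 286, 463, 196, 367, 366, 274, 478, 197,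 162, 163, 159, 147, 472, 281, 399, 280, 164, 131, 447, 181, 446, 127, 201, 126, 51, 50, 142, 280, 414, 281, 335, 472, 68, 495, 494, 402, 350, 69, 32, 7, 379, 49, 378, 159, 187, 13, 186, 183, 182, 74, 346, 399, 395, 192, 299, 298, 278, 410, 193, 33, 61, 17, 90, 447, 411, 301, 177, 176, 44, 446, 410, 316, 411, 127, 201, 126, 237, 90, 486, 77, 76, 272, 252, 487, 161, 22, 490, 491, 142, 42, 12, 43, 414, 193, 442, 443, 263, 395, 192, 335, 68, 495, 494, 402, 350, 69, 490, 470, 346, 198, 381, 330, 118, 364, 119, 438, 439, 378, 455, 215, 162, 163, 147, 164, 131, 181, 51, 50, 32, 7, 379, 49, 187, 13, 186, 183, 182, 74, 299, 298, 278, 33, 61, 17, 301, 177]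
def chunk1 : List ℕ := [176, 44, 316, 237, 486, 77, 76, 272, 252, 487, 161, 22, 491, 42, 12, 43, 442, 443, 263, 470, 198, 381, 330, 118, 364, 119, 438, 439, 455, 215, 160, 135, 507, 506, 59, 141, 58, 55, 54, 202, 474, 267, 64, 427, 426, 406, 282, 65, 189, 145, 218, 283, 429, 48, 172, 282, 444, 283, 109, 218, 358, 205, 204, 400, 124, 359, 150, 362, 363, 170, 140, 171, 65, 314, 315, 391, 267, 64, 362, 342, 474, 70, 509, 458, 246, 492, 247, 310, 311, 506, 327, 87, 37, 121, 21, 30, 507, 479, 361, 180, 104, 376, 479, 59, 141, 58, 169, 30, 482, 9, 8, 276, 184, 483, 165, 18, 430, 431, 202, 110, 72, 111, 510, 511, 259, 427, 426, 406, 430, 466, 194, 313, 270, 114, 296, 115, 434, 435, 451, 211, 120, 189, 185, 47, 149, 148, 328, 88, 429, 393, 450, 297, 308, 52, 232, 233, 172, 40, 46, 41, 444, 451, 440, 441, 293, 393, 450, 109, 358, 205, 204, 400, 124, 359, 232, 244, 88, 484, 95, 340, 78, 341, 404, 405, 120, 229, 501, 248, 20, 15, 462, 488, 363, 505, 462, 170,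 140, 171, 15, 371, 277, 57, 370, 314, 315, 391, 211, 287, 227, 425, 226, 291, 290, 431, 466, 194, 342, 70, 509, 458, 246, 492, 247, 310, 311, 327, 87, 488, 370, 468, 510, 511, 259, 226, 223, 504, 356, 275, 210, 116, 360, 373, 101, 210, 436, 275, 175, 421, 174, 376, 469, 482, 114, 206, 160, 135]
def chunk2 : List ℕ := [55, 54, 145, 48, 150, 37, 121, 21, 361, 180, 104, 169, 9, 8, 276, 184, 483, 165, 18, 110, 72, 111, 313, 270, 296, 115, 434, 435, 185, 47, 149, 148, 328, 297, 308, 52, 233, 40, 46, 41, 440, 441, 293, 244, 484, 95, 340, 78, 341, 404, 405, 229, 501, 248, 20, 505, 371, 277, 57, 287, 227, 425, 291, 290, 468, 223, 504, 356, 116, 360, 373, 101, 436, 175, 421, 174, 469, 206, 249, 158, 351, 489, 351, 158, 354, 137, 136, 56, 355, 146, 302, 303, 238, 200, 239, 382, 383, 387, 302, 338, 66, 398, 242, 424, 243, 306, 307, 323, 83, 456, 216, 265, 322, 105, 168, 323, 312, 265, 322, 216, 143, 334, 377, 334, 143, 499, 498, 83, 415, 99, 98, 419, 418,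 303, 338, 66, 498, 382, 383, 387, 98, 403, 82, 82, 403, 354, 242, 60, 249, 253, 107, 144, 268, 28, 489, 461, 454, 365, 304, 173, 108, 106, 508, 289, 461, 454, 137, 136, 56, 355, 240, 28, 480, 27, 336, 10, 337, 401, 60, 225, 497, 188, 16, 75, 394, 428, 445, 394, 238, 200, 239, 75, 375, 273, 125, 374, 347, 231, 493, 230, 295, 294, 398, 424, 243, 306, 307, 428, 374, 464, 230, 155, 352, 279, 214, 112, 300, 369, 97, 214, 432, 279, 235, 417, 234, 465, 138, 122, 253, 224, 11, 396, 397, 456, 332, 333, 220, 221, 257, 396, 208, 448, 368, 433, 45, 236, 234, 105, 251, 236, 168, 45, 113, 312, 465, 317]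
def chunk3 : List ℕ := [481, 480, 288, 397, 208, 448, 112, 220, 221, 257, 250, 464, 273, 122, 224, 368, 269, 29, 460, 471, 433, 377, 380, 416, 460, 471, 499, 29, 353, 401, 96, 415, 99, 419, 418, 138, 262, 199, 241, 496, 199, 305, 262, 123, 445, 375, 231, 155, 493, 336, 508, 347, 295, 294, 417, 139, 240, 496, 139, 305, 289, 146, 107, 144, 268, 365, 304, 173, 108, 106, 27, 10, 337, 225, 497, 188, 16, 125, 352, 300, 369, 97, 432, 235, 11, 332, 333, 251, 113, 317, 481, 288, 250, 269, 380, 416, 353, 96, 241, 123, 156, 326, 326, 156, 203, 266, 266, 203, 503, 502, 475, 103, 102, 423, 422, 502, 102, 407, 86, 86, 407, 92, 93, 385, 80, 320, 80, 320, 92, 93, 385, 157, 343, 343, 157, 390, 71, 71, 390, 503, 103, 475, 423, 422, 62, 228, 79, 457, 264, 152, 153, 261, 212, 452, 372, 437, 191, 117, 485, 292, 457, 212, 452, 152, 153, 261, 190, 62, 228, 372, 329, 89, 392, 467, 437, 420, 392, 467, 89, 357, 100, 258, 195, 245, 500, 195, 309, 258, 63, 207, 500, 207, 309,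 222, 25, 329, 85, 84, 453, 260, 84, 63, 245, 94, 292, 485, 85, 453, 222, 260, 264, 213, 357, 213, 117, 420, 79, 191, 190, 100, 25, 94, 24, 389, 324, 324, 24, 389, 217, 339, 339, 217, 386, 67, 67, 386, 325, 388, 325, 388, 154, 81, 449, 256, 26, 81, 449, 154, 256, 209, 209, 26, 321, 384, 321, 384]
def gcode : List ℕ := [0, 128, 4, 2, 5, 345]
def gword : List (List ℕ) := [[], [1, 2, 4, 2, 1, 2, 4, 2], [4], [2], [1, 4], [2, 1, 4, 8, 4, 2]]

/-- the code of the listed element -/
def codeAt (i : ℕ) : ℕ :=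
  (if i < 256 then chunk0 else if i < 512 then chunk1 else if i < 768 then chunk2 else chunk3).getD (i % 256) 0

/-- Nine entries above the diagonal. -/
@[ext] structure UV where
  a0 : Bool
  a1 : Bool
  a2 : Bool
  a3 : Bool
  a4 : Bool
  a5 : Bool
  a6 : Bool
  a7 : Bool
  a8 : Bool

def dec (n : ℕ) : UV :=
  ⟨n.testBit 0, n.testBit 1, n.testBit 2, n.testBit 3, n.testBit 4, n.testBit 5, n.testBit 6, n.testBit 7, n.testBit 8⟩

def enc (u : UV) : ℕ :=
  u.a0.toNat + 2 * u.a1.toNat + 4 * u.a2.toNat + 8 * u.a3.toNat + 16 * u.a4.toNat + 32 * u.a5.toNat +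
    64 * u.a6.toNat + 128 * u.a7.toNat + 256 * u.a8.toNat

def mulV (u v : UV) : UV :=
  ⟨u.a0 ^^ v.a0, u.a1 ^^ v.a1, u.a2 ^^ v.a2, u.a3 ^^ v.a3,
    u.a4 ^^ v.a4 ^^ (u.a0 && v.a1), u.a5 ^^ v.a5 ^^ (u.a1 && v.a2), u.a6 ^^ v.a6 ^^ (u.a2 && v.a3),
    u.a7 ^^ v.a7 ^^ (u.a0 && v.a5) ^^ (u.a4 && v.a2), u.a8 ^^ v.a8 ^^ (u.a1 && v.a6) ^^ (u.a5 && v.a3)⟩

def mulC (a b : ℕ) : ℕ := enc (mulV (dec a) (dec b))

theorem dec_enc (u : UV) : dec (enc u) = u := by
  obtain ⟨a, b, c, d, e, f, g, h, i⟩ := u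
  cases a <;> cases b <;> cases c <;> cases d <;> cases e <;> cases f <;> cases g <;> cases h <;> cases i <;> rfl

theorem xor_assoc_four : ∀ x y z p q r s : Bool,
    ((x ^^ y ^^ (p && q)) ^^ z ^^ ((p ^^ r) && s)) = (x ^^ (y ^^ z ^^ (r && s)) ^^ (p && (q ^^ s))) := by
  decide +kernel

theorem xor_assoc_seven : ∀ x y z u0 v0 v1 v2 w2 u4 v4 v5 w5 : Bool,
    ((x ^^ y ^^ (u0 && v5) ^^ (u4 && v2)) ^^ z ^^ ((u0 ^^ v0) && w5) ^^ ((u4 ^^ v4 ^^ (u0 && v1)) && w2)) =
      (x ^^ (y ^^ z ^^ (v0 && w5) ^^ (v4 && w2)) ^^ (u0 && (v5 ^^ w5 ^^ (v1 && w2))) ^^ (u4 && (v2 ^^ w2))) := by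
  decide +kernel

theorem mulV_assoc (u v w : UV) : mulV (mulV u v) w = mulV u (mulV v w) := by
  ext
  case a0 => exact Bool.xor_assoc _ _ _
  case a1 => exact Bool.xor_assoc _ _ _
  case a2 => exact Bool.xor_assoc _ _ _
  case a3 => exact Bool.xor_assoc _ _ _
  case a4 => exact xor_assoc_four u.a4 v.a4 w.a4 u.a0 v.a1 v.a0 w.a1
  case a5 => exact xor_assoc_four u.a5 v.a5 w.a5 u.a1 v.a2 v.a1 w.a2
  case a6 => exact xor_assoc_four u.a6 v.a6 w.a6 u.a2 v.a3 v.a2 w.a3
  case a7 => exact xor_assoc_seven u.a7 v.a7 w.a7 u.a0 v.a0 v.a1 v.a2 w.a2 u.a4 v.a4 v.a5 w.a5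
  case a8 => exact xor_assoc_seven u.a8 v.a8 w.a8 u.a1 v.a1 v.a2 v.a3 w.a3 u.a5 v.a5 v.a6 w.a6

theorem mulC_assoc (a b c : ℕ) : mulC (mulC a b) c = mulC a (mulC b c) := by
  simp only [mulC, dec_enc, mulV_assoc]

theorem mulC_zero : ∀ a : Fin 512, mulC a.val 0 = a.val ∧ mulC 0 a.val = a.val := by decide +kernel

/-- commutation test -/
def cm (a b : ℕ) : Bool :=
  ((a.testBit 0 && b.testBit 1) == (b.testBit 0 && a.testBit 1)) &&
  ((a.testBit 1 && b.testBit 2) == (b.testBit 1 && a.testBit 2)) &&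
  ((a.testBit 2 && b.testBit 3) == (b.testBit 2 && a.testBit 3)) &&
  (((a.testBit 0 && b.testBit 5) ^^ (a.testBit 4 && b.testBit 2)) ==
    ((b.testBit 0 && a.testBit 5) ^^ (b.testBit 4 && a.testBit 2))) &&
  (((a.testBit 1 && b.testBit 6) ^^ (a.testBit 5 && b.testBit 3)) ==
    ((b.testBit 1 && a.testBit 6) ^^ (b.testBit 5 && a.testBit 3)))

theorem enc_injective : Function.Injective enc := fun u v h => by rw [← dec_enc u, ← dec_enc v, h]

theorem xor_cancel_two : ∀ x y p q : Bool, ((x ^^ y ^^ p) = (y ^^ x ^^ q)) ↔ (p = q) := by decide +kernel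

theorem xor_cancel_four : ∀ x y p p' q q' : Bool,
    ((x ^^ y ^^ p ^^ p') = (y ^^ x ^^ q ^^ q')) ↔ ((p ^^ p') = (q ^^ q')) := by decide +kernel

theorem cm_iff (a b : ℕ) : cm a b = true ↔ mulC a b = mulC b a := by
  rw [mulC, mulC, enc_injective.eq_iff, UV.ext_iff]
  simp only [cm, mulV, Bool.and_eq_true, beq_iff_eq, xor_cancel_two, xor_cancel_four, and_assoc]
  simp only [dec]
  exact ⟨fun h => ⟨Bool.xor_comm _ _, Bool.xor_comm _ _, Bool.xor_comm _ _, Bool.xor_comm _ _, h⟩,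
    fun h => h.2.2.2.2⟩

/-- parity of a functional on the four first entries -/
def par4 (f a : ℕ) : Bool :=
  (f.testBit 0 && a.testBit 0) ^^ (f.testBit 1 && a.testBit 1) ^^ (f.testBit 2 && a.testBit 2) ^^
    (f.testBit 3 && a.testBit 3)

theorem par4_aux : ∀ p q r s a0 a1 a2 a3 b0 b1 b2 b3 : Bool,
    ((p && (a0 ^^ b0)) ^^ (q && (a1 ^^ b1)) ^^ (r && (a2 ^^ b2)) ^^ (s && (a3 ^^ b3))) =
      (((p && a0) ^^ (q && a1) ^^ (r && a2) ^^ (s && a3)) ^^ ((p && b0) ^^ (q && b1) ^^ (r && b2) ^^ (s && b3))) := by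
  decide +kernel

theorem par4_mul (f a b : ℕ) : par4 f (mulC a b) = (par4 f a ^^ par4 f b) := by
  have h := dec_enc (mulV (dec a) (dec b))
  rw [UV.ext_iff] at h
  obtain ⟨h0, h1, h2, h3, -⟩ := h
  simp only [dec, mulV] at h0 h1 h2 h3
  simp only [par4, mulC, dec, mulV, h0, h1, h2, h3]
  exact par4_aux ..

theorem code_lt : ∀ i : Fin 1024, codeAt i.val < 512 := by decide +kernel
theorem code_zero : ∀ i : Fin 1024, codeAt i.val = 0 → i.val ≤ 1 := by decide +kernel

def allLt (n : ℕ) (p : ℕ → Bool) : Bool := (List.range n).all p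

theorem hom_chk : ((syl24.nxt.zipIdx).all fun q => (List.range 6).all fun k =>
    codeAt (q.1.getD k 0) == mulC (codeAt q.2) (gcode.getD k 0)) = true := by decide +kernel

theorem gens_code : ∀ k : Fin 6, gcode.getD k.val 0 = (gword.getD k.val []).foldl mulC 0 ∧
    gcode.getD k.val 0 = codeAt (k.val + 1) ∧ ∀ b ∈ gword.getD k.val [], b = 1 ∨ b = 2 ∨ b = 4 ∨ b = 8 := by
  decide +kernel

theorem surj_chk : ∀ a : Fin 512, ∃ i : Fin 1024, codeAt i.val = a.val := by
  have h : (List.range 512).all (fun a => (chunk0 ++ chunk1 ++ chunk2 ++ chunk3).contains a) = true := by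
    decide +kernel
  have h2 : (List.range 1024).map codeAt = chunk0 ++ chunk1 ++ chunk2 ++ chunk3 := by decide +kernel
  intro a
  rw [List.all_eq_true] at h
  have := List.contains_iff_mem.mp (h a.val (List.mem_range.mpr a.isLt))
  rw [← h2, List.mem_map] at this
  obtain ⟨i, hi, e⟩ := this
  exact ⟨⟨i, List.mem_range.mp hi⟩, e⟩

theorem central_chk : ∀ T ∈ syl24.known,
    SylData.sameFn (fun x => tabFn (syl24.gen 0).1 (tabFn T.1 x)) (fun x => tabFn T.1 (tabFn (syl24.gen 0).1 x)) = true := by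
  decide +kernel

/-- outside the big abelian subgroup: few commuting codes, or a non-commuting pair among them, or exceptional -/
theorem outer_chk : ((List.range 512).all fun a => (a &&& 38 == 0) || 
    (a &&& 38 == 32 && ((List.range 128).filter (cm a)).length == 32) ||
    decide (((List.range 128).filter (cm a)).length < 16) ||
    (decide (((List.range 128).filter (cm a)).length ≤ 16) &&
      ((List.range 128).any fun u => cm a u && (List.range 128).any fun v => cm a v && !cm u v))) = true := by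
  decide +kernel

theorem exceptional_chk : ((List.range 512).filter fun a =>
    a &&& 38 == 32 && (((List.range 128).filter (cm a)).length == 32)).length ≤ 16 := by
  decide +kernel

theorem centre_chk : ∀ f : Fin 15, (((List.range 512).filter fun a => !par4 (f.val + 1) a &&
    allLt 512 fun b => par4 (f.val + 1) b || cm a b).length ≤ 8) := by
  decide +kernel

theorem abelian_chk : ((List.range 512).all fun a => (a &&& 38 != 0) || mulC a a == 0) = true ∧
    ((List.range 512).filter fun a => a &&& 38 == 0).length = 64 := by decide +kernel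

theorem cm_low : ∀ a : ℕ, ∀ b : ℕ, cm a b = cm a (b % 128) := by
  intro a b
  have h : ∀ i, i < 7 → (b % 128).testBit i = b.testBit i := fun i hi => by
    rw [show (128 : ℕ) = 2 ^ 7 from rfl, Nat.testBit_mod_two_pow, decide_eq_true hi, Bool.true_and]
  simp only [cm, h 0 (by norm_num), h 1 (by norm_num), h 2 (by norm_num), h 3 (by norm_num), h 4 (by norm_num),
    h 5 (by norm_num), h 6 (by norm_num)]

end Cfsg.Agent.Golay.SylowQuot
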