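import Cfsg.Agent.Lib.Golay.SylowQuot
import Cfsg.Agent.Lib.Golay.SylowChk24

/-!
Abelian subgroups and centres of maximal subgroups in the Sylow 2-subgroup of the automorphism group
of the length-24 code modulo its centre.
-/

set_option autoImplicit false
set_option maxRecDepth 100000

namespace Cfsg.Agent.Golay.SylowQuot

open Cfsg Cfsg.Agent.Golay

theorem M24_cls' : M24 = clsGroup cls24 :=
  Subgroup.ext fun _ => ⟨fun h => ⟨h, fun _ => rfl⟩, fun h => h.1⟩

theorem len24 : syl24.el.length = 1024 := by decide +kernel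
theorem known24 : syl24.known.length = 6 := by decide +kernel

theorem zip_mem {α β : Type*} (l : List α) (m : List β) {i : ℕ} (h1 : i < l.length) (h2 : i < m.length) :
    (l[i], m[i]) ∈ l.zip m :=
  List.mem_iff_getElem.mpr ⟨i, by rw [List.length_zip]; omega, by rw [List.getElem_zip]⟩

theorem zip_idx_mem {α : Type*} (l : List α) {i : ℕ} (h1 : i < l.length) : (l[i], i) ∈ l.zipIdx :=
  List.mem_zipIdx_iff_getElem?.mpr (List.getElem?_eq_getElem h1)

theorem zip_zip_idx_mem {α β : Type*} (l : List α) (m : List β) {i : ℕ} (h1 : i < l.length) (h2 : i < m.length) :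
    (((l[i], m[i]) : α × β), i) ∈ (l.zip m).zipIdx := by
  have h : i < (l.zip m).length := by rw [List.length_zip]; omega
  have := zip_idx_mem (l.zip m) h
  rw [List.getElem_zip] at this
  exact this

/-- index of an element -/
noncomputable def ix (σ : ↥syl24.grp) : ℕ := ((Equiv.ofBijective _ (SylData.enum_bij syl24_ok)).symm σ).val

theorem ix_lt (σ : ↥syl24.grp) : ix σ < 1024 := by
  have := ((Equiv.ofBijective _ (SylData.enum_bij syl24_ok)).symm σ).isLt
  have h := len24
  unfold ix
  omega

theorem fn_ix (σ : ↥syl24.grp) : fn σ.1 = tabFn (syl24.elem (ix σ)) := by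
  have h := SylData.fn_enum syl24_ok ((Equiv.ofBijective _ (SylData.enum_bij syl24_ok)).symm σ)
  have h2 := (Equiv.ofBijective _ (SylData.enum_bij syl24_ok)).apply_symm_apply σ
  rw [Equiv.ofBijective_apply] at h2
  rw [h2] at h
  exact h

theorem ix_unique (σ : ↥syl24.grp) (i : ℕ) (hi : i < 1024) (h : fn σ.1 = tabFn (syl24.elem i)) : ix σ = i := by
  have hi' : i < syl24.el.length := by rw [len24]; exact hi
  have e : SylData.enum syl24_ok ⟨i, hi'⟩ = σ :=
    Subtype.ext (fn_ext fun x => by rw [SylData.fn_enum, h])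
  unfold ix
  conv_lhs => rw [← e]
  rw [Equiv.ofBijective_symm_apply_apply]

/-- the code -/
noncomputable def F (σ : ↥syl24.grp) : ℕ := codeAt (ix σ)

theorem F_lt (σ : ↥syl24.grp) : F σ < 512 := code_lt ⟨ix σ, ix_lt σ⟩

/-- a generator -/
def gk (k : Fin 6) : ↥syl24.grp :=
  ⟨tperm (syl24.gen k.val), SylData.tperm_gen_mem (by rw [known24]; exact k.isLt)⟩

theorem F_step (σ : ↥syl24.grp) (k : Fin 6) : F (σ * gk k) = mulC (F σ) (gcode.getD k.val 0) := by
  have hi : ix σ < syl24.el.length := by rw [len24]; exact ix_lt σ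
  have hi' : ix σ < syl24.nxt.length := by rw [syl24_ok.next.1]; exact hi
  have hk : k.val < syl24.known.length := by rw [known24]; exact k.isLt
  have hz : (syl24.el[ix σ], syl24.nxt[ix σ]) ∈ syl24.el.zip syl24.nxt :=
    zip_mem _ _ hi hi'
  obtain ⟨hl, hr⟩ := syl24_ok.next.2 _ hz
  have hk' : k.val < syl24.nxt[ix σ].length := hl.symm ▸ hk
  have hzz : (syl24.known[k.val], syl24.nxt[ix σ][k.val]) ∈ syl24.known.zip syl24.nxt[ix σ] :=
    zip_mem _ _ hk hk'
  obtain ⟨hj, hs⟩ := hr _ hzz
  obtain ⟨τ, hτ, eτ⟩ := SylData.exists_perm syl24_ok _ hj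
  have heq : (σ * gk k).1 = τ := by
    refine SylData.base_ext ((SylData.grp_le syl24_ok (σ * gk k).2).1) ((SylData.grp_le syl24_ok hτ).1) fun b hb => ?_
    simp only [Subgroup.coe_mul, gk]
    rw [fn_mul, SylData.fn_gen syl24_ok hk, fn_ix, eτ, SylData.gen, SylData.elem,
      List.getD_eq_getElem _ _ hk, List.getD_eq_getElem _ _ hi]
    simp only [SylData.sameBase, List.all_eq_true, List.mem_range, beq_iff_eq] at hs
    exact hs b hb
  have e := ix_unique (σ * gk k) _ (by rw [← len24]; exact hj) (by rw [heq, eτ])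
  have hc := hom_chk
  rw [List.all_eq_true] at hc
  have hm : (syl24.nxt[ix σ], ix σ) ∈ syl24.nxt.zipIdx :=
    zip_idx_mem _ hi'
  have hc2 := hc _ hm
  simp only [List.all_eq_true, List.mem_range, beq_iff_eq] at hc2
  have hc3 := hc2 k.val k.isLt
  rw [List.getD_eq_getElem _ _ hk'] at hc3
  simp only [F, e]
  exact hc3

theorem F_one : F 1 = 0 := by
  have : ix 1 = 0 := ix_unique 1 0 (by norm_num) (funext fun x => by
    rw [OneMemClass.coe_one, fn_one, syl24_ok.gens.2.2 x])
  rw [F, this]
  decide +kernel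

theorem gen_induction {P : ↥syl24.grp → Prop} (h1 : P 1) (hs : ∀ τ k, P τ → P (τ * gk k)) (τ : ↥syl24.grp) : P τ := by
  have key : ∀ i < 1024, ∀ τ : ↥syl24.grp, ix τ = i → P τ := by
    intro i
    induction i using Nat.strong_induction_on with
    | _ i ih =>
      intro hi τ hτ
      rcases Nat.eq_zero_or_pos i with rfl | hpos
      · have : τ = 1 := Subtype.ext (fn_ext fun x => by
          rw [fn_ix, hτ, syl24_ok.gens.2.2 x, OneMemClass.coe_one, fn_one])
        rw [this]; exact h1
      have hil : i < syl24.el.length := by rw [len24]; exact hi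
      have hi' : i < syl24.par.length := syl24_ok.par.1.symm ▸ hil
      have hz : (((syl24.el[i], syl24.par[i]) : List ℕ × ℕ × ℕ), i) ∈ (syl24.el.zip syl24.par).zipIdx :=
        zip_zip_idx_mem _ _ hil hi'
      rcases syl24_ok.par.2 _ hz with h0 | ⟨hp, hk, hsame⟩
      · simp only at h0; omega
      obtain ⟨σ, hσ, e⟩ := SylData.exists_perm syl24_ok _ (lt_trans hp hil)
      have hk6 : (syl24.par[i]).2 < 6 := by rw [← known24]; exact hk
      have e1 : ix (⟨σ, hσ⟩ : ↥syl24.grp) = (syl24.par[i]).1 :=
        ix_unique _ _ (lt_trans hp hi) e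
      have hP := ih _ hp (lt_trans hp hi) _ e1
      have : τ = ⟨σ, hσ⟩ * gk ⟨_, hk6⟩ := Subtype.ext (fn_ext fun x => by
        rw [fn_ix, hτ, SylData.elem, List.getD_eq_getElem _ _ hil]
        simp only [Subgroup.coe_mul, gk]
        rw [fn_mul, SylData.fn_gen syl24_ok hk, e]
        exact SylData.sameFn_iff.mp hsame x)
      rw [this]
      exact hs _ _ hP
  exact key _ (ix_lt τ) τ rfl

theorem F_mul (σ τ : ↥syl24.grp) : F (σ * τ) = mulC (F σ) (F τ) := by
  revert σ
  refine gen_induction (P := fun τ => ∀ σ, F (σ * τ) = mulC (F σ) (F τ)) (fun σ => ?_) (fun τ k ih σ => ?_) τ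
  · rw [mul_one, F_one]
    exact (mulC_zero ⟨F σ, F_lt σ⟩).1.symm
  · rw [← mul_assoc, F_step, F_step, ih, mulC_assoc]

theorem F_gk (k : Fin 6) : F (gk k) = gcode.getD k.val 0 := by
  rw [← one_mul (gk k), F_step, F_one]
  have h : gcode.getD k.val 0 < 512 := by
    rw [(gens_code k).2.1]
    exact code_lt ⟨k.val + 1, by omega⟩
  exact (mulC_zero ⟨_, h⟩).2

theorem F_surj (a : ℕ) (ha : a < 512) : ∃ σ, F σ = a := by
  obtain ⟨i, hi⟩ := surj_chk ⟨a, ha⟩
  refine ⟨SylData.enum syl24_ok ⟨i.val, by rw [len24]; exact i.isLt⟩, ?_⟩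
  have e := ix_unique (SylData.enum syl24_ok ⟨i.val, by rw [len24]; exact i.isLt⟩) i.val i.isLt
    (SylData.fn_enum syl24_ok _)
  simp only [F, e]
  exact hi

theorem gen_zero_eq : ix (gk 0) ≤ 1 := code_zero ⟨ix (gk 0), ix_lt _⟩ (by
  have := F_gk 0
  rw [F] at this
  rw [this]; decide +kernel)

theorem gk_zero_ne : gk 0 ≠ 1 := by
  intro h
  have h1 := congrArg (fun σ : ↥syl24.grp => fn σ.1 0) h
  simp only [gk, OneMemClass.coe_one, fn_one] at h1
  rw [SylData.fn_gen syl24_ok (by rw [known24]; norm_num)] at h1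
  revert h1
  decide +kernel

theorem center_iff (σ : ↥syl24.grp) : σ ∈ Subgroup.center ↥syl24.grp ↔ F σ = 0 := by
  have hz : gk 0 ∈ Subgroup.center ↥syl24.grp := by
    rw [Subgroup.mem_center_iff]
    refine gen_induction (P := fun τ => τ * gk 0 = gk 0 * τ) (by simp) fun τ k ih => ?_
    have hk : gk k * gk 0 = gk 0 * gk k := by
      refine Subtype.ext (fn_ext fun x => ?_)
      simp only [Subgroup.coe_mul, gk]
      have hm : syl24.gen k.val ∈ syl24.known := SylData.gen_mem_known (by rw [known24]; exact k.isLt)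
      rw [fn_mul, fn_mul, SylData.fn_gen syl24_ok (by rw [known24]; exact k.isLt),
        SylData.fn_gen syl24_ok (by rw [known24]; exact (0 : Fin 6).isLt)]
      exact (SylData.sameFn_iff.mp (central_chk _ hm) x).symm
    rw [mul_assoc, hk, ← mul_assoc, ih, mul_assoc]
  constructor
  · intro h
    by_cases h1 : σ = 1
    · rw [h1, F_one]
    have hc : σ.1 = tperm (syl24.gen 0) := SylData.center_eq syl24_ok σ.2
      (fun τ hτ => congrArg Subtype.val (Subgroup.mem_center_iff.mp h ⟨τ, hτ⟩).symm)
      (fun e => h1 (Subtype.ext e))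
    have : σ = gk 0 := Subtype.ext hc
    rw [this, F_gk]
    decide +kernel
  · intro h
    have h2 := code_zero ⟨ix σ, ix_lt σ⟩ h
    have hg := gen_zero_eq
    have hg0 : ix (gk 0) ≠ 0 := by
      intro e
      exact gk_zero_ne (Subtype.ext (fn_ext fun x => by
        rw [fn_ix, e, syl24_ok.gens.2.2 x, OneMemClass.coe_one, fn_one]))
    rcases Nat.eq_zero_or_pos (ix σ) with e | e
    · have : σ = 1 := Subtype.ext (fn_ext fun x => by
        rw [fn_ix, e, syl24_ok.gens.2.2 x, OneMemClass.coe_one, fn_one])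
      rw [this]; exact one_mem _
    · have : σ = gk 0 := Subtype.ext (fn_ext fun x => by
        rw [fn_ix, fn_ix, show ix σ = ix (gk 0) by simp only at h2; omega])
      rw [this]; exact hz

/-- The coding of the quotient by the centre. -/
theorem exists_code (P : Sylow 2 ↥M24) :
    ∃ g : ↥(P : Subgroup ↥M24) ⧸ Subgroup.center ↥(P : Subgroup ↥M24) → ℕ,
      (∀ a, g a < 512) ∧ (∀ a b, g (a * b) = mulC (g a) (g b)) ∧ Function.Injective g ∧
      (∀ n < 512, ∃ a, g a = n) ∧
      (∀ H : Subgroup (↥(P : Subgroup ↥M24) ⧸ Subgroup.center ↥(P : Subgroup ↥M24)),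
        (∀ k : Fin 6, ∀ a, g a = gcode.getD k.val 0 → a ∈ H) → H = ⊤) := by
  classical
  haveI : Fact (Nat.Prime 2) := ⟨Nat.prime_two⟩
  have hle : syl24.grp ≤ M24 := by rw [M24_cls']; exact SylData.grp_le syl24_ok
  have hfac : (Nat.card ↥M24).factorization 2 = 10 := by
    rw [card_M24, show (244823040 : ℕ) = 2 ^ 10 * 239085 by norm_num,
      Nat.factorization_mul (by norm_num) (by norm_num), Finsupp.add_apply,
      Nat.factorization_eq_zero_of_not_dvd (n := 239085) (by norm_num),
      Nat.Prime.factorization_pow Nat.prime_two, Finsupp.single_eq_same, add_zero]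
  have hc0 : Nat.card ↥(syl24.grp.subgroupOf M24) = 2 ^ 10 := by
    rw [Nat.card_congr (Subgroup.subgroupOfEquivOfLe hle).toEquiv, SylData.card_grp syl24_ok, len24]
    norm_num
  let PS : Sylow 2 ↥M24 := Sylow.ofCard (syl24.grp.subgroupOf M24) (by rw [hc0, hfac])
  let e : ↥(P : Subgroup ↥M24) ≃* ↥syl24.grp :=
    (P.equiv PS).trans ((MulEquiv.subgroupCongr (Sylow.coe_ofCard _ _)).trans (Subgroup.subgroupOfEquivOfLe hle))
  let Z := Subgroup.center ↥(P : Subgroup ↥M24)
  have hZ : ∀ p, p ∈ Z ↔ F (e p) = 0 := fun p => by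
    rw [← center_iff, Subgroup.mem_center_iff, Subgroup.mem_center_iff]
    constructor
    · intro h τ
      have := congrArg e (h (e.symm τ))
      simpa using this
    · intro h q
      exact e.injective (by simpa using h (e q))
  have hout : ∀ p, F (e (QuotientGroup.mk p : _ ⧸ Z).out) = F (e p) := by
    intro p
    obtain ⟨c, hc⟩ := QuotientGroup.mk_out_eq_mul Z p
    rw [hc, map_mul, F_mul, (hZ c.1).mp c.2]
    exact (mulC_zero ⟨_, F_lt _⟩).1
  let g : _ ⧸ Z → ℕ := fun a => F (e a.out)
  have hg : ∀ p, g (QuotientGroup.mk p) = F (e p) := hout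
  have hmul : ∀ a b, g (a * b) = mulC (g a) (g b) := by
    intro a b
    induction a using QuotientGroup.induction_on with
    | _ p =>
      induction b using QuotientGroup.induction_on with
      | _ q => rw [← QuotientGroup.mk_mul, hg, hg, hg, map_mul, F_mul]
  have hone : g 1 = 0 := by rw [← QuotientGroup.mk_one, hg, map_one, F_one]
  refine ⟨g, fun a => F_lt _, hmul, fun a b h => ?_, fun n hn => ?_, fun H hH => ?_⟩
  · have h1 : g (a⁻¹ * b) = 0 := by rw [hmul, ← h, ← hmul, inv_mul_cancel, hone]
    have h2 : (a⁻¹ * b).out ∈ Z := (hZ _).mpr h1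
    have h3 := QuotientGroup.out_eq' (a⁻¹ * b)
    rw [(QuotientGroup.eq_one_iff _).mpr h2] at h3
    exact inv_mul_eq_one.mp h3.symm
  · obtain ⟨σ, hσ⟩ := F_surj n hn
    exact ⟨QuotientGroup.mk (e.symm σ), by rw [hg, e.apply_symm_apply, hσ]⟩
  · rw [eq_top_iff]
    intro a _
    induction a using QuotientGroup.induction_on with
    | _ p =>
      rw [← e.symm_apply_apply p]
      refine gen_induction (P := fun τ => (QuotientGroup.mk (e.symm τ) : _ ⧸ Z) ∈ H) ?_ (fun τ k ih => ?_) (e p)
      · rw [map_one, QuotientGroup.mk_one]; exact one_mem _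
      · rw [map_mul, QuotientGroup.mk_mul]
        exact mul_mem ih (hH k _ (by rw [hg, e.apply_symm_apply, F_gk]))

/-- The group theory from the coding. -/
theorem coded_props {Q : Type*} [Group Q] [Finite Q] (g : Q → ℕ) (hlt : ∀ a, g a < 512)
    (hmul : ∀ a b, g (a * b) = mulC (g a) (g b)) (hinj : Function.Injective g)
    (hsurj : ∀ n < 512, ∃ a, g a = n)
    (hgen : ∀ H : Subgroup Q, (∀ k : Fin 6, ∀ a, g a = gcode.getD k.val 0 → a ∈ H) → H = ⊤) (h2 : IsPGroup 2 Q) :
    (∀ M : Subgroup Q, IsCoatom M → Nat.card ↥(Subgroup.center ↥M) ≤ 8) ∧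
      (∃ A : Subgroup Q, Cfsg.IsElementaryAbelian 2 A ∧ Nat.card ↥A = 64) ∧
      ∀ A B : Subgroup Q, IsMulCommutative ↥A → Nat.card ↥A = 64 → IsMulCommutative ↥B → Nat.card ↥B = 64 →
        A = B := by
  classical
  haveI : Fact (Nat.Prime 2) := ⟨Nat.prime_two⟩
  have hcm : ∀ a b, (cm (g a) (g b) = true ↔ a * b = b * a) := fun a b => by
    rw [cm_iff, ← hmul, ← hmul, hinj.eq_iff]
  have hone : g 1 = 0 := by
    obtain ⟨z, hz⟩ := hsurj 0 (by norm_num)
    have : z * z = z := hinj (by rw [hmul, hz]; decide +kernel)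
    rw [← hz, mul_eq_left.mp this]
  have low38 : ∀ a b : Q, g a &&& 38 = 0 → g b &&& 38 = 0 → g (a * b) &&& 38 = 0 := by
    intro a b ha hb
    rw [hmul]
    have e : ∀ n : ℕ, n &&& 38 = 0 ↔ n.testBit 1 = false ∧ n.testBit 2 = false ∧ n.testBit 5 = false := by
      intro n
      constructor
      · intro h
        refine ⟨?_, ?_, ?_⟩
        · simpa [Nat.testBit_and, show Nat.testBit 38 1 = true by decide +kernel] using congrArg (fun m => m.testBit 1) h
        · simpa [Nat.testBit_and, show Nat.testBit 38 2 = true by decide +kernel] using congrArg (fun m => m.testBit 2) h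
        · simpa [Nat.testBit_and, show Nat.testBit 38 5 = true by decide +kernel] using congrArg (fun m => m.testBit 5) h
      · rintro ⟨h1, h2, h5⟩
        refine Nat.eq_of_testBit_eq fun i => ?_
        rw [Nat.testBit_and, Nat.zero_testBit]
        rcases Nat.lt_or_ge i 6 with hi | hi
        · interval_cases i <;> simp [h1, h2, h5, show Nat.testBit 38 0 = false by decide +kernel,
            show Nat.testBit 38 3 = false by decide +kernel, show Nat.testBit 38 4 = false by decide +kernel]
        · rw [Nat.testBit_lt_two_pow (show (38 : ℕ) < 2 ^ i from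
            lt_of_lt_of_le (by norm_num : (38 : ℕ) < 2 ^ 6) (Nat.pow_le_pow_right (by norm_num) hi)), Bool.and_false]
    rw [e] at ha hb ⊢
    have h := dec_enc (mulV (dec (g a)) (dec (g b)))
    rw [UV.ext_iff] at h
    obtain ⟨-, h1, h2, -, -, h5, -⟩ := h
    simp only [dec, mulV] at h1 h2 h5
    simp only [mulC, dec, mulV, h1, h2, h5]
    simp [ha.1, ha.2.1, ha.2.2, hb.1, hb.2.1, hb.2.2]
  obtain ⟨hab1, hab2⟩ := abelian_chk
  rw [List.all_eq_true] at hab1
  have sq : ∀ a : Q, g a &&& 38 = 0 → a * a = 1 := fun a ha => hinj (by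
    have := hab1 (g a) (List.mem_range.mpr (hlt a))
    simp only [ha, bne_self_eq_false, Bool.false_or, beq_iff_eq] at this
    rw [hmul, this, hone])
  have card_of : ∀ (L : List ℕ) (S : Set Q), (∀ a ∈ S, g a ∈ L) → S.ncard ≤ L.length := by
    intro L S h
    calc S.ncard = (g '' S).ncard := (Set.ncard_image_of_injective S hinj).symm
      _ ≤ (L.toFinset : Set ℕ).ncard :=
        Set.ncard_le_ncard (fun n ⟨a, ha, e⟩ => by simpa [← e] using h a ha) (Finset.finite_toSet _)
      _ ≤ L.length := by rw [Set.ncard_coe_finset]; exact L.toFinset_card_le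
  let A0 : Subgroup Q :=
    { carrier := {a | g a &&& 38 = 0}
      one_mem' := by show g 1 &&& 38 = 0; rw [hone]; rfl
      mul_mem' := fun {a b} => low38 a b
      inv_mem' := fun {a} ha => by
        show g a⁻¹ &&& 38 = 0
        rw [← eq_inv_of_mul_eq_one_left (sq a ha)]; exact ha }
  have hA0 : Nat.card ↥A0 = 64 := by
    rw [← hab2, show Nat.card ↥A0 = (g '' (A0 : Set Q)).ncard from
      (Set.ncard_image_of_injective _ hinj).symm]
    rw [← List.toFinset_card_of_nodup (List.Nodup.filter _ List.nodup_range), ← Set.ncard_coe_finset]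
    congr 1
    ext n
    simp only [Set.mem_image, SetLike.mem_coe, List.coe_toFinset, Set.mem_setOf_eq, List.mem_filter,
      List.mem_range, beq_iff_eq]
    constructor
    · rintro ⟨a, ha, rfl⟩
      exact ⟨hlt a, ha⟩
    · rintro ⟨hn, h0⟩
      obtain ⟨a, rfl⟩ := hsurj n hn
      exact ⟨a, h0, rfl⟩
  have huniq : ∀ A : Subgroup Q, IsMulCommutative ↥A → Nat.card ↥A = 64 → A = A0 := by
    intro A hA hcard
    have hc : ∀ a ∈ A, ∀ b ∈ A, cm (g a) (g b) = true := fun a ha b hb => (hcm a b).mpr
      (congrArg Subtype.val (mul_comm' (⟨a, ha⟩ : ↥A) ⟨b, hb⟩))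
    by_contra hne
    have hnle : ¬A ≤ A0 := fun h => hne (Subgroup.eq_of_le_of_card_ge h (by rw [hA0, hcard]))
    have hcnt : ∀ a ∈ A, 16 ≤ ((List.range 128).filter (cm (g a))).length := by
      intro a ha
      have h1 := card_of (((List.range 512).filter (cm (g a)))) (A : Set Q) (fun b hb =>
        List.mem_filter.mpr ⟨List.mem_range.mpr (hlt b), hc a ha b hb⟩)
      rw [show (A : Set Q).ncard = 64 from hcard] at h1
      have h4 : ((List.range 512).filter (cm (g a))).length = 4 * ((List.range 128).filter (cm (g a))).length := by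
        have hs : List.range 512 = List.range 128 ++ (List.range 128).map (128 + ·) ++ (List.range 128).map (256 + ·) ++
            (List.range 128).map (384 + ·) := by decide +kernel
        have hm : ∀ c, c % 128 = 0 → ((List.range 128).map (c + ·)).filter (cm (g a)) =
            ((List.range 128).filter (cm (g a))).map (c + ·) := by
          intro c hc0
          rw [List.filter_map]
          congr 1
          refine List.filter_congr fun i hi => ?_
          rw [Function.comp_apply, cm_low, Nat.add_mod, hc0, zero_add, Nat.mod_mod,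
            Nat.mod_eq_of_lt (List.mem_range.mp hi)]
        rw [hs, List.filter_append, List.filter_append, List.filter_append, hm _ rfl, hm _ rfl, hm _ rfl]
        simp only [List.length_append, List.length_map]
        omega
      omega
    have hout : ∀ a ∈ A, g a &&& 38 ≠ 0 → g a &&& 38 = 32 ∧ ((List.range 128).filter (cm (g a))).length = 32 := by
      intro a ha h0
      have hk := List.all_eq_true.mp outer_chk (g a) (List.mem_range.mpr (hlt a))
      simp only [Bool.or_eq_true, Bool.and_eq_true, beq_iff_eq, decide_eq_true_eq, List.any_eq_true,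
        List.mem_range] at hk
      rcases hk with ((hk | hk) | hk) | ⟨hle, u, hu, hau, v, hv, hav, huv⟩
      · exact absurd hk h0
      · exact hk
      · have := hcnt a ha; omega
      · exfalso
        have hsub : ∀ n < 512, cm (g a) n = true → ∃ b ∈ A, g b = n := by
          intro n hn hcn
          by_contra hno
          simp only [not_exists, not_and] at hno
          have h1 := card_of ((((List.range 512).filter (cm (g a)))).erase n) (A : Set Q) (fun b hb =>
            (List.mem_erase_of_ne (hno b hb)).mpr (List.mem_filter.mpr ⟨List.mem_range.mpr (hlt b), hc a ha b hb⟩))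
          rw [show (A : Set Q).ncard = 64 from hcard, List.length_erase_of_mem
            (List.mem_filter.mpr ⟨List.mem_range.mpr hn, hcn⟩)] at h1
          have hs : List.range 512 = List.range 128 ++ (List.range 128).map (128 + ·) ++ (List.range 128).map (256 + ·) ++
              (List.range 128).map (384 + ·) := by decide +kernel
          have hm : ∀ c, c % 128 = 0 → (((List.range 128).map (c + ·)).filter (cm (g a))).length =
              ((List.range 128).filter (cm (g a))).length := by
            intro c hc0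
            rw [List.filter_map, List.length_map]
            congr 1
            refine List.filter_congr fun i hi => ?_
            rw [Function.comp_apply, cm_low, Nat.add_mod, hc0, zero_add, Nat.mod_mod,
              Nat.mod_eq_of_lt (List.mem_range.mp hi)]
          rw [hs, List.filter_append, List.filter_append, List.filter_append, List.length_append,
            List.length_append, List.length_append, hm _ rfl, hm _ rfl, hm _ rfl] at h1
          omega
        obtain ⟨bu, hbu, rfl⟩ := hsub u (by omega) hau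
        obtain ⟨bv, hbv, rfl⟩ := hsub v (by omega) hav
        rw [hc bu hbu bv hbv] at huv
        simp at huv
    have h16 : ((A : Set Q) \ (A0 : Set Q)).ncard ≤ 16 := (card_of _ _ (fun a ha => by
      obtain ⟨h1, h2⟩ := hout a ha.1 ha.2
      refine List.mem_filter.mpr ⟨List.mem_range.mpr (hlt a), ?_⟩
      simp [h1, h2])).trans exceptional_chk
    have h32 : ((A : Set Q) ∩ (A0 : Set Q)).ncard ≤ 32 := by
      rw [← Subgroup.coe_inf]
      have hd : Nat.card ↥(A ⊓ A0) ∣ 2 ^ 6 := by
        rw [show (2 : ℕ) ^ 6 = Nat.card ↥A by rw [hcard]; rfl]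
        exact Subgroup.card_dvd_of_le inf_le_left
      obtain ⟨j, hj, e⟩ := (Nat.dvd_prime_pow Nat.prime_two).mp hd
      have hlt6 : j ≠ 6 := fun h => hnle (inf_eq_left.mp (Subgroup.eq_of_le_of_card_ge inf_le_left
        (by rw [e, h, hcard]; norm_num)))
      show Nat.card ↥(A ⊓ A0) ≤ 32
      rw [e]
      exact le_trans (Nat.pow_le_pow_right (by norm_num) (show j ≤ 5 by omega)) (le_refl _)
    have := Set.ncard_inter_add_ncard_sdiff_eq_ncard (A : Set Q) (A0 : Set Q) (Set.toFinite _)
    rw [show (A : Set Q).ncard = 64 from hcard] at this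
    omega
  refine ⟨fun M hM => ?_, ⟨A0, ⟨⟨⟨fun a b => Subtype.ext ?_⟩⟩, fun a ha => by rw [pow_two]; exact sq a ha⟩, hA0⟩,
    fun A B hA hAc hB hBc => (huniq A hA hAc).trans (huniq B hB hBc).symm⟩
  · haveI : Group.IsNilpotent Q := h2.isNilpotent
    haveI hn : M.Normal := Subgroup.NormalizerCondition.normal_of_coatom M normalizerCondition_of_isNilpotent hM
    have hidx : M.index = 2 := by
      haveI : Nontrivial (Q ⧸ M) := Finite.one_lt_card_iff_nontrivial.mp (by
        rw [← Subgroup.index_eq_card]; exact M.one_lt_index_of_ne_top hM.1)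
      have hdvd : 2 ∣ Nat.card (Q ⧸ M) := by
        obtain ⟨j, hj⟩ := IsPGroup.iff_card.mp (h2.to_quotient M)
        rw [hj]
        refine dvd_pow_self 2 ?_
        rintro rfl
        have := Finite.one_lt_card (α := Q ⧸ M)
        rw [hj] at this
        omega
      obtain ⟨x, hx⟩ := exists_prime_orderOf_dvd_card' (G := Q ⧸ M) 2 hdvd
      obtain ⟨y, rfl⟩ := QuotientGroup.mk'_surjective M x
      have hK : (Subgroup.zpowers (QuotientGroup.mk' M y)).comap (QuotientGroup.mk' M) = ⊤ := by
        refine hM.2 _ (lt_of_le_of_ne (fun m hm => ?_) fun e => ?_)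
        · rw [Subgroup.mem_comap, show QuotientGroup.mk' M m = 1 from (QuotientGroup.eq_one_iff m).mpr hm]
          exact one_mem _
        · have hy : y ∈ M := by rw [e]; exact Subgroup.mem_zpowers _
          rw [QuotientGroup.mk'_apply, (QuotientGroup.eq_one_iff y).mpr hy, orderOf_one] at hx
          omega
      have ht : Subgroup.zpowers (QuotientGroup.mk' M y) = ⊤ := by
        rw [← Subgroup.map_comap_eq_self_of_surjective (QuotientGroup.mk'_surjective M)
          (Subgroup.zpowers (QuotientGroup.mk' M y)), hK, Subgroup.map_top_of_surjective _ (QuotientGroup.mk'_surjective M)]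
      rw [Subgroup.index_eq_card, ← Subgroup.card_top (G := Q ⧸ M), ← ht, Nat.card_zpowers, hx]
    let χ : Q → Bool := fun a => decide (a ∉ M)
    have hχ : ∀ a b, χ (a * b) = (χ a ^^ χ b) := by
      intro a b
      have := Subgroup.mul_mem_iff_of_index_two hidx (a := a) (b := b)
      by_cases ha : a ∈ M <;> by_cases hb : b ∈ M <;> simp_all [χ]
    obtain ⟨e1, he1⟩ := hsurj 1 (by norm_num)
    obtain ⟨e2, he2⟩ := hsurj 2 (by norm_num)
    obtain ⟨e4, he4⟩ := hsurj 4 (by norm_num)
    obtain ⟨e8, he8⟩ := hsurj 8 (by norm_num)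
    let f := (χ e1).toNat + 2 * (χ e2).toNat + 4 * (χ e4).toNat + 8 * (χ e8).toNat
    have hagree : ∀ b, (b = 1 ∨ b = 2 ∨ b = 4 ∨ b = 8) → ∀ a, g a = b → χ a = par4 f b := by
      rintro b (rfl | rfl | rfl | rfl) a ha
      · rw [hinj (ha.trans he1.symm)]; simp only [f]; generalize χ e2 = y, χ e4 = z, χ e8 = w
        cases χ e1 <;> cases y <;> cases z <;> cases w <;> rfl
      · rw [hinj (ha.trans he2.symm)]; simp only [f]; generalize χ e1 = y, χ e4 = z, χ e8 = w
        cases χ e2 <;> cases y <;> cases z <;> cases w <;> rfl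
      · rw [hinj (ha.trans he4.symm)]; simp only [f]; generalize χ e1 = y, χ e2 = z, χ e8 = w
        cases χ e4 <;> cases y <;> cases z <;> cases w <;> rfl
      · rw [hinj (ha.trans he8.symm)]; simp only [f]; generalize χ e1 = y, χ e2 = z, χ e4 = w
        cases χ e8 <;> cases y <;> cases z <;> cases w <;> rfl
    have hχ1 : χ 1 = false := by simp [χ]
    have hp0 : par4 f 0 = false := by simp [par4]
    let E : Subgroup Q :=
      { carrier := {a | χ a = par4 f (g a)}
        one_mem' := by show χ 1 = par4 f (g 1); rw [hone, hχ1, hp0]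
        mul_mem' := fun {a b} (ha : χ a = _) (hb : χ b = _) => by
          show χ (a * b) = par4 f (g (a * b)); rw [hmul, par4_mul, hχ, ha, hb]
        inv_mem' := fun {a} (ha : χ a = _) => by
          show χ a⁻¹ = par4 f (g a⁻¹)
          have h1 := hχ a⁻¹ a
          have h2 := congrArg (par4 f) (hmul a⁻¹ a)
          rw [inv_mul_cancel, hχ1] at h1
          rw [inv_mul_cancel, hone, hp0, par4_mul, ← ha] at h2
          revert h1 h2
          cases χ a <;> cases χ a⁻¹ <;> cases par4 f (g a⁻¹) <;> simp }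
    have hword : ∀ (w : List ℕ), (∀ b ∈ w, b = 1 ∨ b = 2 ∨ b = 4 ∨ b = 8) →
        ∀ x : Q, x ∈ E → ∀ a, g a = w.foldl mulC (g x) → a ∈ E := by
      intro w
      induction w with
      | nil => intro _ x hx a ha; rwa [hinj (show g a = g x from ha)]
      | cons b w ih =>
        intro hw x hx a ha
        have hb := hw b List.mem_cons_self
        obtain ⟨c, hc⟩ := hsurj b (by omega)
        refine ih (fun d hd => hw d (List.mem_cons_of_mem b hd)) (x * c) (mul_mem hx ?_) a ?_
        · show χ c = par4 f (g c)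
          rw [hc]; exact hagree b hb c hc
        · rw [ha, List.foldl_cons, hmul, hc]
    have hE : E = ⊤ := hgen E (fun k a ha => hword _ (gens_code k).2.2 1 (one_mem _) a
      (by rw [ha, hone]; exact (gens_code k).1))
    have hME : ∀ a, (a ∈ M ↔ par4 f (g a) = false) := fun a => by
      have h : χ a = par4 f (g a) := (show a ∈ E from hE ▸ Subgroup.mem_top a)
      rw [← h]; simp [χ]
    have hf0 : f ≠ 0 := fun h0 => hM.1 (eq_top_iff.mpr fun a _ => (hME a).mpr (by rw [h0]; simp [par4]))
    have hf16 : f < 16 := by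
      simp only [f]; cases χ e1 <;> cases χ e2 <;> cases χ e4 <;> cases χ e8 <;> decide
    have hk := centre_chk ⟨f - 1, by omega⟩
    simp only [show f - 1 + 1 = f by omega] at hk
    refine le_trans (le_of_eq ?_) ((card_of _ ((Subgroup.center ↥M).map M.subtype : Set Q) ?_).trans hk)
    · exact (Subgroup.card_map_of_injective M.subtype_injective).symm
    · rintro a ⟨m, hm, rfl⟩
      refine List.mem_filter.mpr ⟨List.mem_range.mpr (hlt _), ?_⟩
      simp only [Bool.and_eq_true, Bool.not_eq_true', allLt, List.all_eq_true, List.mem_range, Bool.or_eq_true]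
      refine ⟨(hME _).mp m.2, fun b hb => ?_⟩
      rcases Bool.eq_false_or_eq_true (par4 f b) with h | h
      · exact Or.inl h
      · obtain ⟨y, rfl⟩ := hsurj b hb
        refine Or.inr ((hcm _ _).mpr ?_)
        have := congrArg Subtype.val (Subgroup.mem_center_iff.mp hm ⟨y, (hME y).mpr h⟩)
        simpa using this.symm
  · show a.1 * b.1 = b.1 * a.1
    have h1 := sq (a.1 * b.1) (low38 _ _ a.2 b.2)
    calc a.1 * b.1 = (a.1 * b.1)⁻¹ := eq_inv_of_mul_eq_one_left h1
      _ = b.1 * a.1 := by
        rw [mul_inv_rev, inv_eq_of_mul_eq_one_right (sq a.1 a.2), inv_eq_of_mul_eq_one_right (sq b.1 b.2)]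

end Cfsg.Agent.Golay.SylowQuot
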