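import Cfsg.Agent.Lib.Golay.SylowChk11
import Cfsg.Agent.Lib.Golay.SylowChk12
import Cfsg.Agent.Lib.Golay.SylowChk22
import Cfsg.Agent.Lib.Golay.SylowChk23
import Cfsg.Agent.Lib.Golay.SylowChk24

/-! Simplicity of the 2-fusion systems of the five groups of the code. -/

set_option autoImplicit false

namespace Cfsg.Agent.Golay

open Cfsg

theorem chain_one_cls : chain 1 = clsGroup cls23 := by
  have hb : bpt 0 = 23 := by decide +kernel
  have hu : ∀ x : Fin 24, (cls23 x = 1 ↔ x = 23) ∧ (x ≠ 23 → cls23 x = 0) := by decide +kernel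
  ext σ
  constructor
  · rintro ⟨hM, h⟩
    have e : fn σ 23 = 23 := by
      show idx (σ (pt 23)) = 23
      rw [← hb, h 0 (by norm_num), idx_pt]
    refine ⟨hM, fun i => ?_⟩
    by_cases hi : i = 23
    · rw [hi, e]
    · rw [(hu i).2 hi, (hu _).2 fun h' => hi (fn_inj σ (h'.trans e.symm))]
  · rintro ⟨hM, h⟩
    refine ⟨hM, fun i hi => ?_⟩
    obtain rfl : i = 0 := by omega
    have e : fn σ 23 = 23 := (hu _).1.mp ((h 23).trans ((hu 23).1.mpr rfl))
    rw [hb]
    exact idx_injective' (by rw [idx_pt]; exact e)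

theorem M24_cls : M24 = clsGroup cls24 :=
  Subgroup.ext fun _ => ⟨fun h => ⟨h, fun _ => rfl⟩, fun h => h.1⟩

theorem fusion_M11 (S : Sylow 2 Cfsg.Spor.M11) :
    (Cfsg.groupFusionSystem (S : Subgroup Cfsg.Spor.M11)).IsSimple 2 := by
  revert S
  rw [M11_eq]
  exact fun S => SylData.fusion_simple syl11_ok (v := 4) (m := 247) (by decide +kernel) (by norm_num)
    (by rw [card_cls11]; norm_num) S

theorem fusion_M12 (S : Sylow 2 Cfsg.Spor.M12) :
    (Cfsg.groupFusionSystem (S : Subgroup Cfsg.Spor.M12)).IsSimple 2 := by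
  revert S
  rw [M12_eq]
  exact fun S => SylData.fusion_simple syl12_ok (v := 6) (m := 742) (by decide +kernel) (by norm_num)
    (by rw [card_cls12]; norm_num) S

theorem fusion_M22 (S : Sylow 2 Cfsg.Spor.M22) :
    (Cfsg.groupFusionSystem (S : Subgroup Cfsg.Spor.M22)).IsSimple 2 := by
  revert S
  rw [M22_eq]
  exact fun S => SylData.fusion_simple syl22_ok (v := 7) (m := 1732) (by decide +kernel) (by norm_num)
    (by rw [card_cls22]; norm_num) S

theorem fusion_M23 (S : Sylow 2 Cfsg.Spor.M23) :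
    (Cfsg.groupFusionSystem (S : Subgroup Cfsg.Spor.M23)).IsSimple 2 := by
  revert S
  rw [M23_eq, chain_one_cls]
  exact fun S => SylData.fusion_simple syl23_ok (v := 7) (m := 39847) (by decide +kernel) (by norm_num)
    (by rw [← chain_one_cls, card_chain.2.1]; norm_num) S

theorem fusion_M24 (S : Sylow 2 Cfsg.M24) :
    (Cfsg.groupFusionSystem (S : Subgroup Cfsg.M24)).IsSimple 2 := by
  revert S
  rw [M24_cls]
  exact fun S => SylData.fusion_simple syl24_ok (v := 10) (m := 119542) (by decide +kernel) (by norm_num)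
    (by rw [← M24_cls, card_M24]; norm_num) S

end Cfsg.Agent.Golay
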