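import Cfsg.Agent.Lib.Golay.Basic
import Cfsg.Agent.Lib.Golay.MathieuData
import Cfsg.Agent.Lib.Golay.SimplePerm

/-! Words in given generators and subgroups fixing an initial segment of a base. -/

set_option autoImplicit false

namespace Cfsg.Agent.Golay

open Cfsg
open scoped Pointwise

/-- The inverse of a word. -/
def winv (w : List (Fin 5)) : List (Fin 5) :=
  w.reverse.map fun k => ([1, 0, 2, 4, 3] : List (Fin 5)).getD k.val 0

/-- The letters of a token. -/
def tokW (gens : List (List (Fin 5))) (t : Tok) : List (Fin 5) :=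
  if t.1 then winv (gens.getD t.2 []) else gens.getD t.2 []

/-- The letters of a list of tokens. -/
def tokWord (gens : List (List (Fin 5))) (t : List Tok) : List (Fin 5) :=
  (t.map (tokW gens)).flatten

/-- The `i`th base point of a list. -/
def bat (bs : List (Fin 24)) (i : ℕ) : Fin 24 := bs.getD i 0

theorem wordPerm_append (v w : List (Fin 5)) : wordPerm (v ++ w) = wordPerm v * wordPerm w := by
  simp [wordPerm, List.map_append, List.prod_append]

theorem wordPerm_ext {v w : List (Fin 5)} (h : ∀ i, ev v i = ev w i) : wordPerm v = wordPerm w := by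
  ext1 p
  rw [← pt_idx p, wordPerm_apply, wordPerm_apply, h]

theorem wordPerm_eq_one {w : List (Fin 5)} (h : ∀ i, ev w i = i) : wordPerm w = 1 := by
  rw [show (1 : Equiv.Perm GolayPt) = wordPerm [] from rfl]
  exact wordPerm_ext h

theorem winv_single : ∀ k : Fin 5, ∀ i : Fin 24, ev ([k] ++ winv [k]) i = i := by decide +kernel

theorem wordPerm_winv (w : List (Fin 5)) : wordPerm (winv w) = (wordPerm w)⁻¹ := by
  induction w with
  | nil => simp [winv, wordPerm]
  | cons k w ih =>
    have h1 : winv (k :: w) = winv w ++ winv [k] := by simp [winv]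
    have h2 : wordPerm (winv [k]) = (wordPerm [k])⁻¹ :=
      eq_inv_of_mul_eq_one_right (by rw [← wordPerm_append]; exact wordPerm_eq_one (winv_single k))
    rw [h1, wordPerm_append, ih, h2, ← mul_inv_rev, ← wordPerm_append]; rfl

theorem wordPerm_pow (w : List (Fin 5)) (n : ℕ) :
    wordPerm (List.replicate n w).flatten = wordPerm w ^ n := by
  induction n with
  | zero => simp [wordPerm]
  | succ n ih => rw [List.replicate_succ, List.flatten_cons, wordPerm_append, ih, pow_succ']

theorem tokWord_mem {K : Subgroup (Equiv.Perm GolayPt)} {gens : List (List (Fin 5))}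
    (h : ∀ g ∈ gens, wordPerm g ∈ K) (t : List Tok) : wordPerm (tokWord gens t) ∈ K := by
  induction t with
  | nil => simp [tokWord, wordPerm]
  | cons a t ih =>
    have hk : wordPerm (gens.getD a.2 []) ∈ K := by
      rw [List.getD_eq_getElem?_getD]
      cases hg : gens[a.2]? with
      | none => simp [wordPerm]
      | some g => exact h g (List.mem_of_getElem? hg)
    have h1 : tokWord gens (a :: t) = tokW gens a ++ tokWord gens t := by simp [tokWord]
    rw [h1, wordPerm_append]
    refine mul_mem ?_ ih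
    unfold tokW
    split_ifs
    · rw [wordPerm_winv]; exact inv_mem hk
    · exact hk

/-- The elements of `H` fixing the first `n` points of a base. -/
def fixN (H : Subgroup (Equiv.Perm GolayPt)) (bs : List (Fin 24)) (n : ℕ) :
    Subgroup (Equiv.Perm GolayPt) where
  carrier := {σ | σ ∈ H ∧ ∀ i < n, σ (pt (bat bs i)) = pt (bat bs i)}
  one_mem' := ⟨one_mem _, fun _ _ => rfl⟩
  mul_mem' := fun {a b} ha hb => ⟨mul_mem ha.1 hb.1, fun i hi => by
    rw [Equiv.Perm.mul_apply, hb.2 i hi, ha.2 i hi]⟩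
  inv_mem' := fun {a} ha => ⟨inv_mem ha.1, fun i hi => by
    conv_lhs => rw [← ha.2 i hi]
    exact Equiv.symm_apply_apply a _⟩

theorem fixN_M24 (n : ℕ) : fixN M24 baseL n = chain n := rfl

variable {H : Subgroup (Equiv.Perm GolayPt)} {bs : List (Fin 24)}

theorem fixN_anti {m n : ℕ} (h : m ≤ n) : fixN H bs n ≤ fixN H bs m :=
  fun _ hσ => ⟨hσ.1, fun i hi => hσ.2 i (lt_of_lt_of_le hi h)⟩

theorem fixN_zero : fixN H bs 0 = H := by
  ext σ; exact ⟨fun h => h.1, fun h => ⟨h, fun i hi => absurd hi (Nat.not_lt_zero i)⟩⟩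

theorem fixN_word {n : ℕ} {w : List (Fin 5)} (hw : wordPerm w ∈ H)
    (h : ∀ j : Fin n, ev w (bat bs j.val) = bat bs j.val) : wordPerm w ∈ fixN H bs n :=
  ⟨hw, fun j hj => by rw [wordPerm_apply, h ⟨j, hj⟩]⟩

theorem fixN_step {n : ℕ} {σ g : Equiv.Perm GolayPt} (hσ : σ ∈ fixN H bs n) (hg : g ∈ fixN H bs n)
    (h : g (pt (bat bs n)) = σ (pt (bat bs n))) : g⁻¹ * σ ∈ fixN H bs (n + 1) := by
  refine ⟨mul_mem (inv_mem hg.1) hσ.1, fun j hj => ?_⟩
  rcases Nat.lt_succ_iff_lt_or_eq.mp hj with hj | rfl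
  · exact (mul_mem (inv_mem hg) hσ).2 j hj
  · rw [Equiv.Perm.mul_apply, Equiv.Perm.coe_inv, Equiv.symm_apply_eq, h]

/-- Transversals in `K` for the successive orbits show that `K` contains the whole group. -/
theorem fixN_le (K : Subgroup (Equiv.Perm GolayPt)) {start N : ℕ} (hbot : fixN H bs N = ⊥)
    (hstep : ∀ i, start ≤ i → i < N → ∀ σ ∈ fixN H bs i,
      ∃ g ∈ fixN H bs i, g ∈ K ∧ g (pt (bat bs i)) = σ (pt (bat bs i))) :
    ∀ (k i : ℕ), start ≤ i → k + i = N → fixN H bs i ≤ K := by
  intro k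
  induction k with
  | zero => intro i _ hi; rw [Nat.zero_add] at hi; subst hi; rw [hbot]; exact bot_le
  | succ k ih =>
    intro i hs hi σ hσ
    obtain ⟨g, hg, hgK, hgb⟩ := hstep i hs (by omega) σ hσ
    have := mul_mem hgK (ih (i + 1) (by omega) (by omega) (fixN_step hσ hg hgb))
    rwa [mul_inv_cancel_left] at this

theorem card_fixN_step {n : ℕ} (s : Finset GolayPt)
    (h1 : ∀ σ ∈ fixN H bs n, σ (pt (bat bs n)) ∈ s)
    (h2 : ∀ p ∈ s, ∃ g ∈ fixN H bs n, g (pt (bat bs n)) = p) :
    Nat.card (fixN H bs n) = s.card * Nat.card (fixN H bs (n + 1)) := by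
  have horb : MulAction.orbit (fixN H bs n) (pt (bat bs n)) = (s : Set GolayPt) := by
    ext p
    constructor
    · rintro ⟨σ, rfl⟩; exact h1 _ σ.2
    · intro hp
      obtain ⟨g, hg, e⟩ := h2 p hp
      exact ⟨⟨g, hg⟩, e⟩
  have hst : (fixN H bs (n + 1)).subgroupOf (fixN H bs n) =
      MulAction.stabilizer (fixN H bs n) (pt (bat bs n)) := by
    ext σ
    constructor
    · exact fun h => h.2 n (Nat.lt_succ_self _)
    · refine fun h => ⟨σ.2.1, fun j hj => ?_⟩
      rcases Nat.lt_succ_iff_lt_or_eq.mp hj with hj | rfl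
      · exact σ.2.2 j hj
      · exact h
  rw [← Nat.card_congr (Subgroup.subgroupOfEquivOfLe (fixN_anti (Nat.le_succ n))).toEquiv, hst,
    ← Subgroup.index_mul_card (MulAction.stabilizer (fixN H bs n) (pt (bat bs n))),
    MulAction.index_stabilizer, horb, Set.ncard_coe_finset]

/-- Conjugation by `σ` as an isomorphism of subgroups. -/
def conjSub {G : Type*} [Group G] (σ : G) (A B : Subgroup G) (h : ∀ g, g ∈ A ↔ σ⁻¹ * g * σ ∈ B) :
    A ≃* B where
  toFun g := ⟨σ⁻¹ * g.1 * σ, (h _).mp g.2⟩
  invFun g := ⟨σ * g.1 * σ⁻¹, (h _).mpr (by simp [mul_assoc, g.2])⟩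
  left_inv g := by apply Subtype.ext; simp [mul_assoc]
  right_inv g := by apply Subtype.ext; simp [mul_assoc]
  map_mul' a b := by apply Subtype.ext; simp [mul_assoc]

/-- A subgroup of a subgroup as a subgroup of the whole group. -/
noncomputable def subEquiv {G : Type*} [Group G] {M : Subgroup G} (A : Subgroup M) (B : Subgroup G)
    (h : A.map M.subtype = B) : A ≃* B :=
  (A.equivMapOfInjective M.subtype Subtype.val_injective).trans (MulEquiv.subgroupCongr h)

end Cfsg.Agent.Golay
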