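import Cfsg.Agent.Lib.Golay.TrKerData
import Cfsg.Agent.Lib.Golay.FamTrS
import Cfsg.Agent.Lib.Golay.SxStruct
import Mathlib.LinearAlgebra.Matrix.GeneralLinearGroup.Card

/-! The structure of a trio stabiliser. -/

set_option autoImplicit false
set_option maxRecDepth 100000

namespace Cfsg.Agent.Golay

open Cfsg Cfsg.Agent.Sextet
open scoped Pointwise

/-- The stabiliser of the standard trio. -/
abbrev trH : Subgroup M24 := MulAction.stabilizer M24 (fam famTr)

/-- The sextet labelled by `i`. -/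
def sev (i : Fin 7) : List ℕ := trSeven.getD i.val []

/-- The octad labelled by `j`. -/
def oct3 (j : Fin 3) : ℕ := famTr.getD j.val 0

theorem sev_ok : (∀ i : Fin 7, sev i ∈ famTrS_0.members ∧ okFam (sev i) = true) ∧
    (∀ i j : Fin 7, sev i = sev j → i = j) ∧ famTrS_0.members.length = 7 := by decide +kernel

theorem oct3_ok : (∀ j : Fin 3, oct3 j ∈ famTr ∧ oct3 j < 2 ^ 24) ∧
    (∀ i j : Fin 3, oct3 i = oct3 j → i = j) ∧ famTr.length = 3 ∧ okFam famTr = true := by decide +kernel

theorem famTr_trio : fam famTr ∈ trios := trio_of_check (by decide +kernel)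

theorem trS_roots : ([famTrS_0, famTrS_1, famTrS_2, famTrS_3].all fun c => sxB c.root) = true := by
  decide +kernel

/-- The seven sextets refining the standard trio. -/
abbrev sevenSet : Set (Finset (Finset GolayPt)) := MulAction.orbit trH (fam famTrS_0.root)

theorem sev_mem (i : Fin 7) : fam (sev i) ∈ sevenSet ∧ sevenSet.ncard = 7 := by
  obtain ⟨hA, -⟩ := fam_orbits famTrS_ok hinv_sextets
    (fun c hc => sextet_of_check (List.all_eq_true.mp trS_roots c hc)) (ncard_sextets.trans (by decide))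
    (one_mem M24)
  have h0 := hA famTrS_0 (by simp)
  rw [one_smul, one_smul] at h0
  refine ⟨?_, h0.2.1.trans sev_ok.2.2⟩
  have hok := famTrS_ok
  simp only [famCheck, certOK, Bool.and_eq_true, decide_eq_true_eq, List.all_eq_true] at hok
  obtain ⟨⟨⟨⟨hF, hg⟩, hcs⟩, -⟩, -⟩ := hok
  obtain ⟨τ, hτ, h⟩ := reached_sound (img := imgF) fam
    (K := M24 ⊓ MulAction.stabilizer (Equiv.Perm GolayPt) (fam famTr)) (fun T hT => by
      obtain ⟨⟨hi, hb⟩, hs, hf⟩ := hg T hT
      refine ⟨tperm T, ⟨mem_M24_of_basis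
        (by rw [show fn (tperm T) = tabFn T.1 from funext (fn_tperm hi)]; exact hb), ?_⟩, smul_fam_tab hi hs⟩
      show tperm T • fam famTr = fam famTr
      rw [smul_fam_tab hi hs, hf]) (hcs famTrS_0 (by simp)).1.1 (sev i) (sev_ok.1 i).1
  exact ⟨⟨⟨τ, hτ.1⟩, hτ.2⟩, h⟩

/-- The labelling of the seven sextets. -/
noncomputable def e7 : Fin 7 ≃ ↥sevenSet :=
  Equiv.ofBijective (fun i => ⟨fam (sev i), (sev_mem i).1⟩) (by
    refine Function.Injective.bijective_of_nat_card_le (fun i j e => sev_ok.2.1 i j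
      (fam_inj (sev_ok.1 i).2 (sev_ok.1 j).2 (congrArg Subtype.val e))) ?_
    rw [Nat.card_coe_set_eq, (sev_mem 0).2, Nat.card_fin])

theorem e7_apply (i : Fin 7) : ((e7 i : ↥sevenSet) : Finset (Finset GolayPt)) = fam (sev i) := rfl

/-- The labelling of the octads. -/
noncomputable def e3 : Fin 3 ≃ ↥(fam famTr) :=
  Equiv.ofBijective (fun j => ⟨supp (oct3 j), mem_fam.mpr ⟨_, (oct3_ok.1 j).1, rfl⟩⟩) (by
    refine Function.Injective.bijective_of_nat_card_le (fun i j e => oct3_ok.2.1 i j (by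
      have := congrArg (fun z : ↥(fam famTr) => maskF z.1) e
      simpa [maskF_supp (oct3_ok.1 i).2, maskF_supp (oct3_ok.1 j).2] using this)) ?_
    rw [Nat.card_eq_finsetCard, famTr_trio.1, Nat.card_fin])

theorem e3_apply (j : Fin 3) : ((e3 j : ↥(fam famTr)) : Finset GolayPt) = supp (oct3 j) := rfl

/-- The action on the seven sextets and the three octads. -/
noncomputable def trPhi : trH →* Equiv.Perm (Fin 7) × Equiv.Perm (Fin 3) :=
  MonoidHom.prod (e7.symm.permCongrHom.toMonoidHom.comp (MulAction.toPermHom trH ↥sevenSet))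
    (e3.symm.permCongrHom.toMonoidHom.comp (onTetrads (fam famTr)))

theorem trPhi_eq {g : trH} {P : Fin 7 → Fin 7} {Q : Fin 3 → Fin 3}
    (h7 : ∀ i, ((g : M24) : Equiv.Perm GolayPt) • fam (sev i) = fam (sev (P i)))
    (h3 : ∀ j, ((g : M24) : Equiv.Perm GolayPt) • supp (oct3 j) = supp (oct3 (Q j))) :
    (∀ i, (trPhi g).1 i = P i) ∧ ∀ j, (trPhi g).2 j = Q j := by
  refine ⟨fun i => ?_, fun j => ?_⟩
  · show (e7.symm.permCongr (MulAction.toPermHom trH ↥sevenSet g)) i = P i
    rw [Equiv.permCongr_apply, Equiv.symm_symm, Equiv.symm_apply_eq, MulAction.toPermHom_apply,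
      MulAction.toPerm_apply]
    exact Subtype.ext (by rw [MulAction.orbit.coe_smul, e7_apply, e7_apply]; exact h7 i)
  · show (e3.symm.permCongr (onTetrads (fam famTr) g)) j = Q j
    rw [Equiv.permCongr_apply, Equiv.symm_symm, Equiv.symm_apply_eq]
    exact Subtype.ext ((onTetrads_apply g _).trans (h3 j))

/-- The nonzero vector with label `i`. -/
def vec7 (i : Fin 7) : Fin 3 → ZMod 2 := fun b => if (i.val + 1).testBit b.val then 1 else 0

/-- The label of a nonzero vector. -/
def code7 (v : Fin 3 → ZMod 2) : Fin 7 := Fin.ofNat 7 ((v 0).val + 2 * (v 1).val + 4 * (v 2).val + 6)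

theorem code7_vec7 : ∀ i, code7 (vec7 i) = i := by decide +kernel

theorem vec7_code7 : ∀ v : Fin 3 → ZMod 2, v ≠ 0 → vec7 (code7 v) = v := by decide +kernel

theorem vec7_ne : ∀ i, vec7 i ≠ 0 := by decide +kernel

theorem mulVec_ne {M : GL (Fin 3) (ZMod 2)} {v : Fin 3 → ZMod 2} (hv : v ≠ 0) :
    (M : Matrix (Fin 3) (Fin 3) (ZMod 2)).mulVec v ≠ 0 := fun h => hv (by
  have := congrArg (((M⁻¹ : GL (Fin 3) (ZMod 2)) : Matrix (Fin 3) (Fin 3) (ZMod 2)).mulVec) h
  rwa [Matrix.mulVec_mulVec, Units.inv_mul, Matrix.one_mulVec, Matrix.mulVec_zero] at this)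

/-- The action of the linear group on the labels. -/
def psi7 : GL (Fin 3) (ZMod 2) →* Equiv.Perm (Fin 7) :=
  MonoidHom.mk'
    (fun M =>
      { toFun := fun i => code7 ((M : Matrix (Fin 3) (Fin 3) (ZMod 2)).mulVec (vec7 i))
        invFun := fun i => code7 (((M⁻¹ : GL (Fin 3) (ZMod 2)) : Matrix (Fin 3) (Fin 3) (ZMod 2)).mulVec (vec7 i))
        left_inv := fun i => by
          simp only
          rw [vec7_code7 _ (mulVec_ne (vec7_ne i)), Matrix.mulVec_mulVec, Units.inv_mul,
            Matrix.one_mulVec, code7_vec7]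
        right_inv := fun i => by
          simp only
          rw [vec7_code7 _ (mulVec_ne (vec7_ne i)), Matrix.mulVec_mulVec, Units.mul_inv,
            Matrix.one_mulVec, code7_vec7] })
    (fun M N => Equiv.ext fun i => by
      show code7 _ = code7 ((M : Matrix (Fin 3) (Fin 3) (ZMod 2)).mulVec (vec7 (code7 _)))
      rw [vec7_code7 _ (mulVec_ne (vec7_ne i)), Matrix.mulVec_mulVec, Units.val_mul])

theorem psi7_apply (M : GL (Fin 3) (ZMod 2)) (i : Fin 7) :
    psi7 M i = code7 ((M : Matrix (Fin 3) (Fin 3) (ZMod 2)).mulVec (vec7 i)) := rfl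

theorem psi7_injective : Function.Injective psi7 := by
  intro M N h
  have hs : ∀ c : Fin 3, ∃ i : Fin 7, vec7 i = Pi.single c 1 := by decide +kernel
  refine Units.ext (Matrix.ext fun b c => ?_)
  obtain ⟨i, hi⟩ := hs c
  have := congrArg vec7 (show psi7 M i = psi7 N i by rw [h])
  rw [psi7_apply, psi7_apply, vec7_code7 _ (mulVec_ne (vec7_ne i)), vec7_code7 _ (mulVec_ne (vec7_ne i)),
    hi, Matrix.mulVec_single_one, Matrix.mulVec_single_one] at this
  exact congrFun this b

/-- The matrix sending the unit vectors to the listed images. -/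
def matOf (P : List ℕ) : Matrix (Fin 3) (Fin 3) (ZMod 2) :=
  fun b c => vec7 (Fin.ofNat 7 (P.getD (2 ^ c.val - 1) 0)) b

/-- Validity of a table with its permutations of the seven sextets and the three octads. -/
noncomputable def trTabOK (T : Tab) (P : Fin 7 → Fin 7) (Q : Fin 3 → Fin 3) : Bool :=
  decide ((TabInv T ∧ ∀ x ∈ basis, inC (pullMask (tabFn T.1) x.2) = true) ∧ tabSmall T = true ∧
    imgF T famTr = famTr) &&
  decide (∀ i : Fin 7, imgF T (sev i) = sev (P i)) &&
  decide (∀ j : Fin 3, imgM T (oct3 j) = oct3 (Q j))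

theorem trTab_elem {T : Tab} {P : Fin 7 → Fin 7} {Q : Fin 3 → Fin 3} (h : trTabOK T P Q = true) :
    ∃ g : trH, ((g : M24) : Equiv.Perm GolayPt) = tperm T ∧
      (∀ i, (trPhi g).1 i = P i) ∧ ∀ j, (trPhi g).2 j = Q j := by
  simp only [trTabOK, Bool.and_eq_true, decide_eq_true_eq] at h
  obtain ⟨⟨⟨⟨hi, hb⟩, hs, hf⟩, h7⟩, h3⟩ := h
  have hM : tperm T ∈ M24 :=
    mem_M24_of_basis (by rw [show fn (tperm T) = tabFn T.1 from funext (fn_tperm hi)]; exact hb)
  refine ⟨⟨⟨tperm T, hM⟩, (show tperm T • fam famTr = fam famTr by rw [smul_fam_tab hi hs, hf])⟩, rfl,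
    trPhi_eq (fun i => ?_) (fun j => ?_)⟩
  · show tperm T • fam (sev i) = _
    rw [smul_fam_tab hi hs, h7]
  · show tperm T • supp (oct3 j) = _
    rw [supp_imgM hi, h3]

theorem trLin_ok : (trLin.all fun e => trTabOK e.2 (fun i => Fin.ofNat 7 (e.1.getD i.val 0)) id &&
      decide ((matOf e.1).det = 1) &&
      decide (∀ i : Fin 7, code7 ((matOf e.1).mulVec (vec7 i)) = Fin.ofNat 7 (e.1.getD i.val 0))) = true ∧
    (trLin.map fun e => (List.finRange 7).map fun i : Fin 7 => Fin.ofNat 7 (e.1.getD i.val 0)).Nodup ∧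
    trLin.length = 168 := by decide +kernel

theorem trOct_ok : (trOct.all fun e => trTabOK e.2 id (fun j => Fin.ofNat 3 (e.1.getD j.val 0))) = true ∧
    ∀ q : Equiv.Perm (Fin 3), ∃ e ∈ trOct, ∀ j : Fin 3, Fin.ofNat 3 (e.1.getD j.val 0) = q j := by
  decide +kernel

theorem trKer_ok : (trKer.all fun T => trTabOK T id id &&
      decide (∀ i : Fin 24, tabFn T.1 (tabFn T.1 i) = i)) = true ∧
    (trKer.map fun T => (List.finRange 24).map fun i => tabFn T.1 i).Nodup ∧
    trKer.length = 64 := by decide +kernel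

theorem card_trH : Nat.card trH = 64512 := by
  have h := card_eq_orbit_mul (G := M24) (fam famTr)
  rw [orbit_trios famTr_trio (L := famTr) (by decide +kernel), ncard_trios, card_M24] at h
  have : Nat.card trH = Nat.card (MulAction.stabilizer M24 (fam famTr)) := rfl
  omega

theorem trKer_elems : 64 ≤ Nat.card trPhi.ker ∧
    ∀ x ∈ trPhi.ker, Nat.card trPhi.ker ≤ 64 → x * x = 1 := by
  classical
  obtain ⟨hok, hnd, hlen⟩ := trKer_ok
  simp only [Bool.and_eq_true, List.all_eq_true, decide_eq_true_eq] at hok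
  have hel : ∀ T ∈ trKer, ∃ g : trH, ((g : M24) : Equiv.Perm GolayPt) = tperm T ∧ g ∈ trPhi.ker ∧ g * g = 1 := by
    intro T hT
    obtain ⟨g, hg, h1, h2⟩ := trTab_elem (hok T hT).1
    refine ⟨g, hg, MonoidHom.mem_ker.mpr (Prod.ext (Equiv.ext h1) (Equiv.ext h2)), ?_⟩
    refine Subtype.ext (Subtype.ext ?_)
    show ((g : M24) : Equiv.Perm GolayPt) * ((g : M24) : Equiv.Perm GolayPt) = 1
    have hi : TabInv T := by
      have := (hok T hT).1
      simp only [trTabOK, Bool.and_eq_true, decide_eq_true_eq] at this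
      exact this.1.1.1.1
    rw [hg]
    exact fn_ext fun i => by rw [fn_mul, fn_tperm hi, fn_tperm hi, (hok T hT).2, fn_one]
  choose g hg hker hsq using hel
  have hinj : Function.Injective fun T : {T // T ∈ trKer} => (⟨g T.1 T.2, hker T.1 T.2⟩ : trPhi.ker) := by
    intro a b e
    have e' : tperm a.1 = tperm b.1 := by
      rw [← hg a.1 a.2, ← hg b.1 b.2]
      exact congrArg (fun z : trPhi.ker => (((z : trH) : M24) : Equiv.Perm GolayPt)) e
    have hi : ∀ c : {T // T ∈ trKer}, TabInv c.1 := fun c => by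
      have := (hok c.1 c.2).1
      simp only [trTabOK, Bool.and_eq_true, decide_eq_true_eq] at this
      exact this.1.1.1.1
    refine Subtype.ext (List.inj_on_of_nodup_map hnd a.2 b.2 (List.map_congr_left fun i _ => ?_))
    rw [← fn_tperm (hi a), e', fn_tperm (hi b)]
  have hc : Nat.card {T // T ∈ trKer} = 64 := by
    rw [Nat.card_congr (Equiv.subtypeEquivRight fun T => (List.mem_toFinset (l := trKer)).symm),
      Nat.card_eq_finsetCard, List.toFinset_card_of_nodup (List.Nodup.of_map _ hnd), hlen]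
  refine ⟨hc ▸ Nat.card_le_card_of_injective _ hinj, fun x hx hle => ?_⟩
  obtain ⟨T, hT⟩ := (hinj.bijective_of_nat_card_le (hle.trans hc.ge)).2 ⟨x, hx⟩
  rw [← show g T.1 T.2 = x from congrArg Subtype.val hT]
  exact hsq T.1 T.2

/-- The linear group times the symmetric group, acting. -/
def trPsi : GL (Fin 3) (ZMod 2) × Equiv.Perm (Fin 3) →* Equiv.Perm (Fin 7) × Equiv.Perm (Fin 3) :=
  psi7.prodMap (MonoidHom.id _)

theorem trPhi_range : trPhi.range = trPsi.range ∧ Nat.card trPhi.ker = 64 := by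
  classical
  have hcG : Nat.card (GL (Fin 3) (ZMod 2) × Equiv.Perm (Fin 3)) = 1008 := by
    rw [Nat.card_prod, Matrix.card_GL_field, Nat.card_perm, Nat.card_fin]
    simp [Fin.prod_univ_three, Nat.card_zmod, Nat.factorial]
  have hinj : Function.Injective trPsi := psi7_injective.prodMap Function.injective_id
  have hcR : Nat.card trPsi.range = 1008 := by
    rw [← hcG]
    exact Nat.card_congr (MonoidHom.ofInjective hinj).toEquiv.symm
  have hle : trPsi.range ≤ trPhi.range := by
    obtain ⟨hLok, hLnd, hLlen⟩ := trLin_ok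
    simp only [Bool.and_eq_true, List.all_eq_true, decide_eq_true_eq] at hLok
    have hmk : ∀ e ∈ trLin, ∃ M : GL (Fin 3) (ZMod 2), (M : Matrix (Fin 3) (Fin 3) (ZMod 2)) = matOf e.1 :=
      fun e he => ⟨Matrix.GeneralLinearGroup.mkOfDetNeZero (matOf e.1) (by
        rw [(hLok e he).1.2]; exact one_ne_zero), rfl⟩
    choose M hM using hmk
    have hMval : ∀ e (he : e ∈ trLin), ∀ i, psi7 (M e he) i = Fin.ofNat 7 (e.1.getD i.val 0) :=
      fun e he i => by rw [psi7_apply, hM, (hLok e he).2]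
    have hbij : Function.Bijective fun e : {e // e ∈ trLin} => M e.1 e.2 := by
      refine Function.Injective.bijective_of_nat_card_le (fun a b e => ?_) ?_
      · refine Subtype.ext (List.inj_on_of_nodup_map hLnd a.2 b.2 (List.map_congr_left fun i _ => ?_))
        rw [← hMval a.1 a.2, ← hMval b.1 b.2]
        exact congrArg (fun N => psi7 N i) e
      · rw [Matrix.card_GL_field, Nat.card_congr
          (Equiv.subtypeEquivRight fun T => (List.mem_toFinset (l := trLin)).symm),
          Nat.card_eq_finsetCard, List.toFinset_card_of_nodup (List.Nodup.of_map _ hLnd), hLlen]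
        simp [Fin.prod_univ_three, Nat.card_zmod]
    rintro _ ⟨⟨N, q⟩, rfl⟩
    obtain ⟨⟨e, he⟩, rfl⟩ := hbij.2 N
    obtain ⟨g, -, g1, g2⟩ := trTab_elem (hLok e he).1.1
    obtain ⟨hOok, hO⟩ := trOct_ok
    obtain ⟨e', he', hq⟩ := hO q
    obtain ⟨g', -, g1', g2'⟩ := trTab_elem (List.all_eq_true.mp hOok e' he')
    refine ⟨g * g', ?_⟩
    rw [map_mul]
    refine Prod.ext (Equiv.ext fun i => ?_) (Equiv.ext fun j => ?_)
    · show (trPhi g).1 ((trPhi g').1 i) = psi7 (M e he) i
      rw [g1', g1, hMval]; rfl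
    · show (trPhi g).2 ((trPhi g').2 j) = q j
      rw [g2', hq, g2]; rfl
  have h := Subgroup.index_mul_card trPhi.ker
  rw [Subgroup.index_ker, card_trH] at h
  have hge : 1008 ≤ Nat.card trPhi.range := hcR ▸ Subgroup.card_le_of_le hle
  have hk := trKer_elems.1
  have hk64 : Nat.card trPhi.ker = 64 := by nlinarith
  refine ⟨(Subgroup.eq_of_le_of_card_ge hle ?_).symm, hk64⟩
  rw [hcR]
  rw [hk64] at h
  omega

theorem trio_structure {T : Finset (Finset GolayPt)} (hT : T ∈ trios) :
    (∀ e : Equiv.Perm ↥T, ∃ g ∈ MulAction.stabilizer M24 T, ∀ o : ↥T,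
      (g : Equiv.Perm GolayPt) • (o : Finset GolayPt) = ((e o : ↥T) : Finset GolayPt)) ∧
    ∃ (N : Subgroup ↥(MulAction.stabilizer M24 T)) (_ : N.Normal), Nat.card N = 64 ∧
      (∀ x ∈ N, x * x = 1) ∧
      Nonempty (↥(MulAction.stabilizer M24 T) ⧸ N ≃* GL (Fin 3) (ZMod 2) × Equiv.Perm (Fin 3)) := by
  classical
  obtain ⟨σ, hσ, rfl⟩ := exists_map_trio (L := famTr) (by decide +kernel) hT
  obtain ⟨hR, hK⟩ := trPhi_range
  let s : M24 := ⟨σ, hσ⟩
  let c : ↥(MulAction.stabilizer M24 (σ • fam famTr)) ≃* trH :=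
    { toFun := fun g => ⟨s⁻¹ * g.1 * s, by
        show (s⁻¹ * g.1 * s) • fam famTr = fam famTr
        rw [mul_smul, mul_smul, inv_smul_eq_iff]
        exact g.2⟩
      invFun := fun g => ⟨s * g.1 * s⁻¹, (conj_fix (σ := σ) (show ((g.1 : M24) : Equiv.Perm GolayPt) •
        fam famTr = fam famTr from g.2) :)⟩
      left_inv := fun g => Subtype.ext (by simp [mul_assoc])
      right_inv := fun g => Subtype.ext (by simp [mul_assoc])
      map_mul' := fun a b => Subtype.ext (by
        show s⁻¹ * (a.1 * b.1) * s = s⁻¹ * a.1 * s * (s⁻¹ * b.1 * s)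
        simp [mul_assoc]) }
  let f : ↥(MulAction.stabilizer M24 (σ • fam famTr)) →* ↥trPhi.range :=
    trPhi.rangeRestrict.comp c.toMonoidHom
  have hf : Function.Surjective f := trPhi.rangeRestrict_surjective.comp c.surjective
  have hfk : ∀ x, x ∈ f.ker ↔ c x ∈ trPhi.ker := fun x => by
    simp only [f, MonoidHom.mem_ker, MonoidHom.comp_apply]
    exact Subtype.ext_iff
  refine ⟨fun e => ?_, f.ker, inferInstance, ?_, fun x hx => ?_, ?_⟩
  · let E : Fin 3 ≃ ↥(σ • fam famTr) := e3.trans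
      { toFun := fun t => ⟨σ • (t : Finset GolayPt), Finset.smul_mem_smul_finset t.2⟩
        invFun := fun t => ⟨σ⁻¹ • (t : Finset GolayPt), Finset.inv_smul_mem_iff.mpr t.2⟩
        left_inv := fun t => Subtype.ext (inv_smul_smul _ _)
        right_inv := fun t => Subtype.ext (smul_inv_smul _ _) }
    have hmem : ((1 : Equiv.Perm (Fin 7)), (E.symm.permCongr e : Equiv.Perm (Fin 3))) ∈ trPhi.range := by
      rw [hR]
      exact ⟨((1 : GL (Fin 3) (ZMod 2)), E.symm.permCongr e), Prod.ext (map_one psi7) rfl⟩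
    obtain ⟨g, hg⟩ := hmem
    refine ⟨(c.symm g).1, (c.symm g).2, fun o => ?_⟩
    obtain ⟨j, rfl⟩ := E.surjective o
    have hj : onTetrads (fam famTr) g (e3 j) = e3 ((trPhi g).2 j) := by
      show _ = e3 ((e3.symm.permCongr (onTetrads (fam famTr) g)) j)
      rw [Equiv.permCongr_apply, Equiv.symm_symm, Equiv.apply_symm_apply]
    have hj' := congrArg Subtype.val hj
    rw [onTetrads_apply, hg] at hj'
    show (σ * ((g : M24) : Equiv.Perm GolayPt) * σ⁻¹) • σ • ((e3 j : ↥(fam famTr)) : Finset GolayPt) = _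
    rw [conj_fix hj']
    have : E (E.symm.permCongr e j) = e (E j) := by
      rw [Equiv.permCongr_apply, Equiv.symm_symm, Equiv.apply_symm_apply]
    rw [← this]
    rfl
  · rw [← hK]
    exact Nat.card_congr (c.toEquiv.subtypeEquiv hfk)
  · refine c.injective ?_
    rw [map_mul, map_one]
    exact trKer_elems.2 _ ((hfk x).mp hx) hK.le
  · exact ⟨(QuotientGroup.quotientKerEquivOfSurjective f hf).trans ((MulEquiv.subgroupCongr hR).trans
      (MonoidHom.ofInjective (f := trPsi) (psi7_injective.prodMap Function.injective_id)).symm)⟩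

end Cfsg.Agent.Golay
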