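import Cfsg.Agent.Lib.Golay.OctPairFix
import Cfsg.Agent.Lib.Golay.OutSmall
import Mathlib.LinearAlgebra.Matrix.SpecialLinearGroup
import Mathlib.LinearAlgebra.Matrix.Transvection
import Mathlib.LinearAlgebra.Matrix.GeneralLinearGroup.Card

/-! An involution of `M24` with the centraliser of a transvection of five dimensions. -/

set_option autoImplicit false
set_option maxRecDepth 100000

namespace Cfsg.Agent.Golay.Transvec

open Cfsg Cfsg.Agent.Golay
open scoped Pointwise

/-- An involution fixing the standard octad pointwise. -/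
def zTab : Tab := ([0, 1, 2, 3, 6, 5, 4, 22, 20, 12, 11, 10, 9, 19, 14, 18, 21, 17, 15, 13, 8, 16, 7, 23],
  [0, 1, 2, 3, 6, 5, 4, 22, 20, 12, 11, 10, 9, 19, 14, 18, 21, 17, 15, 13, 8, 16, 7, 23])

/-- A basis of the words avoiding the standard octad. -/
def wB (k : Fin 5) : ℕ := [8241104, 5350928, 832080, 6656640, 4038912].getD k.val 0

/-- Five positions determining such a word. -/
def pB (j : Fin 5) : Fin 24 := [4, 6, 7, 8, 9].getD j.val 0

/-- Coordinates from the values at the five positions. -/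
def bInv : Matrix (Fin 5) (Fin 5) (ZMod 2) :=
  fun k j => (([[1, 0, 1, 0, 1], [1, 1, 0, 0, 0], [1, 1, 1, 0, 1], [1, 0, 0, 0, 1], [1, 0, 1, 1, 1]] :
    List (List (ZMod 2))).getD k.val []).getD j.val 0

/-- The word with given coordinates. -/
def iota (c : Fin 5 → ZMod 2) : GolayPt → ZMod 2 := fun p => ∑ k, c k * ofMask (wB k) p

/-- The coordinates of a word. -/
def kappa (w : GolayPt → ZMod 2) : Fin 5 → ZMod 2 := bInv.mulVec fun j => w (pt (pB j))

theorem kappa_iota : ∀ c, kappa (iota c) = c := by decide +kernel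

theorem wB_code : ∀ k, inC (wB k) = true ∧ wB k < 2 ^ 24 := by decide +kernel

theorem iota_avoid : ∀ c, ∀ i : Fin 24, baseOct.testBit i.val = true → iota c (pt i) = 0 := by
  decide +kernel

theorem avoid_combination : (codeList.all fun m => m &&& baseOct != 0 ||
    decide (∀ i : Fin 24, iota (kappa (ofMask m)) (pt i) = ofMask m (pt i))) = true := by decide +kernel

theorem separated : ∀ i j : Fin 24, baseOct.testBit i.val = false → baseOct.testBit j.val = false →
    i ≠ j → ∃ k : Fin 5, (wB k).testBit i.val ≠ (wB k).testBit j.val := by decide +kernel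

theorem zTab_ok : TabInv zTab ∧ (∀ x ∈ basis, inC (pullMask (tabFn zTab.1) x.2) = true) ∧
    (∀ i : Fin 24, tabFn zTab.1 i = i ↔ baseOct.testBit i.val = true) ∧
    (∀ i : Fin 24, tabFn zTab.1 (tabFn zTab.1 i) = i) := by decide +kernel

theorem iota_mem (c : Fin 5 → ZMod 2) : iota c ∈ golayCode := by
  have : iota c = ∑ k, c k • ofMask (wB k) := by
    funext p
    simp [iota, Finset.sum_apply, smul_eq_mul]
  rw [this]
  refine Submodule.sum_mem _ fun k _ => Submodule.smul_mem _ _ ((mem_golay_iff _).mpr ?_)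
  rw [mask_ofMask (wB_code k).2]
  exact (wB_code k).1

theorem iota_kappa {w : GolayPt → ZMod 2} (hw : w ∈ golayCode)
    (h0 : ∀ p ∈ supp baseOct, w p = 0) : iota (kappa w) = w := by
  have h := List.all_eq_true.mp avoid_combination _ (mask_mem_codeList hw)
  simp only [Bool.or_eq_true, bne_iff_ne, decide_eq_true_eq] at h
  have hand : mask w &&& baseOct = 0 := by
    refine Nat.eq_of_testBit_eq fun i => ?_
    rw [Nat.testBit_and, Nat.zero_testBit]
    by_cases hi : i < 24
    · cases hb : baseOct.testBit i with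
      | false => simp
      | true =>
        have := h0 (pt ⟨i, hi⟩) (by rw [mem_supp, idx_pt]; exact hb)
        have e := testBit_mask w (pt ⟨i, hi⟩)
        rw [idx_pt] at e
        simp [this] at e
        simp [e]
    · simp [testBit_mask_ge w i (not_lt.mp hi)]
  rcases h with h | h
  · exact absurd hand h
  rw [ofMask_mask] at h
  funext p
  simpa [pt_idx] using h (idx p)

/-- The involution. -/
def z : M24 :=
  ⟨tperm zTab, mem_M24_of_basis (by
    rw [show fn (tperm zTab) = tabFn zTab.1 from funext (fn_tperm zTab_ok.1)]; exact zTab_ok.2.1)⟩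

theorem z_fix (p : GolayPt) : (z : Equiv.Perm GolayPt) p = p ↔ p ∈ supp baseOct := by
  rw [mem_supp, ← zTab_ok.2.2.1, ← fn_tperm zTab_ok.1]
  constructor
  · intro h; simp only [fn, pt_idx]; rw [show tperm zTab p = p from h]
  · intro h; simp only [fn, pt_idx] at h; exact idx_injective' h

theorem baseOct_octad : supp baseOct ∈ octads := ((base5_unique _).mpr rfl).1

theorem z_order : orderOf z = 2 := by
  haveI : Fact (Nat.Prime 2) := ⟨Nat.prime_two⟩
  refine orderOf_eq_prime (Subtype.ext (fn_ext fun i => ?_)) fun h => ?_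
  · show fn (tperm zTab ^ 2) i = fn 1 i
    rw [pow_two, fn_mul, fn_one, fn_tperm zTab_ok.1, fn_tperm zTab_ok.1, zTab_ok.2.2.2]
  · have hout : pt (bpt 5) ∉ supp baseOct := canon_octad.2.2
    exact hout ((z_fix _).mp (by rw [h]; rfl))

/-- The centraliser. -/
abbrev C : Subgroup M24 := Subgroup.centralizer ({z} : Set M24)

theorem C_comm (g : C) (p : GolayPt) :
    ((g : M24) : Equiv.Perm GolayPt) ((z : Equiv.Perm GolayPt) p) =
      (z : Equiv.Perm GolayPt) (((g : M24) : Equiv.Perm GolayPt) p) :=
  congrArg (fun h : M24 => (h : Equiv.Perm GolayPt) p) (Subgroup.mem_centralizer_singleton_iff.mp g.2)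

theorem C_oct (g : C) (p : GolayPt) :
    ((g : M24) : Equiv.Perm GolayPt) p ∈ supp baseOct ↔ p ∈ supp baseOct := by
  rw [← z_fix, ← z_fix, ← C_comm, EmbeddingLike.apply_eq_iff_eq]

/-- The action on coordinates. -/
noncomputable def act5 (g : C) (c : Fin 5 → ZMod 2) : Fin 5 → ZMod 2 :=
  kappa fun p => iota c ((((g : M24) : Equiv.Perm GolayPt))⁻¹ p)

theorem iota_act5 (g : C) (c : Fin 5 → ZMod 2) :
    iota (act5 g c) = fun p => iota c ((((g : M24) : Equiv.Perm GolayPt))⁻¹ p) := by
  refine iota_kappa (forall_of_mem_M24 (inv_mem (g : M24).2) (iota_mem c)) fun p hp => ?_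
  have hq : (((g : M24) : Equiv.Perm GolayPt))⁻¹ p ∈ supp baseOct := by
    rw [← C_oct g]; simpa using hp
  rw [← pt_idx ((((g : M24) : Equiv.Perm GolayPt))⁻¹ p)]
  exact iota_avoid c _ (mem_supp.mp hq)

theorem act5_mul (g h : C) (c : Fin 5 → ZMod 2) : act5 (g * h) c = act5 g (act5 h c) := by
  conv_rhs => rw [act5, iota_act5 h c]
  rfl

theorem act5_add (g : C) (c d : Fin 5 → ZMod 2) : act5 g (c + d) = act5 g c + act5 g d := by
  rw [act5, act5, act5, kappa, kappa, kappa, ← Matrix.mulVec_add]
  congr 1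
  funext j
  simp [iota, add_mul, Finset.sum_add_distrib]

theorem act5_smul (g : C) (a : ZMod 2) (c : Fin 5 → ZMod 2) : act5 g (a • c) = a • act5 g c := by
  rw [act5, act5, kappa, kappa, ← Matrix.mulVec_smul]
  congr 1
  funext j
  simp [iota, Finset.mul_sum, mul_assoc]

theorem act5_one (c : Fin 5 → ZMod 2) : act5 1 c = c := by
  conv_rhs => rw [← kappa_iota c]
  rfl

/-- The linear map of an element. -/
noncomputable def lin5 (g : C) : (Fin 5 → ZMod 2) →ₗ[ZMod 2] (Fin 5 → ZMod 2) where
  toFun := act5 g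
  map_add' := act5_add g
  map_smul' := act5_smul g

/-- The matrix of an element. -/
noncomputable def matOf5 (g : C) : Matrix (Fin 5) (Fin 5) (ZMod 2) := LinearMap.toMatrix' (lin5 g)

theorem matOf5_mulVec (g : C) (c : Fin 5 → ZMod 2) : (matOf5 g).mulVec c = act5 g c :=
  LinearMap.toMatrix'_mulVec (lin5 g) c

theorem matOf5_mul (g h : C) : matOf5 (g * h) = matOf5 g * matOf5 h := by
  rw [matOf5, matOf5, matOf5, ← LinearMap.toMatrix'_comp]
  congr 1
  exact LinearMap.ext (act5_mul g h)

theorem matOf5_one : matOf5 1 = 1 := by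
  rw [matOf5, ← LinearMap.toMatrix'_id]
  congr 1
  exact LinearMap.ext act5_one

theorem matOf5_det (g : C) : (matOf5 g).det = 1 := by
  have h : (matOf5 g).det * (matOf5 g⁻¹).det = 1 := by
    rw [← Matrix.det_mul, ← matOf5_mul, mul_inv_cancel, matOf5_one, Matrix.det_one]
  generalize (matOf5 g).det = a at h ⊢
  generalize (matOf5 g⁻¹).det = b at h
  revert a b
  decide

/-- The representation. -/
noncomputable def rho : C →* Matrix.SpecialLinearGroup (Fin 5) (ZMod 2) where
  toFun g := ⟨matOf5 g, matOf5_det g⟩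
  map_one' := Subtype.ext matOf5_one
  map_mul' g h := Subtype.ext (matOf5_mul g h)

theorem rho_z {s : Matrix.SpecialLinearGroup (Fin 5) (ZMod 2)}
    (hs : (s : Matrix (Fin 5) (Fin 5) (ZMod 2)) = Matrix.transvection 0 1 1) :
    rho ⟨z, Subgroup.mem_centralizer_singleton_iff.mpr rfl⟩ = s := by
  refine Subtype.ext (Matrix.ext_of_mulVec_single fun k => ?_)
  show (matOf5 _).mulVec (Pi.single k 1) = _
  rw [matOf5_mulVec, hs]
  have key : ∀ k : Fin 5, (kappa fun p => iota (Pi.single k 1) (pt (tabFn zTab.2 (idx p)))) =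
      (Matrix.transvection (0 : Fin 5) 1 (1 : ZMod 2)).mulVec (Pi.single k 1) := by decide +kernel
  rw [← key k, act5]
  congr 1

theorem rho_injective : Function.Injective rho := by
  rw [injective_iff_map_eq_one]
  intro g hg
  have hfix : ∀ c, act5 g c = c := fun c => by
    rw [← matOf5_mulVec, show matOf5 g = 1 from congrArg Subtype.val hg, Matrix.one_mulVec]
  set G := ((g : M24) : Equiv.Perm GolayPt) with hG
  have hout : ∀ p ∉ supp baseOct, G p = p := by
    intro p hp
    by_contra hne
    obtain ⟨k, hk⟩ := separated (idx (G p)) (idx p) (by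
      have := mt (C_oct g p).mp hp
      simpa [mem_supp] using this) (by simpa [mem_supp] using hp) (fun e => hne (idx_injective' e))
    have h := congrFun (iota_act5 g (Pi.single k 1)) (G p)
    rw [hfix] at h
    simp only [hG, Equiv.Perm.coe_inv, Equiv.symm_apply_apply] at h
    have hi : ∀ q, iota (Pi.single k 1) q = ofMask (wB k) q := fun q => by
      simp [iota, Pi.single_apply]
    rw [hi, hi] at h
    refine hk ?_
    simp only [ofMask] at h
    revert h
    generalize (wB k).testBit (idx (G p)).val = a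
    generalize (wB k).testBit (idx p).val = b
    revert a b
    decide
  -- two further disjoint octads outside the standard one
  obtain ⟨o, ho, hd⟩ : ∃ o ∈ octads, Disjoint o (supp baseOct) := by
    have h : ∃ m ∈ wtList 8, m &&& baseOct = 0 := by decide +kernel
    obtain ⟨m, hm, h0⟩ := h
    refine ⟨supp m, (mem_octads _).mpr (by rw [maskF_supp (wtList_lt hm)]; exact hm), ?_⟩
    rw [disjoint_iff_mask, maskF_supp (wtList_lt hm), maskF_supp baseOct_lt]; exact h0
  obtain ⟨q, hq, hqo⟩ : ∃ q, q ∉ supp baseOct ∧ q ∉ o := by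
    by_contra hcon
    push Not at hcon
    have : (Finset.univ : Finset GolayPt).card ≤ (supp baseOct ∪ o).card :=
      Finset.card_le_card fun x _ => Finset.mem_union.mpr
        (Classical.byCases (fun h : x ∈ supp baseOct => Or.inl h) fun h => Or.inr (hcon x h))
    have h24 : (Finset.univ : Finset GolayPt).card = 24 := by decide +kernel
    have hle := Finset.card_union_le (supp baseOct) o
    rw [baseOct_octad.2, ho.2] at hle
    omega
  exact Subtype.ext (Subtype.ext (fix_octad_point ho (g : M24).2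
    (fun x hx => hout x (Finset.disjoint_left.mp hd hx)) hqo (hout q hq)))

theorem card_C_ge : 21504 ≤ Nat.card C := by
  classical
  have hsub : MulAction.orbit (ConjAct M24) z ⊆
      {g : M24 | ∃ o ∈ octads, g ≠ 1 ∧ ∀ x ∈ o, (g : Equiv.Perm GolayPt) x = x} := by
    rintro _ ⟨c, rfl⟩
    set h := ConjAct.ofConjAct c
    refine ⟨(h : Equiv.Perm GolayPt) • supp baseOct, smul_mem_weight h.2 baseOct_octad, ?_, fun x hx => ?_⟩
    · show c • z ≠ 1
      intro e
      have : z = 1 := by rw [← inv_smul_smul c z, e, smul_one]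
      have h2 := z_order
      rw [this, orderOf_one] at h2
      omega
    · obtain ⟨y, hy, rfl⟩ := Finset.mem_smul_finset.mp hx
      show ((h : Equiv.Perm GolayPt) * (z : Equiv.Perm GolayPt) * (h : Equiv.Perm GolayPt)⁻¹)
        ((h : Equiv.Perm GolayPt) y) = _
      rw [Equiv.Perm.mul_apply, Equiv.Perm.mul_apply, Equiv.Perm.coe_inv, Equiv.symm_apply_apply,
        (z_fix y).mpr hy]
      rfl
  have hU : {g : M24 | ∃ o ∈ octads, g ≠ 1 ∧ ∀ x ∈ o, (g : Equiv.Perm GolayPt) x = x}.ncard ≤ 759 * 15 := by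
    let F : Finset GolayPt → Finset M24 := fun o =>
      (Finset.univ.filter fun g : M24 => ∀ x ∈ o, (g : Equiv.Perm GolayPt) x = x).erase 1
    have hF : ∀ o ∈ octads, (F o).card = 15 := fun o ho => by
      rw [Finset.card_erase_of_mem (by simp)]
      have h16 := card_fix_octad ho
      rw [← Nat.card_congr (Equiv.subtypeSubtypeEquivSubtypeInter (fun g => g ∈ M24)
        fun g => ∀ x ∈ o, g x = x), Nat.card_eq_fintype_card, Fintype.card_subtype] at h16
      omega
    have e : {g : M24 | ∃ o ∈ octads, g ≠ 1 ∧ ∀ x ∈ o, (g : Equiv.Perm GolayPt) x = x} =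
        ↑((Set.toFinite octads).toFinset.biUnion F) := by
      ext g
      simp [F]
      constructor <;> rintro ⟨o, a, b, c⟩ <;> exact ⟨o, by assumption, by assumption, by assumption⟩
    rw [e, Set.ncard_coe_finset]
    refine (Finset.card_biUnion_le_card_mul _ _ 15 fun o ho => (hF o ((Set.Finite.mem_toFinset _).mp ho)).le).trans ?_
    rw [← Set.ncard_eq_toFinset_card _ (Set.toFinite octads), ncard_octads]
  have hle := (Set.ncard_le_ncard hsub (Set.toFinite _)).trans hU
  have h := card_eq_orbit_mul (G := ConjAct M24) z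
  have hc : Nat.card (MulAction.stabilizer (ConjAct M24) z) = Nat.card C :=
    Nat.card_congr (ConjAct.ofConjAct.toEquiv.subtypeEquiv fun c => by
      rw [MulAction.mem_stabilizer_iff, ConjAct.smul_def, Subgroup.mem_centralizer_singleton_iff,
        mul_inv_eq_iff_eq_mul]
      rfl)
  rw [hc, Nat.card_congr ConjAct.ofConjAct.toEquiv, card_M24] at h
  by_contra hcon
  have h1 : Nat.card C ≤ 21503 := by omega
  have := Nat.mul_le_mul hle h1
  omega

theorem card_centralizer_le {s : Matrix.SpecialLinearGroup (Fin 5) (ZMod 2)}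
    (hs : (s : Matrix (Fin 5) (Fin 5) (ZMod 2)) = Matrix.transvection 0 1 1) :
    Nat.card (Subgroup.centralizer ({s} : Set (Matrix.SpecialLinearGroup (Fin 5) (ZMod 2)))) ≤ 21504 := by
  classical
  set Cs := Subgroup.centralizer ({s} : Set (Matrix.SpecialLinearGroup (Fin 5) (ZMod 2)))
  have hM : ∀ M : Cs, (∀ i, (M.1 : Matrix (Fin 5) (Fin 5) (ZMod 2)) i 0 = if i = 0 then M.1 1 1 else 0) ∧
      (∀ j, (M.1 : Matrix (Fin 5) (Fin 5) (ZMod 2)) 1 j = if j = 1 then M.1 1 1 else 0) ∧ M.1 1 1 = 1 := by
    intro M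
    have h := congrArg (fun X : Matrix.SpecialLinearGroup (Fin 5) (ZMod 2) =>
      (X : Matrix (Fin 5) (Fin 5) (ZMod 2))) (Subgroup.mem_centralizer_singleton_iff.mp M.2)
    simp only [Matrix.SpecialLinearGroup.coe_mul, hs, Matrix.transvection, mul_add, add_mul,
      Matrix.mul_one, Matrix.one_mul, add_right_inj] at h
    set A := (M.1 : Matrix (Fin 5) (Fin 5) (ZMod 2)) with hA
    have h' : ∀ i j, (A * Matrix.single (0 : Fin 5) (1 : Fin 5) (1 : ZMod 2)) i j =
        (Matrix.single (0 : Fin 5) (1 : Fin 5) (1 : ZMod 2) * A) i j := fun i j => by rw [h]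
    have h00 : A 0 0 = A 1 1 := by
      simpa [Matrix.mul_apply, Matrix.single] using h' 0 1
    have hcol : ∀ i, A i 0 = if i = 0 then A 1 1 else 0 := fun i => by
      split_ifs with hi
      · rw [hi, h00]
      · have hne : (0 : Fin 5) ≠ i := Ne.symm hi
        simpa [Matrix.mul_apply, Matrix.single, hne] using h' i 1
    have hrow : ∀ j, A 1 j = if j = 1 then A 1 1 else 0 := fun j => by
      split_ifs with hj
      · rw [hj]
      · have hne : (1 : Fin 5) ≠ j := Ne.symm hj
        simpa [Matrix.mul_apply, Matrix.single, hne] using (h' 0 j).symm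
    refine ⟨hcol, hrow, ?_⟩
    have hd : A.det ≠ 0 := by rw [hA, M.1.det_coe]; exact one_ne_zero
    have key : ∀ a : ZMod 2, a ≠ 1 → a = 0 := by decide
    by_contra h1
    exact hd (Matrix.det_eq_zero_of_row_eq_zero 1 fun j => by rw [hrow, key _ h1]; simp)
  let blk : Cs → Matrix (Fin 3) (Fin 3) (ZMod 2) := fun M =>
    (M.1 : Matrix (Fin 5) (Fin 5) (ZMod 2)).submatrix ![2, 3, 4] ![2, 3, 4]
  have hblk : ∀ M, IsUnit (blk M) := by
    intro M
    rw [Matrix.isUnit_iff_isUnit_det, isUnit_iff_ne_zero]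
    intro hdet
    obtain ⟨v, hv, hv0⟩ := Matrix.exists_mulVec_eq_zero_iff.mpr hdet
    set A := (M.1 : Matrix (Fin 5) (Fin 5) (ZMod 2)) with hA
    obtain ⟨hcol, hrow, h11⟩ := hM M
    set r := A 0 2 * v 0 + A 0 3 * v 1 + A 0 4 * v 2 with hr
    let u : Fin 5 → ZMod 2 := ![-r, 0, v 0, v 1, v 2]
    have a00 : A 0 0 = 1 := ((hcol 0).trans (if_pos rfl)).trans h11
    have a20 : A 2 0 = 0 := (hcol 2).trans (if_neg (by decide))
    have a30 : A 3 0 = 0 := (hcol 3).trans (if_neg (by decide))
    have a40 : A 4 0 = 0 := (hcol 4).trans (if_neg (by decide))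
    have a10 : A 1 0 = 0 := (hcol 1).trans (if_neg (by decide))
    have a12 : A 1 2 = 0 := (hrow 2).trans (if_neg (by decide))
    have a13 : A 1 3 = 0 := (hrow 3).trans (if_neg (by decide))
    have a14 : A 1 4 = 0 := (hrow 4).trans (if_neg (by decide))
    have hu : A.mulVec u = 0 := by
      funext i
      fin_cases i
      · simp [Matrix.mulVec, dotProduct, Fin.sum_univ_five, u, hr, a00]
        ring_nf
        simp [show (2 : ZMod 2) = 0 from rfl]
      · simp [Matrix.mulVec, dotProduct, Fin.sum_univ_five, u, a10, a12, a13, a14]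
      all_goals
        simp [Matrix.mulVec, dotProduct, Fin.sum_univ_five, u, a20, a30, a40]
      · have := congrFun hv0 0
        simpa [blk, Matrix.mulVec, dotProduct, Fin.sum_univ_three, ← hA] using this
      · have := congrFun hv0 1
        simpa [blk, Matrix.mulVec, dotProduct, Fin.sum_univ_three, ← hA] using this
      · have := congrFun hv0 2
        simpa [blk, Matrix.mulVec, dotProduct, Fin.sum_univ_three, ← hA] using this
    have hu0 : u = 0 := by
      by_contra hne
      exact (show A.det ≠ 0 by rw [hA, M.1.det_coe]; exact one_ne_zero)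
        (Matrix.exists_mulVec_eq_zero_iff.mp ⟨u, hne, hu⟩)
    refine hv (funext fun b => ?_)
    fin_cases b
    exacts [congrFun hu0 2, congrFun hu0 3, congrFun hu0 4]
  let f : Cs → GL (Fin 3) (ZMod 2) × (Fin 3 → ZMod 2) × (Fin 3 → ZMod 2) × ZMod 2 := fun M =>
    ((hblk M).unit, fun b => M.1 (![2, 3, 4] b) 1, fun b => M.1 0 (![2, 3, 4] b), M.1 0 1)
  have hf : Function.Injective f := by
    intro M N e
    simp only [f, Prod.mk.injEq] at e
    obtain ⟨e1, e2, e3, e4⟩ := e
    have e1' : blk M = blk N := congrArg Units.val e1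
    obtain ⟨mc, mr, m1⟩ := hM M
    obtain ⟨nc, nr, n1⟩ := hM N
    refine Subtype.ext (Subtype.ext (Matrix.ext fun i j => ?_))
    have hcases : ∀ x : Fin 5, x = 0 ∨ x = 1 ∨ ∃ b : Fin 3, x = ![2, 3, 4] b := by decide
    rcases hcases j with rfl | rfl | ⟨bj, rfl⟩
    · rw [mc, nc, m1, n1]
    · rcases hcases i with rfl | rfl | ⟨bi, rfl⟩
      · exact e4
      · rw [m1, n1]
      · exact congrFun e2 bi
    · rcases hcases i with rfl | rfl | ⟨bi, rfl⟩
      · exact congrFun e3 bj
      · have hb : (![2, 3, 4] bj : Fin 5) ≠ 1 := by revert bj; decide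
        rw [mr, nr, if_neg hb, if_neg hb]
      · exact congrFun (congrFun e1' bi) bj
  have h := Nat.card_le_card_of_injective f hf
  rw [Nat.card_prod, Nat.card_prod, Nat.card_prod, Matrix.card_GL_field, Nat.card_fun, Nat.card_zmod,
    Nat.card_fin, Fin.prod_univ_three] at h
  simpa [ZMod.card] using h

theorem exists_transvection_involution (s : Matrix.SpecialLinearGroup (Fin 5) (ZMod 2))
    (hs : (s : Matrix (Fin 5) (Fin 5) (ZMod 2)) = Matrix.transvection 0 1 1) :
    ∃ y : ↥M24, orderOf y = 2 ∧ Nonempty (↥(Subgroup.centralizer ({y} : Set ↥M24)) ≃*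
      ↥(Subgroup.centralizer ({s} : Set (Matrix.SpecialLinearGroup (Fin 5) (ZMod 2))))) := by
  let f : C →* ↥(Subgroup.centralizer ({s} : Set (Matrix.SpecialLinearGroup (Fin 5) (ZMod 2)))) :=
    rho.codRestrict _ fun g => by
      rw [Subgroup.mem_centralizer_singleton_iff, ← rho_z hs, ← map_mul, ← map_mul]
      congr 1
      exact Subtype.ext (Subgroup.mem_centralizer_singleton_iff.mp g.2)
  have hinj : Function.Injective f := fun a b e => rho_injective (congrArg Subtype.val e)
  exact ⟨z, z_order, ⟨MulEquiv.ofBijective f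
    (hinj.bijective_of_nat_card_le ((card_centralizer_le hs).trans card_C_ge))⟩⟩

end Cfsg.Agent.Golay.Transvec
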